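import Groth.Agent.ProjLib.QCrit
import Groth.Agent.ProjLib.QDominant
import Groth.Agent.RelVALib.LineFun
import Groth.Agent.AmpleLib.Sections
import Groth.Agent.AmpleLib.Local
import Groth.Agent.Coherent.InjRestrict

/-!
# Homogeneous sections of the algebra of an invertible module and sections of its powers
-/

set_option linter.unusedSectionVars false
set_option autoImplicit false
set_option backward.isDefEq.respectTransparency.types false
set_option maxHeartbeats 1000000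

universe u

open CategoryTheory CategoryTheory.Limits AlgebraicGeometry TopologicalSpace Opposite
open scoped HomogeneousIdeal
open Groth.Agent.Coherent Groth.Agent.PicLib Groth.Agent.AmpleLib

namespace Groth.Agent.CAlgSmall.QBridge

variable {X : Scheme.{u}} {L : X.Modules} {𝒮L : RelProj.QCGrAlg X} {j : L ⟶ 𝒮L.toModule}

/-- Restriction of sections of the algebra. -/
noncomputable abbrev rs (𝒮L : RelProj.QCGrAlg X) {U V : X.Opens} (h : V ≤ U) :
    𝒮L.presheaf.obj (op U) →+* 𝒮L.presheaf.obj (op V) :=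
  (𝒮L.presheaf.map (homOfLE h).op).hom

theorem rs_rs {U V W : X.Opens} (h : V ≤ U) (h' : W ≤ V) (a : 𝒮L.presheaf.obj (op U)) :
    rs 𝒮L h' (rs 𝒮L h a) = rs 𝒮L (h'.trans h) a := by
  show (𝒮L.presheaf.map (homOfLE h).op ≫ 𝒮L.presheaf.map (homOfLE h').op).hom a = _
  rw [← Functor.map_comp]
  rfl

theorem rs_self {U : X.Opens} (a : 𝒮L.presheaf.obj (op U)) : rs 𝒮L (le_refl U) a = a := by
  show (𝒮L.presheaf.map (homOfLE (le_refl U)).op).hom a = a
  rw [show (homOfLE (le_refl U)).op = 𝟙 (op U) from Subsingleton.elim _ _, CategoryTheory.Functor.map_id]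
  rfl

theorem rs_str {U V : X.Opens} (h : V ≤ U) (r : Γ(X, U)) :
    rs 𝒮L h ((𝒮L.str.app (op U)).hom r) = (𝒮L.str.app (op V)).hom (res h r) :=
  (ConcreteCategory.congr_hom (𝒮L.str.naturality (homOfLE h).op) r).symm

/-- The section of degree one attached to a section of the module. -/
noncomputable abbrev gn (j : L ⟶ 𝒮L.toModule) {U : X.Opens} (g : Γ(L, U)) : 𝒮L.presheaf.obj (op U) := j.app U g

theorem rs_gn {U V : X.Opens} (h : V ≤ U) (g : Γ(L, U)) : rs 𝒮L h (gn j g) = gn j (resM L h g) :=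
  (app_resM j h g).symm

theorem rs_term {U V : X.Opens} (h : V ≤ U) (c : Γ(X, U)) (g : Γ(L, U)) (n : ℕ) :
    rs 𝒮L h ((𝒮L.str.app (op U)).hom c * gn j g ^ n) =
      (𝒮L.str.app (op V)).hom (res h c) * gn j (resM L h g) ^ n := by
  rw [map_mul, map_pow, rs_str, rs_gn]

theorem exists_gen_nhd (hL : PicF.IsInvertible L) {W : X.Opens} {x : X} (hx : x ∈ W) :
    ∃ (V : X.Opens), IsAffineOpen V ∧ x ∈ V ∧ V ≤ W ∧ ∃ g : Γ(L, V), IsGen L V g := by
  obtain ⟨U₀, hxU₀, g₀, hg₀⟩ := exists_isGen hL x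
  obtain ⟨V, hV, hxV, hle⟩ := exists_isAffineOpen_mem_and_subset (x := x) (U := W ⊓ U₀) ⟨hx, hxU₀⟩
  exact ⟨V, hV, hxV, fun w hw => (hle hw).1, _, hg₀.restrict (V := V) fun w hw => (hle hw).2⟩

/-- Sections of the algebra are determined locally. -/
theorem ext_local {W : X.Opens} {a b : 𝒮L.presheaf.obj (op W)}
    (h : ∀ x ∈ W, ∃ (V : X.Opens) (hVW : V ≤ W), x ∈ V ∧ rs 𝒮L hVW a = rs 𝒮L hVW b) : a = b := by
  choose V hVW hxV he using fun x : W => h x.1 x.2
  exact TopCat.Sheaf.eq_of_locally_eq' (SymAlgLib.abSheaf 𝒮L.toQCAlg) V W (fun x => homOfLE (hVW x))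
    (fun x hx => Opens.mem_iSup.mpr ⟨⟨x, hx⟩, hxV ⟨x, hx⟩⟩) a b he

/-- Sections of the algebra glue. -/
theorem exists_glue {W : X.Opens} {ι : Type u} (V : ι → X.Opens) (hVW : ∀ i, V i ≤ W) (hcov : W ≤ iSup V)
    (a : ∀ i, 𝒮L.presheaf.obj (op (V i)))
    (h : ∀ i k, rs 𝒮L (inf_le_left : V i ⊓ V k ≤ V i) (a i) = rs 𝒮L (inf_le_right : V i ⊓ V k ≤ V k) (a k)) :
    ∃ b : 𝒮L.presheaf.obj (op W), ∀ i, rs 𝒮L (hVW i) b = a i := by
  obtain ⟨b, hb, -⟩ := TopCat.Sheaf.existsUnique_gluing' (X := X.toTopCat) (SymAlgLib.abSheaf 𝒮L.toQCAlg) V W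
    (fun i => homOfLE (hVW i)) hcov a fun i k => h i k
  exact ⟨b, hb⟩

/-- Being of degree `n` on every affine open. -/
def IsHomog (n : ℕ) {W : X.Opens} (a : 𝒮L.presheaf.obj (op W)) : Prop :=
  ∀ (V : X.Opens) (hV : IsAffineOpen V) (h : V ≤ W), rs 𝒮L h a ∈ 𝒮L.deg V hV n

theorem IsHomog.res {n : ℕ} {W V : X.Opens} {a : 𝒮L.presheaf.obj (op W)} (ha : IsHomog n a) (h : V ≤ W) :
    IsHomog n (rs 𝒮L h a) := fun O hO hOV => by rw [rs_rs]; exact ha O hO _

theorem IsHomog.mul {m n : ℕ} {W : X.Opens} {a b : 𝒮L.presheaf.obj (op W)} (ha : IsHomog m a) (hb : IsHomog n b) :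
    IsHomog (m + n) (a * b) := fun O hO hOW => by
  rw [map_mul]; exact SetLike.mul_mem_graded (ha O hO hOW) (hb O hO hOW)

theorem IsHomog.pow {n : ℕ} {W : X.Opens} {a : 𝒮L.presheaf.obj (op W)} (ha : IsHomog n a) (k : ℕ) :
    IsHomog (k * n) (a ^ k) := fun O hO hOW => by
  rw [map_pow, ← smul_eq_mul]; exact SetLike.pow_mem_graded k (ha O hO hOW)

theorem IsHomog.sub {n : ℕ} {W : X.Opens} {a b : 𝒮L.presheaf.obj (op W)} (ha : IsHomog n a) (hb : IsHomog n b) :
    IsHomog n (a - b) := fun O hO hOW => by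
  rw [map_sub]; exact sub_mem (ha O hO hOW) (hb O hO hOW)

theorem isHomog_str {W : X.Opens} (r : Γ(X, W)) : IsHomog 0 ((𝒮L.str.app (op W)).hom r) := fun O hO hOW => by
  rw [rs_str]; exact 𝒮L.str_mem O hO _

theorem isHomog_one (W : X.Opens) : IsHomog 0 (1 : 𝒮L.presheaf.obj (op W)) := fun O hO hOW => by
  rw [map_one]; exact SetLike.GradedOne.one_mem

theorem rs_decompose {U V : X.Opens} (hU : IsAffineOpen U) (hV : IsAffineOpen V) (h : V ≤ U)
    (x : 𝒮L.presheaf.obj (op U)) (i : ℕ) :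
    rs 𝒮L h (DirectSum.decompose (𝒮L.deg U hU) x i : 𝒮L.presheaf.obj (op U)) =
      (DirectSum.decompose (𝒮L.deg V hV) (rs 𝒮L h x) i : 𝒮L.presheaf.obj (op V)) :=
  GradedRingHom.map_directSumDecompose (𝒜 := 𝒮L.deg U hU) (ℬ := 𝒮L.deg V hV) (𝒮L.res hU hV h) (x := x) (i := i)

/-- Being of degree `n` is local. -/
theorem isHomog_of_local {n : ℕ} {W : X.Opens} {a : 𝒮L.presheaf.obj (op W)}
    (h : ∀ x ∈ W, ∃ (V : X.Opens) (hV : IsAffineOpen V) (hVW : V ≤ W), x ∈ V ∧ rs 𝒮L hVW a ∈ 𝒮L.deg V hV n) :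
    IsHomog n a := by
  classical
  intro V hV hVW
  have key : (DirectSum.decompose (𝒮L.deg V hV) (rs 𝒮L hVW a) n : 𝒮L.presheaf.obj (op V)) = rs 𝒮L hVW a := by
    refine ext_local fun x hx => ?_
    obtain ⟨V', hV', hV'W, hxV', ha⟩ := h x (hVW hx)
    obtain ⟨O, hO, hxO, hle⟩ := exists_isAffineOpen_mem_and_subset (x := x) (U := V ⊓ V') ⟨hx, hxV'⟩
    have h1 : O ≤ V := fun w hw => (hle hw).1
    have h2 : O ≤ V' := fun w hw => (hle hw).2
    refine ⟨O, h1, hxO, ?_⟩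
    rw [rs_decompose hV hO h1, rs_rs]
    refine DirectSum.decompose_of_mem_same _ ?_
    have : rs 𝒮L h2 (rs 𝒮L hV'W a) ∈ 𝒮L.deg O hO n := 𝒮L.map_mem hV' hO h2 ha
    rwa [rs_rs] at this
  rw [← key]
  exact SetLike.coe_mem _

variable [Coh.IsQCoh L] (hj : RelProj.IsGrSymAlg L 𝒮L j) (hL : PicF.IsInvertible L)

include hj in
theorem exists_coef {n : ℕ} {W : X.Opens} {a : 𝒮L.presheaf.obj (op W)} (ha : IsHomog n a) {V : X.Opens}
    (hV : IsAffineOpen V) (hVW : V ≤ W) {g : Γ(L, V)} (hg : IsGen L V g) :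
    ∃ c : Γ(X, V), (𝒮L.str.app (op V)).hom c * gn j g ^ n = rs 𝒮L hVW a :=
  QProj.exists_eq_mul_pow hj hV hg n (ha V hV hVW)

include hj in
theorem coef_inj {n : ℕ} {V : X.Opens} (hV : IsAffineOpen V) {g : Γ(L, V)} (hg : IsGen L V g) {c c' : Γ(X, V)}
    (h : (𝒮L.str.app (op V)).hom c * gn j g ^ n = (𝒮L.str.app (op V)).hom c' * gn j g ^ n) : c = c' := by
  refine sub_eq_zero.1 (QProj.eq_zero_of_str_mul_pow hj hV hg (b := c - c') n ?_)
  rw [map_sub, sub_mul]
  exact sub_eq_zero.2 h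

include hj in
theorem isHomog_term {V : X.Opens} (c : Γ(X, V)) (g : Γ(L, V)) (n : ℕ) :
    IsHomog n ((𝒮L.str.app (op V)).hom c * gn j g ^ n) := fun O hO hOV => by
  rw [rs_term]
  have := SetLike.mul_mem_graded (𝒮L.str_mem O hO (res hOV c))
    (SetLike.pow_mem_graded n (hj.2 O hO (resM L hOV g)))
  rwa [zero_add, smul_eq_mul, mul_one] at this

include hj hL in
/-- Sections of powers of the module are the homogeneous sections of the algebra. -/
theorem exists_powEquiv (n : ℕ) :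
    ∃ μ : CohB1.tensorPow L n ⟶ 𝒮L.toModule,
      (∀ (V : X.Opens) (c : Γ(X, V)) (g : Γ(L, V)), (show 𝒮L.presheaf.obj (op V) from μ.app V (c • powSec g n)) =
        (𝒮L.str.app (op V)).hom c * gn j g ^ n) ∧
      (∀ (W : X.Opens) (b : Γ(CohB1.tensorPow L n, W)), IsHomog n (show 𝒮L.presheaf.obj (op W) from μ.app W b)) ∧
      (∀ (W : X.Opens) (a : 𝒮L.presheaf.obj (op W)), IsHomog n a →
        ∃ b : Γ(CohB1.tensorPow L n, W), (show 𝒮L.presheaf.obj (op W) from μ.app W b) = a) := by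
  obtain ⟨μ, hμ⟩ := RelVALib.exists_powMap 𝒮L j n
  have hterm : ∀ (V : X.Opens) (c : Γ(X, V)) (g : Γ(L, V)),
      (show 𝒮L.presheaf.obj (op V) from μ.app V (c • powSec g n)) = (𝒮L.str.app (op V)).hom c * gn j g ^ n :=
    fun V c g => by
      refine (Scheme.Modules.Hom.app_smul μ c (powSec g n)).trans ?_
      exact congrArg ((𝒮L.str.app (op V)).hom c * ·) (hμ V g)
  have hres : ∀ {U V : X.Opens} (h : V ≤ U) (b : Γ(CohB1.tensorPow L n, U)),
      rs 𝒮L h (show 𝒮L.presheaf.obj (op U) from μ.app U b) =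
        (show 𝒮L.presheaf.obj (op V) from μ.app V (resM _ h b)) := fun h b => (app_resM μ h b).symm
  have hcoef : ∀ {V : X.Opens} {g : Γ(L, V)} (hg : IsGen L V g) (b : Γ(CohB1.tensorPow L n, V)),
      ∃ c, c • powSec g n = b := fun {V g} hg b => by
    obtain ⟨c, hc⟩ := ((isGen_powSec hg n) V le_rfl).2 b
    exact ⟨c, by simpa only [resM_self] using hc⟩
  have hinj : ∀ (W : X.Opens) (b b' : Γ(CohB1.tensorPow L n, W)),
      (show 𝒮L.presheaf.obj (op W) from μ.app W b) = (show 𝒮L.presheaf.obj (op W) from μ.app W b') → b = b' := by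
    intro W b b' h
    refine AmpleLib.sec_ext _ _ _ fun x hx => ?_
    obtain ⟨V, hV, hxV, hVW, g, hg⟩ := exists_gen_nhd hL hx
    refine ⟨V, hVW, hxV, ?_⟩
    obtain ⟨c, hc⟩ := hcoef hg (resM _ hVW b)
    obtain ⟨c', hc'⟩ := hcoef hg (resM _ hVW b')
    have h1 := congrArg (rs 𝒮L hVW) h
    rw [hres, hres, ← hc, ← hc', hterm, hterm] at h1
    rw [← hc, ← hc', coef_inj hj hV hg h1]
  refine ⟨μ, hterm, fun W b => isHomog_of_local fun x hx => ?_, fun W a ha => ?_⟩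
  · obtain ⟨V, hV, hxV, hVW, g, hg⟩ := exists_gen_nhd hL hx
    refine ⟨V, hV, hVW, hxV, ?_⟩
    obtain ⟨c, hc⟩ := hcoef hg (resM _ hVW b)
    rw [hres, ← hc, hterm]
    simpa only [rs_self] using isHomog_term hj c g n V hV le_rfl
  · choose V hV hxV hVW g hg using fun x : W => exists_gen_nhd hL x.2
    choose c hc using fun x : W => exists_coef hj ha (hV x) (hVW x) (hg x)
    obtain ⟨b, hb, -⟩ := TopCat.Sheaf.existsUnique_gluing' (X := X.toTopCat) (Coh.toAb (CohB1.tensorPow L n))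
      V W (fun x => homOfLE (hVW x)) (fun x hx => Opens.mem_iSup.2 ⟨⟨x, hx⟩, hxV ⟨x, hx⟩⟩)
      (fun x => c x • powSec (g x) n) fun x y => by
        show resM _ (inf_le_left : V x ⊓ V y ≤ V x) _ = resM _ (inf_le_right : V x ⊓ V y ≤ V y) _
        refine hinj _ _ _ ?_
        rw [← hres, ← hres, hterm, hterm, hc, hc, rs_rs, rs_rs]
    refine ⟨b, ext_local fun x hx => ⟨V ⟨x, hx⟩, hVW _, hxV _, ?_⟩⟩
    rw [hres, show resM _ (hVW ⟨x, hx⟩) b = c ⟨x, hx⟩ • powSec (g ⟨x, hx⟩) n from hb ⟨x, hx⟩, hterm, hc]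

include hj in
/-- A homogeneous section killed on the non-vanishing locus is killed by a power. -/
theorem exists_pow_mul_eq_zero {W : X.Opens} (hW : IsCompact (W : Set X)) {n i : ℕ}
    {a d : 𝒮L.presheaf.obj (op W)} (ha : IsHomog n a) (hd : IsHomog i d) (hL : PicF.IsInvertible L)
    {D : X.Opens} (hDW : D ≤ W)
    (hD : ∀ (V : X.Opens) (_ : IsAffineOpen V) (hVW : V ≤ W) (g : Γ(L, V)) (_ : IsGen L V g) (c : Γ(X, V)),
      (𝒮L.str.app (op V)).hom c * gn j g ^ n = rs 𝒮L hVW a → D ⊓ V = X.basicOpen c)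
    (h0 : rs 𝒮L hDW d = 0) : ∃ k, 0 < k ∧ a ^ k * d = 0 := by
  classical
  obtain ⟨ι, _, V, hV, hVW, hcov, hgen⟩ := exists_finite_gen_cover hL hW
  choose g hg using hgen
  have key : ∀ x, ∃ k, rs 𝒮L (hVW x) (a ^ k * d) = 0 := fun x => by
    obtain ⟨c, hc⟩ := exists_coef hj ha (hV x) (hVW x) (hg x)
    obtain ⟨e, he⟩ := exists_coef hj hd (hV x) (hVW x) (hg x)
    have hcD := hD _ (hV x) (hVW x) _ (hg x) c hc
    have hBD : X.basicOpen c ≤ D := hcD.ge.trans inf_le_left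
    have hBV := X.basicOpen_le c
    have h1 : rs 𝒮L hBV (rs 𝒮L (hVW x) d) = 0 := by
      rw [rs_rs, ← rs_rs hDW hBD, h0, map_zero]
    rw [← he, rs_term] at h1
    have h2 : res hBV e = 0 :=
      QProj.eq_zero_of_str_mul_pow hj ((hV x).basicOpen c) ((hg x).restrict hBV) (b := res hBV e) i h1
    have := (hV x).isLocalization_basicOpen c
    obtain ⟨⟨_, k, rfl⟩, hk⟩ := (IsLocalization.map_eq_zero_iff (Submonoid.powers c) Γ(X, X.basicOpen c) e).1 h2
    refine ⟨k, ?_⟩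
    rw [map_mul, map_pow, ← hc, ← he, mul_pow, mul_mul_mul_comm, ← map_pow, ← map_mul, hk, map_zero, zero_mul]
  choose k hk using key
  have : Fintype ι := Fintype.ofFinite ι
  refine ⟨Finset.univ.sup k + 1, Nat.succ_pos _, ext_local fun x hx => ?_⟩
  obtain ⟨i, hi⟩ := Opens.mem_iSup.1 (hcov hx)
  refine ⟨V i, hVW i, hi, ?_⟩
  rw [map_zero, ← Nat.sub_add_cancel ((Finset.le_sup (f := k) (Finset.mem_univ i)).trans (Nat.le_add_right _ 1)),
    pow_add, mul_assoc, map_mul, hk, mul_zero]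

include hj in
/-- A function on the non-vanishing locus times a power extends to a homogeneous section. -/
theorem exists_extend {W : X.Opens} (hW : IsCompact (W : Set X)) (hqs : IsQuasiSeparated (W : Set X)) {n : ℕ}
    {a : 𝒮L.presheaf.obj (op W)} (ha : IsHomog n a) (hL : PicF.IsInvertible L) {D : X.Opens} (hDW : D ≤ W)
    (hD : ∀ (V : X.Opens) (_ : IsAffineOpen V) (hVW : V ≤ W) (g : Γ(L, V)) (_ : IsGen L V g) (c : Γ(X, V)),
      (𝒮L.str.app (op V)).hom c * gn j g ^ n = rs 𝒮L hVW a → D ⊓ V = X.basicOpen c)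
    (t : Γ(X, D)) :
    ∃ (m : ℕ) (e : 𝒮L.presheaf.obj (op W)), IsHomog (m * n) e ∧
      rs 𝒮L hDW e = (𝒮L.str.app (op D)).hom t * rs 𝒮L hDW a ^ m := by
  classical
  obtain ⟨ι, _, V, hV, hVW, hcov, hgen⟩ := exists_finite_gen_cover hL hW
  choose g hg using hgen
  choose c hc using fun x => exists_coef hj ha (hV x) (hVW x) (hg x)
  have hBD : ∀ x, X.basicOpen (c x) ≤ D := fun x => (hD _ (hV x) (hVW x) _ (hg x) _ (hc x)).ge.trans inf_le_left
  have key : ∀ x, ∃ (k : ℕ) (e : Γ(X, V x)),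
      res (X.basicOpen_le (c x)) e = res (hBD x) t * res (X.basicOpen_le (c x)) (c x) ^ k := fun x => by
    have := (hV x).isLocalization_basicOpen (c x)
    obtain ⟨⟨e, ⟨_, k, rfl⟩⟩, hek⟩ := IsLocalization.surj (Submonoid.powers (c x)) (res (hBD x) t)
    refine ⟨k, e, ?_⟩
    rw [← map_pow]
    exact hek.symm
  choose k e he using key
  have : Fintype ι := Fintype.ofFinite ι
  let K := Finset.univ.sup k
  let f : ∀ x, 𝒮L.presheaf.obj (op (V x)) := fun x =>
    (𝒮L.str.app (op (V x))).hom (c x ^ (K - k x) * e x) * gn j (g x) ^ (K * n)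
  have hf : ∀ x, rs 𝒮L (inf_le_right : D ⊓ V x ≤ V x) (f x) =
      (𝒮L.str.app (op (D ⊓ V x))).hom (res inf_le_left t) * rs 𝒮L (inf_le_left.trans hDW) a ^ K := fun x => by
    have hB := hD _ (hV x) (hVW x) _ (hg x) _ (hc x)
    have hle : D ⊓ V x ≤ X.basicOpen (c x) := hB.le
    have he' : res (inf_le_right : D ⊓ V x ≤ V x) (e x) =
        res (inf_le_left : D ⊓ V x ≤ D) t * res (inf_le_right : D ⊓ V x ≤ V x) (c x) ^ k x := by
      have := congrArg (res hle) (he x)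
      rwa [map_mul, map_pow, res_res, res_res, res_res] at this
    rw [← rs_rs (hVW x) inf_le_right, ← hc x, rs_term, rs_term, map_mul, map_pow (res _), he',
      mul_pow, ← pow_mul, mul_comm n K, ← mul_assoc ((𝒮L.str.app _).hom _), ← map_pow (𝒮L.str.app (op (D ⊓ V x))).hom,
      ← map_mul (𝒮L.str.app (op (D ⊓ V x))).hom]
    refine congrArg (fun z => (𝒮L.str.app (op (D ⊓ V x))).hom z * _) ?_
    rw [mul_left_comm, ← pow_add, Nat.sub_add_cancel (Finset.le_sup (f := k) (Finset.mem_univ x))]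
  have hfh : ∀ x, IsHomog (K * n) (f x) := fun x => isHomog_term hj _ _ _
  clear_value f
  have hov : ∀ p : ι × ι, ∃ l, rs 𝒮L (inf_le_left.trans (hVW p.1) : V p.1 ⊓ V p.2 ≤ W) a ^ l *
      (rs 𝒮L inf_le_left (f p.1) - rs 𝒮L inf_le_right (f p.2)) = 0 := fun p => by
    have hc' : IsCompact ((V p.1 ⊓ V p.2 : X.Opens) : Set X) :=
      hqs _ _ (hVW p.1) (V p.1).2 (hV p.1).isCompact (hVW p.2) (V p.2).2 (hV p.2).isCompact
    obtain ⟨l, -, hl⟩ := exists_pow_mul_eq_zero hj hc' (ha.res (inf_le_left.trans (hVW p.1)))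
      (((hfh p.1).res inf_le_left).sub ((hfh p.2).res inf_le_right)) hL
      (D := D ⊓ (V p.1 ⊓ V p.2)) inf_le_right (fun O hO hOW g' hg' c' hc'' => by
        rw [rs_rs] at hc''
        rw [← hD O hO _ g' hg' c' hc'', inf_assoc, inf_eq_right.2 hOW]) (by
        have h1 := congrArg (rs 𝒮L (inf_le_inf_left D inf_le_left : D ⊓ (V p.1 ⊓ V p.2) ≤ D ⊓ V p.1)) (hf p.1)
        have h2 := congrArg (rs 𝒮L (inf_le_inf_left D inf_le_right : D ⊓ (V p.1 ⊓ V p.2) ≤ D ⊓ V p.2)) (hf p.2)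
        simp only [map_mul, map_pow, rs_rs, rs_str, res_res] at h1 h2
        rw [map_sub, rs_rs, rs_rs, sub_eq_zero]
        exact h1.trans h2.symm)
    exact ⟨l, hl⟩
  choose l hl using hov
  let M := Finset.univ.sup l
  obtain ⟨b, hb⟩ := exists_glue V hVW hcov (fun x => rs 𝒮L (hVW x) a ^ M * f x) fun x y => by
    rw [map_mul, map_mul, map_pow, map_pow, rs_rs, rs_rs, ← sub_eq_zero, ← mul_sub,
      ← Nat.sub_add_cancel (show l (x, y) ≤ M from Finset.le_sup (f := l) (Finset.mem_univ (x, y))), pow_add, mul_assoc, hl (x, y), mul_zero]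
  refine ⟨M + K, b, isHomog_of_local fun x hx => ?_, ext_local fun x hx => ?_⟩
  · obtain ⟨i, hi⟩ := Opens.mem_iSup.1 (hcov hx)
    refine ⟨V i, hV i, hVW i, hi, ?_⟩
    rw [hb i, add_mul]
    simpa only [rs_self] using (((ha.res (hVW i)).pow M).mul (hfh i)) (V i) (hV i) le_rfl
  · obtain ⟨i, hi⟩ := Opens.mem_iSup.1 (hcov (hDW hx))
    refine ⟨D ⊓ V i, inf_le_left, ⟨hx, hi⟩, ?_⟩
    rw [rs_rs, ← rs_rs (hVW i) inf_le_right, hb i, map_mul, map_pow, rs_rs, hf i, map_mul, map_pow, rs_str, rs_rs,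
      pow_add, mul_left_comm]

section pull

variable {W : X.Opens}

/-- Pulling sections back to an open subscheme loses nothing inside it. -/
theorem bijective_pullSec_of_le {Z : Scheme.{u}} (σ : Z ⟶ X) [IsOpenImmersion σ] (M : X.Modules) {V : X.Opens}
    (hV : V ≤ σ.opensRange) : Function.Bijective (pullSec σ : Γ(M, V) → _) := by
  let e := Scheme.Modules.restrictFunctorIsoPullback σ
  have h : (Scheme.Modules.restrictAdjunction σ).unit.app M ≫ (Scheme.Modules.pushforward σ).map (e.hom.app M) =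
      (Scheme.Modules.pullbackPushforwardAdjunction σ).unit.app M :=
    Adjunction.unit_leftAdjointUniq_hom_app (Scheme.Modules.restrictAdjunction σ)
      (Scheme.Modules.pullbackPushforwardAdjunction σ) M
  have h2 : (pullSec σ : Γ(M, V) → _) =
      (e.hom.app M).app (σ ⁻¹ᵁ V) ∘ ((Scheme.Modules.restrictAdjunction σ).unit.app M).app V := by
    funext x
    show ((Scheme.Modules.pullbackPushforwardAdjunction σ).unit.app M).app V x = _
    rw [← h]
    rfl
  rw [h2]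
  exact (ConcreteCategory.bijective_of_isIso ((e.hom.app M).app (σ ⁻¹ᵁ V))).comp (Coherent.bijective_unit_app σ M hV)

/-- Non-vanishing loci of sections over an open, read on the open subscheme. -/
theorem glocus_pullSec_eq {M : X.Modules} (hM : PicF.IsInvertible M) (b : Γ(M, W))
    (hW : (⊤ : W.toScheme.Opens) ≤ W.ι ⁻¹ᵁ W) (D : X.Opens)
    (hD : ∀ x ∈ W, ∃ (V : X.Opens) (hVW : V ≤ W) (g : Γ(M, V)) (hg : IsGen M V g), x ∈ V ∧
      D ⊓ V = X.basicOpen (hg.coef le_rfl (resM M hVW b))) :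
    glocus ((Scheme.Modules.pullback W.ι).obj M) (resM _ hW (pullSec W.ι b)) = W.ι ⁻¹ᵁ D := by
  refine Opens.ext (Set.ext fun z => ?_)
  obtain ⟨V, hVW, g, hg, hzV, hDV⟩ := hD (W.ι z) z.2
  let cf := hg.coef le_rfl (resM M hVW b)
  have hg' := isGen_pullSec W.ι hg hM
  have h1 := glocus_inf (resM _ hW (pullSec W.ι b)) hg'
  have h2 : hg'.coef le_rfl (resM _ le_top (resM _ hW (pullSec W.ι b))) = W.ι.app V cf := by
    refine hg'.coef_eq le_rfl ?_
    rw [resM_resM, resM_self, ← pullSec_smul]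
    have h3 := hg.coef_spec le_rfl (resM M hVW b)
    rw [resM_self] at h3
    rw [h3, ← resM_pullSec W.ι hVW b]
  rw [h2, ← Scheme.preimage_basicOpen, ← hDV] at h1
  have h4 := SetLike.ext_iff.1 h1 z
  simp only [Opens.mem_inf, Scheme.Hom.preimage_inf] at h4
  exact ⟨fun hz => (h4.1 ⟨hz, hzV⟩).1, fun hz => (h4.2 ⟨hz, hzV⟩).1⟩

end pull

end Groth.Agent.CAlgSmall.QBridge
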