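import Groth.Agent.CAlgSmall.CompSeries

/-!
# Splitting off a localization with closed image; noetherianity of field extensions; lengths
-/

set_option maxSynthPendingDepth 3

universe u

open PrimeSpectrum TensorProduct

namespace Groth.Agent.CAlgSmall

theorem exists_prod_of_isClosed_range {R : Type u} [CommRing R] (S : Submonoid R) (A : Type u)
    [CommRing A] [Algebra R A] [IsLocalization S A]
    (hcl : IsClosed (Set.range (PrimeSpectrum.comap (algebraMap R A))))
    (h : TopologicalSpace.NoetherianSpace (PrimeSpectrum R) ∨ S.FG) :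
    ∃ (R' : Type u) (_ : CommRing R') (e : R ≃+* A × R'), ∀ x : R, (e x).1 = algebraMap R A x := by
  classical
  have hrange : Set.range (comap (algebraMap R A)) = {p | Disjoint (S : Set R) p.asIdeal} :=
    localization_comap_range A S
  have hop : IsOpen (Set.range (comap (algebraMap R A))) := by
    rcases h with hN | ⟨t, ht⟩
    · have hfin : (minimalPrimes R).Finite := by
        haveI := hN
        have := TopologicalSpace.NoetherianSpace.finite_irreducibleComponents
          (α := PrimeSpectrum R)
        rw [← PrimeSpectrum.zeroLocus_minimalPrimes] at this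
        exact this.of_finite_image (fun a ha b hb e ↦ by
          have := congrArg PrimeSpectrum.vanishingIdeal e
          simp only [Function.comp, PrimeSpectrum.vanishingIdeal_zeroLocus_eq_radical] at this
          rwa [ha.1.1.radical, hb.1.1.radical] at this)
      rw [← isClosed_compl_iff]
      have : (Set.range (comap (algebraMap R A)))ᶜ =
          ⋃ q ∈ {q ∈ minimalPrimes R | ¬ Disjoint (S : Set R) q}, zeroLocus (q : Set R) := by
        ext p
        rw [hrange]
        simp only [Set.mem_compl_iff, Set.mem_ofPred_eq, Set.mem_iUnion, exists_prop]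
        constructor
        · intro hp
          obtain ⟨q, hq, hqp⟩ := Ideal.exists_minimalPrimes_le (I := (⊥ : Ideal R)) (J := p.asIdeal) bot_le
          refine ⟨q, ⟨hq, fun hd ↦ hp ?_⟩, hqp⟩
          haveI := hq.1.1
          have hmem : (⟨q, hq.1.1⟩ : PrimeSpectrum R) ∈ Set.range (comap (algebraMap R A)) := by
            rw [hrange]; exact hd
          have := ((le_iff_specializes ⟨q, hq.1.1⟩ p).mp hqp).mem_closed hcl hmem
          rwa [hrange] at this
        · rintro ⟨q, ⟨hq, hd⟩, hqp⟩ hp
          exact hd (Set.disjoint_of_subset_right hqp hp)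
      rw [this]
      exact (hfin.subset fun q hq ↦ hq.1).isClosed_biUnion fun q _ ↦ isClosed_zeroLocus _
    · have : Set.range (comap (algebraMap R A)) = (basicOpen (∏ x ∈ t, x) : Set (PrimeSpectrum R)) := by
        rw [hrange]
        ext p
        simp only [Set.mem_ofPred_eq, SetLike.mem_coe, mem_basicOpen]
        constructor
        · intro hd hmem
          exact Set.disjoint_left.mp hd (show (∏ x ∈ t, x) ∈ (S : Set R) from
            S.prod_mem fun x hx ↦ ht ▸ Submonoid.subset_closure hx) hmem
        · intro hp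
          have hle : S ≤ p.asIdeal.primeCompl := by
            rw [← ht, Submonoid.closure_le]
            intro x hx hxp
            exact hp (p.asIdeal.mem_of_dvd (Finset.dvd_prod_of_mem id hx) hxp)
          exact Set.disjoint_left.mpr fun x hx ↦ hle hx
      rw [this]
      exact (basicOpen _).2
  obtain ⟨e, he, heq⟩ := PrimeSpectrum.isClopen_iff.mp ⟨hcl, hop⟩
  let I := Ideal.span {1 - e}
  let J := Ideal.span {e}
  have hco : IsCoprime I J := Ideal.isCoprime_span_singleton_iff _ _ |>.mpr ⟨1, 1, by ring⟩
  have hbot : I ⊓ J = ⊥ := by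
    rw [← Ideal.mul_eq_inf_of_isCoprime hco, Ideal.span_singleton_mul_span_singleton, sub_mul,
      one_mul, he.eq, sub_self, Ideal.span_singleton_zero]
  have hIA : ∀ a ∈ I, algebraMap R A a = 0 := by
    intro a ha
    obtain ⟨c, rfl⟩ := Ideal.mem_span_singleton'.mp ha
    have hu : IsUnit (algebraMap R A e) := by
      by_contra hne
      obtain ⟨M, hM, hle⟩ := Ideal.exists_le_maximal _ (mt Ideal.span_singleton_eq_top.mp hne)
      have h1 : comap (algebraMap R A) ⟨M, hM.isPrime⟩ ∈ (basicOpen e : Set (PrimeSpectrum R)) :=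
        heq ▸ Set.mem_range_self _
      exact h1 (hle (Ideal.mem_span_singleton_self _))
    have : algebraMap R A (1 - e) = 0 := by
      refine hu.mul_right_cancel ?_
      rw [← map_mul, sub_mul, one_mul, he.eq, sub_self, map_zero, zero_mul]
    rw [map_mul, this, mul_zero]
  have hSunit : ∀ s ∈ S, IsUnit (Ideal.Quotient.mk I s) := by
    intro s hs
    by_contra hne
    obtain ⟨M, hM, hle⟩ := Ideal.exists_le_maximal _ (mt Ideal.span_singleton_eq_top.mp hne)
    let P := M.comap (Ideal.Quotient.mk I)
    have hP : (⟨P, hM.isPrime.comap _⟩ : PrimeSpectrum R) ∈ (basicOpen e : Set (PrimeSpectrum R)) := by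
      intro hmem
      have h1 : Ideal.Quotient.mk I e = 1 := by
        rw [← map_one (Ideal.Quotient.mk I), Ideal.Quotient.eq]
        exact Ideal.mem_span_singleton'.mpr ⟨-1, by ring⟩
      exact hM.ne_top ((Ideal.eq_top_iff_one M).mpr (h1 ▸ hmem))
    rw [← heq, hrange] at hP
    exact Set.disjoint_left.mp hP hs (hle (Ideal.mem_span_singleton_self _))
  haveI : IsLocalization S (R ⧸ I) :=
    { map_units := fun y ↦ hSunit y y.2
      surj := fun z ↦ by
        obtain ⟨a, rfl⟩ := Ideal.Quotient.mk_surjective z
        exact ⟨(a, 1), by simp⟩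
      exists_of_eq := fun {x y} hxy ↦ by
        have hA : algebraMap R A (x - y) = 0 := hIA _ (Ideal.Quotient.eq.mp hxy)
        rw [map_sub, sub_eq_zero] at hA
        exact IsLocalization.exists_of_eq hA }
  let φ : (R ⧸ I) ≃ₐ[R] A := IsLocalization.algEquiv S _ _
  let ψ : R ≃+* (R ⧸ I) × (R ⧸ J) :=
    (RingEquiv.quotientBot R).symm.trans
      ((Ideal.quotEquivOfEq hbot.symm).trans (Ideal.quotientInfEquivQuotientProd I J hco))
  refine ⟨R ⧸ J, inferInstance, ψ.trans (RingEquiv.prodCongr φ.toRingEquiv (RingEquiv.refl _)),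
    fun x ↦ ?_⟩
  show φ (ψ x).1 = _
  rw [show (ψ x).1 = algebraMap R (R ⧸ I) x from rfl, AlgEquiv.commutes]

theorem isNoetherianRing_tensor_field (k : Type u) [Field k] (R : Type u) [CommRing R] [Algebra k R]
    [IsNoetherianRing R] (K : Type u) [Field K] [Algebra k K]
    (hK : ∃ s : Finset K, IntermediateField.adjoin k (s : Set K) = ⊤) :
    IsNoetherianRing (K ⊗[k] R) := by
  obtain ⟨s, hs⟩ := hK
  haveI : Algebra.EssFiniteType k K := IntermediateField.fg_top_iff.mp ⟨s, hs⟩
  haveI : IsNoetherianRing (R ⊗[k] K) := Algebra.EssFiniteType.isNoetherianRing R (R ⊗[k] K)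
  exact isNoetherianRing_of_ringEquiv (R ⊗[k] K) (Algebra.TensorProduct.comm k R K).toRingEquiv

theorem length_eq_sum_semilocal {A B : Type u} [CommRing A] [IsLocalRing A] [CommRing B]
    [Algebra A B] [Finite (MaximalSpectrum B)]
    (hover : ∀ n : MaximalSpectrum B, n.asIdeal.comap (algebraMap A B) = IsLocalRing.maximalIdeal A)
    (M : Type u) [AddCommGroup M] [Module B M] [Module A M] [IsScalarTower A B M]
    (hfin : ∀ n : MaximalSpectrum B,
      Module.Finite (A ⧸ n.asIdeal.comap (algebraMap A B)) (B ⧸ n.asIdeal))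
    (hM : IsFiniteLength B M) :
    Module.length A M = ∑ᶠ n : MaximalSpectrum B,
      (Module.finrank (A ⧸ n.asIdeal.comap (algebraMap A B)) (B ⧸ n.asIdeal) : ℕ∞) *
        lenAt n.asIdeal M := by
  classical
  haveI := Fintype.ofFinite (MaximalSpectrum B)
  rw [finsum_eq_sum_of_fintype]
  suffices main : ∀ (P : Type u) [AddCommGroup P] [Module B P], IsFiniteLength B P →
      ∀ [Module A P] [IsScalarTower A B P], Module.length A P = ∑ n : MaximalSpectrum B,
        (Module.finrank (A ⧸ n.asIdeal.comap (algebraMap A B)) (B ⧸ n.asIdeal) : ℕ∞) *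
          lenAt n.asIdeal P from main M hM
  clear hM
  intro P _ _ hP
  induction hP with
  | @of_subsingleton M _ _ _ =>
    intro _ _
    rw [Module.length_eq_zero]
    refine (Finset.sum_eq_zero fun n _ ↦ ?_).symm
    rw [lenAt, Module.length_eq_zero, mul_zero]
  | @of_simple_quotient M _ _ N hsimp _ ih =>
    intro _ _
    rw [Module.length_eq_add_of_exact (N.subtype.restrictScalars A) (N.mkQ.restrictScalars A)
      N.injective_subtype N.mkQ_surjective (LinearMap.exact_subtype_mkQ N), ih]
    conv_rhs =>
      enter [2, n]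
      rw [lenAt_add n.asIdeal N.subtype N.mkQ N.injective_subtype N.mkQ_surjective
        (LinearMap.exact_subtype_mkQ N), mul_add]
    rw [Finset.sum_add_distrib]
    congr 1
    obtain ⟨q, hq, ⟨e⟩⟩ := isSimpleModule_iff_quot_maximal.mp hsimp
    haveI := hq
    let n₀ : MaximalSpectrum B := ⟨q, hq⟩
    rw [Finset.sum_eq_single n₀ (fun n _ hn ↦ by
        rw [lenAt_congr n.asIdeal e,
          lenAt_quot_of_ne n.asIdeal q (fun h ↦ hn (MaximalSpectrum.ext h.symm)), mul_zero])
      (fun h ↦ absurd (Finset.mem_univ _) h), lenAt_congr n₀.asIdeal e, lenAt_quot_self, mul_one,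
      (e.restrictScalars A).length_eq]
    haveI : (q.comap (algebraMap A B)).IsMaximal := (hover n₀).symm ▸ IsLocalRing.maximalIdeal.isMaximal A
    letI := Ideal.Quotient.field (q.comap (algebraMap A B))
    haveI := hfin n₀
    haveI : IsScalarTower A (A ⧸ q.comap (algebraMap A B)) (B ⧸ q) :=
      IsScalarTower.of_algebraMap_eq fun a ↦ rfl
    rw [Module.length_eq_of_surjective (R := A ⧸ q.comap (algebraMap A B)) (S := A)
      Ideal.Quotient.mk_surjective, Module.length_eq_finrank]

end Groth.Agent.CAlgSmall
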