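import Mathlib
import Groth.Agent.CAlgH.NagataIC
import Groth.Agent.S6333

/-! Relative normalization in a reduced scheme of finite type over a Nagata scheme. -/

set_option autoImplicit false
set_option backward.isDefEq.respectTransparency.types false

universe u

namespace Groth.Agent.CAlgSmall.NormNagata

open CategoryTheory CategoryTheory.Limits AlgebraicGeometry

theorem finite_ic_sections {X S : Scheme.{u}} (f : X ⟶ S) [LocallyOfFiniteType f] [QuasiCompact f]
    [IsReduced X] (U : S.Opens) (hU : IsAffineOpen U) (hN : CAlg.IsNagata Γ(S, U)) :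
    letI := (f.app U).hom.toAlgebra
    Module.Finite Γ(S, U) (integralClosure Γ(S, U) Γ(X, f ⁻¹ᵁ U)) := by
  let := (f.app U).hom.toAlgebra
  have := hN.1
  obtain ⟨s, hs, hYs⟩ := (isCompact_iff_finite_and_eq_biUnion_affineOpens (U := f ⁻¹ᵁ U)).mp
    (f.isCompact_preimage hU.isCompact)
  have hle : ∀ W : s, (W.1 : X.Opens) ≤ f ⁻¹ᵁ U := fun W ↦ by
    rw [hYs]; exact le_iSup₂ (f := fun (i : X.affineOpens) (_ : i ∈ s) ↦ (i : X.Opens)) W.1 W.2
  have : Finite s := hs.to_subtype
  let (W : s) : Algebra Γ(S, U) Γ(X, (W.1 : X.Opens)) := (f.appLE U W.1 (hle W)).hom.toAlgebra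
  have (W : s) : Algebra.FiniteType Γ(S, U) Γ(X, (W.1 : X.Opens)) := f.finiteType_appLE hU W.1.2 (hle W)
  have (W : s) : Module.Finite Γ(S, U) (integralClosure Γ(S, U) Γ(X, (W.1 : X.Opens))) :=
    Groth.Agent.CAlgH.finite_ic_of_isNagata hN _
  let r (W : s) : Γ(X, f ⁻¹ᵁ U) →ₐ[Γ(S, U)] Γ(X, (W.1 : X.Opens)) :=
    { (X.presheaf.map (homOfLE (hle W)).op).hom with commutes' := fun a ↦ rfl }
  let π : integralClosure Γ(S, U) Γ(X, f ⁻¹ᵁ U) →ₗ[Γ(S, U)]
      ((W : s) → integralClosure Γ(S, U) Γ(X, (W.1 : X.Opens))) :=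
    LinearMap.pi fun W ↦
      { toFun := fun a ↦ ⟨r W a.1, (a.2 : _root_.IsIntegral Γ(S, U) a.1).map (r W)⟩
        map_add' := fun a b ↦ Subtype.ext (map_add (r W) a.1 b.1)
        map_smul' := fun c a ↦ Subtype.ext (map_smul (r W) c a.1) }
  refine Module.Finite.of_injective π fun a b hab ↦ Subtype.ext ?_
  refine TopCat.Sheaf.eq_of_locally_eq' X.sheaf (fun W : s ↦ (W.1 : X.Opens)) (f ⁻¹ᵁ U)
    (fun W ↦ homOfLE (hle W)) ?_ a.1 b.1 fun W ↦ ?_
  · rw [hYs]
    exact iSup₂_le fun i hi ↦ le_iSup (fun W : s ↦ (W.1 : X.Opens)) ⟨i, hi⟩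
  · exact congrArg Subtype.val (congrFun hab W)

theorem isFinite_fromNormalization {X S : Scheme.{u}} (f : X ⟶ S)
    [LocallyOfFiniteType f] [QuasiCompact f] [QuasiSeparated f] [IsReduced X]
    (hS : ∀ U : S.affineOpens, CAlg.IsNagata Γ(S, U)) : IsFinite f.fromNormalization := by
  refine { finite_app := fun U hU ↦ ?_ }
  let := (f.app U).hom.toAlgebra
  have h := finite_ic_sections f U hU (hS ⟨U, hU⟩)
  rw [f.fromNormalization_app hU, CommRingCat.hom_comp]
  exact (RingHom.Finite.of_surjective _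
    (ConcreteCategory.bijective_of_isIso (f.normalizationObjIso hU).inv).2).comp (RingHom.finite_algebraMap.mpr h)

end Groth.Agent.CAlgSmall.NormNagata

namespace Groth.Agent.CAlgSmall.NormNagata

open CategoryTheory CategoryTheory.Limits AlgebraicGeometry

theorem finite_ic_field {A : Type u} [CommRing A] (hN : CAlg.IsNagata A) (L : Type u) [Field L]
    [Algebra A L] [Algebra.EssFiniteType A L] : Module.Finite A (integralClosure A L) := by
  let p := RingHom.ker (algebraMap A L)
  have hp : p.IsPrime := RingHom.ker_isPrime _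
  let : Algebra (A ⧸ p) L := (RingHom.kerLift (algebraMap A L)).toAlgebra
  have : IsScalarTower A (A ⧸ p) L := IsScalarTower.of_algebraMap_eq fun _ ↦ rfl
  have hinj : Function.Injective (algebraMap (A ⧸ p) L) := RingHom.kerLift_injective _
  let K := FractionRing (A ⧸ p)
  let : Algebra K L := (IsFractionRing.lift (K := K) hinj).toAlgebra
  have : IsScalarTower (A ⧸ p) K L :=
    IsScalarTower.of_algebraMap_eq fun a ↦ (IsFractionRing.lift_algebraMap hinj a).symm
  have : IsScalarTower A K L := IsScalarTower.of_algebraMap_eq fun a ↦ by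
    rw [IsScalarTower.algebraMap_apply A (A ⧸ p) K, ← IsScalarTower.algebraMap_apply (A ⧸ p) K L]
    rfl
  have : Algebra.EssFiniteType K L := Algebra.EssFiniteType.of_comp A K L
  have hfd : FiniteDimensional K (algebraicClosure K L) :=
    Groth.Agent.S6333.result (IntermediateField.fg_top K L)
  have hN2 : CAlg.IsN2 (A ⧸ p) := hN.2 p
  have := hN.1
  have hfin : Module.Finite (A ⧸ p) (integralClosure (A ⧸ p) (algebraicClosure K L)) :=
    hN2 (algebraicClosure K L) hfd
  let j : algebraicClosure K L →ₐ[A ⧸ p] L := (algebraicClosure K L).val.restrictScalars (A ⧸ p)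
  let θ : integralClosure (A ⧸ p) (algebraicClosure K L) →ₗ[A ⧸ p] integralClosure (A ⧸ p) L :=
    { toFun := fun a ↦ ⟨j a.1, (a.2 : _root_.IsIntegral (A ⧸ p) a.1).map j⟩
      map_add' := fun a b ↦ Subtype.ext (map_add j a.1 b.1)
      map_smul' := fun c a ↦ Subtype.ext (map_smul j c a.1) }
  have hθ : Function.Surjective θ := fun y ↦ by
    have hy : y.1 ∈ algebraicClosure K L :=
      mem_algebraicClosure_iff.mpr (IsIntegral.tower_top (A := K) (y.2 : _root_.IsIntegral (A ⧸ p) y.1)).isAlgebraic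
    refine ⟨⟨⟨y.1, hy⟩, ?_⟩, Subtype.ext rfl⟩
    exact (isIntegral_algHom_iff j Subtype.val_injective).mp y.2
  have : Module.Finite (A ⧸ p) (integralClosure (A ⧸ p) L) := Module.Finite.of_surjective θ hθ
  exact Groth.Agent.CAlgH.fin_ic_of_finite_base (B := A ⧸ p) this

theorem isFinite_fromNormalization_of_generic {X S : Scheme.{u}} (f : X ⟶ S)
    [QuasiCompact f] [QuasiSeparated f] [IsReduced X]
    (hS : ∀ U : S.affineOpens, CAlg.IsNagata Γ(S, U))
    (hfin : LocallyFinite (fun Z : ↥(irreducibleComponents ↥X) => (Z : Set ↥X)))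
    (hres : ∀ x : X, closure {x} ∈ irreducibleComponents ↥X → (f.residueFieldMap x).hom.EssFiniteType) :
    IsFinite f.fromNormalization := by
  refine { finite_app := fun U hU ↦ ?_ }
  let := (f.app U).hom.toAlgebra
  have hN : CAlg.IsNagata Γ(S, U) := hS ⟨U, hU⟩
  suffices h : Module.Finite Γ(S, U) (integralClosure Γ(S, U) Γ(X, f ⁻¹ᵁ U)) by
    rw [f.fromNormalization_app hU, CommRingCat.hom_comp]
    exact (RingHom.Finite.of_surjective _
      (ConcreteCategory.bijective_of_isIso (f.normalizationObjIso hU).inv).2).comp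
        (RingHom.finite_algebraMap.mpr h)
  have := hN.1
  let T := {x : X // x ∈ f ⁻¹ᵁ U ∧ closure {x} ∈ irreducibleComponents ↥X}
  have : Finite T := by
    have hF := hfin.finite_nonempty_inter_compact (f.isCompact_preimage hU.isCompact)
    have := hF.to_subtype
    let hF' : Finite {Z : irreducibleComponents ↥X // ((Z : Set X) ∩ ((f ⁻¹ᵁ U : X.Opens) : Set X)).Nonempty} := this
    refine Finite.of_injective (fun x : T ↦ (⟨⟨closure {x.1}, x.2.2⟩,
      ⟨x.1, subset_closure rfl, x.2.1⟩⟩ : {Z : irreducibleComponents ↥X // ((Z : Set X) ∩ ((f ⁻¹ᵁ U : X.Opens) : Set X)).Nonempty}))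
      fun a b h ↦ Subtype.ext ?_
    have h' : closure ({a.1} : Set X) = closure {b.1} :=
      congrArg (fun q ↦ ((q.1 : irreducibleComponents ↥X) : Set X)) h
    exact (show IsGenericPoint a.1 (closure {b.1}) from h').eq rfl
  let ψ (x : T) : Γ(X, f ⁻¹ᵁ U) →+* X.residueField x.1 := (X.evaluation (f ⁻¹ᵁ U) x.1 x.2.1).hom
  let (x : T) : Algebra Γ(S, U) (X.residueField x.1) := ((ψ x).comp (f.app U).hom).toAlgebra
  have (x : T) : Algebra.EssFiniteType Γ(S, U) (X.residueField x.1) := by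
    have hx : f x.1 ∈ U := x.2.1
    let := (S.presheaf.germ U (f x.1) hx).hom.toAlgebra
    have := hU.isLocalization_stalk ⟨f x.1, hx⟩
    have h1 : Algebra.EssFiniteType Γ(S, U) (S.presheaf.stalk (f x.1)) :=
      .of_isLocalization _ (hU.primeIdealOf ⟨f x.1, hx⟩).asIdeal.primeCompl
    have h1' : (S.presheaf.germ U (f x.1) hx).hom.EssFiniteType := RingHom.essFiniteType_algebraMap.mpr h1
    have h2 := (h1'.comp
      (RingHom.FiniteType.of_surjective _ (S.residue_surjective (f x.1))).essFiniteType).comp (hres x.1 x.2.2)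
    refine RingHom.essFiniteType_algebraMap.mp ?_
    convert h2 using 1
    refine RingHom.ext fun a ↦ ?_
    exact (Scheme.evaluation_naturality_apply f x.1 hx a).symm
  have (x : T) : Module.Finite Γ(S, U) (integralClosure Γ(S, U) (X.residueField x.1)) :=
    finite_ic_field hN _
  let r (x : T) : Γ(X, f ⁻¹ᵁ U) →ₐ[Γ(S, U)] X.residueField x.1 := { ψ x with commutes' := fun a ↦ rfl }
  let π : integralClosure Γ(S, U) Γ(X, f ⁻¹ᵁ U) →ₗ[Γ(S, U)]
      ((x : T) → integralClosure Γ(S, U) (X.residueField x.1)) :=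
    LinearMap.pi fun x ↦
      { toFun := fun a ↦ ⟨r x a.1, (a.2 : _root_.IsIntegral Γ(S, U) a.1).map (r x)⟩
        map_add' := fun a b ↦ Subtype.ext (map_add (r x) a.1 b.1)
        map_smul' := fun c a ↦ Subtype.ext (map_smul (r x) c a.1) }
  refine Module.Finite.of_injective π fun a b hab ↦ Subtype.ext ?_
  rw [← sub_eq_zero]
  refine (AlgebraicGeometry.basicOpen_eq_bot_iff (X := X) (a.1 - b.1)).mp (eq_bot_iff.mpr fun z hz ↦ ?_)
  have hi := isIrreducible_irreducibleComponent (x := z)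
  obtain ⟨ζ, hζ⟩ := QuasiSober.sober hi isClosed_irreducibleComponent
  have hmem : ζ ∈ X.basicOpen (a.1 - b.1) :=
    (hζ.specializes mem_irreducibleComponent).mem_open (X.basicOpen (a.1 - b.1)).isOpen hz
  have hζY : ζ ∈ f ⁻¹ᵁ U := X.basicOpen_le _ hmem
  have hζc : closure {ζ} ∈ irreducibleComponents ↥X := by
    rw [hζ.def]; exact irreducibleComponent_mem_irreducibleComponents z
  refine absurd ?_ ((Scheme.evaluation_ne_zero_iff_mem_basicOpen X ζ hζY (a.1 - b.1)).mpr hmem)
  show ψ ⟨ζ, hζY, hζc⟩ (a.1 - b.1) = 0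
  rw [map_sub, sub_eq_zero]
  exact congrArg Subtype.val (congrFun hab ⟨ζ, hζY, hζc⟩)

end Groth.Agent.CAlgSmall.NormNagata
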