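import Groth.Agent.EGA43.FlatDescent.Global
import Groth.Agent.Props12.FlatOver
import Mathlib.RingTheory.MvPolynomial.Localization
import Mathlib.RingTheory.FinitePresentation

/-!
# Finite presentation of a flat module that is locally finitely presented on the base

`R` a ring with finitely many primes whose local rings jointly detect zero, `S` a finitely
presented `R`-algebra, `π : F → M` surjective with `F` finitely presented and `M` flat over `R`.
If `ker π` is finitely generated locally at every prime of `R`, then it is finitely generated.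
-/

universe u

set_option autoImplicit false

open TensorProduct

namespace Groth.Agent.CAlgSmall.FPFlatLocal

variable {R : Type u} [CommRing R]

theorem eq_zero_of_forall_smul_eq_zero {ι : Type u} [Finite ι] {a : ι → R}
    (ha : ∀ r : R, (∀ i, r * a i = 0) → r = 0) {V : Type u} [AddCommGroup V] [Module R V]
    [Module.Flat R V] (v : V) (hv : ∀ i, a i • v = 0) : v = 0 := by
  classical
  cases nonempty_fintype ι
  let φ : R →ₗ[R] (ι → R) := LinearMap.toSpanSingleton R (ι → R) a
  have hφ : Function.Injective φ := by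
    rw [← LinearMap.ker_eq_bot, LinearMap.ker_eq_bot']
    intro r hr
    exact ha r fun i => by simpa [φ] using congrFun hr i
  have h := Module.Flat.rTensor_preserves_injective_linearMap (M := V) φ hφ
  have h0 : φ.rTensor V ((1 : R) ⊗ₜ v) = 0 := by
    rw [LinearMap.rTensor_tmul]
    have : φ 1 = ∑ i, a i • (Pi.single i 1 : ι → R) := by
      funext j
      simp [φ, Finset.sum_apply, Pi.single_apply]
    rw [this, TensorProduct.sum_tmul]
    refine Finset.sum_eq_zero fun i _ => ?_
    rw [TensorProduct.smul_tmul, hv i, TensorProduct.tmul_zero]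
  have h1 : ((1 : R) ⊗ₜ[R] v) = 0 := h (by rw [h0, map_zero])
  simpa using congrArg (TensorProduct.lid R V) h1

variable {S : Type u} [CommRing S] [Algebra R S]

/-- An open subset of `Spec S` containing all primes over generisations of `q` contains `D(f)`
for some `f ∉ q`. -/
theorem exists_basicOpen_subset {U : Set (PrimeSpectrum S)} (hU : IsOpen U) (q : Ideal R)
    [q.IsPrime]
    (hq : ∀ Q : PrimeSpectrum S, Q.asIdeal.comap (algebraMap R S) ≤ q → Q ∈ U) :
    ∃ f ∉ q, ∀ Q : PrimeSpectrum S, algebraMap R S f ∉ Q.asIdeal → Q ∈ U := by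
  obtain ⟨I, hI⟩ := (PrimeSpectrum.isClosed_iff_zeroLocus_ideal _).1 hU.isClosed_compl
  by_cases h : Disjoint (I : Set S) (Algebra.algebraMapSubmonoid S q.primeCompl : Set S)
  · obtain ⟨P, hP, hIP, hdisj⟩ := Ideal.exists_le_prime_disjoint I
      (Algebra.algebraMapSubmonoid S q.primeCompl) h
    have hle : P.comap (algebraMap R S) ≤ q := by
      intro r hr
      by_contra hrq
      exact Set.disjoint_left.1 hdisj hr (Algebra.mem_algebraMapSubmonoid_of_mem ⟨r, hrq⟩)
    have h1 : (⟨P, hP⟩ : PrimeSpectrum S) ∈ U := hq ⟨P, hP⟩ hle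
    have h2 : (⟨P, hP⟩ : PrimeSpectrum S) ∈ Uᶜ := by
      rw [hI]
      exact hIP
    exact absurd h1 h2
  · obtain ⟨x, hxI, hx⟩ := Set.not_disjoint_iff.1 h
    obtain ⟨f, hf, rfl⟩ := hx
    refine ⟨f, hf, fun Q hQ => ?_⟩
    by_contra hQU
    have hQI : Q ∈ Uᶜ := hQU
    rw [hI] at hQI
    exact hQ (hQI hxI)

theorem exists_pow_smul_eq_zero {N : Type u} [AddCommGroup N] [Module S N] (x : N) (f : S)
    (h : ∀ Q : PrimeSpectrum S, f ∉ Q.asIdeal →
      LocalizedModule.mkLinearMap Q.asIdeal.primeCompl N x = 0) :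
    ∃ k : ℕ, f ^ k • x = 0 := by
  have hrad : f ∈ Ideal.radical (LinearMap.ker (LinearMap.toSpanSingleton S N x)) := by
    rw [Ideal.radical_eq_sInf]
    rw [Submodule.mem_sInf]
    rintro (P : Ideal S) ⟨hle, hP⟩
    by_contra hf
    obtain ⟨c, hc⟩ := (IsLocalizedModule.eq_zero_iff P.primeCompl
      (LocalizedModule.mkLinearMap P.primeCompl N)).1 (h ⟨P, hP⟩ hf)
    refine c.2 (hle ?_)
    simpa [LinearMap.mem_ker, Submonoid.smul_def] using hc
  obtain ⟨k, hk⟩ := hrad
  exact ⟨k, by simpa using hk⟩

variable [Algebra.FinitePresentation R S]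
variable {F M : Type u} [AddCommGroup F] [Module S F] [Module R F] [IsScalarTower R S F]
  [Module.FinitePresentation S F] [AddCommGroup M] [Module S M] [Module R M]
  [IsScalarTower R S M] [Module.Flat R M]

theorem ker_fg (π : F →ₗ[S] M) (hπ : Function.Surjective π) (s : Finset (PrimeSpectrum R))
    (hs : Function.Injective fun r : R => fun p : s =>
      algebraMap R (Localization.AtPrime p.1.asIdeal) r)
    (hloc : ∀ p : Ideal R, p.IsPrime → ∃ K' : Submodule S F, K' ≤ LinearMap.ker π ∧ K'.FG ∧
      ∀ x ∈ LinearMap.ker π, ∃ t ∉ p, algebraMap R S t • x ∈ K') :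
    (LinearMap.ker π).FG := by
  classical
  choose K hKle hKfg hK using hloc
  let K₀ : Submodule S F := s.attach.sup fun p => K p.1.asIdeal p.1.isPrime
  have hK₀le : K₀ ≤ LinearMap.ker π := Finset.sup_le fun p _ => hKle _ _
  have hK₀fg : K₀.FG := Submodule.fg_finset_sup _ _ fun p _ => hKfg _ _
  have key : ∀ q : PrimeSpectrum R, ∃ L : Submodule S F, L ≤ LinearMap.ker π ∧ L.FG ∧
      ∃ f ∉ q.asIdeal, ∀ x ∈ LinearMap.ker π, ∃ k : ℕ, algebraMap R S f ^ k • x ∈ L := by
    intro q
    let L : Submodule S F := K₀ ⊔ K q.asIdeal q.isPrime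
    have hLle : L ≤ LinearMap.ker π := sup_le hK₀le (hKle _ _)
    have hLfg : L.FG := hK₀fg.sup (hKfg _ _)
    refine ⟨L, hLle, hLfg, ?_⟩
    have : Module.FinitePresentation S (F ⧸ L) :=
      Module.finitePresentation_of_surjective L.mkQ L.mkQ_surjective (by rwa [Submodule.ker_mkQ])
    let g : (F ⧸ L) →ₗ[S] M := L.liftQ π hLle
    have hg : Function.Surjective g := fun m => by
      obtain ⟨y, rfl⟩ := hπ m
      exact ⟨Submodule.Quotient.mk y, rfl⟩
    have hopen := EGA43.FlatDescent.isOpen_setOf_flat (A := R) (S := S) (N := F ⧸ L)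
    have hflat : ∀ Q : PrimeSpectrum S, Q.asIdeal.comap (algebraMap R S) ≤ q.asIdeal →
        Module.Flat R (LocalizedModule Q.asIdeal.primeCompl (F ⧸ L)) := by
      intro Q hQ
      let gQ := IsLocalizedModule.map Q.asIdeal.primeCompl
        (LocalizedModule.mkLinearMap Q.asIdeal.primeCompl (F ⧸ L))
        (LocalizedModule.mkLinearMap Q.asIdeal.primeCompl M) g
      have hinj : Function.Injective gQ := by
        rw [← LinearMap.ker_eq_bot, LinearMap.ker_eq_bot']
        intro z hz
        obtain ⟨⟨y, t⟩, rfl⟩ := IsLocalizedModule.mk'_surjective Q.asIdeal.primeCompl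
          (LocalizedModule.mkLinearMap Q.asIdeal.primeCompl (F ⧸ L)) z
        simp only [gQ, Function.uncurry_apply_pair, IsLocalizedModule.map_mk'] at hz
        obtain ⟨c, hc⟩ := (IsLocalizedModule.mk'_eq_zero'
          (LocalizedModule.mkLinearMap Q.asIdeal.primeCompl M) t).1 hz
        obtain ⟨x, rfl⟩ := L.mkQ_surjective y
        have hcx : (c : S) • x ∈ LinearMap.ker π := by
          rw [LinearMap.mem_ker, map_smul]
          simpa [g, Submonoid.smul_def] using hc
        obtain ⟨u, hu, hux⟩ := hK q.asIdeal q.isPrime _ hcx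
        rw [Function.uncurry_apply_pair, IsLocalizedModule.mk'_eq_zero']
        refine ⟨⟨algebraMap R S u * c, ?_⟩, ?_⟩
        · exact Q.asIdeal.primeCompl.mul_mem (fun hm => hu (hQ hm)) c.2
        · show (algebraMap R S u * (c : S)) • L.mkQ x = 0
          rw [← map_smul, Submodule.mkQ_apply, Submodule.Quotient.mk_eq_zero, mul_smul]
          exact le_sup_right (a := K₀) hux
      have hsurj : Function.Surjective gQ := IsLocalizedModule.map_surjective _ _ _ _ hg
      have : Module.Flat R (LocalizedModule Q.asIdeal.primeCompl M) :=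
        Props12.flat_localizedModule _ _
      exact Module.Flat.of_linearEquiv
        ((LinearEquiv.ofBijective gQ ⟨hinj, hsurj⟩).restrictScalars R)
    obtain ⟨f, hf, hfU⟩ := exists_basicOpen_subset hopen q.asIdeal hflat
    refine ⟨f, hf, fun x hx => ?_⟩
    obtain ⟨k, hk⟩ := exists_pow_smul_eq_zero (L.mkQ x) (algebraMap R S f) fun Q hQ => by
      have : Module.Flat R (LocalizedModule Q.asIdeal.primeCompl (F ⧸ L)) := hfU Q hQ
      have hex : ∀ p : s, ∃ t ∉ p.1.asIdeal, algebraMap R S t • x ∈ L := fun p => by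
        obtain ⟨t, ht, htx⟩ := hK p.1.asIdeal p.1.isPrime x hx
        exact ⟨t, ht, le_sup_left (b := K q.asIdeal q.isPrime)
          (Finset.le_sup (f := fun p : s => K p.1.asIdeal p.1.isPrime) (Finset.mem_attach s p) htx)⟩
      choose a ha hax using hex
      refine eq_zero_of_forall_smul_eq_zero (a := a) (fun r hr => hs ?_) _ fun p => ?_
      · funext p
        simp only [map_zero]
        rw [IsLocalization.map_eq_zero_iff p.1.asIdeal.primeCompl]
        exact ⟨⟨a p, ha p⟩, by rw [mul_comm]; exact hr p⟩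
      · rw [← algebraMap_smul S (a p), ← map_smul, ← map_smul, Submodule.mkQ_apply,
          (Submodule.Quotient.mk_eq_zero L).2 (hax p), map_zero]
    refine ⟨k, ?_⟩
    rw [← Submodule.Quotient.mk_eq_zero, ← Submodule.mkQ_apply, map_smul]
    exact hk
  choose L hLle hLfg f hf hL using key
  have hspan : Ideal.span (Set.range f) = ⊤ := by
    by_contra h
    obtain ⟨m, hm, hle⟩ := Ideal.exists_le_maximal _ h
    exact hf ⟨m, hm.isPrime⟩ (hle (Ideal.subset_span ⟨_, rfl⟩))
  obtain ⟨T, hTsub, hT⟩ := Submodule.mem_span_finite_of_mem_span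
    ((Ideal.eq_top_iff_one _).1 hspan)
  have hT' : ∀ t ∈ T, ∃ q, f q = t := fun t ht => hTsub ht
  choose q hq using hT'
  let W : Submodule S F := T.attach.sup fun t => L (q t.1 t.2)
  have hWle : W ≤ LinearMap.ker π := Finset.sup_le fun t _ => hLle _
  suffices LinearMap.ker π = W by
    rw [this]
    exact Submodule.fg_finset_sup _ _ fun t _ => hLfg _
  refine le_antisymm (fun x hx => ?_) hWle
  refine Submodule.mem_of_span_eq_top_of_smul_pow_mem W ((algebraMap R S) '' (T : Set R)) ?_ x ?_
  · rw [← Ideal.map_span, (Ideal.eq_top_iff_one (Ideal.span (T : Set R))).2 hT, Ideal.map_top]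
  · rintro ⟨_, t, ht, rfl⟩
    obtain ⟨k, hk⟩ := hL (q t ht) x hx
    refine ⟨k, ?_⟩
    rw [hq t ht] at hk
    exact Finset.le_sup (f := fun t : T => L (q t.1 t.2)) (Finset.mem_attach T ⟨t, ht⟩) hk

/-- Local finite presentation of `M` gives local finite generation of `ker π`. -/
theorem exists_of_finitePresentation_localized {R S : Type u} [CommRing R] [CommRing S]
    [Algebra R S] {F M : Type u} [AddCommGroup F] [Module S F] [Module.Finite S F]
    [AddCommGroup M] [Module S M] (π : F →ₗ[S] M) (hπ : Function.Surjective π)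
    (p : Ideal R) [p.IsPrime]
    [Module.FinitePresentation (Localization (Algebra.algebraMapSubmonoid S p.primeCompl))
      (LocalizedModule (Algebra.algebraMapSubmonoid S p.primeCompl) M)] :
    ∃ K' : Submodule S F, K' ≤ LinearMap.ker π ∧ K'.FG ∧
      ∀ x ∈ LinearMap.ker π, ∃ t ∉ p, algebraMap R S t • x ∈ K' := by
  classical
  set T := Algebra.algebraMapSubmonoid S p.primeCompl with hTdef
  have : Module.Finite (Localization T) (LocalizedModule T F) :=
    Module.Finite.of_isLocalizedModule T (LocalizedModule.mkLinearMap T F)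
  obtain ⟨G, hG⟩ := Module.FinitePresentation.fg_ker (LocalizedModule.map T π)
    (LocalizedModule.map_surjective T π hπ)
  have hgen : ∀ z ∈ G, ∃ (k : F) (u : T), k ∈ LinearMap.ker π ∧ z = LocalizedModule.mk k u := by
    intro z hz
    have hz' : z ∈ LinearMap.ker (LocalizedModule.map T π) := hG ▸ Submodule.subset_span hz
    rw [LinearMap.mem_ker] at hz'
    induction z using LocalizedModule.induction_on with
    | h m t =>
      rw [LocalizedModule.map_mk, ← LocalizedModule.zero_mk 1, LocalizedModule.mk_eq] at hz'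
      obtain ⟨c, hc⟩ := hz'
      refine ⟨c • m, c * t, ?_, (LocalizedModule.mk_cancel_common_left c t m).symm⟩
      rw [LinearMap.mem_ker, LinearMap.map_smul_of_tower]
      simpa using hc
  choose! k u hk hz using hgen
  refine ⟨Submodule.span S (k '' (G : Set _)), ?_, ?_, fun x hx => ?_⟩
  · rw [Submodule.span_le]
    rintro _ ⟨z, hz', rfl⟩
    exact hk z hz'
  · exact Submodule.fg_span (G.finite_toSet.image k)
  · have h1 : LocalizedModule.mk x (1 : T) ∈ Submodule.span (Localization T) (G : Set _) := by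
      rw [hG, LinearMap.mem_ker, LocalizedModule.map_mk, LinearMap.mem_ker.1 hx,
        LocalizedModule.zero_mk]
    have h2 : Submodule.span (Localization T) (G : Set _) ≤
        (Submodule.span S (k '' (G : Set _))).localized T := by
      rw [Submodule.span_le]
      intro z hz'
      refine (Submodule.mem_localized' _ _ _ _ _).2 ⟨k z, Submodule.subset_span ⟨z, hz', rfl⟩, u z, ?_⟩
      rw [← IsLocalizedModule.mk_eq_mk', ← hz z hz']
    obtain ⟨m, hm, c, hc⟩ := (Submodule.mem_localized' _ _ _ _ _).1 (h2 h1)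
    rw [← IsLocalizedModule.mk_eq_mk', LocalizedModule.mk_eq] at hc
    obtain ⟨d, hd⟩ := hc
    obtain ⟨t, ht, he⟩ := (d * c).2
    refine ⟨t, ht, ?_⟩
    rw [show algebraMap R S t = ((d * c : T) : S) from he]
    rw [← Submonoid.smul_def, mul_smul, ← hd, one_smul]
    exact Submodule.smul_of_tower_mem _ d hm

theorem finitePresentation_mvPolynomial {R : Type u} [CommRing R] (n : ℕ)
    {M : Type u} [AddCommGroup M] [Module (MvPolynomial (Fin n) R) M] [Module R M]
    [IsScalarTower R (MvPolynomial (Fin n) R) M] [Module.Finite (MvPolynomial (Fin n) R) M]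
    [Module.Flat R M]
    (s : Finset (PrimeSpectrum R))
    (hs : Function.Injective fun r : R => fun p : s =>
      algebraMap R (Localization.AtPrime p.1.asIdeal) r)
    (hloc : ∀ (p : Ideal R) [p.IsPrime],
      Module.FinitePresentation
        (Localization (Algebra.algebraMapSubmonoid (MvPolynomial (Fin n) R) p.primeCompl))
        (LocalizedModule (Algebra.algebraMapSubmonoid (MvPolynomial (Fin n) R) p.primeCompl) M)) :
    Module.FinitePresentation (MvPolynomial (Fin n) R) M := by
  obtain ⟨r, π, hπ⟩ := Module.Finite.exists_fin' (MvPolynomial (Fin n) R) M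
  exact Module.finitePresentation_of_surjective π hπ (ker_fg π hπ s hs fun p hp => by
    have := hloc p
    exact exists_of_finitePresentation_localized π hπ p)

theorem finitePresentation_algebra {R S : Type u} [CommRing R] [CommRing S]
    [Algebra R S] [Algebra.FiniteType R S] [Module.Flat R S] (s : Finset (PrimeSpectrum R))
    (hs : Function.Injective fun r : R => fun p : s =>
      algebraMap R (Localization.AtPrime p.1.asIdeal) r)
    (hloc : ∀ (p : Ideal R) [p.IsPrime], Algebra.FinitePresentation (Localization.AtPrime p)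
      (Localization (Algebra.algebraMapSubmonoid S p.primeCompl))) :
    Algebra.FinitePresentation R S := by
  classical
  obtain ⟨n, φ, hφ⟩ := Algebra.FiniteType.iff_quotient_mvPolynomial''.1 ‹Algebra.FiniteType R S›
  refine Algebra.FinitePresentation.of_surjective hφ ?_
  let P := MvPolynomial (Fin n) R
  let _ : Module P S := Module.compHom S φ.toRingHom
  have : IsScalarTower R P S := IsScalarTower.of_algebraMap_smul fun r x => by
    show φ (algebraMap R P r) * x = r • x
    rw [AlgHom.commutes, Algebra.smul_def]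
  let π : P →ₗ[P] S := LinearMap.toSpanSingleton P S 1
  have hπ : ∀ x : P, π x = φ x := fun x => by
    show φ x * 1 = φ x
    rw [mul_one]
  have hker : RingHom.ker φ = LinearMap.ker π := by
    ext x
    rw [RingHom.mem_ker, LinearMap.mem_ker, hπ]
  rw [show RingHom.ker φ.toRingHom = LinearMap.ker π from hker]
  refine ker_fg π (fun x => ⟨(hφ x).choose, by rw [hπ]; exact (hφ x).choose_spec⟩) s hs ?_
  intro p hp
  let Rp := Localization.AtPrime p
  let Pp := MvPolynomial (Fin n) Rp
  set Sp := Localization (Algebra.algebraMapSubmonoid S p.primeCompl)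
  let ψ : Pp →ₐ[Rp] Sp := MvPolynomial.aeval fun i => algebraMap S Sp (φ (MvPolynomial.X i))
  have hψ : ∀ x : P, ψ (MvPolynomial.map (algebraMap R Rp) x) = algebraMap S Sp (φ x) := by
    intro x
    induction x using MvPolynomial.induction_on with
    | C r =>
      rw [MvPolynomial.map_C, MvPolynomial.algHom_C, ← IsScalarTower.algebraMap_apply,
        ← MvPolynomial.algebraMap_eq, AlgHom.commutes, ← IsScalarTower.algebraMap_apply]
    | add a b ha hb => simp only [map_add, ha, hb]
    | mul_X a i ha =>
      rw [map_mul, map_mul, map_mul, map_mul, ha, MvPolynomial.map_X]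
      exact congrArg (_ * ·) (MvPolynomial.aeval_X _ i)
  have hsurj : Function.Surjective ψ := by
    intro y
    obtain ⟨a, ⟨_, t, ht, rfl⟩, rfl⟩ := IsLocalization.exists_mk'_eq
      (Algebra.algebraMapSubmonoid S p.primeCompl) y
    obtain ⟨x, rfl⟩ := hφ a
    obtain ⟨v, hv⟩ := (IsLocalization.map_units Rp (⟨t, ht⟩ : p.primeCompl)).exists_left_inv
    refine ⟨MvPolynomial.C v * MvPolynomial.map (algebraMap R Rp) x, ?_⟩
    rw [IsLocalization.eq_mk'_iff_mul_eq, map_mul, hψ, MvPolynomial.algHom_C]
    rw [mul_comm (algebraMap Rp Sp v) _, mul_assoc, ← IsScalarTower.algebraMap_apply R S Sp,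
      IsScalarTower.algebraMap_apply R Rp Sp, ← map_mul, hv, map_one, mul_one]
  have := hloc p
  obtain ⟨G, hG⟩ := Algebra.FinitePresentation.ker_fG_of_surjective ψ hsurj
  let _ : Algebra P Pp := MvPolynomial.algebraMvPolynomial
  have : IsLocalization (Submonoid.map (MvPolynomial.C (R := R) (σ := Fin n)) p.primeCompl) Pp :=
    MvPolynomial.isLocalization p.primeCompl Rp
  have hgen : ∀ z ∈ G, ∃ (k : P) (v : Pp), k ∈ LinearMap.ker π ∧
      z = algebraMap P Pp k * v := by
    intro z hz
    have hz' : ψ z = 0 := by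
      have : z ∈ RingHom.ker ψ.toRingHom := hG ▸ Submodule.subset_span hz
      simpa using this
    obtain ⟨a, ⟨_, t, ht, rfl⟩, rfl⟩ := IsLocalization.exists_mk'_eq
      (Submonoid.map (MvPolynomial.C (R := R) (σ := Fin n)) p.primeCompl) z
    have h0 : algebraMap S Sp (φ a) = 0 := by
      rw [← hψ]
      have := IsLocalization.mk'_spec Pp a
        (⟨MvPolynomial.C t, t, ht, rfl⟩ : Submonoid.map (MvPolynomial.C (R := R) (σ := Fin n)) p.primeCompl)
      rw [show MvPolynomial.map (algebraMap R Rp) a = algebraMap P Pp a from rfl, ← this, map_mul,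
        hz', zero_mul]
    obtain ⟨⟨_, c, hc, rfl⟩, hca⟩ := (IsLocalization.map_eq_zero_iff
      (Algebra.algebraMapSubmonoid S p.primeCompl) Sp _).1 h0
    refine ⟨MvPolynomial.C c * a, IsLocalization.mk' Pp 1
      (⟨MvPolynomial.C (c * t), c * t, p.primeCompl.mul_mem hc ht, rfl⟩ :
        Submonoid.map (MvPolynomial.C (R := R) (σ := Fin n)) p.primeCompl), ?_, ?_⟩
    · rw [LinearMap.mem_ker, hπ, map_mul, MvPolynomial.algHom_C]
      exact hca
    · rw [← IsLocalization.mk'_eq_mul_mk'_one, IsLocalization.mk'_eq_iff_eq]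
      congr 1
      show MvPolynomial.C (c * t) * a = MvPolynomial.C t * (MvPolynomial.C c * a)
      rw [map_mul]
      ring
  choose! k v hk hz using hgen
  refine ⟨Ideal.span (k '' (G : Set _)), ?_, Submodule.fg_span (G.finite_toSet.image k),
    fun x hx => ?_⟩
  · refine Ideal.span_le.2 ?_
    rintro _ ⟨z, hz', rfl⟩
    exact hk z hz'
  have h1 : algebraMap P Pp x ∈ (Ideal.span (k '' (G : Set _))).map (algebraMap P Pp) := by
    have h2 : algebraMap P Pp x ∈ Ideal.span (G : Set Pp) := by
      show algebraMap P Pp x ∈ Ideal.span (G : Set Pp)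
      rw [show Ideal.span (G : Set Pp) = RingHom.ker ψ.toRingHom from hG]
      show ψ (MvPolynomial.map (algebraMap R Rp) x) = 0
      rw [hψ, ← hπ, LinearMap.mem_ker.1 hx, map_zero]
    refine Ideal.span_le.2 ?_ h2
    intro z hz'
    rw [SetLike.mem_coe, hz z hz']
    exact Ideal.mul_mem_right _ _ (Ideal.mem_map_of_mem _ (Ideal.subset_span ⟨z, hz', rfl⟩))
  obtain ⟨_, ⟨t, ht, rfl⟩, hm⟩ := (IsLocalization.algebraMap_mem_map_algebraMap_iff
    (Submonoid.map (MvPolynomial.C (R := R) (σ := Fin n)) p.primeCompl) Pp _ x).1 h1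
  refine ⟨t, ht, ?_⟩
  rw [MvPolynomial.algebraMap_eq, smul_eq_mul]
  exact hm

end Groth.Agent.CAlgSmall.FPFlatLocal
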