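import Groth.Agent.CommAlg6.NormalTensorField
import Groth.Agent.Et18.EtaleNormal

/-! Geometric normality (any algebra) can be tested on finite purely inseparable extensions. -/

set_option autoImplicit false
set_option linter.style.haveILetI false

universe u

open TensorProduct IsLocalRing

namespace Groth.Agent.CAlgSmall.GeomNormalPI

open Groth.Agent.CommAlg6 Groth.Agent.CommAlg6.NormalTensor

theorem isNormalRing_separable (k L N : Type u) [Field k] [Field L] [Algebra k L] [Algebra.Etale k L]
    [CommRing N] [Algebra k N] (hN : EGA4.IsNormalRing N) : EGA4.IsNormalRing (L ⊗[k] N) := by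
  refine isNormalRing_tensor_of_localizations N fun p _ ↦ ?_
  obtain ⟨h1, h2⟩ := hN p
  refine isNormalRing_of_ringEquiv (Algebra.TensorProduct.comm k (Localization.AtPrime p) L).toRingEquiv ?_
  intro q _
  exact Groth.Agent.Et18.normal_localization_of_etale (Localization.AtPrime p) (Localization.AtPrime p ⊗[k] L) q

theorem isNormalRing_of_faithfullyFlat (R S : Type u) [CommRing R] [CommRing S] [Algebra R S]
    [Module.FaithfullyFlat R S] (hS : EGA4.IsNormalRing S) : EGA4.IsNormalRing R := by
  intro p _
  obtain ⟨⟨q, hq⟩, hqp⟩ := PrimeSpectrum.comap_surjective_of_faithfullyFlat (A := R) (B := S) ⟨p, inferInstance⟩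
  haveI : q.LiesOver p := ⟨(congrArg PrimeSpectrum.asIdeal hqp).symm⟩
  obtain ⟨h1, h2⟩ := hS q
  haveI := h1
  haveI := h2
  letI := Localization.AtPrime.algebraOfLiesOver p q
  haveI := Module.FaithfullyFlat.of_flat_of_isLocalHom
    (A := Localization.AtPrime p) (B := Localization.AtPrime q)
  exact Groth.Agent.Et18.normal_of_faithfullyFlat (Localization.AtPrime p) (Localization.AtPrime q)

theorem isGeomNormal_of_pi (k A : Type u) [Field k] [CommRing A] [Algebra k A]
    (h : ∀ (k' : Type u) [Field k'] [Algebra k k'], Module.Finite k k' → IsPurelyInseparable k k' →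
      EGA4.IsNormalRing (k' ⊗[k] A)) : EGA4.IsGeomNormal k A := by
  intro K _ _ hK
  obtain ⟨k1, L, _, _, _, _, _, _, _, _, hfin, hpi, _, _, hadj, -, n, x, hx, hfd, hsep⟩ :=
    exists_purelyInseparable_separatingBasis k K
  haveI := hfin
  haveI : Algebra.IsAlgebraic k1 L := by
    haveI : Algebra.IsAlgebraic k1 (IntermediateField.adjoin k1 (Set.range (algebraMap K L))) := by
      refine IntermediateField.isAlgebraic_adjoin fun y hy ↦ ?_
      obtain ⟨a, rfl⟩ := hy
      exact ((Algebra.IsIntegral.isIntegral (R := k) a).algebraMap (B := L)).tower_top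
    rw [hadj] at this
    exact IntermediateField.topEquiv.isAlgebraic
  have hn : Set.range x = ∅ := Set.eq_empty_iff_forall_notMem.mpr fun _ ⟨i, _⟩ ↦
    hx.transcendental i (Algebra.IsAlgebraic.isAlgebraic _)
  haveI := hfd
  haveI := hsep
  have hbot : IntermediateField.adjoin k1 (Set.range x) = ⊥ := by rw [hn, IntermediateField.adjoin_empty]
  have hsep' : Algebra.IsSeparable (⊥ : IntermediateField k1 L) L := hbot ▸ hsep
  have hfd' : FiniteDimensional (⊥ : IntermediateField k1 L) L := hbot ▸ hfd
  haveI : Algebra.IsSeparable k1 (⊥ : IntermediateField k1 L) :=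
    AlgEquiv.Algebra.isSeparable (IntermediateField.botEquiv k1 L).symm
  haveI : Algebra.IsSeparable k1 L := Algebra.IsSeparable.trans k1 (⊥ : IntermediateField k1 L) L
  haveI : Module.Finite k1 (⊥ : IntermediateField k1 L) :=
    Module.Finite.equiv (IntermediateField.botEquiv k1 L).symm.toLinearEquiv
  haveI : FiniteDimensional k1 L := Module.Finite.trans (⊥ : IntermediateField k1 L) L
  haveI : Algebra.FormallyEtale k1 L := (Algebra.FormallyEtale.iff_isSeparable k1 L).mpr inferInstance
  haveI : Algebra.Etale k1 L := { formallyEtale := inferInstance, finitePresentation := Algebra.FinitePresentation.of_finiteType.mp inferInstance }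
  have hS : EGA4.IsNormalRing (L ⊗[k] A) :=
    isNormalRing_of_ringEquiv (Algebra.TensorProduct.cancelBaseChange k k1 L L A).toRingEquiv
      (isNormalRing_separable k1 L (k1 ⊗[k] A) (h k1 hfin hpi))
  let e : L ⊗[k] A ≃+* (K ⊗[k] A) ⊗[K] L :=
    ((Algebra.TensorProduct.cancelBaseChange k K L L A).toRingEquiv.symm).trans
      (Algebra.TensorProduct.comm K L (K ⊗[k] A)).toRingEquiv
  exact isNormalRing_of_faithfullyFlat (K ⊗[k] A) ((K ⊗[k] A) ⊗[K] L) (isNormalRing_of_ringEquiv e hS)

theorem isNormalRing_field (K : Type u) [Field K] : EGA4.IsNormalRing K := fun p _ ↦ by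
  have hp : p.primeCompl ≤ nonZeroDivisors K := p.primeCompl_le_nonZeroDivisors
  haveI : IsDomain (Localization.AtPrime p) := IsLocalization.isDomain_of_le_nonZeroDivisors _ hp
  exact ⟨inferInstance, isIntegrallyClosed_of_isLocalization _ p.primeCompl hp⟩

theorem geometricallyNormal_iff (k A : Type u) [Field k] [CommRing A] [Algebra k A] :
    (∀ (k' : Type u) [Field k'] [Algebra k k'], EGA4.IsNormalRing (k' ⊗[k] A)) ↔
      ∀ (k' : Type u) [Field k'] [Algebra k k'], Module.Finite k k' → IsPurelyInseparable k k' →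
        EGA4.IsNormalRing (k' ⊗[k] A) :=
  ⟨fun h k' _ _ _ _ ↦ h k', fun h k' _ _ ↦
    isNormalRing_of_ringEquiv (Algebra.TensorProduct.comm k A k').toRingEquiv
      (isNormalRing_tensor_of_isGeomNormal k A k' (isGeomNormal_of_pi k A h) (isNormalRing_field k'))⟩

end Groth.Agent.CAlgSmall.GeomNormalPI
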