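import Mathlib
import Groth.Prelude.Def_CAlgX

/-!
# `H₁`-regular sequences
-/

universe u

open MvPolynomial Finset

namespace Groth.Agent.CAlgSmall.H1

variable {R : Type u} [CommRing R] {c : ℕ}

/-- The ideal of Koszul relations. -/
noncomputable def K (f : Fin c → R) : Ideal (MvPolynomial (Fin c) R) :=
  Ideal.span (Set.range fun p : Fin c × Fin c ↦ C (f p.2) * X p.1 - C (f p.1) * X p.2)

theorem K_le (f : Fin c → R) : K f ≤ (Ideal.span (Set.range f)).map C := by
  rw [K, Ideal.span_le]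
  rintro _ ⟨p, rfl⟩
  exact sub_mem (Ideal.mul_mem_right _ _ (Ideal.mem_map_of_mem C (Ideal.subset_span ⟨_, rfl⟩)))
    (Ideal.mul_mem_right _ _ (Ideal.mem_map_of_mem C (Ideal.subset_span ⟨_, rfl⟩)))

theorem exists_eq_sum_X_mul {P : MvPolynomial (Fin c) R} {n : ℕ} (h : P.IsHomogeneous (n + 1)) :
    ∃ Q : Fin c → MvPolynomial (Fin c) R, (∀ i, (Q i).IsHomogeneous n) ∧ P = ∑ i, X i * Q i := by
  classical
  have hex : ∀ d : P.support, ∃ i, (d : Fin c →₀ ℕ) i ≠ 0 := by
    intro d
    by_contra hc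
    push Not at hc
    have := h (mem_support_iff.mp d.2)
    rw [Finsupp.weight_apply] at this
    simp [Finsupp.sum_fintype, hc] at this
  choose idx hidx using hex
  refine ⟨fun i ↦ ∑ d ∈ P.support.attach.filter (fun d ↦ idx d = i),
    monomial ((d : Fin c →₀ ℕ) - Finsupp.single i 1) (P.coeff d), fun i ↦ ?_, ?_⟩
  · refine IsHomogeneous.sum _ _ _ fun d hd ↦ isHomogeneous_monomial _ ?_
    have hi : idx d = i := (Finset.mem_filter.mp hd).2
    have h2 := h (mem_support_iff.mp d.2)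
    rw [show (1 : Fin c → ℕ) = fun _ ↦ 1 from rfl, ← Finsupp.degree_eq_weight_one] at h2
    have h3 : (d : Fin c →₀ ℕ) = ((d : Fin c →₀ ℕ) - Finsupp.single i 1) + Finsupp.single i 1 := by
      rw [tsub_add_cancel_of_le]
      exact Finsupp.single_le_iff.mpr (Nat.one_le_iff_ne_zero.mpr (hi ▸ hidx d))
    rw [h3, map_add, Finsupp.degree_single] at h2
    omega
  · conv_lhs => rw [P.as_sum, ← Finset.sum_attach,
      ← Finset.sum_fiberwise P.support.attach idx]
    refine Finset.sum_congr rfl fun i _ ↦ ?_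
    rw [Finset.mul_sum]
    refine Finset.sum_congr rfl fun d hd ↦ ?_
    have hi : idx d = i := (Finset.mem_filter.mp hd).2
    rw [X, monomial_mul, one_mul, add_tsub_cancel_of_le]
    exact Finsupp.single_le_iff.mpr (Nat.one_le_iff_ne_zero.mpr (hi ▸ hidx d))

theorem mem_of_closed (f : Fin c → R) (M : Ideal (MvPolynomial (Fin c) R))
    (hlin : ∀ r : Fin c → R, ∑ i, r i * f i = 0 → ∑ i, C (r i) * X i ∈ M)
    (hstep : ∀ Q ∈ M, ∃ U : Fin c → MvPolynomial (Fin c) R,
      Q = ∑ i, C (f i) * U i ∧ ∑ i, X i * U i ∈ M) :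
    ∀ (n : ℕ) (P : MvPolynomial (Fin c) R), P.IsHomogeneous n → eval f P = 0 → P ∈ M := by
  classical
  intro n
  induction n with
  | zero =>
    intro P hP h0
    have hC : P = C (coeff 0 P) := totalDegree_eq_zero_iff_eq_C.mp
      (le_antisymm hP.totalDegree_le (Nat.zero_le _))
    rw [hC, eval_C] at h0
    rw [hC, h0, map_zero]
    exact zero_mem _
  | succ n ih =>
    intro P hP h0
    obtain ⟨Q, hQ, rfl⟩ := exists_eq_sum_X_mul hP
    have hQ' : eval f (∑ i, C (f i) * Q i) = 0 := by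
      rw [← h0]; simp
    obtain ⟨U, hU, hUM⟩ := hstep _
      (ih _ (IsHomogeneous.sum _ _ _ fun i _ ↦ (hQ i).C_mul (f i)) hQ')
    let Q' : Fin c → MvPolynomial (Fin c) R := fun i ↦ Q i - U i
    have hrel : ∑ i, C (f i) * Q' i = 0 := by
      simp only [Q', mul_sub, Finset.sum_sub_distrib, hU, sub_self]
    have hsum : ∑ i, X i * Q i = ∑ i, X i * Q' i + ∑ i, X i * U i := by
      simp only [Q', mul_sub, Finset.sum_sub_distrib, sub_add_cancel]
    rw [hsum]
    refine add_mem ?_ hUM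
    have hd : ∀ d : Fin c →₀ ℕ, ∑ i, monomial d (coeff d (Q' i)) * X i ∈ M := by
      intro d
      have hd0 : ∑ i, coeff d (Q' i) * f i = 0 := by
        have h2 := congrArg (coeff d) hrel
        rw [coeff_sum, coeff_zero] at h2
        rw [← h2]
        exact Finset.sum_congr rfl fun i _ ↦ by rw [coeff_C_mul, mul_comm]
      have h3 := M.mul_mem_left (monomial d 1) (hlin _ hd0)
      rw [Finset.mul_sum] at h3
      convert! h3 using 1
      exact Finset.sum_congr rfl fun i _ ↦ by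
        rw [← mul_assoc, mul_comm (monomial d 1), C_mul_monomial, mul_one]
    let D : Finset (Fin c →₀ ℕ) := Finset.univ.biUnion fun i ↦ (Q' i).support
    have : ∑ i, X i * Q' i = ∑ d ∈ D, ∑ i, monomial d (coeff d (Q' i)) * X i := by
      rw [Finset.sum_comm]
      refine Finset.sum_congr rfl fun i _ ↦ ?_
      rw [← Finset.sum_mul, mul_comm]
      congr 1
      conv_lhs => rw [(Q' i).as_sum]
      refine Finset.sum_subset (fun d hd ↦ Finset.mem_biUnion.mpr ⟨i, Finset.mem_univ i, hd⟩)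
        fun d _ hd ↦ ?_
      rw [notMem_support_iff.mp hd, map_zero]
    rw [this]
    exact sum_mem fun d _ ↦ hd d

theorem span_trivial_le (f : Fin c → R) (M : Ideal (MvPolynomial (Fin c) R)) (hK : K f ≤ M)
    {r : Fin c → R} (hr : r ∈ Submodule.span R {v : Fin c → R | ∃ i j : Fin c,
      v = Pi.single i (f j) - Pi.single j (f i)}) : ∑ i, C (r i) * X i ∈ M := by
  classical
  induction hr using Submodule.span_induction with
  | mem v hv =>
    obtain ⟨i, j, rfl⟩ := hv
    have hs : ∀ (i : Fin c) (x : R),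
        ∑ k, C ((Pi.single i x : Fin c → R) k) * (X k : MvPolynomial (Fin c) R) = C x * X i := by
      intro i x
      rw [Finset.sum_eq_single i (fun k _ hk ↦ by simp [hk])
        (fun h ↦ absurd (Finset.mem_univ i) h), Pi.single_eq_same]
    simp only [Pi.sub_apply, map_sub, sub_mul, Finset.sum_sub_distrib, hs]
    exact hK (Ideal.subset_span ⟨(i, j), rfl⟩)
  | zero => simp
  | add a b _ _ ha hb =>
    simpa [add_mul, Finset.sum_add_distrib] using add_mem ha hb
  | smul x a _ ha =>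
    simpa [Finset.mul_sum, mul_assoc] using M.mul_mem_left (C x) ha

theorem K_step (f : Fin c → R) : ∀ Q ∈ K f, ∃ U : Fin c → MvPolynomial (Fin c) R,
    Q = ∑ i, C (f i) * U i ∧ ∑ i, X i * U i = 0 := by
  intro Q hQ
  obtain ⟨G, rfl⟩ := Ideal.mem_span_range_iff_exists_fun.mp hQ
  refine ⟨fun i ↦ ∑ j, (G (j, i) - G (i, j)) * X j, ?_, ?_⟩
  · simp only [Finset.mul_sum, sub_mul, mul_sub, Finset.sum_sub_distrib, Fintype.sum_prod_type]
    rw [Finset.sum_comm (f := fun i j ↦ C (f i) * (G (j, i) * X j))]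
    rw [← Finset.sum_sub_distrib, ← Finset.sum_sub_distrib]
    refine Finset.sum_congr rfl fun a _ ↦ ?_
    rw [← Finset.sum_sub_distrib, ← Finset.sum_sub_distrib]
    exact Finset.sum_congr rfl fun b _ ↦ by ring
  · simp only [Finset.mul_sum, sub_mul, mul_sub, Finset.sum_sub_distrib]
    rw [Finset.sum_comm (f := fun i j ↦ X i * (G (j, i) * X j)), sub_eq_zero]
    exact Finset.sum_congr rfl fun a _ ↦ Finset.sum_congr rfl fun b _ ↦ by ring

theorem mem_K (f : Fin c → R) (hf : CAlgX.IsH1Regular f) : ∀ (n : ℕ) (P : MvPolynomial (Fin c) R),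
    P.IsHomogeneous n → eval f P = 0 → P ∈ K f :=
  mem_of_closed f (K f) (fun r hr ↦ span_trivial_le f _ le_rfl (hf r hr)) fun Q hQ ↦ by
    obtain ⟨U, h1, h2⟩ := K_step f Q hQ
    exact ⟨U, h1, by rw [h2]; exact zero_mem _⟩

theorem exists_homogeneous_of_mem_pow (f : Fin c → R) : ∀ (n : ℕ) (x : R),
    x ∈ Ideal.span (Set.range f) ^ n → ∃ P : MvPolynomial (Fin c) R, P.IsHomogeneous n ∧ eval f P = x := by
  intro n
  induction n with
  | zero => exact fun x _ ↦ ⟨C x, isHomogeneous_C _ _, eval_C _⟩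
  | succ n ih =>
    intro x hx
    rw [pow_succ'] at hx
    induction hx using Submodule.mul_induction_on' with
    | mem_mul_mem a ha b hb =>
      obtain ⟨P, hP, rfl⟩ := ih b hb
      obtain ⟨a', rfl⟩ := Ideal.mem_span_range_iff_exists_fun.mp ha
      refine ⟨(∑ i, C (a' i) * X i) * P, ?_, by simp⟩
      rw [add_comm]
      exact (IsHomogeneous.sum _ _ _ fun i _ ↦ (isHomogeneous_X _ i).C_mul _).mul hP
    | add a _ b _ iha ihb =>
      obtain ⟨P, hP, rfl⟩ := iha
      obtain ⟨P', hP', rfl⟩ := ihb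
      exact ⟨P + P', hP.add hP', by simp⟩

theorem isQuasiRegular_of_eval_eq_zero (f : Fin c → R)
    (h : ∀ (n : ℕ) (P : MvPolynomial (Fin c) R), P.IsHomogeneous n → eval f P = 0 →
      P ∈ (Ideal.span (Set.range f)).map C) :
    CAlgX.IsQuasiRegular f := by
  intro n P hP hmem d
  obtain ⟨S, hS, hSP⟩ := exists_homogeneous_of_mem_pow f (n + 1) _ hmem
  obtain ⟨Q, hQ, rfl⟩ := exists_eq_sum_X_mul hS
  let T := ∑ i, C (f i) * Q i
  have hT : T ∈ (Ideal.span (Set.range f)).map C :=
    sum_mem fun i _ ↦ Ideal.mul_mem_right _ _ (Ideal.mem_map_of_mem C (Ideal.subset_span ⟨i, rfl⟩))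
  have h1 : P - T ∈ (Ideal.span (Set.range f)).map C := h n _
    (hP.sub (IsHomogeneous.sum _ _ _ fun i _ ↦ (hQ i).C_mul _))
    (by rw [map_sub, ← hSP]; simp [T])
  have h2 : P ∈ (Ideal.span (Set.range f)).map C := by
    have := add_mem h1 hT
    rwa [sub_add_cancel] at this
  exact mem_map_C_iff.mp h2 d

theorem isQuasiRegular (f : Fin c → R) (hf : CAlgX.IsH1Regular f) : CAlgX.IsQuasiRegular f :=
  isQuasiRegular_of_eval_eq_zero f fun n P hP h0 ↦ K_le f (mem_K f hf n P hP h0)

theorem decompose {A : Type u} [CommRing A] {n m : ℕ} (f : Fin n → A) (g : Fin m → A)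
    (hg : CAlgX.IsH1Regular (fun j => Ideal.Quotient.mk (Ideal.span (Set.range f)) (g j)))
    (a : Fin (n + m) → A) (ha : ∑ i, a i * Fin.append f g i = 0) :
    ∃ (t : Fin (n + m) → A) (r : Fin n → A),
      t ∈ Submodule.span A {v : Fin (n + m) → A | ∃ i j,
        v = Pi.single i (Fin.append f g j) - Pi.single j (Fin.append f g i)} ∧
      ∑ i, r i * f i = 0 ∧ a = t + ∑ i, Pi.single (Fin.castAdd m i) (r i) := by
  classical
  set J := Ideal.span (Set.range f)
  set F := Fin.append f g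
  set T := Submodule.span A {v : Fin (n + m) → A | ∃ i j, v = Pi.single i (F j) - Pi.single j (F i)}
  have htriv : ∀ i j, Pi.single i (F j) - Pi.single j (F i) ∈ T := fun i j ↦
    Submodule.subset_span ⟨i, j, rfl⟩
  let π : (Fin (n + m) → A) →ₗ[A] (Fin m → A ⧸ J) :=
    LinearMap.pi fun k ↦ (Ideal.Quotient.mkₐ A J).toLinearMap.comp (LinearMap.proj (Fin.natAdd n k))
  let ev : (Fin (n + m) → A) →ₗ[A] A := Fintype.linearCombination A F
  have hev : ∀ v, ev v = ∑ i, v i * F i := fun v ↦ by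
    simp [ev, Fintype.linearCombination_apply]
  have hevT : ∀ v ∈ T, ev v = 0 := by
    intro v hv
    refine LinearMap.mem_ker.mp ((Submodule.span_le.mpr ?_ : T ≤ LinearMap.ker ev) hv)
    rintro _ ⟨i, j, rfl⟩
    simp [ev, Fintype.linearCombination_apply_single, mul_comm]
  -- first step: reduce the last block to `J`
  obtain ⟨t, ht, hta⟩ : ∃ t ∈ T, π t = π a := by
    have hb : ∑ k, π a k * Ideal.Quotient.mk J (g k) = 0 := by
      have h0 := congrArg (Ideal.Quotient.mk J) ha
      rw [Fin.sum_univ_add, map_add, map_zero] at h0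
      have hz : Ideal.Quotient.mk J (∑ i, a (Fin.castAdd m i) * F (Fin.castAdd m i)) = 0 := by
        refine Ideal.Quotient.eq_zero_iff_mem.mpr (sum_mem fun i _ ↦ ?_)
        rw [show F (Fin.castAdd m i) = f i from Fin.append_left f g i]
        exact J.mul_mem_left _ (Ideal.subset_span ⟨i, rfl⟩)
      rw [hz, zero_add, map_sum] at h0
      rw [← h0]
      refine Finset.sum_congr rfl fun k _ ↦ ?_
      rw [map_mul, show F (Fin.natAdd n k) = g k from Fin.append_right f g k]
      rfl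
    have hmem := hg _ hb
    have hle : (Submodule.span (A ⧸ J) {v : Fin m → A ⧸ J | ∃ i j : Fin m,
        v = Pi.single i (Ideal.Quotient.mk J (g j)) - Pi.single j (Ideal.Quotient.mk J (g i))}).restrictScalars A
        ≤ T.map π := by
      rw [Submodule.restrictScalars_span A (A ⧸ J) Ideal.Quotient.mk_surjective, Submodule.span_le]
      rintro _ ⟨i, j, rfl⟩
      refine ⟨_, htriv (Fin.natAdd n i) (Fin.natAdd n j), funext fun k ↦ ?_⟩
      simp [π, F, Pi.single_apply, apply_ite (Ideal.Quotient.mk J)]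
    exact hle hmem
  have hker : ∀ k, (a - t) (Fin.natAdd n k) ∈ J := fun k ↦
    Ideal.Quotient.eq.mp (congrFun hta k).symm
  choose μ hμ using fun k ↦ Ideal.mem_span_range_iff_exists_fun.mp (hker k)
  let t' := ∑ k, ∑ j, μ k j •
    ((Pi.single (Fin.natAdd n k) (F (Fin.castAdd m j)) : Fin (n + m) → A) - Pi.single (Fin.castAdd m j) (F (Fin.natAdd n k)))
  have ht' : t' ∈ T := sum_mem fun k _ ↦ sum_mem fun j _ ↦ T.smul_mem _ (htriv _ _)
  let r := a - t - t'
  have hr : ∀ k, r (Fin.natAdd n k) = 0 := by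
    intro k
    have hne : ∀ (j : Fin n) (k : Fin m), Fin.castAdd m j ≠ Fin.natAdd n k := fun j k h ↦ by
      have := congrArg Fin.val h; simp at this; omega
    simp [r, t', Finset.sum_apply, Pi.single_apply, hne, (hne _ _).symm, F, ← hμ k]
  let emb : (Fin n → A) →ₗ[A] (Fin (n + m) → A) :=
    ∑ i, (LinearMap.single A (fun _ ↦ A) (Fin.castAdd m i)).comp (LinearMap.proj i)
  have hemb : r = emb (fun i ↦ r (Fin.castAdd m i)) := by
    have h1 : r = ∑ x, Pi.single x (r x) := (Finset.univ_sum_single r).symm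
    conv_lhs => rw [h1, Fin.sum_univ_add]
    simp [emb, hr, LinearMap.sum_apply]
  have hrel : ∑ i, r (Fin.castAdd m i) * f i = 0 := by
    have h1 : ev r = 0 := by
      rw [map_sub, map_sub, hevT t ht, hevT t' ht', hev, ha, sub_self, sub_zero]
    rw [hev, Fin.sum_univ_add] at h1
    simpa [hr, F] using h1
  refine ⟨t + t', fun i ↦ r (Fin.castAdd m i), add_mem ht ht', hrel, ?_⟩
  have h1 : r = ∑ i, Pi.single (Fin.castAdd m i) (r (Fin.castAdd m i)) := by
    conv_lhs => rw [hemb]
    simp [emb, LinearMap.sum_apply]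
  rw [← h1]
  simp [r]

theorem append {A : Type u} [CommRing A] {n m : ℕ} (f : Fin n → A) (g : Fin m → A)
    (hf : CAlgX.IsH1Regular f)
    (hg : CAlgX.IsH1Regular (fun j => Ideal.Quotient.mk (Ideal.span (Set.range f)) (g j))) :
    CAlgX.IsH1Regular (Fin.append f g) := by
  classical
  intro a ha
  obtain ⟨t, r, ht, hr, rfl⟩ := decompose f g hg a ha
  refine add_mem ht ?_
  let emb : (Fin n → A) →ₗ[A] (Fin (n + m) → A) :=
    ∑ i, (LinearMap.single A (fun _ ↦ A) (Fin.castAdd m i)).comp (LinearMap.proj i)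
  have hemb : ∀ v, emb v = ∑ i, Pi.single (Fin.castAdd m i) (v i) := fun v ↦ by
    simp [emb, LinearMap.sum_apply]
  rw [← hemb]
  refine (Submodule.span_le.mpr ?_ : Submodule.span A _ ≤ (Submodule.span A _).comap emb) (hf r hr)
  rintro _ ⟨i, j, rfl⟩
  have hs : ∀ (i : Fin n) (x : A), emb (Pi.single i x) = Pi.single (Fin.castAdd m i) x := by
    intro i x
    rw [hemb, Finset.sum_eq_single i (fun k _ hk ↦ by simp [hk])
      (fun h ↦ absurd (Finset.mem_univ i) h), Pi.single_eq_same]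
  show emb _ ∈ Submodule.span A _
  rw [map_sub, hs, hs]
  exact Submodule.subset_span ⟨Fin.castAdd m i, Fin.castAdd m j, by simp⟩

theorem isQuasiRegular_append {A : Type u} [CommRing A] {n m : ℕ} (f : Fin n → A) (g : Fin m → A)
    (hf : CAlgX.IsQuasiRegular f)
    (hg : CAlgX.IsH1Regular (fun j => Ideal.Quotient.mk (Ideal.span (Set.range f)) (g j))) :
    CAlgX.IsQuasiRegular (Fin.append f g) := by
  classical
  set F := Fin.append f g with hF
  let ι : MvPolynomial (Fin n) A →ₐ[A] MvPolynomial (Fin (n + m)) A := rename (Fin.castAdd m)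
  let W : Set (MvPolynomial (Fin (n + m)) A) :=
    {p | ∃ (e : ℕ) (Z : MvPolynomial (Fin n) A), Z.IsHomogeneous e ∧ eval f Z = 0 ∧ ι Z = p}
  let M := K F ⊔ Ideal.span W
  have hcoef : ∀ (e : ℕ) (Z : MvPolynomial (Fin n) A), Z.IsHomogeneous e → eval f Z = 0 →
      ∀ d, coeff d Z ∈ Ideal.span (Set.range f) := fun e Z hZ h0 d ↦
    hf e Z hZ (by rw [h0]; exact zero_mem _) d
  have hIJ : ∀ i, f i ∈ Ideal.span (Set.range F) := fun i ↦
    Ideal.subset_span ⟨Fin.castAdd m i, Fin.append_left f g i⟩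
  have hWle : Ideal.span W ≤ (Ideal.span (Set.range F)).map C := by
    rw [Ideal.span_le]
    rintro _ ⟨e, Z, hZ, h0, rfl⟩
    refine mem_map_C_iff.mpr fun d ↦ ?_
    by_cases hd : ∃ u, Finsupp.mapDomain (Fin.castAdd m) u = d
    · obtain ⟨u, rfl⟩ := hd
      rw [coeff_rename_mapDomain _ (Fin.castAdd_injective n m)]
      exact (Ideal.span_le.mpr (by rintro _ ⟨i, rfl⟩; exact hIJ i)) (hcoef e Z hZ h0 u)
    · rw [coeff_rename_eq_zero _ _ _ (fun u hu ↦ absurd ⟨u, hu⟩ hd)]
      exact zero_mem _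
  have hlin : ∀ r : Fin (n + m) → A, ∑ i, r i * F i = 0 → ∑ i, C (r i) * X i ∈ M := by
    intro r hr
    obtain ⟨t, r', ht, hr', rfl⟩ := decompose f g hg r hr
    simp only [Pi.add_apply, map_add, add_mul, Finset.sum_add_distrib]
    refine add_mem (span_trivial_le F M le_sup_left ht) (Ideal.mem_sup_right ?_)
    refine Ideal.subset_span ⟨1, ∑ i, C (r' i) * X i,
      IsHomogeneous.sum _ _ _ fun i _ ↦ (isHomogeneous_X _ i).C_mul _, by simp [hr'], ?_⟩
    simp only [ι, map_sum, map_mul, rename_C, rename_X, Finset.sum_apply, Finset.sum_mul]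
    rw [Finset.sum_comm]
    refine Finset.sum_congr rfl fun i _ ↦ ?_
    rw [Finset.sum_eq_single (Fin.castAdd m i) (fun k _ hk ↦ by simp [hk])
      (fun h ↦ absurd (Finset.mem_univ _) h), Pi.single_eq_same]
  have hstep : ∀ Q ∈ M, ∃ U : Fin (n + m) → MvPolynomial (Fin (n + m)) A,
      Q = ∑ i, C (F i) * U i ∧ ∑ i, X i * U i ∈ M := by
    intro Q hQ
    obtain ⟨q, hq, w, hw, rfl⟩ := Submodule.mem_sup.mp hQ
    obtain ⟨U, hU, hU0⟩ := K_step F q hq
    suffices hw' : ∃ V : Fin (n + m) → MvPolynomial (Fin (n + m)) A,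
        w = ∑ i, C (F i) * V i ∧ ∑ i, X i * V i ∈ M by
      obtain ⟨V, hV, hVM⟩ := hw'
      refine ⟨U + V, by simp [hU, hV, mul_add, Finset.sum_add_distrib], ?_⟩
      simpa [mul_add, Finset.sum_add_distrib, hU0] using hVM
    clear hQ
    induction hw using Submodule.span_induction with
    | mem p hp =>
      obtain ⟨e, Z, hZ, h0, rfl⟩ := hp
      choose μ hμ using fun d : Z.support ↦
        Ideal.mem_span_range_iff_exists_fun.mp (hcoef e Z hZ h0 d)
      let Zi : Fin n → MvPolynomial (Fin n) A := fun i ↦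
        ∑ d : Z.support, monomial (d : Fin n →₀ ℕ) (μ d i)
      have hZsum : Z = ∑ i, C (f i) * Zi i := by
        simp only [Zi, Finset.mul_sum, C_mul_monomial]
        rw [Finset.sum_comm]
        conv_lhs => rw [Z.as_sum, ← Finset.sum_coe_sort]
        refine Finset.sum_congr rfl fun d _ ↦ ?_
        rw [← map_sum, ← hμ d]
        exact congrArg _ (Finset.sum_congr rfl fun i _ ↦ mul_comm _ _)
      have hhom : ∀ i, (Zi i).IsHomogeneous e := fun i ↦
        IsHomogeneous.sum _ _ _ fun d _ ↦ isHomogeneous_monomial _ (by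
          have := hZ (mem_support_iff.mp d.2)
          rwa [show (1 : Fin n → ℕ) = fun _ ↦ 1 from rfl, ← Finsupp.degree_eq_weight_one] at this)
      refine ⟨Fin.append (fun i ↦ ι (Zi i)) 0, ?_, Ideal.mem_sup_right ?_⟩
      · rw [Fin.sum_univ_add]
        conv_lhs => rw [hZsum]
        simp [ι, hF]
      · refine Ideal.subset_span ⟨1 + e, ∑ i, X i * Zi i,
          IsHomogeneous.sum _ _ _ fun i _ ↦ (isHomogeneous_X _ i).mul (hhom i), ?_, ?_⟩
        · rw [← h0]
          conv_rhs => rw [hZsum]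
          simp
        · rw [Fin.sum_univ_add]
          simp [ι]
    | zero => exact ⟨0, by simp, by simp⟩
    | add p q _ _ hp hq =>
      obtain ⟨V, hV, hVM⟩ := hp
      obtain ⟨V', hV', hVM'⟩ := hq
      exact ⟨V + V', by simp [hV, hV', mul_add, Finset.sum_add_distrib],
        by simpa [mul_add, Finset.sum_add_distrib] using add_mem hVM hVM'⟩
    | smul p q _ hq =>
      obtain ⟨V, hV, hVM⟩ := hq
      refine ⟨fun i ↦ p * V i, ?_, ?_⟩
      · rw [smul_eq_mul, hV, Finset.mul_sum]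
        exact Finset.sum_congr rfl fun i _ ↦ by ring
      · convert! M.mul_mem_left p hVM using 1
        rw [Finset.mul_sum]
        exact Finset.sum_congr rfl fun i _ ↦ by ring
  exact isQuasiRegular_of_eval_eq_zero F fun e P hP h0 ↦
    (sup_le (K_le F) hWle) (mem_of_closed F M hlin hstep e P hP h0)

end Groth.Agent.CAlgSmall.H1
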