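import Groth.Agent.RelVALib.PnImm
import Groth.Agent.RelVALib.CompVA
import Groth.Agent.RelVALib.Chow
import Groth.Agent.PnEmb.SegreOver
import Mathlib.AlgebraicGeometry.ZariskisMainTheorem

/-!
# H-projective and projective morphisms: formal properties
-/

set_option autoImplicit false
set_option linter.unusedSectionVars false
set_option linter.deprecated false
set_option backward.isDefEq.respectTransparency.types false
set_option maxHeartbeats 1000000

universe u

open AlgebraicGeometry CategoryTheory CategoryTheory.Limits TopologicalSpace Opposite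
open Groth.Agent.Coherent Groth.Agent.PicLib Groth.Agent.AmpleLib

namespace Groth.Agent.CAlgSmall.ProjMore

variable {X Y Z S X' S' : Scheme.{u}}

theorem isAmple_of_isAffine [IsAffine S] : CohB1.IsAmple (Coh.structureModule S) :=
  isAmple_structureModule_iff.2 inferInstance

theorem isSeparated_toBase (n : ℕ) (S : Scheme.{u}) : IsSeparated (CohB1.ProjSpaceOver.toBase n S) := by
  have := RelVALib.isProper_toBase n S
  infer_instance

/-- Projective space over any base is projective. -/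
theorem isProjective_toBase (n : ℕ) (S : Scheme.{u}) : RelProj.IsProjective (CohB1.ProjSpaceOver.toBase n S) := by
  let Z0 : Scheme.{u} := Spec (CommRingCat.of (ULift.{u} ℤ))
  have : IsIso (specULiftZIsTerminal.from Z0) :=
    ⟨⟨𝟙 _, specULiftZIsTerminal.hom_ext _ _, specULiftZIsTerminal.hom_ext _ _⟩⟩
  have h1 : IsIso (pullback.fst (CohB1.ProjSpace.toSpec n (ULift.{u} ℤ)) (specULiftZIsTerminal.from Z0)) :=
    MorphismProperty.pullback_fst (P := MorphismProperty.isomorphisms Scheme.{u}) _ _ ‹IsIso (specULiftZIsTerminal.from Z0)›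
  let i : CohB1.ProjSpace n (ULift.{u} ℤ) ⟶ CohB1.ProjSpaceOver n Z0 :=
    @CategoryTheory.inv _ _ _ _ (pullback.fst (CohB1.ProjSpace.toSpec n (ULift.{u} ℤ)) (specULiftZIsTerminal.from Z0)) h1
  have : IsIso i := @CategoryTheory.IsIso.inv_isIso _ _ _ _ _ h1
  have hi : IsClosedImmersion i := inferInstance
  have hp : RelProj.IsProjective (CohB1.ProjSpace.toSpec n (ULift.{u} ℤ)) :=
    (RelVALib.isProjective_iff_isHProjective (isAmple_of_isAffine (S := Z0)) _).2
      ⟨n, i, hi, specULiftZIsTerminal.hom_ext _ _⟩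
  exact RelVALib.isProjective_baseChange (IsPullback.of_hasPullback _ _) hp

theorem isProjective_of_isHProjective {f : X ⟶ S} (hf : RelProj.IsHProjective f) : RelProj.IsProjective f := by
  obtain ⟨n, i, hi, hif⟩ := hf
  exact RelVALib.isProjective_closedImmersion_comp i (isProjective_toBase n S) hif

theorem isProper_of_isHProjective {f : X ⟶ S} (hf : RelProj.IsHProjective f) : IsProper f :=
  RelVALib.isProper_of_isProjective (isProjective_of_isHProjective hf)

/-- H-projective is H-quasi-projective and proper. -/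
theorem isHProjective_iff (f : X ⟶ S) :
    RelProj.IsHProjective f ↔ RelProj.IsHQuasiProjective f ∧ IsProper f := by
  constructor
  · intro hf
    refine ⟨?_, isProper_of_isHProjective hf⟩
    obtain ⟨n, i, hi, hif⟩ := hf
    exact ⟨n, i, inferInstance, inferInstance, hif⟩
  · rintro ⟨⟨n, i, hi, -, hif⟩, hp⟩
    have := isSeparated_toBase n S
    have : IsProper (i ≫ CohB1.ProjSpaceOver.toBase n S) := by rw [hif]; exact hp
    have : IsProper i := IsProper.of_comp i (CohB1.ProjSpaceOver.toBase n S)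
    exact ⟨n, i, IsClosedImmersion.of_isPreimmersion i i.isClosedMap.isClosed_range, hif⟩

theorem exists_isPullback_projBase (n : ℕ) (g : S' ⟶ S) :
    ∃ h : CohB1.ProjSpaceOver n S' ⟶ CohB1.ProjSpaceOver n S,
      IsPullback h (CohB1.ProjSpaceOver.toBase n S') (CohB1.ProjSpaceOver.toBase n S) g := by
  refine ⟨pullback.lift (pullback.fst _ _) (CohB1.ProjSpaceOver.toBase n S' ≫ g) (specULiftZIsTerminal.hom_ext _ _),
    IsPullback.of_right ?_ (pullback.lift_snd _ _ _) (IsPullback.of_hasPullback _ _)⟩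
  erw [pullback.lift_fst]
  rw [specULiftZIsTerminal.hom_ext (g ≫ specULiftZIsTerminal.from S) (specULiftZIsTerminal.from S')]
  exact IsPullback.of_hasPullback _ _

theorem exists_pn_baseChange (P : MorphismProperty Scheme.{u}) [P.IsStableUnderBaseChange] {f : X ⟶ S}
    {g : S' ⟶ S} {g' : X' ⟶ X} {f' : X' ⟶ S'} (sq : IsPullback g' f' f g) {n : ℕ}
    (i : X ⟶ CohB1.ProjSpaceOver n S) (hi : P i) (hif : i ≫ CohB1.ProjSpaceOver.toBase n S = f) :
    ∃ i' : X' ⟶ CohB1.ProjSpaceOver n S', P i' ∧ i' ≫ CohB1.ProjSpaceOver.toBase n S' = f' := by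
  obtain ⟨h, sq2⟩ := exists_isPullback_projBase n g
  let i' := sq2.lift (g' ≫ i) f' (by rw [Category.assoc, hif, sq.w])
  have h1 : i' ≫ h = g' ≫ i := sq2.lift_fst _ _ _
  have h2 : i' ≫ CohB1.ProjSpaceOver.toBase n S' = f' := sq2.lift_snd _ _ _
  have sq1 : IsPullback g' i' i h := IsPullback.of_bot (by rw [h2, hif]; exact sq) h1.symm sq2
  exact ⟨i', MorphismProperty.of_isPullback (P := P) sq1 hi, h2⟩

theorem isHProjective_baseChange {f : X ⟶ S} {g : S' ⟶ S} {g' : X' ⟶ X} {f' : X' ⟶ S'}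
    (sq : IsPullback g' f' f g) (hf : RelProj.IsHProjective f) : RelProj.IsHProjective f' := by
  obtain ⟨n, i, hi, hif⟩ := hf
  obtain ⟨i', hi', h⟩ := exists_pn_baseChange @IsClosedImmersion sq i hi hif
  exact ⟨n, i', hi', h⟩

/-- Restrictions to opens of the bases of a cartesian square. -/
theorem exists_isPullback_restrict {f : X ⟶ S} {g : S' ⟶ S} {g' : X' ⟶ X} {f' : X' ⟶ S'}
    (sq : IsPullback g' f' f g) {V : S.Opens} {V' : S'.Opens} (h : V' ≤ g ⁻¹ᵁ V) :
    ∃ m : (f' ⁻¹ᵁ V').toScheme ⟶ (f ⁻¹ᵁ V).toScheme, IsPullback m (f' ∣_ V') (f ∣_ V) (g.resLE V V' h) := by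
  have hle : f' ⁻¹ᵁ V' ≤ g' ⁻¹ᵁ (f ⁻¹ᵁ V) := fun z hz => by
    show f (g' z) ∈ V
    rw [← Scheme.Hom.comp_apply, sq.w, Scheme.Hom.comp_apply]
    exact h hz
  refine ⟨g'.resLE _ _ hle, IsPullback.of_right (h₁₂ := (f ⁻¹ᵁ V).ι) (h₂₂ := V.ι) (v₁₃ := f) ?_ ?_
    (isPullback_morphismRestrict f V).flip⟩
  · rw [Scheme.Hom.resLE_comp_ι, Scheme.Hom.resLE_comp_ι]
    exact (isPullback_morphismRestrict f' V').flip.paste_horiz sq
  · rw [← cancel_mono V.ι, Category.assoc, Category.assoc, morphismRestrict_ι, Scheme.Hom.resLE_comp_ι,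
      Scheme.Hom.resLE_comp_ι_assoc, morphismRestrict_ι_assoc, sq.w]

theorem exists_isPullback_restrict_le (f : X ⟶ S) {V V' : S.Opens} (h : V' ≤ V) :
    ∃ (g : V'.toScheme ⟶ V.toScheme) (m : (f ⁻¹ᵁ V').toScheme ⟶ (f ⁻¹ᵁ V).toScheme),
      IsPullback m (f ∣_ V') (f ∣_ V) g := by
  obtain ⟨m, hm⟩ := exists_isPullback_restrict (f := f) (g := 𝟙 S) (g' := 𝟙 X) (f' := f)
    (IsPullback.of_horiz_isIso ⟨by simp⟩) (V := V) (V' := V') h
  exact ⟨_, m, hm⟩

theorem isLocallyProjective_iff (f : X ⟶ S) :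
    RelProj.IsLocallyProjective f ↔ ∀ s : S, ∃ U : S.Opens, s ∈ U ∧ RelProj.IsHProjective (f ∣_ U) := by
  refine ⟨fun hf s => ?_, fun hf s => ?_⟩
  · obtain ⟨U, hs, hU⟩ := hf s
    obtain ⟨W, hW, hsW, hWU⟩ := exists_isAffineOpen_mem_and_subset (x := s) (U := U) hs
    obtain ⟨g, m, sq⟩ := exists_isPullback_restrict_le f (V := U) (V' := W) hWU
    have : IsAffine W.toScheme := hW
    exact ⟨W, hsW, (RelVALib.isProjective_iff_isHProjective (isAmple_of_isAffine (S := W.toScheme)) _).1
      (RelVALib.isProjective_baseChange sq hU)⟩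
  · obtain ⟨U, hs, hU⟩ := hf s
    exact ⟨U, hs, isProjective_of_isHProjective hU⟩

theorem isLocallyProjective_baseChange {f : X ⟶ S} {g : S' ⟶ S} {g' : X' ⟶ X} {f' : X' ⟶ S'}
    (sq : IsPullback g' f' f g) (hf : RelProj.IsLocallyProjective f) : RelProj.IsLocallyProjective f' := by
  intro s
  obtain ⟨U, hs, hU⟩ := hf (g s)
  obtain ⟨m, hm⟩ := exists_isPullback_restrict sq (V := U) (V' := g ⁻¹ᵁ U) le_rfl
  exact ⟨g ⁻¹ᵁ U, hs, RelVALib.isProjective_baseChange hm hU⟩

theorem isQuasiProjective_baseChange {f : X ⟶ S} {g : S' ⟶ S} {g' : X' ⟶ X} {f' : X' ⟶ S'}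
    (sq : IsPullback g' f' f g) (hf : RelProj.IsQuasiProjective f) : RelProj.IsQuasiProjective f' := by
  obtain ⟨h1, h2, L, hL⟩ := hf
  have := h1
  have := h2
  refine ⟨MorphismProperty.of_isPullback (P := @LocallyOfFiniteType) sq h1,
    MorphismProperty.of_isPullback (P := @QuasiCompact) sq h2,
    (Scheme.Modules.pullback sq.isoPullback.hom).obj ((Scheme.Modules.pullback (pullback.fst f g)).obj L), ?_⟩
  have hemb : Topology.IsEmbedding sq.isoPullback.hom.base := sq.isoPullback.hom.isOpenEmbedding.isEmbedding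
  have := isRelAmple_pullback_of_isEmbedding (pullback.snd f g) sq.isoPullback.hom hemb
    (isRelAmple_baseChange f g hL)
  rwa [sq.isoPullback_hom_snd] at this

theorem locally_quasiProjective_iff (f : X ⟶ S) :
    (∀ s : S, ∃ U : S.Opens, s ∈ U ∧ RelProj.IsQuasiProjective (f ∣_ U)) ↔
      (∀ s : S, ∃ U : S.Opens, s ∈ U ∧ RelProj.IsHQuasiProjective (f ∣_ U)) := by
  refine ⟨fun hf s => ?_, fun hf s => ?_⟩
  · obtain ⟨U, hs, hU⟩ := hf s
    obtain ⟨W, hW, hsW, hWU⟩ := exists_isAffineOpen_mem_and_subset (x := s) (U := U) hs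
    obtain ⟨g, m, sq⟩ := exists_isPullback_restrict_le f (V := U) (V' := W) hWU
    have : IsAffine W.toScheme := hW
    have h := isQuasiProjective_baseChange sq hU
    obtain ⟨r, i, hi, hif⟩ := RelVALib.exists_immersion_pn h (isAmple_of_isAffine (S := W.toScheme))
    have := isSeparated_toBase r W.toScheme
    have := h.2.1
    have : QuasiCompact (i ≫ CohB1.ProjSpaceOver.toBase r W.toScheme) := by rw [hif]; infer_instance
    exact ⟨W, hsW, r, i, hi, QuasiCompact.of_comp i (CohB1.ProjSpaceOver.toBase r W.toScheme), hif⟩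
  · obtain ⟨U, hs, n, i, hi, hiq, hif⟩ := hf s
    have := RelVALib.isProper_toBase n U.toScheme
    have : LocallyOfFiniteType (f ∣_ U) := by rw [← hif]; infer_instance
    have : QuasiCompact (f ∣_ U) := by rw [← hif]; infer_instance
    exact ⟨U, hs, RelVALib.isQuasiProjective_of_immersion_pn i hif⟩

/-- Projective morphisms compose over quasi-compact quasi-separated bases. -/
theorem isProjective_comp [CompactSpace S] [QuasiSeparatedSpace S] (f : X ⟶ Y) (g : Y ⟶ S)
    (hf : RelProj.IsProjective f) (hg : RelProj.IsProjective g) : RelProj.IsProjective (f ≫ g) := by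
  have := RelVALib.isProper_of_isProjective hf
  have := RelVALib.isProper_of_isProjective hg
  obtain ⟨L, hL, hLb⟩ := RelVALib.exists_bundle_of_isProjective hf
  obtain ⟨K, hK, hKb⟩ := RelVALib.exists_bundle_of_isProjective hg
  obtain ⟨N, -, hN⟩ := RelVALib.exists_isRelVeryAmple_comp f g hL hLb.of_closed.isRelVeryAmple hK
    hKb.of_closed.isRelVeryAmple
  obtain ⟨M, hM⟩ := RelVALib.exists_hasBundleImmersion_of_isQuasiProjective (Or.inl ⟨inferInstance, inferInstance⟩)
    (f := f ≫ g) ⟨inferInstance, inferInstance, _, RelVALib.isRelAmple_of_isRelVeryAmple (f ≫ g) (hN N le_rfl)⟩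
  exact RelVALib.isProjective_of_hasBundleImmersion hM.closed_of_isProper

/-- Quasi-projective morphisms are open in projective ones. -/
theorem exists_openImmersion_projective [CompactSpace S] [QuasiSeparatedSpace S] (f : X ⟶ S)
    (hf : RelProj.IsQuasiProjective f) :
    ∃ (X' : Scheme.{u}) (j : X ⟶ X') (g : X' ⟶ S), IsOpenImmersion j ∧ RelProj.IsProjective g ∧ j ≫ g = f := by
  have := hf.2.1
  obtain ⟨M, E, hft, 𝒮, j, P, p, chart, O1, lam, φ, i, D, hi, hip, -⟩ :=
    RelVALib.exists_hasBundleImmersion_of_isQuasiProjective (Or.inl ⟨inferInstance, inferInstance⟩) hf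
  have := hi
  have : IsSeparated p := ProjLib.isSeparated_relProj D.hP
  have : QuasiCompact (i ≫ p) := by rw [hip]; infer_instance
  have : QuasiCompact i := QuasiCompact.of_comp i p
  exact ⟨_, i.toImage, i.imageι ≫ p, inferInstance, RelVALib.isProjective_of_closedImmersion D hft i.imageι rfl,
    by rw [← Category.assoc, Scheme.Hom.toImage_imageι, hip]⟩

/-- H-projective morphisms compose. -/
theorem isHProjective_comp (f : X ⟶ Y) (g : Y ⟶ Z) (hf : RelProj.IsHProjective f) (hg : RelProj.IsHProjective g) :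
    RelProj.IsHProjective (f ≫ g) := by
  have := isProper_of_isHProjective hf
  have := isProper_of_isHProjective hg
  obtain ⟨n, i, hi, hif⟩ := hf
  obtain ⟨m, i', hi', hig⟩ := hg
  obtain ⟨r, Φ, hΦ, -, hΦ2, -⟩ := PnEmb.exists_segre_over Z n m
  let Ψ : CohB1.ProjSpaceOver n Y ⟶ PnEmb.PPover Z n m :=
    pullback.lift (pullback.lift (pullback.fst _ _) (pullback.snd _ _ ≫ i' ≫ pullback.fst _ _)
      (specULiftZIsTerminal.hom_ext _ _)) (pullback.snd _ _ ≫ g) (specULiftZIsTerminal.hom_ext _ _)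
  have hsnd : Ψ ≫ pullback.snd _ _ = CohB1.ProjSpaceOver.toBase n Y ≫ g := pullback.lift_snd _ _ _
  have hfst : Ψ ≫ pullback.fst _ _ ≫ pullback.fst _ _ = pullback.fst _ _ := by
    rw [← Category.assoc, pullback.lift_fst, pullback.lift_fst]
  have hmid : Ψ ≫ pullback.fst _ _ ≫ pullback.snd _ _ = pullback.snd _ _ ≫ i' ≫ pullback.fst _ _ := by
    rw [← Category.assoc, pullback.lift_fst, pullback.lift_snd]
    rfl
  have : Mono Ψ := ⟨fun a b hab => by
    have hc : ∀ {W : Scheme.{u}} (c : PnEmb.PPover Z n m ⟶ W), a ≫ Ψ ≫ c = b ≫ Ψ ≫ c := fun c => by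
      rw [← Category.assoc, hab, Category.assoc]
    refine pullback.hom_ext ?_ ?_
    · have := hc (pullback.fst _ _ ≫ pullback.fst _ _)
      rwa [hfst] at this
    · rw [← cancel_mono i']
      refine pullback.hom_ext ?_ ?_
      · have := hc (pullback.fst _ _ ≫ pullback.snd _ _)
        rw [hmid] at this
        exact (Category.assoc _ _ _).trans ((Category.assoc _ _ _).trans
          (this.trans ((Category.assoc _ _ _).trans (Category.assoc _ _ _)).symm))
      · have := hc (pullback.snd _ _)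
        rw [hsnd, ← hig] at this
        exact (Category.assoc _ _ _).trans ((Category.assoc _ _ _).trans
          (this.trans ((Category.assoc _ _ _).trans (Category.assoc _ _ _)).symm))⟩
  let j := i ≫ Ψ
  have hjq : j ≫ pullback.snd _ _ = f ≫ g := by
    rw [Category.assoc, hsnd, ← Category.assoc, hif]
  have : Mono i := inferInstance
  have : Mono j := mono_comp i Ψ
  have : IsSeparated (CohB1.ProjSpace.toSpec n (ULift.{u} ℤ)) :=
    MorphismProperty.comp_mem @IsSeparated (Proj.toSpecZero (CohB1.polyGrading n (ULift.{u} ℤ)))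
      (Spec.map (CommRingCat.ofHom (algebraMap (ULift.{u} ℤ) (CohB1.polyGrading n (ULift.{u} ℤ) 0)))) inferInstance inferInstance
  have : IsSeparated (CohB1.ProjSpace.toSpec m (ULift.{u} ℤ)) :=
    MorphismProperty.comp_mem @IsSeparated (Proj.toSpecZero (CohB1.polyGrading m (ULift.{u} ℤ)))
      (Spec.map (CommRingCat.ofHom (algebraMap (ULift.{u} ℤ) (CohB1.polyGrading m (ULift.{u} ℤ) 0)))) inferInstance inferInstance
  have : IsProper (j ≫ pullback.snd _ _) := by rw [hjq]; infer_instance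
  have : IsProper j := IsProper.of_comp j (pullback.snd _ _)
  have : IsClosedImmersion j := (IsClosedImmersion.iff_isProper_and_mono j).2 ⟨‹_›, ‹_›⟩
  have := hΦ
  exact ⟨_, j ≫ Φ, MorphismProperty.comp_mem @IsClosedImmersion j Φ ‹_› hΦ, (Category.assoc _ _ _).trans ((congrArg (j ≫ ·) hΦ2).trans hjq)⟩

section bundle

variable {P : Scheme.{u}} {E : Y.Modules} {𝒮 : RelProj.QCGrAlg Y} {j : E ⟶ 𝒮.toModule} {p : P ⟶ Y}
  {chart : ∀ (U : Y.Opens) (hU : IsAffineOpen U), ((p ⁻¹ᵁ U : P.Opens) : Scheme.{u}) ≅ Proj (𝒮.deg U hU)}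
  {O1 : P.Modules}
  {lam : ∀ (U : Y.Opens) (hU : IsAffineOpen U),
    O1 ⟶ (Scheme.Modules.pushforward (RelProj.emb p chart U hU)).obj (GrTwist.twist (𝒮.deg U hU) 1)}
  {φ : E ⟶ (Scheme.Modules.pushforward p).obj O1}

/-- The fundamental sheaf of a bundle of finite type over an affine base is very ample. -/
theorem isRelVeryAmplePn_bundle [IsAffine Y] (D : RelVALib.PBundle E 𝒮 j p chart O1 lam φ) (hft : CohB1.IsFT E) :
    RelAmple.IsRelVeryAmplePn p O1 := by
  classical
  have := D.hE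
  have hU : IsAffineOpen (⊤ : Y.Opens) := isAffineOpen_top Y
  obtain ⟨n, s, hs⟩ := (Coherent.finite_sections E (Coherent.locallyFinGen_of_isFT E hft) hU).exists_fin
  let t : Fin (n + 1) → Γ(E, ⊤) := Fin.cons 0 s
  have hts : Submodule.span Γ(Y, ⊤) (Set.range t) = ⊤ := by
    refine top_le_iff.1 (hs.ge.trans (Submodule.span_mono ?_))
    rintro _ ⟨k, rfl⟩
    exact ⟨k.succ, by simp [t]⟩
  have htop : (⊤ : P.Opens) ≤ p ⁻¹ᵁ ⊤ := le_of_eq rfl
  let σ : Fin (n + 1) → Γ(O1, ⊤) := fun k => resM O1 htop (φ.app ⊤ (t k))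
  have hgl : ∀ k, glocus O1 (σ k) = RelVALib.opn j p chart hU (t k) := fun k => by
    refine le_antisymm (D.le_opn hU (t k) le_top ?_) ((le_glocus_iff (σ k) _).2 ?_)
    · have h := isGen_glocus (σ k)
      rw [resM_resM] at h
      exact h
    · rw [resM_resM]
      exact D.isGen_phi hU (t k)
  refine PnEmb.isRelVeryAmplePn_of_sections p D.invertible σ Set.univ (fun x => ?_)
    (fun k _ => hgl k ▸ D.isAffineOpen_opn hU _) fun k _ => ?_
  · obtain ⟨e, he⟩ := D.exists_mem_opn hU (x := x) trivial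
    by_contra hno
    push Not at hno
    obtain ⟨z, rfl⟩ := TwistLib.G.exists_preimage (p := p) (chart := chart) hU (x := x) trivial
    have hmem : ∀ e : Γ(E, ⊤), RelProj.emb p chart ⊤ hU z ∈ RelVALib.opn j p chart hU e ↔
        RelVALib.gen1 j ⊤ e ∉ z.asHomogeneousIdeal.toIdeal := fun e => by
      have h := D.preimage_opn hU e
      exact (SetLike.ext_iff.1 h z).trans (ProjectiveSpectrum.mem_basicOpen _ _ _)
    refine (hmem e).1 he ?_
    have hte : e ∈ Submodule.span Γ(Y, ⊤) (Set.range t) := hts ▸ Submodule.mem_top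
    refine Submodule.span_induction (p := fun e _ => RelVALib.gen1 j ⊤ e ∈ z.asHomogeneousIdeal.toIdeal)
      ?_ ?_ ?_ ?_ hte
    · rintro _ ⟨k, rfl⟩
      by_contra hk
      exact hno k (Set.mem_univ k) ((hgl k).ge ((hmem (t k)).2 hk))
    · show (j.app ⊤) (0 : Γ(E, ⊤)) ∈ _
      erw [map_zero]
      exact zero_mem _
    · intro a b _ _ ha hb
      show (j.app ⊤) (a + b) ∈ _
      erw [map_add]
      exact add_mem ha hb
    · intro r a _ ha
      have h : RelVALib.gen1 j ⊤ (r • a) = (𝒮.str.app (op ⊤)).hom r * RelVALib.gen1 j ⊤ a :=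
        Scheme.Modules.Hom.app_smul j r a
      rw [h]
      exact Ideal.mul_mem_left _ _ ha
  · have hg := isGen_glocus (σ k)
    let R := Subring.closure (Set.range (p.appLE ⊤ (glocus O1 (σ k)) le_top) ∪
      Set.range fun l => hg.coef le_rfl (resM O1 le_top (σ l)))
    show R = ⊤
    have key : ∀ e' : Γ(E, ⊤), hg.coef le_rfl (resM O1 (le_top.trans htop) (φ.app ⊤ e')) ∈ R := by
      intro e'
      have hte : e' ∈ Submodule.span Γ(Y, ⊤) (Set.range t) := hts ▸ Submodule.mem_top
      refine Submodule.span_induction (p := fun e _ => hg.coef le_rfl (resM O1 (le_top.trans htop) (φ.app ⊤ e)) ∈ R)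
        ?_ ?_ ?_ ?_ hte
      · rintro _ ⟨l, rfl⟩
        refine Subring.subset_closure (Or.inr ⟨l, ?_⟩)
        exact congrArg (hg.coef le_rfl) (resM_resM _ _ _ _)
      · have h : hg.coef le_rfl (resM O1 (le_top.trans htop) (φ.app ⊤ (0 : Γ(E, ⊤)))) = 0 := by
          refine hg.coef_eq le_rfl ?_
          erw [map_zero, map_zero, zero_smul]
        rw [h]; exact zero_mem _
      · intro a b _ _ ha hb
        erw [map_add, map_add, hg.coef_add]
        exact add_mem ha hb
      · intro r a _ ha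
        erw [Scheme.Modules.Hom.app_smul φ r a, resM_smul]
        erw [hg.coef_smul]
        exact mul_mem (Subring.subset_closure (Or.inl ⟨r, rfl⟩)) ha
    refine eq_top_iff.2 fun c _ => ?_
    suffices h : ∀ (W : P.Opens) (hW : W = RelVALib.opn j p chart hU (t k)) (c : Γ(P, W))
        (R : Subring Γ(P, W)), (∀ r, p.appLE ⊤ W le_top r ∈ R) →
        (∀ (e' : Γ(E, ⊤)) (d : Γ(P, W)),
          d • resM O1 (show W ≤ p ⁻¹ᵁ ⊤ from le_top.trans htop) (φ.app ⊤ (t k)) =
            resM O1 (show W ≤ p ⁻¹ᵁ ⊤ from le_top.trans htop) (φ.app ⊤ e') → d ∈ R) → c ∈ R from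
      h _ (hgl k) c R (fun r => Subring.subset_closure (Or.inl ⟨r, rfl⟩)) fun e' d hd => by
        have hd' : hg.coef le_rfl (resM O1 (le_top.trans htop) (φ.app ⊤ e')) = d := hg.coef_eq le_rfl (by
          rw [resM_self]
          show d • resM O1 le_top (resM O1 htop (φ.app ⊤ (t k))) = _
          rw [resM_resM]
          exact hd)
        exact hd' ▸ key e'
    rintro W rfl c R h0 h1
    obtain ⟨T, -, hc⟩ := RelVALib.exists_finite_coords D hU (t k) c
    refine (Subring.closure_le (t := R)).2 ?_ hc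
    rintro d (⟨r, rfl⟩ | ⟨e', -, hd⟩)
    · exact h0 r
    · exact h1 e' d hd

end bundle

/-- Very ample modules of finite type over an affine base embed in projective space. -/
theorem isRelVeryAmplePn_of_isRelVeryAmple [IsAffine S] (f : X ⟶ S) [LocallyOfFiniteType f] [QuasiCompact f]
    {L : X.Modules} (hLinv : PicF.IsInvertible L) (hL : RelProj.IsRelVeryAmple f L) :
    RelAmple.IsRelVeryAmplePn f L := by
  obtain ⟨E, hft, 𝒮, j, P, p, chart, O1, lam, φ, i, D, hi, hip, ⟨e⟩⟩ :=
    RelVALib.exists_hasBundleImmersion (Or.inl ⟨inferInstance, inferInstance⟩) f L hLinv hL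
  obtain ⟨n, i0, hi0, hi0p, ⟨e0⟩⟩ := isRelVeryAmplePn_bundle D hft
  have := hi
  have := hi0
  exact ⟨n, i ≫ i0, inferInstance, by rw [Category.assoc, hi0p, hip],
    ⟨e ≪≫ (Scheme.Modules.pullback i).mapIso e0 ≪≫ (Scheme.Modules.pullbackComp i i0).app _⟩⟩

theorem exists_cover_isRelVeryAmplePn (f : X ⟶ S) [LocallyOfFiniteType f] [QuasiCompact f] (L : X.Modules)
    (hLinv : PicF.IsInvertible L) (hL : RelProj.IsRelVeryAmple f L) :
    ∃ (ι : Type u) (V : ι → S.Opens), (⨆ j, V j) = ⊤ ∧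
      ∀ j, RelAmple.IsRelVeryAmplePn (f ∣_ V j) (L.restrict (f ⁻¹ᵁ V j).ι) := by
  refine ⟨S.affineOpens, fun V => V.1, iSup_affineOpens_eq_top S, fun V => ?_⟩
  have : IsAffine V.1.toScheme := V.2
  have : LocallyOfFiniteType (f ∣_ V.1) := IsZariskiLocalAtTarget.restrict ‹_› _
  have : QuasiCompact (f ∣_ V.1) := IsZariskiLocalAtTarget.restrict ‹_› _
  exact PnEmb.isRelVeryAmplePn_of_iso (restrictIsoPullback _ L).symm
    (isRelVeryAmplePn_of_isRelVeryAmple _ (PicLoc.isInvertible_pullback _ hLinv)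
      (RelVALib.isRelVeryAmple_morphismRestrict hL V.1))

end Groth.Agent.CAlgSmall.ProjMore
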