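import Groth.Agent.CAlgSmall.NormFamily
import Groth.Agent.Props12.Components
import Groth.Agent.H8Lim.BiratNormal
import Groth.Prelude.Def_Pi1
import Mathlib

/-!
# Relative normalization in a normal scheme
-/

set_option autoImplicit false
set_option linter.unusedSectionVars false
set_option backward.isDefEq.respectTransparency.types false
set_option maxHeartbeats 1000000

universe u

open CategoryTheory CategoryTheory.Limits AlgebraicGeometry Opposite TopologicalSpace

namespace Groth.Agent.CAlgSmall.NormalNormalization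

theorem closure_mem_irreducibleComponents_iff {X : Scheme.{u}} (x : X) :
    closure {x} ∈ irreducibleComponents X ↔ ∀ z : X, z ⤳ x → z = x := by
  constructor
  · intro h z hz
    have h1 : closure {x} ⊆ closure {z} := hz.closure_subset
    exact (Inseparable.eq (inseparable_iff_closure_eq.2 (Set.Subset.antisymm (h.2 isIrreducible_singleton.closure h1) h1)))
  · intro h
    refine ⟨isIrreducible_singleton.closure, fun C hC hle => ?_⟩
    obtain ⟨η, hη⟩ : ∃ η, IsGenericPoint η (closure C) := QuasiSober.sober hC.closure isClosed_closure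
    have := h η (hη.specializes (subset_closure (hle (subset_closure (Set.mem_singleton x)))))
    subst this
    exact subset_closure.trans hη.def.ge

variable {Z : Scheme.{u}}

/-- An element of the function field integral over sections of a normal integral scheme is a section. -/
theorem exists_section_of_integral [IsIntegral Z] (hN : ∀ z : Z, IsIntegrallyClosed (Z.presheaf.stalk z))
    (x : Z.functionField)
    (hx : ∃ p : Polynomial Γ(Z, ⊤), p.Monic ∧
      p.eval₂ (Z.presheaf.germ ⊤ (genericPoint Z) trivial).hom x = 0) :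
    ∃ s : Γ(Z, ⊤), Z.presheaf.germ ⊤ (genericPoint Z) trivial s = x := by
  let η := genericPoint Z
  obtain ⟨p, hp, hpx⟩ := hx
  have hmem : ∀ (O : Z.affineOpens) (hne : (O.1 : Set Z).Nonempty),
      ∃ c : Γ(Z, O.1), Z.presheaf.germ O.1 η ((genericPoint_spec Z).mem_open_set_iff O.1.2 |>.2 (by simpa using hne)) c = x := by
    intro O hne
    have hηO : η ∈ O.1 := (genericPoint_spec Z).mem_open_set_iff O.1.2 |>.2 (by simpa using hne)
    refine H8Lim.mem_range_germ_of_isIntegralElem hN O.2 rfl hηO x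
      ⟨p.map (Z.presheaf.map (homOfLE (le_top : O.1 ≤ ⊤)).op).hom, hp.map _, ?_⟩
    rw [Polynomial.eval₂_map, ← CommRingCat.hom_comp, TopCat.Presheaf.germ_res]
    exact hpx
  choose c hc using hmem
  let I := {O : Z.affineOpens // (O.1 : Set Z).Nonempty}
  have hinj : ∀ (V : Z.Opens) (a b : Γ(Z, V)) (hη : η ∈ V),
      Z.presheaf.germ V η hη a = Z.presheaf.germ V η hη b → a = b := fun V a b hη h =>
    germ_injective_of_isIntegral _ η hη h
  obtain ⟨s, hs, -⟩ := TopCat.Sheaf.existsUnique_gluing' Z.sheaf (fun O : I => O.1.1) (⊤ : Z.Opens)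
    (fun O => homOfLE le_top) (fun z _ => by
      obtain ⟨O, hO, hzO, -⟩ := exists_isAffineOpen_mem_and_subset (x := z) (U := ⊤) trivial
      exact Opens.mem_iSup.2 ⟨⟨⟨O, hO⟩, z, hzO⟩, hzO⟩)
    (fun O => c O.1 O.2) fun O O' => by
      have h1 : η ∈ O.1.1 := (genericPoint_spec Z).mem_open_set_iff O.1.1.2 |>.2 (by simpa using O.2)
      have h2 : η ∈ O'.1.1 := (genericPoint_spec Z).mem_open_set_iff O'.1.1.2 |>.2 (by simpa using O'.2)
      have h12 : η ∈ O.1.1 ⊓ O'.1.1 := ⟨h1, h2⟩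
      refine hinj (O.1.1 ⊓ O'.1.1) _ _ h12 ?_
      exact (Z.presheaf.germ_res_apply _ η h12 _).trans
        ((hc O.1 O.2).trans ((Z.presheaf.germ_res_apply _ η h12 _).trans (hc O'.1 O'.2)).symm)
  obtain ⟨O, hO, hηO, -⟩ := exists_isAffineOpen_mem_and_subset (x := η) (U := (⊤ : Z.Opens)) trivial
  refine ⟨s, ?_⟩
  rw [← hc ⟨O, hO⟩ ⟨η, hηO⟩, ← Z.presheaf.germ_res_apply (homOfLE (le_top : O ≤ ⊤)) η hηO s]
  exact congrArg _ (hs ⟨⟨O, hO⟩, η, hηO⟩)

theorem appLE_top (W V : Z.Opens) (e : (⊤ : W.toScheme.Opens) ≤ W.ι ⁻¹ᵁ V) (h : W ≤ V) :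
    W.ι.appLE V ⊤ e ≫ W.topIso.hom = Z.presheaf.map (homOfLE h).op := by
  rw [Scheme.Opens.ι_appLE]
  simp only [Scheme.Opens.topIso_hom]
  exact (Z.presheaf.map_comp _ _).symm

theorem appLE_top_apply (W V : Z.Opens) (e : (⊤ : W.toScheme.Opens) ≤ W.ι ⁻¹ᵁ V) (h : W ≤ V) (b : Γ(Z, V)) :
    W.topIso.hom (W.ι.appLE V ⊤ e b) = Z.presheaf.map (homOfLE h).op b :=
  ConcreteCategory.congr_hom (appLE_top W V e h) b

variable {X Y : Scheme.{u}} (f : Y ⟶ X)

theorem exists_chart_data [QuasiCompact f] [QuasiSeparated f] (hY : Pi1.IsNormalScheme Y)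
    (hfin : LocallyFinite (fun Z : ↥(irreducibleComponents ↥Y) => (Z : Set ↥Y))) (U : X.affineOpens) :
    letI := (f.app U.1).hom.toAlgebra
    ∃ (ι : Type u) (_ : Finite ι) (K : ι → Type u) (_ : ∀ i, Field (K i)) (g : ∀ i, Γ(Y, f ⁻¹ᵁ U.1) →+* K i)
      (η : ι → Y), NormFamily.Fam (A := Γ(X, U.1)) K g ∧
      (∀ i, closure {η i} ∈ irreducibleComponents Y) ∧
      (∀ i, ∃ h : η i ∈ f ⁻¹ᵁ U.1, ∀ b, η i ∈ Y.basicOpen b ↔ g i b ≠ 0) ∧
      ∀ y, y ∈ f ⁻¹ᵁ U.1 → closure {y} ∈ irreducibleComponents Y → ∃ i, y = η i := by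
  classical
  letI := (f.app U.1).hom.toAlgebra
  let V := f ⁻¹ᵁ U.1
  have hdom : ∀ y : Y, IsDomain (Y.presheaf.stalk y) := fun y => (hY y).1
  have : IsReduced Y := by
    have : ∀ y : Y, _root_.IsReduced (Y.presheaf.stalk y) := fun y => by have := hdom y; infer_instance
    exact isReduced_of_isReduced_stalk Y
  have hVc : IsCompact (V : Set Y) := f.isCompact_preimage U.2.isCompact
  let ι := {C : Set Y // C ∈ irreducibleComponents Y ∧ (C ∩ (V : Set Y)).Nonempty}
  have : Finite ι := by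
    have h1 := hfin.finite_nonempty_inter_compact hVc
    have := h1.to_subtype
    exact Finite.of_injective
      (β := {Z : ↥(irreducibleComponents ↥Y) | ((Z : Set Y) ∩ (V : Set Y)).Nonempty})
      (fun C : ι => ⟨⟨C.1, C.2.1⟩, C.2.2⟩) fun C C' h => Subtype.ext (congrArg (fun z => z.1.1) h)
  have hopen : ∀ C : ι, IsOpen C.1 := fun C => Props12.isOpen_component hdom (fun y => by
    obtain ⟨t, ht, htfin⟩ := hfin y
    obtain ⟨W, hWt, hW, hyW⟩ := mem_nhds_iff.1 ht
    refine ⟨⟨W, hW⟩, hyW, ?_⟩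
    refine (htfin.image Subtype.val).subset fun C hC => ⟨⟨C, hC.1⟩, ?_, rfl⟩
    obtain ⟨z, hzC, hzW⟩ := hC.2
    exact ⟨z, hzC, hWt hzW⟩) C.2.1
  let W : ι → Y.Opens := fun C => ⟨C.1 ∩ (V : Set Y), (hopen C).inter V.2⟩
  have hWV : ∀ C, W C ≤ V := fun C y hy => hy.2
  have hirr : ∀ C, IrreducibleSpace (W C).toScheme := fun C => by
    exact isIrreducible_iff_irreducibleSpace.1
      (⟨C.2.2, C.2.1.1.isPreirreducible.open_subset (U := C.1 ∩ (V : Set Y)) ((hopen C).inter V.2) Set.inter_subset_left⟩ :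
        IsIrreducible (C.1 ∩ (V : Set Y)))
  have hint : ∀ C, IsIntegral (W C).toScheme := fun C => by
    have := hirr C
    exact isIntegral_of_irreducibleSpace_of_isReduced _
  have hcov : ∀ y ∈ V, ∃ C : ι, y ∈ W C := fun y hy =>
    ⟨⟨irreducibleComponent y, irreducibleComponent_mem_irreducibleComponents y, y, mem_irreducibleComponent, hy⟩,
      mem_irreducibleComponent, hy⟩
  have hdis : ∀ C C' : ι, ∀ y, y ∈ W C → y ∈ W C' → C = C' := fun C C' y h h' => by
    have := hdom y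
    exact Subtype.ext (Props12.component_unique_of_isDomain C.2.1 C'.2.1 h.1 h'.1)
  let Zs : ι → Scheme.{u} := fun C => (W C).toScheme
  have hN : ∀ C, ∀ z : Zs C, IsIntegrallyClosed ((Zs C).presheaf.stalk z) := fun C z => by
    have : IsIntegrallyClosed (Y.presheaf.stalk z.1) := (hY z.1).2
    exact IsIntegrallyClosed.of_equiv ((W C).stalkIso z).commRingCatIsoToRingEquiv.symm
  let η₀ : ∀ C, Zs C := fun C => genericPoint (Zs C)
  let g : ∀ C : ι, Γ(Y, V) →+* (Zs C).functionField := fun C =>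
    ((W C).ι.appLE V ⊤ (fun z _ => hWV C z.2) ≫ (Zs C).presheaf.germ ⊤ (η₀ C) trivial).hom
  have hη : ∀ C, closure {(η₀ C).1} ∈ irreducibleComponents Y := fun C => by
    refine (closure_mem_irreducibleComponents_iff _).2 fun z hz => ?_
    have hzW : z ∈ W C := hz.mem_open (W C).2 (η₀ C).2
    have h1 : (⟨z, hzW⟩ : Zs C) ⤳ η₀ C := Topology.IsInducing.subtypeVal.specializes_iff.1 hz
    exact congrArg Subtype.val ((h1.antisymm (genericPoint_specializes (α := Zs C) (⟨z, hzW⟩ : Zs C))).eq)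
  refine ⟨ι, inferInstance, fun C => (Zs C).functionField, fun C => inferInstance, g, fun C => (η₀ C).1,
    ⟨?_, ?_⟩, hη, fun C => ⟨hWV C (η₀ C).2, fun b => ?_⟩, fun y hy hyc => ?_⟩
  · intro b hb
    refine TopCat.Sheaf.eq_of_locally_eq' Y.sheaf W V (fun C => homOfLE (hWV C))
      (fun y hy => Opens.mem_iSup.2 (hcov y hy)) b 0 fun C => ?_
    rw [map_zero]
    have h0 : (W C).ι.appLE V ⊤ (fun z _ => hWV C z.2) b = 0 := by
      refine germ_injective_of_isIntegral _ (η₀ C) (U := ⊤) trivial ?_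
      rw [map_zero]
      exact hb C
    have h1 : ((W C).topIso.hom) ((W C).ι.appLE V ⊤ (fun z _ => hWV C z.2) b) =
        Y.presheaf.map (homOfLE (hWV C)).op b := appLE_top_apply _ _ _ _ _
    show Y.presheaf.map (homOfLE (hWV C)).op b = 0
    rw [← h1, h0, map_zero]
  · intro C x hx
    obtain ⟨p, hp, hpx⟩ := hx
    let a : Γ(X, U.1) →+* Γ(Zs C, ⊤) :=
      ((W C).ι.appLE V ⊤ (fun z _ => hWV C z.2)).hom.comp (algebraMap Γ(X, U.1) Γ(Y, V))
    obtain ⟨s, hs⟩ := exists_section_of_integral (hN C) x ⟨p.map a, hp.map _, by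
      rw [Polynomial.eval₂_map]; exact hpx⟩
    let t : ∀ C' : ι, Γ(Y, W C') := fun C' =>
      if h : C' = C then h ▸ ((W C).topIso.hom s) else 0
    obtain ⟨b, hb, -⟩ := TopCat.Sheaf.existsUnique_gluing' Y.sheaf W V (fun C' => homOfLE (hWV C'))
      (fun y hy => Opens.mem_iSup.2 (hcov y hy)) t fun C₁ C₂ => by
        by_cases h : C₁ = C₂
        · subst h; rfl
        · have hbot : W C₁ ⊓ W C₂ = ⊥ := eq_bot_iff.2 fun y hy => h (hdis C₁ C₂ y hy.1 hy.2)
          refine TopCat.Sheaf.eq_of_locally_eq' Y.sheaf (fun i : PEmpty.{u+1} => (⊥ : Y.Opens)) _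
            (fun i => i.elim) (fun z hz => by rw [hbot] at hz; exact hz.elim) _ _ (fun i => i.elim)
    have hgC : ∀ C', (W C').ι.appLE V ⊤ (fun z _ => hWV C' z.2) b = (W C').topIso.inv (t C') := fun C' => by
      rw [← hb C', ← Iso.hom_inv_id_apply (W C').topIso ((W C').ι.appLE V ⊤ (fun z _ => hWV C' z.2) b),
        appLE_top_apply]
      rfl
    have hg0 : ∀ C', C' ≠ C → g C' b = 0 := fun C' hne => by
      show (Zs C').presheaf.germ ⊤ (η₀ C') trivial ((W C').ι.appLE V ⊤ _ b) = 0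
      rw [hgC, show t C' = 0 from dif_neg hne, map_zero, map_zero]
    have hg1 : g C b = x := by
      show (Zs C).presheaf.germ ⊤ (η₀ C) trivial ((W C).ι.appLE V ⊤ _ b) = x
      rw [hgC, show t C = (W C).topIso.hom s from dif_pos rfl, ← hs, Iso.hom_inv_id_apply]
    refine ⟨b, ⟨Polynomial.X * p, Polynomial.monic_X.mul hp, ?_⟩, hg1, hg0⟩
    have hinj : ∀ c : Γ(Y, V), (∀ C', g C' c = 0) → c = 0 := fun c hc => by
      refine TopCat.Sheaf.eq_of_locally_eq' Y.sheaf W V (fun C' => homOfLE (hWV C'))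
        (fun y hy => Opens.mem_iSup.2 (hcov y hy)) c 0 fun C' => ?_
      rw [map_zero]
      have h0 : (W C').ι.appLE V ⊤ (fun z _ => hWV C' z.2) c = 0 := by
        refine germ_injective_of_isIntegral _ (η₀ C') (U := ⊤) trivial ?_
        rw [map_zero]
        exact hc C'
      have h1 : ((W C').topIso.hom) ((W C').ι.appLE V ⊤ (fun z _ => hWV C' z.2) c) =
          Y.presheaf.map (homOfLE (hWV C')).op c := appLE_top_apply _ _ _ _ _
      show Y.presheaf.map (homOfLE (hWV C')).op c = 0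
      rw [← h1, h0, map_zero]
    refine hinj _ fun C' => ?_
    rw [Polynomial.eval₂_mul, Polynomial.eval₂_X, map_mul]
    by_cases h : C' = C
    · subst h
      rw [Polynomial.hom_eval₂, hg1, hpx, mul_zero]
    · rw [hg0 C' h, zero_mul]
  · show (W C).ι (η₀ C) ∈ Y.basicOpen b ↔ _
    change η₀ C ∈ (W C).ι ⁻¹ᵁ Y.basicOpen b ↔ _
    have h1 : η₀ C ∈ (W C).ι ⁻¹ᵁ Y.basicOpen b ↔ η₀ C ∈ (Zs C).basicOpen ((W C).ι.appLE V ⊤ (fun z _ => hWV C z.2) b) := by
      rw [Scheme.preimage_basicOpen, Scheme.Hom.appLE, CommRingCat.comp_apply, Scheme.basicOpen_res]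
      exact ⟨fun h => ⟨trivial, h⟩, fun h => h.2⟩
    rw [h1, Scheme.mem_basicOpen _ _ _ (show η₀ C ∈ (⊤ : (Zs C).Opens) from trivial)]
    exact isUnit_iff_ne_zero
  · obtain ⟨C, hyC⟩ := hcov y hy
    refine ⟨C, ((closure_mem_irreducibleComponents_iff y).1 hyc (η₀ C).1 ?_).symm⟩
    exact (genericPoint_specializes (α := Zs C) (⟨y, hyC⟩ : Zs C)).map (W C).ι.continuous

theorem main [QuasiCompact f] [QuasiSeparated f] (hY : Pi1.IsNormalScheme Y)
    (hfin : LocallyFinite (fun Z : ↥(irreducibleComponents ↥Y) => (Z : Set ↥Y))) :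
    Pi1.IsNormalScheme f.normalization ∧
    LocallyFinite (fun Z : ↥(irreducibleComponents ↥f.normalization) => (Z : Set ↥f.normalization)) ∧
    (∀ y : Y, closure {y} ∈ irreducibleComponents ↥Y →
      closure {f.toNormalization.base y} ∈ irreducibleComponents ↥f.normalization) ∧
    (∀ x' : ↥f.normalization, closure {x'} ∈ irreducibleComponents ↥f.normalization →
      ∃! y : Y, closure {y} ∈ irreducibleComponents ↥Y ∧ f.toNormalization.base y = x') := by
  classical
  letI : ∀ U : X.affineOpens, Algebra Γ(X, U.1) Γ(Y, f ⁻¹ᵁ U.1) := fun U => (f.app U.1).hom.toAlgebra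
  choose ι hι K hK g η hfam hηc hηb hηall using exists_chart_data f hY hfin
  let R := fun U : X.affineOpens => integralClosure Γ(X, U.1) Γ(Y, f ⁻¹ᵁ U.1)
  let ch : ∀ U : X.affineOpens, Spec (CommRingCat.of (R U)) ⟶ f.normalization := fun U => f.normalizationOpenCover.f U
  have hopen : ∀ U, IsOpenImmersion (ch U) := fun U => f.normalizationOpenCover.map_prop U
  have hrange : ∀ (U : X.affineOpens) (x' : f.normalization), f.fromNormalization x' ∈ U.1 ↔ x' ∈ Set.range (ch U) :=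
    fun U x' => SetLike.ext_iff.1 (f.fromNormalization_preimage U) x'
  have hcov : ∀ x' : f.normalization, ∃ (U : X.affineOpens) (P : PrimeSpectrum (R U)), ch U P = x' := fun x' => by
    obtain ⟨U, hU, hxU, -⟩ := exists_isAffineOpen_mem_and_subset (x := f.fromNormalization x') (U := ⊤) trivial
    exact ⟨⟨U, hU⟩, (hrange ⟨U, hU⟩ x').1 hxU⟩
  have hpt : ∀ (U : X.affineOpens) (y : Y) (hy : y ∈ f ⁻¹ᵁ U.1), ∃ P : PrimeSpectrum (R U),
      ch U P = f.toNormalization y ∧ ∀ r : R U, r ∈ P.asIdeal ↔ y ∉ Y.basicOpen r.1 := fun U y hy => by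
    let z : (f ⁻¹ᵁ U.1).toScheme := ⟨y, hy⟩
    refine ⟨PrimeSpectrum.comap (R U).val.toRingHom ((f ⁻¹ᵁ U.1).toSpecΓ z), ?_, fun r => ?_⟩
    · exact (ConcreteCategory.congr_hom (congrArg (fun k => k.base) (f.ι_toNormalization U)) z).symm
    · have h1 := SetLike.ext_iff.1 ((f ⁻¹ᵁ U.1).toSpecΓ_preimage_basicOpen r.1) z
      exact (not_not.symm.trans (not_congr h1))
  have hker : ∀ (U : X.affineOpens) (i : ι U) (P : PrimeSpectrum (R U)),
      (∀ r : R U, r ∈ P.asIdeal ↔ η U i ∉ Y.basicOpen r.1) → P.asIdeal = NormFamily.ker (g := g U) i := fun U i P h => by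
    obtain ⟨hi, hb⟩ := hηb U i
    ext r
    rw [h, NormFamily.mem_ker, hb, not_not]
  have hgen : ∀ (U : X.affineOpens) (P : PrimeSpectrum (R U)) (z : f.normalization), z ⤳ ch U P →
      ∃ Q : PrimeSpectrum (R U), ch U Q = z ∧ Q ≤ P := fun U P z hz => by
    have := hopen U
    obtain ⟨Q, rfl⟩ : z ∈ Set.range (ch U) := hz.mem_open (ch U).isOpenEmbedding.isOpen_range ⟨P, rfl⟩
    exact ⟨Q, rfl, (PrimeSpectrum.le_iff_specializes _ _).2 ((ch U).isOpenEmbedding.isInducing.specializes_iff.1 hz)⟩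
  have hmax : ∀ (U : X.affineOpens) (P : PrimeSpectrum (R U)),
      closure {ch U P} ∈ irreducibleComponents f.normalization ↔ ∃ i, P.asIdeal = NormFamily.ker (g := g U) i := by
    intro U P
    have := hι U
    rw [closure_mem_irreducibleComponents_iff, ← NormFamily.isMinimal_iff (hfam U) P]
    have := hopen U
    constructor
    · intro h Q hQ
      have h1 := h _ (((PrimeSpectrum.le_iff_specializes Q P).1 hQ).map (ch U).continuous)
      exact (congrArg PrimeSpectrum.asIdeal ((ch U).isOpenEmbedding.injective h1)).ge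
    · intro h z hz
      obtain ⟨Q, rfl, hQ⟩ := hgen U P z hz
      rw [le_antisymm hQ (h hQ)]
  refine ⟨fun x' => ?_, fun x' => ?_, fun y hy => ?_, fun x' hx' => ?_⟩
  · obtain ⟨U, P, rfl⟩ := hcov x'
    have := hι U
    have := hopen U
    letI k : Algebra (R U) ((Spec (CommRingCat.of (R U))).presheaf.stalk P) := StructureSheaf.stalkAlgebra (R U) P
    haveI : IsLocalization.AtPrime ((Spec (CommRingCat.of (R U))).presheaf.stalk P) P.asIdeal :=
      StructureSheaf.IsLocalization.to_stalk (R U) P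
    obtain ⟨h1, h2⟩ := NormFamily.isNormal_localization (hfam U) P.asIdeal
      ((Spec (CommRingCat.of (R U))).presheaf.stalk P)
    let e := (asIso ((ch U).stalkMap P)).commRingCatIsoToRingEquiv
    exact ⟨e.toMulEquiv.isDomain _, IsIntegrallyClosed.of_equiv e.symm⟩
  · obtain ⟨U, P, rfl⟩ := hcov x'
    have := hι U
    have := hopen U
    refine ⟨Set.range (ch U), (ch U).isOpenEmbedding.isOpen_range.mem_nhds ⟨P, rfl⟩, ?_⟩
    have hPk : ∀ i : ι U, (NormFamily.ker (g := g U) i).IsPrime := fun i => NormFamily.isPrime_ker (A := Γ(X, U.1)) (g := g U) i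
    refine ((Set.finite_range fun i : ι U => closure {ch U ⟨_, hPk i⟩}).preimage Subtype.val_injective.injOn).subset
      fun C hC => ?_
    obtain ⟨z, hzC, hzr⟩ := hC
    obtain ⟨θ, hθ⟩ : ∃ θ, IsGenericPoint θ (C : Set f.normalization) :=
      QuasiSober.sober C.2.1 (isClosed_of_mem_irreducibleComponents _ C.2)
    obtain ⟨Q, rfl⟩ : θ ∈ Set.range (ch U) := (hθ.specializes hzC).mem_open (ch U).isOpenEmbedding.isOpen_range hzr
    obtain ⟨i, hi⟩ := (hmax U Q).1 (by rw [hθ.def]; exact C.2)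
    have hQ : (⟨_, hPk i⟩ : PrimeSpectrum (R U)) = Q := PrimeSpectrum.ext hi.symm
    exact ⟨i, by show closure {ch U ⟨_, hPk i⟩} = C.1; rw [hQ]; exact hθ.def⟩
  · obtain ⟨U, hU, hyU, -⟩ := exists_isAffineOpen_mem_and_subset (x := f y) (U := ⊤) trivial
    obtain ⟨i, rfl⟩ := hηall ⟨U, hU⟩ y hyU hy
    obtain ⟨P, hP, hPr⟩ := hpt ⟨U, hU⟩ _ hyU
    rw [show f.toNormalization.base (η ⟨U, hU⟩ i) = ch ⟨U, hU⟩ P from hP.symm]
    exact (hmax _ P).2 ⟨i, hker _ i P hPr⟩
  · obtain ⟨U, P, rfl⟩ := hcov x'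
    have := hι U
    have := hopen U
    obtain ⟨i, hi⟩ := (hmax U P).1 hx'
    have himage : ∀ j : ι U, ∃ Q : PrimeSpectrum (R U), ch U Q = f.toNormalization (η U j) ∧
        Q.asIdeal = NormFamily.ker (g := g U) j := fun j => by
      obtain ⟨Q, hQ, hQr⟩ := hpt U _ (hηb U j).1
      exact ⟨Q, hQ, hker U j Q hQr⟩
    obtain ⟨Q, hQ, hQi⟩ := himage i
    refine ⟨η U i, ⟨hηc U i, hQ.symm.trans (congrArg (ch U) (PrimeSpectrum.ext (hQi.trans hi.symm)))⟩, ?_⟩
    rintro y ⟨hy, hyP⟩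
    have hyU : y ∈ f ⁻¹ᵁ U.1 := by
      have h1 := (hrange U (f.toNormalization y)).2 ⟨P, hyP.symm⟩
      rwa [← Scheme.Hom.comp_apply, f.toNormalization_fromNormalization] at h1
    obtain ⟨j, rfl⟩ := hηall U y hyU hy
    obtain ⟨Q', hQ', hQj⟩ := himage j
    have h1 : Q' = P := (ch U).isOpenEmbedding.injective (hQ'.trans hyP)
    subst h1
    have hij : j = i := NormFamily.ker_le_unique (hfam U) Q'.asIdeal hQj.ge hi.ge
    rw [hij]

end Groth.Agent.CAlgSmall.NormalNormalization
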