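import Mathlib.AlgebraicGeometry.Morphisms.FormallyUnramified
import Mathlib.AlgebraicGeometry.Morphisms.FiniteType
import Mathlib.Algebra.DualNumber
import Mathlib.RingTheory.Nullstellensatz
import Mathlib.RingTheory.Kaehler.Basic
import Mathlib.RingTheory.Jacobson.Ring
import Mathlib.RingTheory.Nakayama
import Mathlib.RingTheory.Support

/-!
# Formally unramified ↔ tangent vectors are unique, over an algebraically closed field
-/

universe u

open CategoryTheory AlgebraicGeometry DualNumber

namespace Groth.Agent.CAlgSmall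

theorem fst_mul_eq_zero_mul {k : Type u} [Field k] (x y : DualNumber k)
    (hx : TrivSqZeroExt.fst x = 0) (hy : TrivSqZeroExt.fst y = 0) : x * y = 0 := by
  ext <;> simp [hx, hy]

/-- Ring version. -/
theorem formallyUnramified_of_dual {k A : Type u} [Field k] [IsAlgClosed k] [CommRing A] [Algebra k A]
    [Algebra.FiniteType k A]
    (h : ∀ g₁ g₂ : A →ₐ[k] DualNumber k,
      (∀ a, TrivSqZeroExt.fst (g₁ a) = TrivSqZeroExt.fst (g₂ a)) → g₁ = g₂) :
    Algebra.FormallyUnramified k A := by
  refine ⟨?_⟩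
  rw [← not_nontrivial_iff_subsingleton]
  intro hnt
  obtain ⟨p, hp⟩ := Module.nonempty_support_of_nontrivial (R := A) (M := Ω[A⁄k])
  obtain ⟨m, hm, hpm⟩ := Ideal.exists_le_maximal p.asIdeal p.isPrime.ne_top
  have hmem : (⟨m, hm.isPrime⟩ : PrimeSpectrum A) ∈ Module.support A Ω[A⁄k] :=
    Module.mem_support_mono hpm hp
  let _ : Field (A ⧸ m) := Ideal.Quotient.field m
  have hfin : Module.Finite k (A ⧸ m) := finite_of_finite_type_of_isJacobsonRing k (A ⧸ m)
  have hbij : Function.Bijective (algebraMap k (A ⧸ m)) :=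
    IsAlgClosed.algebraMap_bijective_of_isIntegral (k := k) (K := A ⧸ m)
  let e : (A ⧸ m) ≃ₐ[k] k := (AlgEquiv.ofBijective (Algebra.ofId k (A ⧸ m)) hbij).symm
  let φ : A →ₐ[k] k := e.toAlgHom.comp (Ideal.Quotient.mkₐ k m)
  -- a nonzero functional on the fibre
  have hlt : (m • ⊤ : Submodule A Ω[A⁄k]) ≠ ⊤ := by
    intro htop
    obtain ⟨r, hr, hr0⟩ := Submodule.exists_sub_one_mem_and_smul_eq_zero_of_fg_of_le_smul m
      (⊤ : Submodule A Ω[A⁄k]) Module.Finite.fg_top htop.ge
    rw [Module.mem_support_iff'] at hmem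
    obtain ⟨x, hx⟩ := hmem
    exact hx r (fun hrm => hm.ne_top ((Ideal.eq_top_iff_one _).mpr (by simpa using sub_mem hrm hr)))
      (hr0 x trivial)
  obtain ⟨ω, hω⟩ : ∃ ω, ω ∉ (m • ⊤ : Submodule A Ω[A⁄k]) := by
    by_contra! hall
    exact hlt (eq_top_iff.mpr fun x _ => hall x)
  let Q := Ω[A⁄k] ⧸ (m • ⊤ : Submodule A Ω[A⁄k])
  obtain ⟨f, hf⟩ := Module.Projective.exists_dual_ne_zero k
    (x := (Submodule.Quotient.mk ω : Q)) (by simpa using hω)
  have hlin : ∀ (a : A) (x : Q), f (a • x) = φ a * f x := by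
    intro a x
    have h1 : a - algebraMap k A (φ a) ∈ m := by
      rw [← Ideal.Quotient.eq_zero_iff_mem, map_sub, sub_eq_zero]
      have h2 : e.symm (φ a) = Ideal.Quotient.mk m a := e.symm_apply_apply _
      rw [← h2]
      rfl
    obtain ⟨y, rfl⟩ := Submodule.Quotient.mk_surjective _ x
    have h2 : a • (Submodule.Quotient.mk y : Q) = φ a • Submodule.Quotient.mk y := by
      rw [← algebraMap_smul A (φ a), ← Submodule.Quotient.mk_smul, ← Submodule.Quotient.mk_smul,
        Submodule.Quotient.eq, ← sub_smul]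
      exact Submodule.smul_mem_smul h1 trivial
    rw [h2, map_smul, smul_eq_mul]
  let δ : A →ₗ[k] k := f ∘ₗ ((Submodule.mkQ _).restrictScalars k) ∘ₗ (KaehlerDifferential.D k A).toLinearMap
  have hδ : ∀ a b, δ (a * b) = φ a * δ b + φ b * δ a := by
    intro a b
    show f (Submodule.mkQ _ (KaehlerDifferential.D k A (a * b))) = _
    rw [Derivation.leibniz, map_add, map_smul, map_smul, map_add, hlin, hlin]
    rfl
  have hδ1 : δ 1 = 0 := by
    have := hδ 1 1
    simp at this
    exact this
  let g₁ : A →ₐ[k] DualNumber k := AlgHom.ofLinearMap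
    ((TrivSqZeroExt.inlAlgHom k k k).toLinearMap ∘ₗ φ.toLinearMap + (TrivSqZeroExt.inrHom k k).restrictScalars k ∘ₗ δ)
    (by ext <;> simp [hδ1])
    (fun a b => by ext <;> simp [hδ] <;> ring)
  let g₂ : A →ₐ[k] DualNumber k := (TrivSqZeroExt.inlAlgHom k k k).comp φ
  have heq := h g₁ g₂ fun a => by simp [g₁, g₂]
  have hzero : ∀ a, δ a = 0 := fun a => by
    have := congrArg TrivSqZeroExt.snd (AlgHom.congr_fun heq a)
    simpa [g₁, g₂] using this
  apply hf
  have hall : ∀ x : Ω[A⁄k], f (Submodule.Quotient.mk x) = 0 := fun x => by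
    have hx : x ∈ Submodule.span A (Set.range (KaehlerDifferential.D k A)) := by
      rw [KaehlerDifferential.span_range_derivation]; trivial
    induction hx using Submodule.span_induction with
    | mem y hy => obtain ⟨a, rfl⟩ := hy; exact hzero a
    | zero => simp
    | add y z _ _ hy hz => rw [Submodule.Quotient.mk_add, map_add, hy, hz, add_zero]
    | smul a y _ hy => rw [Submodule.Quotient.mk_smul, hlin, hy, mul_zero]
  exact hall ω

/-- The closed immersion of the point into the dual numbers. -/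
theorem ker_dualFst_sq (k : Type u) [Field k] :
    IsNilpotent (Spec.map (CommRingCat.ofHom (TrivSqZeroExt.fstHom k k k).toRingHom)).ker := by
  refine ⟨2, Scheme.IdealSheafData.ext_of_isAffine ?_⟩
  set i := Spec.map (CommRingCat.ofHom (TrivSqZeroExt.fstHom k k k).toRingHom)
  rw [Scheme.IdealSheafData.ideal_pow, Pi.pow_apply, show (0 : Scheme.IdealSheafData _) = ⊥ from rfl, Scheme.IdealSheafData.ideal_bot, Pi.bot_apply, pow_two, eq_bot_iff,
    Ideal.mul_le]
  intro x hx y hy
  rw [Scheme.Hom.ker_apply] at hx hy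
  let e := Scheme.ΓSpecIso (CommRingCat.of (DualNumber k))
  have key : ∀ z, i.app ⊤ z = 0 → TrivSqZeroExt.fst (e.hom z) = 0 := by
    intro z hz
    have hnat := congr(($(Scheme.ΓSpecIso_naturality (CommRingCat.ofHom (TrivSqZeroExt.fstHom k k k).toRingHom))).hom z)
    have : (Scheme.ΓSpecIso (CommRingCat.of k)).hom (i.app ⊤ z) = TrivSqZeroExt.fst (e.hom z) := hnat
    exact this.symm.trans ((congrArg _ hz).trans (map_zero _))
  rw [Ideal.mem_bot]
  apply (e.commRingCatIsoToRingEquiv).injective
  rw [map_mul, map_zero]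
  exact fst_mul_eq_zero_mul _ _ (key x hx) (key y hy)

theorem formallyUnramified_iff_dual (k : Type u) [Field k] [IsAlgClosed k]
    {X : Scheme.{u}} (p : X ⟶ Spec (CommRingCat.of k)) [LocallyOfFiniteType p] :
    FormallyUnramified p ↔
      ∀ v₁ v₂ : Spec (CommRingCat.of (DualNumber k)) ⟶ X,
        v₁ ≫ p = Spec.map (CommRingCat.ofHom (algebraMap k (DualNumber k))) →
        v₂ ≫ p = Spec.map (CommRingCat.ofHom (algebraMap k (DualNumber k))) →
        Spec.map (CommRingCat.ofHom (TrivSqZeroExt.fstHom k k k).toRingHom) ≫ v₁ =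
          Spec.map (CommRingCat.ofHom (TrivSqZeroExt.fstHom k k k).toRingHom) ≫ v₂ →
        v₁ = v₂ := by
  constructor
  · intro _ v₁ v₂ h₁ h₂ h
    have : IsClosedImmersion (Spec.map (CommRingCat.ofHom (TrivSqZeroExt.fstHom k k k).toRingHom)) :=
      IsClosedImmersion.spec_of_surjective _ fun x => ⟨TrivSqZeroExt.inl x, TrivSqZeroExt.fst_inl k x⟩
    exact FormallyUnramified.hom_ext _ (ker_dualFst_sq k) p h (h₁.trans h₂.symm)
  · intro h
    rw [IsZariskiLocalAtSource.iff_of_openCover (P := @FormallyUnramified) X.affineCover]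
    suffices key : ∀ (A : CommRingCat.{u}) (ι : Spec A ⟶ X) [IsOpenImmersion ι],
        FormallyUnramified (ι ≫ p) from fun i => @key _ (X.affineCover.f i) (X.affineCover.map_prop i)
    intro A ι _
    obtain ⟨φ, hφ⟩ := Spec.map_surjective (ι ≫ p)
    have : LocallyOfFiniteType (Spec.map φ) := by
      rw [hφ]
      exact MorphismProperty.comp_mem @LocallyOfFiniteType ι p inferInstance inferInstance
    suffices hs : FormallyUnramified (Spec.map φ) by exact hφ ▸ hs
    rw [HasRingHomProperty.Spec_iff (P := @FormallyUnramified)]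
    rw [HasRingHomProperty.Spec_iff (P := @LocallyOfFiniteType)] at this
    algebraize [φ.hom]
    refine formallyUnramified_of_dual fun g₁ g₂ hg => ?_
    let T (g : _ →ₐ[k] DualNumber k) : Spec (CommRingCat.of (DualNumber k)) ⟶ X :=
      Spec.map (CommRingCat.ofHom g.toRingHom) ≫ ι
    have hT : ∀ g, T g ≫ p = Spec.map (CommRingCat.ofHom (algebraMap k (DualNumber k))) := by
      intro g
      refine ((Category.assoc _ _ _).trans (congrArg (fun z => _ ≫ z) hφ.symm)).trans ?_
      rw [← Spec.map_comp]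
      congr 1
      exact CommRingCat.hom_ext g.comp_algebraMap
    have heq := h (T g₁) (T g₂) (hT g₁) (hT g₂) (by
      rw [← Category.assoc, ← Category.assoc, ← Spec.map_comp, ← Spec.map_comp]
      congr 2
      exact CommRingCat.hom_ext (RingHom.ext hg))
    exact AlgHom.ext fun a => congr(($(Spec.map_injective ((cancel_mono _).mp heq))).hom a)

end Groth.Agent.CAlgSmall
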