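import Groth.Agent.CAlgH3.TorBridge
import Groth.Agent.Tor15.TorDim

/-!
# Elementary properties of Tor of modules
-/

universe u

open CategoryTheory CategoryTheory.Limits TensorProduct Function

namespace Groth.Agent.CAlgSmall

variable {R : Type u} [CommRing R]

theorem flat_iff_isZero_tor_one (M : Type u) [AddCommGroup M] [Module R M] :
    Module.Flat R M ↔ ∀ I : Ideal R, I.FG →
      IsZero (((Tor (ModuleCat.{u} R) 1).obj (ModuleCat.of R M)).obj (ModuleCat.of R (R ⧸ I))) := by
  simp only [CAlgH3.isZero_tor_one_iff]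
  constructor
  · intro _ I _ 
    exact Tor15.torVanish_symm (Tor15.torVanish_of_flat (M := R ⧸ I) (F := M) |> Tor15.torVanish_symm)
  · intro h
    refine Module.Flat.iff_rTensor_injective.mpr fun I hI ↦ ?_
    exact Tor15.torVanish_symm (h I hI) I.subtype (Submodule.mkQ I)
      (LinearMap.exact_subtype_mkQ I) (Submodule.mkQ_surjective I) I.subtype_injective

theorem torVanish_of_isFiniteLength [IsLocalRing R] (M : Type u) [AddCommGroup M] [Module R M]
    (h : FlatCrit.TorVanish R M (IsLocalRing.ResidueField R))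
    (N : Type u) [AddCommGroup N] [Module R N] (hN : IsFiniteLength R N) :
    FlatCrit.TorVanish R M N := by
  induction hN with
  | of_subsingleton => exact FlatCrit.torVanish_of_projective
  | @of_simple_quotient N _ _ N' _ _ ih =>
    refine FlatCrit.TorVanish.extension N' ih ?_
    obtain ⟨m, hm, ⟨e⟩⟩ := isSimpleModule_iff_quot_maximal.mp (inferInstance : IsSimpleModule R (N ⧸ N'))
    obtain rfl := IsLocalRing.eq_maximalIdeal hm
    exact FlatCrit.TorVanish.of_linearEquiv h e.symm

theorem isZero_tor_of_flat (M : Type u) [AddCommGroup M] [Module R M] [Module.Flat R M]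
    (N : ModuleCat.{u} R) (i : ℕ) (hi : 0 < i) :
    IsZero (((Tor (ModuleCat.{u} R) i).obj (ModuleCat.of R M)).obj N) := by
  obtain ⟨j, rfl⟩ : ∃ j, i = j + 1 := ⟨i - 1, by omega⟩
  let P := projectiveResolution N
  let F₁ := (MonoidalCategory.tensoringLeft (ModuleCat.{u} R)).obj (ModuleCat.of R M)
  rw [show ((Tor (ModuleCat.{u} R) (j + 1)).obj (ModuleCat.of R M)).obj N =
      (F₁.leftDerived (j + 1)).obj N from rfl, Iso.isZero_iff (P.isoLeftDerivedObj F₁ (j + 1)),
    HomologicalComplex.homologyFunctor_obj, ← HomologicalComplex.exactAt_iff_isZero_homology,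
    HomologicalComplex.exactAt_iff' _ (j + 2) (j + 1) j (by simp) (by simp),
    ShortComplex.moduleCat_exact_iff_range_eq_ker]
  change LinearMap.range ((P.complex.d (j + 2) (j + 1)).hom.lTensor M) =
    LinearMap.ker ((P.complex.d (j + 1) j).hom.lTensor M)
  exact (LinearMap.exact_iff.mp (Module.Flat.lTensor_exact M
    (LinearMap.exact_iff.mpr (P.exact_succ j).moduleCat_range_eq_ker.symm))).symm

theorem finite_tor_of_finite_resolution [IsNoetherianRing R] (M : Type u) [AddCommGroup M]
    [Module R M] [Module.Finite R M] (N : ModuleCat.{u} R) (P : ProjectiveResolution N)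
    [hP : ∀ n, Module.Finite R (P.complex.X n)] (p : ℕ) :
    Module.Finite R (((Tor (ModuleCat.{u} R) p).obj (ModuleCat.of R M)).obj N) := by
  let F₁ := (MonoidalCategory.tensoringLeft (ModuleCat.{u} R)).obj (ModuleCat.of R M)
  let K := (F₁.mapHomologicalComplex (ComplexShape.down ℕ)).obj P.complex
  haveI : Module.Finite R (K.sc p).X₂ :=
    inferInstanceAs (Module.Finite R (M ⊗[R] P.complex.X p))
  haveI : Module.Finite R (K.sc p).moduleCatLeftHomologyData.H :=
    inferInstanceAs (Module.Finite R (LinearMap.ker (K.sc p).g.hom ⧸ LinearMap.range (K.sc p).moduleCatToCycles))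
  let e : ((Tor (ModuleCat.{u} R) p).obj (ModuleCat.of R M)).obj N ≅
      (K.sc p).moduleCatLeftHomologyData.H :=
    P.isoLeftDerivedObj F₁ p ≪≫ (K.sc p).moduleCatLeftHomologyData.homologyIso
  exact Module.Finite.equiv e.toLinearEquiv.symm

end Groth.Agent.CAlgSmall
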