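import Groth.Agent.CAlgSmall.PCBundle
import Mathlib.Algebra.Category.ModuleCat.Descent
import Mathlib.RingTheory.Localization.Finiteness

/-! Pseudo-coherence is local on the spectrum. -/

set_option autoImplicit false
set_option backward.isDefEq.respectTransparency false
set_option backward.defeqAttrib.useBackward true
set_option linter.style.haveILetI false

universe u

open CategoryTheory CategoryTheory.Limits HomologicalComplex CategoryTheory.Pretriangulated
open scoped TensorProduct

attribute [local instance] HasDerivedCategory.standard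

namespace Groth.Agent.CAlgSmall.PCZariski

open Groth.Agent.DCat Groth.Agent.DRingLib

variable {R : Type u} [CommRing R]

noncomputable abbrev Ext (A : Type u) [CommRing A] (φ : R →+* A) :
    ModuleCat.{u} R ⥤ ModuleCat.{u} A := ModuleCat.extendScalars.{u, u, u} φ

noncomputable abbrev ExtC (A : Type u) [CommRing A] (φ : R →+* A) : DRing.Cx R ⥤ DRing.Cx A :=
  (Ext A φ).mapHomologicalComplex (ComplexShape.up ℤ)

lemma preservesHomology_ext {A : Type u} [CommRing A] (φ : R →+* A) (hφ : φ.Flat) :
    (Ext A φ).PreservesHomology := by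
  haveI := ModuleCat.preservesFiniteLimits_extendScalars_of_flat hφ
  haveI : PreservesColimitsOfSize.{0, 0} (Ext A φ) :=
    (ModuleCat.extendRestrictScalarsAdj.{u, u, u} φ).leftAdjoint_preservesColimits
  infer_instance

/-- Flat base change is underived. -/
theorem nonempty_lbaseChange_iso {A : Type u} [CommRing A] (φ : R →+* A) (hφ : φ.Flat)
    [DRing.HasLBaseChange φ] (K : DRing.Cx R) :
    Nonempty ((DRing.LBaseChange φ).obj (DRing.toD K) ≅ DRing.toD ((ExtC A φ).obj K)) := by
  haveI := preservesHomology_ext φ hφ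
  obtain ⟨P, c, hP, -, hc, -⟩ := DCat.exists_kflat K
  haveI := hc
  haveI : QuasiIso ((ExtC A φ).map c) := inferInstance
  exact ⟨(DRing.LBaseChange φ).mapIso (asIso (DerivedCategory.Q.map c)).symm ≪≫
    DCat.lbaseChangeIso φ hP ≪≫ asIso (DerivedCategory.Q.map ((ExtC A φ).map c))⟩

/-- Descent of `m`-pseudo-coherence along a family detecting finiteness. -/
theorem pc_descend_family {ι : Type} {A : ι → Type u} [∀ i, CommRing (A i)] (φ : ∀ i, R →+* A i)
    [∀ i, DRing.HasLBaseChange (φ i)]
    (hdet : ∀ M : ModuleCat.{u} R, (∀ i, Module.Finite (A i) ((Ext (A i) (φ i)).obj M)) →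
      Module.Finite R M) (m : ℤ) :
    ∀ (n : ℕ) (b : ℤ) (K : Dual.D R), K.IsLE b → b < m + n →
      (∀ j, DRing.IsPseudoCoherent (A j) m ((DRing.LBaseChange (φ j)).obj K)) →
      DRing.IsPseudoCoherent R m K := by
  intro n
  induction n with
  | zero =>
    intro b K hK hb _
    haveI := hK
    exact pc_of_isLE (n := b) (by omega)
  | succ n ih =>
    intro b K hK hb h
    haveI := hK
    by_cases hbm : b < m
    · exact pc_of_isLE (n := b) hbm
    obtain ⟨P, hP, -, hPb, ⟨e⟩⟩ := DCat.exists_flat_rep (b := b) (K := K)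
      fun i hi => DerivedCategory.isZero_of_isLE K b i hi
    have eL : ∀ j, DRing.toD ((ExtC (A j) (φ j)).obj P) ≅ (DRing.LBaseChange (φ j)).obj K :=
      fun j => (DCat.lbaseChangeIso (φ j) hP).symm ≪≫ (DRing.LBaseChange (φ j)).mapIso e
    have hfinP : Module.Finite R (cokernel (P.d (b - 1) b) : ModuleCat.{u} R) := hdet _ fun j => by
      haveI := isLE_lbaseChange (φ j) (K := K) b
      haveI : PreservesColimitsOfSize.{0, 0} (Ext (A j) (φ j)) :=
        (ModuleCat.extendRestrictScalarsAdj.{u, u, u} (φ j)).leftAdjoint_preservesColimits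
      exact finite_of_iso ((HF (A j) b).mapIso (eL j).symm ≪≫ HQ ((ExtC (A j) (φ j)).obj P) b ≪≫
        homologyTopIso b (vanishesAbove_ext (φ j) hPb) ≪≫
          (PreservesCokernel.iso (Ext (A j) (φ j)) (P.d (b - 1) b)).symm)
        (finite_top (m := b) (pc_mono (by omega) (h j)))
    have hfin : Module.Finite R ((HF R b).obj (DRing.toD P)) :=
      finite_of_iso ((homologyTopIso b hPb).symm ≪≫ (HQ P b).symm) hfinP
    haveI hPle : (DRing.toD P).IsLE b := DCat.isLE_Q_of_vanishesAbove hPb
    obtain ⟨r, g, hg⟩ := exists_cover (DRing.toD P) b hfin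
    obtain ⟨hFv, hFf⟩ := freeAt_finiteFree (R := R) b r
    haveI := isKProjective_of_outside hFv (projective_of_free hFf)
    obtain ⟨ψ, rfl⟩ := exists_Q_map g
    have hC : (DRing.toD (CochainComplex.mappingCone ψ)).IsLE (b - 1) :=
      (apx_iff_isLE b _ (DerivedCategory.mappingCone_triangle_distinguished ψ)).1 ⟨fun i hi =>
        ⟨0, (isZero_hf_freeAt b r i (by omega)).eq_of_src _ _,
          (DerivedCategory.isZero_of_isLE (DRing.toD P) b i hi).eq_of_src _ _⟩, hg⟩
    have hFk := kflat_of_finiteFree (b := b) (fun i hi => hFv i (Or.inr hi)) hFf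
    have hLC : ∀ j, DRing.IsPseudoCoherent (A j) m
        ((DRing.LBaseChange (φ j)).obj (DRing.toD (CochainComplex.mappingCone ψ))) := fun j => by
      have h1 : DRing.IsPseudoCoherent (A j) (m + 1)
          (DRing.toD ((ExtC (A j) (φ j)).obj (freeAt R b r))) :=
        ⟨_, b, b, 𝟙 _, fun i hi => (Ext (A j) (φ j)).map_isZero (hFv i hi), finiteFree_ext (φ j) hFf,
          apx_of_isIso _ (𝟙 _)⟩
      have h2 : DRing.IsPseudoCoherent (A j) m (DRing.toD ((ExtC (A j) (φ j)).obj P)) :=
        pc_iso (eL j).symm (h j)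
      have h3 := pc_cone (DerivedCategory.mappingCone_triangle_distinguished ((ExtC (A j) (φ j)).map ψ)) h1 h2
      exact pc_iso (DerivedCategory.Q.mapIso
          (CochainComplex.mappingCone.mapHomologicalComplexIso ψ (Ext (A j) (φ j))).symm ≪≫
        (DCat.lbaseChangeIso (φ j) (DCat.isKFlatFor_cone ψ hFk hP)).symm) h3
    have hCpc := ih (b - 1) _ hC (by omega) hLC
    exact pc_iso e (pc_ext (DerivedCategory.mappingCone_triangle_distinguished ψ) (pc_freeAt b r m) hCpc)

/-- The cohomology after flat base change. -/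
theorem isZero_ext_homology {A : Type u} [CommRing A] (φ : R →+* A) (hφ : φ.Flat) (K : DRing.Cx R)
    (i : ℤ) (h : IsZero (((ExtC A φ).obj K).homology i)) :
    IsZero ((Ext A φ).obj (K.homology i)) := by
  haveI := preservesHomology_ext φ hφ
  exact h.of_iso ((K.sc i).mapHomologyIso (Ext A φ)).symm

/-- `extendScalars` along the structure map is the tensor product. -/
lemma ext_tensor_iff {A : Type u} [CommRing A] [inst : Algebra R A] (M : ModuleCat.{u} R) :
    (IsZero ((Ext A (algebraMap R A)).obj M) → Subsingleton (A ⊗[R] M)) ∧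
      (Module.Finite A ((Ext A (algebraMap R A)).obj M) → Module.Finite A (A ⊗[R] M)) := by
  have key : ∀ (φ : R →+* A) (i' : Algebra R A), φ.toAlgebra = i' →
      (IsZero ((Ext A φ).obj M) → (letI := i'; Subsingleton (A ⊗[R] M))) ∧
        (Module.Finite A ((Ext A φ).obj M) → (letI := i'; Module.Finite A (A ⊗[R] M))) := by
    rintro φ _ rfl
    exact ⟨fun h => ModuleCat.subsingleton_of_isZero (M := (Ext A φ).obj M) h, fun h => h⟩
  exact key (algebraMap R A) inst (Algebra.algebra_ext _ _ fun _ => rfl)

theorem isLocalizedModule_mk (f : R) (M : Type u) [AddCommGroup M] [Module R M] :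
    IsLocalizedModule (Submonoid.powers f)
      ((TensorProduct.mk R (Localization.Away f) M) 1) :=
  (isLocalizedModule_iff_isBaseChange (Submonoid.powers f) (Localization.Away f) _).2
    (TensorProduct.isBaseChange R M (Localization.Away f))

theorem pc_of_localizationAway {r : ℕ} (f : Fin r → R) (hf : Ideal.span (Set.range f) = ⊤)
    (K : DRing.Cx R) (m : ℤ)
    (hK : ∀ i, DRing.IsPseudoCoherent (Localization.Away (f i)) m
      (DRing.toD ((ExtC _ (algebraMap R (Localization.Away (f i)))).obj K))) :
    DRing.IsPseudoCoherent R m (DRing.toD K) := by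
  classical
  let φ := fun i => algebraMap R (Localization.Away (f i))
  have hflat : ∀ i, (φ i).Flat := fun i =>
    RingHom.flat_algebraMap_iff.2 (IsLocalization.flat _ (Submonoid.powers (f i)))
  haveI : ∀ i, DRing.HasLBaseChange (φ i) := fun i => DCat.hasLBaseChange _
  have hzero : ∀ M : ModuleCat.{u} R, (∀ i, IsZero ((Ext _ (φ i)).obj M)) → IsZero M := fun M hM => by
    refine (ModuleCat.isZero_iff_subsingleton (M := M)).2 (subsingleton_of_forall_eq 0 fun x => ?_)
    have hk : ∀ i, ∃ k : ℕ, f i ^ k • x = 0 := fun i => by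
      haveI := isLocalizedModule_mk (f i) M
      haveI : Subsingleton (Localization.Away (f i) ⊗[R] M) := (ext_tensor_iff M).1 (hM i)
      obtain ⟨⟨c, k, rfl⟩, hc⟩ :=
        (IsLocalizedModule.eq_zero_iff (Submonoid.powers (f i))
          ((TensorProduct.mk R (Localization.Away (f i)) M) 1) (m := x)).1 (Subsingleton.elim _ _)
      exact ⟨k, hc⟩
    choose k hk using hk
    have h1 : (1 : R) ∈ Submodule.annihilator (Submodule.span R ({x} : Set M)) := by
      have htop := Ideal.span_pow_eq_top (Set.range f) hf (Finset.univ.sup k)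
      rw [← Set.range_comp] at htop
      refine (htop ▸ Ideal.span_le.2 ?_ : (⊤ : Ideal R) ≤ _) Submodule.mem_top
      rintro _ ⟨i, rfl⟩
      refine Submodule.mem_annihilator_span_singleton _ _ |>.2 ?_
      obtain ⟨d, hd⟩ := Nat.exists_eq_add_of_le (Finset.le_sup (f := k) (Finset.mem_univ i))
      simp only [Function.comp_apply, hd, pow_add, mul_comm (f i ^ k i), mul_smul, hk i, smul_zero]
    simpa using (Submodule.mem_annihilator_span_singleton _ _).1 h1
  have hdet : ∀ M : ModuleCat.{u} R,
      (∀ i, Module.Finite (Localization.Away (f i)) ((Ext _ (φ i)).obj M)) → Module.Finite R M :=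
    fun M hM => by
    refine Module.Finite.of_localizationSpan' (Set.range f) hf
      (Mₚ := fun g => Localization.Away g.1 ⊗[R] M) (Rₚ := fun g => Localization.Away g.1)
      (fun g => (TensorProduct.mk R (Localization.Away g.1) M) 1)
      (h₂ := fun g => isLocalizedModule_mk g.1 M) ?_
    rintro ⟨_, i, rfl⟩
    exact (ext_tensor_iff M).2 (hM i)
  choose b hb using fun i => exists_isLE_of_pc (hK i)
  obtain ⟨B, hB⟩ := Finset.exists_le (Finset.univ.image b)
  have hBi : ∀ i, b i ≤ B := fun i => hB _ (Finset.mem_image_of_mem _ (Finset.mem_univ i))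
  have hKle : (DRing.toD K).IsLE B := by
    refine (DerivedCategory.isLE_iff _ _).2 fun q hq => IsZero.of_iso (hzero _ fun i => ?_) (HQ K q)
    refine isZero_ext_homology (φ i) (hflat i) K q ?_
    haveI := hb i
    exact (DerivedCategory.isZero_of_isLE _ (b i) q (by have := hBi i; omega)).of_iso (HQ _ q).symm
  refine pc_descend_family φ hdet m (B + 1 - m).toNat B _ hKle (by omega) fun i => ?_
  obtain ⟨e⟩ := nonempty_lbaseChange_iso (φ i) (hflat i) K
  exact pc_iso e.symm (hK i)

end Groth.Agent.CAlgSmall.PCZariski
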