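import Groth.Agent.Props12.QcohExtend
import Groth.Agent.Coherent.SubFTApps
import Groth.Agent.EGA43.FibDepth.Unit
import Groth.Agent.RelVALib.UPPhi
import Groth.Agent.Coherent.Existence.SysKernel

/-!
# Extending finitely presented modules with a map, and seeds through a section
-/

set_option autoImplicit false
set_option linter.unusedSectionVars false
set_option backward.isDefEq.respectTransparency false
set_option maxHeartbeats 1000000

universe u

open CategoryTheory CategoryTheory.Limits AlgebraicGeometry Opposite TopologicalSpace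
open Groth.Agent.Coherent

namespace Groth.Agent.CAlgSmall.FPExtend

variable {X : Scheme.{u}}

theorem isQCoh_of_isFP (M : X.Modules) (hM : CohB1.IsFP M) : Coh.IsQCoh M :=
  have : SheafOfModules.IsFinitePresentation.{u} (R := X.ringCatSheaf) M := hM
  inferInstanceAs (SheafOfModules.IsQuasicoherent.{u} (R := X.ringCatSheaf) M)

theorem isFT_of_isFP (M : X.Modules) (hM : CohB1.IsFP M) : CohB1.IsFT M :=
  have : SheafOfModules.IsFinitePresentation.{u} (R := X.ringCatSheaf) M := hM
  inferInstanceAs (SheafOfModules.IsFiniteType.{u} (R := X.ringCatSheaf) M)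

theorem quasiCompact_ι [QuasiSeparatedSpace X] (U : X.Opens) (hU : IsCompact (U : Set X)) : QuasiCompact U.ι := by
  refine quasiCompact_iff_forall_isAffineOpen.2 fun W hW => ?_
  rw [U.ι.isEmbedding.isCompact_iff, Scheme.Hom.coe_preimage, Set.image_preimage_eq_inter_range,
    Scheme.Opens.range_ι]
  exact QuasiSeparatedSpace.inter_isCompact _ _ W.2 hW.isCompact U.2 hU

/-- A finitely presented module with a map extends. -/
theorem exists_extension [CompactSpace X] [QuasiSeparatedSpace X] (F : X.Modules) [Coh.IsQCoh F] (U : X.Opens)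
    (hU : IsCompact (U : Set X)) (G : (U : Scheme.{u}).Modules) (hG : CohB1.IsFP G) (φ : G ⟶ F.restrict U.ι) :
    ∃ (G' : X.Modules) (φ' : G' ⟶ F) (e : G'.restrict U.ι ≅ G), CohB1.IsFP G' ∧
      e.hom ≫ φ = (Scheme.Modules.restrictFunctor U.ι).map φ' := by
  let R := Scheme.Modules.restrictFunctor U.ι
  have := quasiCompact_ι U hU
  have := isQCoh_of_isFP G hG
  obtain ⟨H, ψ, e, hH, he⟩ := Props12.exists_qcoh_extension U F G φ
  have hHft : CohB1.IsFT (H.restrict U.ι) := H8Lim.isFT_of_epi e.inv (isFT_of_isFP G hG)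
  obtain ⟨G₁, i', e₁, -, hG₁q, hG₁ft, he₁⟩ := exists_finiteType_extension_qcqs (F := H) U (𝟙 (H.restrict U.ι)) hHft hU
  have hfp : CohB1.IsFP (G₁.restrict U.ι) := by
    let e' := e₁ ≪≫ e
    have hT : SheafOfModules.IsFinitePresentation.{u} (R := U.toScheme.ringCatSheaf) G := hG
    exact (SheafOfModules.isFinitePresentation U.toScheme.ringCatSheaf).prop_of_iso e'.symm hT
  obtain ⟨G₂, χ, hG₂, -, hiso⟩ := Props12.FPColimit.exists_fp_iso_on G₁ hG₁ft U hU hfp
  refine ⟨G₂, χ ≫ i' ≫ ψ, asIso (R.map χ) ≪≫ e₁ ≪≫ e, hG₂, ?_⟩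
  show (R.map χ ≫ e₁.hom ≫ e.hom) ≫ φ = R.map (χ ≫ i' ≫ ψ)
  rw [Category.assoc, Category.assoc, he, R.map_comp, R.map_comp]
  refine congrArg (R.map χ ≫ ·) ?_
  rw [← he₁, Category.comp_id]

/-- Every section on an affine open is the image of a section of a finitely presented module. -/
theorem exists_seed [CompactSpace X] [QuasiSeparatedSpace X] (F : X.Modules) [Coh.IsQCoh F]
    (V : X.affineOpens) (s : Γ(F, V.1)) :
    ∃ (G : X.Modules) (φ : G ⟶ F) (a : Γ(G, V.1)), CohB1.IsFP G ∧ φ.app V.1 a = s := by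
  let U := V.1
  let O := Coh.structureModule U.toScheme
  obtain ⟨φ₀, hφ₀⟩ := RelVALib.exists_hom_of_affine O (F.restrict U.ι)
    (fun W _ => show Γ(U.toScheme, W) →+ Γ(F.restrict U.ι, W) from AddMonoidHom.mk' (fun r : Γ(U.toScheme, W) =>
      r • (show Γ(F.restrict U.ι, W) from resM F (U.ι_image_le W) s)) fun r r' => add_smul r r' _)
    (fun W _ r (x : Γ(U.toScheme, W)) => mul_smul r x _)
    (fun W W' _ _ h (x : Γ(U.toScheme, W)) => by
      refine Eq.trans ?_ (resM_smul (F.restrict U.ι) h x _).symm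
      refine congrArg (fun z : Γ(F.restrict U.ι, W') => (U.toScheme.presheaf.map (homOfLE h).op x) • z) ?_
      exact (resM_resM F (U.ι_image_le W) (U.ι.image_mono h) s).symm)
  obtain ⟨G, φ, e, hG, he⟩ := exists_extension F U V.2.isCompact O (EGA43.FibDepth.isFP_structureModule _) φ₀
  have hT : (⊤ : U.toScheme.Opens) ≤ ⊤ := le_rfl
  have : IsAffine U.toScheme := V.2
  have hle : U ≤ U.ι ''ᵁ ⊤ := U.ι_image_top.ge
  let b : Γ(G.restrict U.ι, ⊤) := e.inv.app ⊤ (show Γ(O, ⊤) from (1 : Γ(U.toScheme, ⊤)))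
  refine ⟨G, φ, resM G hle b, hG, ?_⟩
  have h1 : φ.app (U.ι ''ᵁ ⊤) b = resM F (U.ι_image_le ⊤) s := by
    show ((Scheme.Modules.restrictFunctor U.ι).map φ).app ⊤ b = _
    rw [← he]
    show φ₀.app ⊤ (e.hom.app ⊤ (e.inv.app ⊤ _)) = _
    have h2 : e.hom.app ⊤ (e.inv.app ⊤ (show Γ(O, ⊤) from (1 : Γ(U.toScheme, ⊤)))) = (1 : Γ(U.toScheme, ⊤)) :=
      Coherent.Existence.app_congr e.inv_hom_id ⊤ _
    rw [h2, hφ₀ ⊤ (isAffineOpen_top _)]
    exact one_smul _ _
  rw [app_resM, h1, resM_resM]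
  exact resM_refl F s

end Groth.Agent.CAlgSmall.FPExtend
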