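import Groth.Agent.FlatMorWeight.GeomUnibranch
import Groth.Agent.HenselLib.HullProps
import Groth.Agent.HenselLib.Olivier
import Groth.Agent.Unibr10.Branches
import Groth.Prelude.Def_CAlgX

/-!
# Branches and henselizations

For a flat algebra `H` with zero dimensional fibres over a ring `A` with finitely many minimal primes,
contraction gives a bijection between the minimal primes of `A' ⊗ H` (`A'` the normalization of
`A_red`) and those of `H`.  For hulls (henselization, strict henselization) this gives the unibranch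
criteria.
-/

universe u

set_option autoImplicit false

open TensorProduct

namespace Groth.Agent.CAlgSmall.UnibranchHull

open IsLocalRing HenselLib
open scoped nonZeroDivisors

variable {A : Type u} [CommRing A]

local notation "mkred" => Ideal.Quotient.mk (nilradical A)

theorem map_mk_mem_minimalPrimes {p : Ideal A} (hp : p ∈ minimalPrimes A) :
    p.map mkred ∈ minimalPrimes (CAlg2.red A) := by
  have := hp.1.1
  have hle : nilradical A ≤ p := nilradical_le_prime p
  have hcomap : (p.map mkred).comap mkred = p := by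
    rw [Ideal.comap_map_of_surjective _ Ideal.Quotient.mk_surjective]
    exact sup_eq_left.2 (by rw [← RingHom.ker_eq_comap_bot, Ideal.mk_ker]; exact hle)
  have hprime : (p.map mkred).IsPrime :=
    Ideal.map_isPrime_of_surjective Ideal.Quotient.mk_surjective (by rwa [Ideal.mk_ker])
  refine ⟨⟨hprime, bot_le⟩, fun q ⟨hq, _⟩ hqp => ?_⟩
  rw [← Ideal.map_comap_of_surjective _ Ideal.Quotient.mk_surjective q]
  exact Ideal.map_mono (hp.2 ⟨hq.comap _, bot_le⟩ ((Ideal.comap_mono hqp).trans hcomap.le))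

theorem notMem_of_nzd {p : Ideal A} (hp : p ∈ minimalPrimes A) {d : A}
    (hd : mkred d ∈ (CAlg2.red A)⁰) : d ∉ p := fun h =>
  Set.disjoint_left.1 (Ideal.disjoint_nonZeroDivisors_of_mem_minimalPrimes (map_mk_mem_minimalPrimes hp))
    (Ideal.mem_map_of_mem _ h) hd

/-- Contraction along a flat map takes minimal primes to minimal primes. -/
theorem comap_mem_minimalPrimes {R S : Type u} [CommRing R] [CommRing S] [Algebra R S]
    [Module.Flat R S] {P : Ideal S} (hP : P ∈ minimalPrimes S) :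
    P.comap (algebraMap R S) ∈ minimalPrimes R := by
  have := hP.1.1
  refine ⟨⟨hP.1.1.comap _, bot_le⟩, fun q ⟨hq, _⟩ hle => ?_⟩
  haveI := hq
  have : P.LiesOver (P.comap (algebraMap R S)) := ⟨rfl⟩
  obtain ⟨Q, hQP, hQ, hQq⟩ := Ideal.exists_ideal_le_liesOver_of_le (p := q)
    (q := P.comap (algebraMap R S)) P hle
  rw [← le_antisymm hQP (hP.2 ⟨hQ, bot_le⟩ hQP)]
  exact hQq.over.ge

theorem red_minimalPrimes_finite (hfin : (minimalPrimes A).Finite) :
    (minimalPrimes (CAlg2.red A)).Finite := by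
  refine (hfin.image (Ideal.map mkred)).subset fun q hq => ?_
  have := hq.1.1
  refine ⟨q.comap mkred, ⟨⟨Ideal.IsPrime.comap _, bot_le⟩, fun p ⟨hp, _⟩ hle => ?_⟩,
    Ideal.map_comap_of_surjective _ Ideal.Quotient.mk_surjective q⟩
  haveI := hp
  have hnp : nilradical A ≤ p := nilradical_le_prime p
  have hprime : (p.map mkred).IsPrime :=
    Ideal.map_isPrime_of_surjective Ideal.Quotient.mk_surjective (by rwa [Ideal.mk_ker])
  have h1 : q ≤ p.map mkred := hq.2 ⟨hprime, bot_le⟩ (Ideal.map_le_iff_le_comap.2 hle)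
  refine (Ideal.comap_mono h1).trans ?_
  rw [Ideal.comap_map_of_surjective _ Ideal.Quotient.mk_surjective]
  exact sup_le le_rfl (by rw [← RingHom.ker_eq_comap_bot, Ideal.mk_ker]; exact hnp)

/-- Two maximal ideals above one prime of an integral algebra over a henselian local ring agree. -/
theorem eq_of_isMaximal_of_le {H D : Type u} [CommRing H] [HenselianLocalRing H] [CommRing D]
    [Algebra H D] [Algebra.IsIntegral H D] (Q : Ideal D) [Q.IsPrime] (M N : Ideal D)
    (hM : M.IsMaximal) (hN : N.IsMaximal) (hQM : Q ≤ M) (hQN : Q ≤ N) : M = N := by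
  have : Algebra.IsIntegral H (D ⧸ Q) :=
    Algebra.IsIntegral.of_surjective (Ideal.Quotient.mkₐ H Q) Ideal.Quotient.mk_surjective
  have := Olivier.isLocalRing_of_integral_domain (A := H) (D ⧸ Q)
  have key : ∀ M : Ideal D, M.IsMaximal → Q ≤ M →
      M = (IsLocalRing.maximalIdeal (D ⧸ Q)).comap (Ideal.Quotient.mk Q) := by
    intro M hM hQM
    haveI := hM
    have hmax : (M.map (Ideal.Quotient.mk Q)).IsMaximal :=
      Ideal.IsMaximal.map_of_surjective_of_ker_le Ideal.Quotient.mk_surjective (by rwa [Ideal.mk_ker])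
    rw [← IsLocalRing.eq_maximalIdeal hmax, Ideal.comap_map_of_surjective _ Ideal.Quotient.mk_surjective,
      ← RingHom.ker_eq_comap_bot, Ideal.mk_ker, sup_eq_left.2 hQM]
  rw [key M hM hQM, key N hN hQN]

theorem mem_of_sub_mem {D : Type u} [CommRing D] {M : Ideal D} {z w : D} (hz : z ∈ M)
    (h : z - w ∈ M) : w ∈ M := by
  simpa using M.sub_mem hz h

theorem mem_of_sub_mem' {D : Type u} [CommRing D] {M : Ideal D} {z w : D} (hw : w ∈ M)
    (h : z - w ∈ M) : z ∈ M := by
  simpa using M.add_mem h hw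

/-- An étale algebra over a normal domain has one prime over the generic point below each point. -/
theorem eq_of_le_of_comap_eq_bot {C E : Type u} [CommRing C] [IsDomain C] [IsIntegrallyClosed C]
    [CommRing E] [Algebra C E] [Algebra.Etale C E] (q Q₁ Q₂ : Ideal E) [q.IsPrime] [Q₁.IsPrime]
    [Q₂.IsPrime] (h₁ : Q₁ ≤ q) (h₂ : Q₂ ≤ q) (e₁ : Q₁.comap (algebraMap C E) = ⊥)
    (e₂ : Q₂.comap (algebraMap C E) = ⊥) : Q₁ = Q₂ := by
  obtain ⟨hdom, -⟩ := Et18.normal_localization_of_etale C E q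
  haveI := hdom
  let ρ := algebraMap E (Localization.AtPrime q)
  haveI : (RingHom.ker ρ).IsPrime := RingHom.ker_isPrime _
  have hu : ∀ Q : Ideal E, Q.IsPrime → Q ≤ q → Q.comap (algebraMap C E) = ⊥ → RingHom.ker ρ = Q := by
    intro Q hQ hle h0
    have hker : RingHom.ker ρ ≤ Q := by
      intro w hw
      obtain ⟨s, hs⟩ := (IsLocalization.map_eq_zero_iff q.primeCompl _ w).1 hw
      exact (hQ.mem_or_mem (hs ▸ Submodule.zero_mem _)).resolve_left fun h => s.2 (hle h)
    refine Algebra.QuasiFinite.eq_of_le_of_under_eq (R := C) _ _ hker ?_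
    show (RingHom.ker ρ).comap _ = Q.comap _
    rw [h0]
    exact le_bot_iff.1 ((Ideal.comap_mono hker).trans h0.le)
  rw [← hu Q₁ inferInstance h₁ e₁, ← hu Q₂ inferInstance h₂ e₂]

theorem mem_of_stage {C E D : Type u} [CommRing C] [IsDomain C] [IsIntegrallyClosed C]
    [CommRing E] [Algebra C E] [Algebra.Etale C E] [CommRing D] [Algebra C D] (f : E →ₐ[C] D)
    {M Q₁ Q₂ : Ideal D} (hM : M.IsPrime) (hQ₁ : Q₁.IsPrime) (hQ₂ : Q₂.IsPrime) (h₁ : Q₁ ≤ M)
    (h₂ : Q₂ ≤ M) (e₁ : Q₁.comap (algebraMap C D) = ⊥) (e₂ : Q₂.comap (algebraMap C D) = ⊥)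
    (x : E) (hx : f x ∈ Q₁) : f x ∈ Q₂ := by
  haveI := hM
  haveI := hQ₁
  haveI := hQ₂
  have hb : ∀ Q : Ideal D, Q.comap (algebraMap C D) = ⊥ →
      (Q.comap f.toRingHom).comap (algebraMap C E) = ⊥ := by
    intro Q hQ
    rw [Ideal.comap_comap, ← hQ]
    congr 1
    exact f.comp_algebraMap
  have heq := eq_of_le_of_comap_eq_bot (M.comap f.toRingHom) (Q₁.comap f.toRingHom)
    (Q₂.comap f.toRingHom) (Ideal.comap_mono h₁) (Ideal.comap_mono h₂) (hb Q₁ e₁) (hb Q₂ e₂)
  have : x ∈ Q₁.comap f.toRingHom := hx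
  rw [heq] at this
  exact this

/-- Minimal primes of the normalization lie over minimal primes. -/
theorem comap_normRed_mem_minimalPrimes (hfin : (minimalPrimes A).Finite)
    {Q : Ideal (CAlg2.normRed A)} (hQ : Q ∈ minimalPrimes (CAlg2.normRed A)) :
    Q.comap (algebraMap A (CAlg2.normRed A)) ∈ minimalPrimes A := by
  classical
  have := hQ.1.1
  obtain ⟨Q', hQ'p, hQ'⟩ := Ideal.exists_comap_eq_of_mem_minimalPrimes_of_injective
    (f := algebraMap (CAlg2.normRed A) (FractionRing (CAlg2.red A))) Subtype.val_injective Q hQ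
  haveI := hQ'p
  set P := Q'.comap (algebraMap (CAlg2.red A) (FractionRing (CAlg2.red A))) with hP
  have hfin' := red_minimalPrimes_finite hfin
  have hsub : (P : Set (CAlg2.red A)) ⊆ ⋃ q ∈ (hfin'.toFinset : Set (Ideal (CAlg2.red A))), (q : Set _) := by
    intro x hx
    have hnz : x ∉ (CAlg2.red A)⁰ := fun h => hQ'p.ne_top
      (Q'.eq_top_of_isUnit_mem hx (IsLocalization.map_units (FractionRing (CAlg2.red A)) ⟨x, h⟩))
    by_contra hcon
    haveI : IsReduced (CAlg2.red A) :=
      (Ideal.isRadical_iff_quotient_reduced _).mp (Ideal.radical_isRadical _)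
    refine hnz (Unibr10.nzd_of_forall_notMem fun q hq hxq => hcon ?_)
    exact Set.mem_biUnion (hfin'.mem_toFinset.2 hq) hxq
  obtain ⟨q, hq, hle⟩ := (Ideal.subset_union_prime (s := hfin'.toFinset) (f := id) ⊥ ⊥
    fun q hq _ _ => (hfin'.mem_toFinset.1 hq).1.1).1 hsub
  rw [Set.Finite.mem_toFinset] at hq
  have hPq : P = q := le_antisymm hle (hq.2 ⟨Ideal.IsPrime.comap _, bot_le⟩ hle)
  have hcomp : Q.comap (algebraMap A (CAlg2.normRed A)) = P.comap mkred := by
    rw [← hQ', hP, Ideal.comap_comap, Ideal.comap_comap]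
    rfl
  rw [hcomp, hPq]
  refine ⟨⟨hq.1.1.comap _, bot_le⟩, fun p ⟨hp, _⟩ hle' => ?_⟩
  haveI := hp
  have hnp : nilradical A ≤ p := nilradical_le_prime p
  have hprime : (p.map mkred).IsPrime :=
    Ideal.map_isPrime_of_surjective Ideal.Quotient.mk_surjective (by rwa [Ideal.mk_ker])
  refine (Ideal.comap_mono (hq.2 ⟨hprime, bot_le⟩ (Ideal.map_le_iff_le_comap.2 hle'))).trans ?_
  rw [Ideal.comap_map_of_surjective _ Ideal.Quotient.mk_surjective]
  exact sup_le le_rfl (by rw [← RingHom.ker_eq_comap_bot, Ideal.mk_ker]; exact hnp)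

variable {H : Type u} [CommRing H] [Algebra A H]

theorem exists_clear (z : CAlg2.normRed A ⊗[A] H) :
    ∃ (d : A) (h : H), mkred d ∈ (CAlg2.red A)⁰ ∧
      algebraMap A (CAlg2.normRed A ⊗[A] H) d * z = Algebra.TensorProduct.includeRight h := by
  induction z using TensorProduct.induction_on with
  | zero => exact ⟨1, 0, by rw [map_one]; exact one_mem _, by simp⟩
  | tmul c h =>
    obtain ⟨⟨a, s⟩, hs⟩ := IsLocalization.surj (CAlg2.red A)⁰ (c : FractionRing (CAlg2.red A))
    obtain ⟨d, hd⟩ := Ideal.Quotient.mk_surjective (I := nilradical A) (s : CAlg2.red A)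
    obtain ⟨a₀, rfl⟩ := Ideal.Quotient.mk_surjective (I := nilradical A) a
    refine ⟨d, a₀ • h, hd ▸ s.2, ?_⟩
    have hc : algebraMap A (CAlg2.normRed A) d * c = algebraMap A (CAlg2.normRed A) a₀ := by
      refine Subtype.ext ?_
      show algebraMap (CAlg2.red A) (FractionRing (CAlg2.red A)) (mkred d) * c.1 = _
      rw [hd, mul_comm]
      exact hs
    rw [Algebra.TensorProduct.algebraMap_apply, Algebra.TensorProduct.tmul_mul_tmul, one_mul, hc,
      Algebra.algebraMap_eq_smul_one, TensorProduct.smul_tmul, Algebra.TensorProduct.includeRight_apply]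
  | add x y hx hy =>
    obtain ⟨d, g, hd, hg⟩ := hx
    obtain ⟨e, k, he, hk⟩ := hy
    refine ⟨d * e, e • g + d • k, by rw [map_mul]; exact mul_mem hd he, ?_⟩
    rw [map_add, map_smul, map_smul, Algebra.smul_def, Algebra.smul_def, ← hg, ← hk, map_mul]
    ring

section Bij

variable [Module.Flat A H]
  (hfib : ∀ q q' : Ideal H, q.IsPrime → q'.IsPrime → q ≤ q' →
    q.comap (algebraMap A H) = q'.comap (algebraMap A H) → q = q')
  (hfin : (minimalPrimes A).Finite)

include hfin in
theorem comap_tensor_mem_minimalPrimes {Q : Ideal (CAlg2.normRed A ⊗[A] H)}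
    (hQ : Q ∈ minimalPrimes (CAlg2.normRed A ⊗[A] H)) :
    Q.comap (algebraMap A (CAlg2.normRed A ⊗[A] H)) ∈ minimalPrimes A := by
  have h := comap_normRed_mem_minimalPrimes hfin (comap_mem_minimalPrimes (R := CAlg2.normRed A) (S := CAlg2.normRed A ⊗[A] H) hQ)
  rwa [Ideal.comap_comap, ← IsScalarTower.algebraMap_eq] at h

include hfib hfin in
theorem mapsTo {Q : Ideal (CAlg2.normRed A ⊗[A] H)} (hQ : Q ∈ minimalPrimes (CAlg2.normRed A ⊗[A] H)) :
    Q.comap (Algebra.TensorProduct.includeRight : H →ₐ[A] CAlg2.normRed A ⊗[A] H).toRingHom ∈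
      minimalPrimes H := by
  have := hQ.1.1
  set P := Q.comap (Algebra.TensorProduct.includeRight : H →ₐ[A] CAlg2.normRed A ⊗[A] H).toRingHom
  have hPA : P.comap (algebraMap A H) = Q.comap (algebraMap A (CAlg2.normRed A ⊗[A] H)) := by
    ext a
    show (Algebra.TensorProduct.includeRight : H →ₐ[A] CAlg2.normRed A ⊗[A] H) (algebraMap A H a) ∈ Q ↔ _
    rw [AlgHom.commutes]
    rfl
  refine ⟨⟨Ideal.IsPrime.comap _, bot_le⟩, fun P' ⟨hP', _⟩ hle => ?_⟩
  haveI := hP'
  refine (hfib P' P hP' (Ideal.IsPrime.comap _) hle ?_).ge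
  rw [hPA]
  exact le_antisymm ((Ideal.comap_mono hle).trans hPA.le)
    ((comap_tensor_mem_minimalPrimes hfin hQ).2 ⟨hP'.comap _, bot_le⟩
      ((Ideal.comap_mono hle).trans hPA.le))

include hfin in
theorem injOn {Q₁ Q₂ : Ideal (CAlg2.normRed A ⊗[A] H)}
    (h₁ : Q₁.IsPrime) (h₂ : Q₂ ∈ minimalPrimes (CAlg2.normRed A ⊗[A] H))
    (heq : Q₁.comap (Algebra.TensorProduct.includeRight : H →ₐ[A] CAlg2.normRed A ⊗[A] H).toRingHom ≤
      Q₂.comap (Algebra.TensorProduct.includeRight : H →ₐ[A] CAlg2.normRed A ⊗[A] H).toRingHom) :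
    Q₁ ≤ Q₂ := by
  intro z hz
  obtain ⟨d, h, hd, hh⟩ := exists_clear z
  have h1 : h ∈ Q₁.comap (Algebra.TensorProduct.includeRight : H →ₐ[A] CAlg2.normRed A ⊗[A] H).toRingHom := by
    show Algebra.TensorProduct.includeRight h ∈ Q₁
    rw [← hh]
    exact Ideal.mul_mem_left _ _ hz
  have h2 : algebraMap A (CAlg2.normRed A ⊗[A] H) d * z ∈ Q₂ := by
    rw [hh]
    exact heq h1
  exact (h₂.1.1.mem_or_mem h2).resolve_left fun h' =>
    notMem_of_nzd (comap_tensor_mem_minimalPrimes hfin h₂) hd h'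

theorem surjOn {P : Ideal H} (hP : P ∈ minimalPrimes H) :
    ∃ Q ∈ minimalPrimes (CAlg2.normRed A ⊗[A] H),
      Q.comap (Algebra.TensorProduct.includeRight : H →ₐ[A] CAlg2.normRed A ⊗[A] H).toRingHom = P := by
  have := hP.1.1
  have hp := comap_mem_minimalPrimes (R := A) hP
  let κ := P.ResidueField
  let j : CAlg2.red A →+* κ := Ideal.Quotient.lift (nilradical A) (algebraMap A κ) fun a ha => by
    rw [IsScalarTower.algebraMap_apply A H κ, Ideal.algebraMap_residueField_eq_zero]
    exact nilradical_le_prime P (mem_nilradical.2 ((mem_nilradical.1 ha).map (algebraMap A H)))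
  have hj : ∀ y : (CAlg2.red A)⁰, IsUnit (j y) := by
    intro y
    obtain ⟨d, hd⟩ := Ideal.Quotient.mk_surjective (I := nilradical A) (y : CAlg2.red A)
    rw [← hd, isUnit_iff_ne_zero]
    show algebraMap A κ d ≠ 0
    rw [IsScalarTower.algebraMap_apply A H κ, Ne, Ideal.algebraMap_residueField_eq_zero]
    exact notMem_of_nzd hp (hd ▸ y.2)
  let j' : FractionRing (CAlg2.red A) →+* κ := IsLocalization.lift hj
  let ψ : CAlg2.normRed A →ₐ[A] κ :=
    { j'.comp (algebraMap (CAlg2.normRed A) (FractionRing (CAlg2.red A))) with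
      commutes' := fun a => by
        show j' (algebraMap (CAlg2.red A) _ (mkred a)) = _
        rw [IsLocalization.lift_eq]
        exact Ideal.Quotient.lift_mk _ _ _ }
  let Φ : CAlg2.normRed A ⊗[A] H →ₐ[A] κ :=
    Algebra.TensorProduct.lift ψ (IsScalarTower.toAlgHom A H κ) fun _ _ => Commute.all _ _
  have hΦ : (RingHom.ker Φ).comap
      (Algebra.TensorProduct.includeRight : H →ₐ[A] CAlg2.normRed A ⊗[A] H).toRingHom = P := by
    ext h
    rw [Ideal.mem_comap, RingHom.mem_ker, ← Ideal.algebraMap_residueField_eq_zero (I := P)]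
    show Φ ((1 : CAlg2.normRed A) ⊗ₜ[A] h) = 0 ↔ _
    simp [Φ, κ]
  have hkp : (RingHom.ker Φ).IsPrime := RingHom.ker_isPrime _
  obtain ⟨Q, hQ, hQle⟩ := Ideal.exists_minimalPrimes_le (J := RingHom.ker Φ) bot_le
  have := hQ.1.1
  exact ⟨Q, hQ, le_antisymm ((Ideal.comap_mono hQle).trans hΦ.le)
    (hP.2 ⟨Ideal.IsPrime.comap _, bot_le⟩ ((Ideal.comap_mono hQle).trans hΦ.le))⟩

include hfib hfin in
theorem bijOn :
    Set.BijOn (fun Q : Ideal (CAlg2.normRed A ⊗[A] H) =>
        Q.comap (Algebra.TensorProduct.includeRight : H →ₐ[A] CAlg2.normRed A ⊗[A] H).toRingHom)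
      (minimalPrimes (CAlg2.normRed A ⊗[A] H)) (minimalPrimes H) :=
  ⟨fun _ hQ => mapsTo hfib hfin hQ,
    fun _ h₁ _ h₂ heq => le_antisymm (injOn hfin h₁.1.1 h₂ heq.le) (injOn hfin h₂.1.1 h₁ heq.ge),
    fun _ hP => surjOn hP⟩

end Bij

section Hull

variable [IsLocalRing A] {K : Type u} [Field K] [Algebra A K] [IsLocalHom (algebraMap A K)]

/-- Instances on the hull. -/
theorem hull_facts : ∃ _ : IsLocalRing (Hull A K), HenselianLocalRing (Hull A K) ∧
    IsLocalHom (algebraMap A (Hull A K)) ∧ Module.FaithfullyFlat A (Hull A K) := by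
  have := isLocalRing_hull (R := A) (K := K)
  have := isLocalHom_hull_algebraMap (R := A) (K := K)
  exact ⟨inferInstance, henselianLocalRing_hull, inferInstance,
    Module.FaithfullyFlat.of_flat_of_isLocalHom⟩

theorem comap_maximal_eq [HenselianLocalRing (Hull A K)] (M : Ideal (CAlg2.normRed A ⊗[A] Hull A K))
    [M.IsMaximal] :
    M.comap (Algebra.TensorProduct.includeRight :
      Hull A K →ₐ[A] CAlg2.normRed A ⊗[A] Hull A K).toRingHom = maximalIdeal (Hull A K) := by
  have : Algebra.IsIntegral A (CAlg2.normRed A) := Algebra.IsIntegral.trans (CAlg2.red A)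
  letI := Algebra.TensorProduct.rightAlgebra (R := A) (A := CAlg2.normRed A) (B := Hull A K)
  have : Algebra.IsIntegral (Hull A K) (CAlg2.normRed A ⊗[A] Hull A K) :=
    Algebra.IsIntegral.of_surjective (Algebra.TensorProduct.commRight A (Hull A K) (CAlg2.normRed A)).toAlgHom
      (Algebra.TensorProduct.commRight A (Hull A K) (CAlg2.normRed A)).surjective
  exact eq_maximalIdeal (Ideal.isMaximal_comap_of_isIntegral_of_isMaximal (R := Hull A K) (S := CAlg2.normRed A ⊗[A] Hull A K) M)

theorem isMaximal_ker {L : Type u} [Field L] [Algebra A L] [HenselianLocalRing (Hull A K)]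
    (Φ : CAlg2.normRed A ⊗[A] Hull A K →ₐ[A] L)
    (h : ∀ x ∈ maximalIdeal (Hull A K), Φ (Algebra.TensorProduct.includeRight x) = 0) :
    (RingHom.ker Φ).IsMaximal := by
  have : Algebra.IsIntegral A (CAlg2.normRed A) := Algebra.IsIntegral.trans (CAlg2.red A)
  letI := Algebra.TensorProduct.rightAlgebra (R := A) (A := CAlg2.normRed A) (B := Hull A K)
  have : Algebra.IsIntegral (Hull A K) (CAlg2.normRed A ⊗[A] Hull A K) :=
    Algebra.IsIntegral.of_surjective (Algebra.TensorProduct.commRight A (Hull A K) (CAlg2.normRed A)).toAlgHom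
      (Algebra.TensorProduct.commRight A (Hull A K) (CAlg2.normRed A)).surjective
  haveI : (RingHom.ker Φ).IsPrime := RingHom.ker_isPrime _
  refine Ideal.isMaximal_of_isIntegral_of_isMaximal_comap (R := Hull A K)
    (S := CAlg2.normRed A ⊗[A] Hull A K) _ ?_
  have heq : (RingHom.ker Φ).comap (algebraMap (Hull A K) (CAlg2.normRed A ⊗[A] Hull A K)) =
      maximalIdeal (Hull A K) := by
    refine ((maximalIdeal.isMaximal _).eq_of_le ?_ fun x hx => ?_).symm
    · exact (Ideal.IsPrime.comap _).ne_top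
    · exact RingHom.mem_ker.2 (h x hx)
  rw [heq]
  exact maximalIdeal.isMaximal _

/-- A unique minimal prime of the hull forces unibranch. -/
theorem isUnibranch_of_hasUniqueMinimalPrime
    (hu : CAlgX.HasUniqueMinimalPrime (Hull A K)) :
    CAlg2.IsUnibranch A ∧ ∀ (M N : Ideal (CAlg2.normRed A ⊗[A] Hull A K)), M.IsMaximal → N.IsMaximal → M = N := by
  obtain ⟨_, _, _, _⟩ := hull_facts (A := A) (K := K)
  obtain ⟨P₀, hP₀, huniq⟩ := hu
  have := hP₀.1.1
  set p := P₀.comap (algebraMap A (Hull A K)) with hp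
  have hmin : ∀ q ∈ minimalPrimes A, q = p := by
    intro q hq
    obtain ⟨Q, hQ⟩ := PrimeSpectrum.comap_surjective_of_faithfullyFlat (A := A) (B := Hull A K)
      ⟨q, hq.1.1⟩
    have hQq : Q.asIdeal.comap (algebraMap A (Hull A K)) = q := congrArg PrimeSpectrum.asIdeal hQ
    obtain ⟨P, hP, hPQ⟩ := Ideal.exists_minimalPrimes_le (J := Q.asIdeal) (bot_le (a := Q.asIdeal))
    rw [huniq P hP] at hPQ
    have hle : p ≤ q := hQq ▸ Ideal.comap_mono hPQ
    exact le_antisymm (hq.2 ⟨Ideal.IsPrime.comap _, bot_le⟩ hle) hle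
  have hfin : (minimalPrimes A).Finite := (Set.finite_singleton p).subset fun q hq => hmin q hq
  have hnil : nilradical A = p := by
    refine le_antisymm (nilradical_le_prime p) ?_
    rw [nilradical, Ideal.radical_eq_sInf]
    refine le_sInf fun J hJ => ?_
    haveI := hJ.2
    obtain ⟨q, hq, hqJ⟩ := Ideal.exists_minimalPrimes_le (J := J) (I := (⊥ : Ideal A)) bot_le
    exact (hmin q hq) ▸ hqJ
  have hdom : IsDomain (CAlg2.red A) :=
    (Ideal.Quotient.isDomain_iff_prime (nilradical A)).2 (hnil ▸ Ideal.IsPrime.comap _)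
  have hmaxeq : ∀ (M N : Ideal (CAlg2.normRed A ⊗[A] Hull A K)), M.IsMaximal → N.IsMaximal → M = N := by
    intro M N hM hN
    haveI := hM
    haveI := hN
    obtain ⟨Q, hQ, hQM⟩ := Ideal.exists_minimalPrimes_le (J := M) bot_le
    obtain ⟨Q', hQ', hQN⟩ := Ideal.exists_minimalPrimes_le (J := N) bot_le
    have hbij := bijOn (A := A) (H := Hull A K) (fun q q' _ _ => hull_eq_of_le_of_comap_eq) hfin
    have hQQ : Q = Q' := hbij.injOn hQ hQ' ((huniq _ (hbij.mapsTo hQ)).trans (huniq _ (hbij.mapsTo hQ')).symm)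
    subst hQQ
    haveI := hQ.1.1
    have : Algebra.IsIntegral A (CAlg2.normRed A) := Algebra.IsIntegral.trans (CAlg2.red A)
    letI := Algebra.TensorProduct.rightAlgebra (R := A) (A := CAlg2.normRed A) (B := Hull A K)
    have : Algebra.IsIntegral (Hull A K) (CAlg2.normRed A ⊗[A] Hull A K) :=
      Algebra.IsIntegral.of_surjective (Algebra.TensorProduct.commRight A (Hull A K) (CAlg2.normRed A)).toAlgHom
        (Algebra.TensorProduct.commRight A (Hull A K) (CAlg2.normRed A)).surjective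
    exact eq_of_isMaximal_of_le (H := Hull A K) (D := CAlg2.normRed A ⊗[A] Hull A K) Q M N hM hN hQM hQN
  refine ⟨⟨hdom, ?_⟩, hmaxeq⟩
  obtain ⟨m₀, hm₀⟩ := Ideal.exists_maximal (CAlg2.normRed A)
  refine IsLocalRing.of_unique_max_ideal ⟨m₀, hm₀, fun m hm => ?_⟩
  have hover : ∀ m : Ideal (CAlg2.normRed A), m.IsMaximal → ∃ M : Ideal (CAlg2.normRed A ⊗[A] Hull A K),
      M.IsMaximal ∧ M.comap (algebraMap (CAlg2.normRed A) (CAlg2.normRed A ⊗[A] Hull A K)) = m := by
    intro m hm
    obtain ⟨Q, hQ⟩ := PrimeSpectrum.comap_surjective_of_faithfullyFlat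
      (A := CAlg2.normRed A) (B := CAlg2.normRed A ⊗[A] Hull A K) ⟨m, hm.isPrime⟩
    obtain ⟨M, hM, hle⟩ := Ideal.exists_le_maximal Q.asIdeal Q.isPrime.ne_top
    refine ⟨M, hM, (hm.eq_of_le ?_ ?_).symm⟩
    · exact (hM.isPrime.comap _).ne_top
    · exact (congrArg PrimeSpectrum.asIdeal hQ).ge.trans (Ideal.comap_mono hle)
  obtain ⟨M₀, hM₀, e₀⟩ := hover m₀ hm₀
  obtain ⟨M, hM, e⟩ := hover m hm
  rw [← e, ← e₀, hmaxeq M M₀ hM hM₀]

/-- Unibranch plus a single closed point of `A' ⊗ H` gives a unique minimal prime. -/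
theorem hasUniqueMinimalPrime_of_isUnibranch (hA : CAlg2.IsUnibranch A)
    (hmax : ∀ (M N : Ideal (CAlg2.normRed A ⊗[A] Hull A K)), M.IsMaximal → N.IsMaximal → M = N) :
    CAlgX.HasUniqueMinimalPrime (Hull A K) := by
  obtain ⟨_, _, _, _⟩ := hull_facts (A := A) (K := K)
  obtain ⟨hdom, hloc⟩ := hA
  haveI := hdom
  haveI := hloc
  have : (nilradical A).IsPrime := (Ideal.Quotient.isDomain_iff_prime (nilradical A)).1 hdom
  have hfin : (minimalPrimes A).Finite := (Set.finite_singleton (nilradical A)).subset fun q hq =>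
    haveI := hq.1.1
    le_antisymm (hq.2 ⟨‹_›, bot_le⟩ (nilradical_le_prime q)) (nilradical_le_prime q)
  have hbij := bijOn (A := A) (H := Hull A K) (fun q q' _ _ => hull_eq_of_le_of_comap_eq) hfin
  haveI : IsIntegrallyClosed (CAlg2.normRed A) :=
    integralClosure.isIntegrallyClosedOfFiniteExtension (FractionRing (CAlg2.red A))
  have hbot : ∀ Q ∈ minimalPrimes (CAlg2.normRed A ⊗[A] Hull A K),
      Q.comap (algebraMap (CAlg2.normRed A) (CAlg2.normRed A ⊗[A] Hull A K)) = ⊥ := fun Q hQ => by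
    have := comap_mem_minimalPrimes (R := CAlg2.normRed A) (S := CAlg2.normRed A ⊗[A] Hull A K) hQ
    rwa [IsDomain.minimalPrimes_eq_singleton_bot, Set.mem_singleton_iff] at this
  have hle : ∀ Q₁ ∈ minimalPrimes (CAlg2.normRed A ⊗[A] Hull A K),
      ∀ Q₂ ∈ minimalPrimes (CAlg2.normRed A ⊗[A] Hull A K), Q₁ ≤ Q₂ := by
    intro Q₁ h₁ Q₂ h₂ z hz
    haveI := h₁.1.1
    haveI := h₂.1.1
    obtain ⟨M, hM, hM₁⟩ := Ideal.exists_le_maximal Q₁ h₁.1.1.ne_top
    obtain ⟨N, hN, hN₂⟩ := Ideal.exists_le_maximal Q₂ h₂.1.1.ne_top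
    rw [← hmax M N hM hN] at hN₂
    haveI := hM
    obtain ⟨S, hS⟩ := TensorProduct.exists_finset z
    obtain ⟨P, x, hx⟩ := exists_rep_finset S Prod.snd
    let f : CAlg2.normRed A ⊗[A] P.Ring →ₐ[CAlg2.normRed A] CAlg2.normRed A ⊗[A] Hull A K :=
      Algebra.TensorProduct.map (AlgHom.id _ _) (ι P)
    obtain ⟨z', hz'⟩ : ∃ z', f z' = z := by
      refine ⟨∑ i ∈ S, i.1 ⊗ₜ[A] x i, ?_⟩
      rw [map_sum, hS]
      refine Finset.sum_congr rfl fun i hi => ?_
      simp only [f, Algebra.TensorProduct.map_tmul, AlgHom.coe_id, id_eq, hx i hi]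
    rw [← hz'] at hz ⊢
    exact mem_of_stage (D := CAlg2.normRed A ⊗[A] Hull A K) f hM.isPrime h₁.1.1 h₂.1.1 hM₁ hN₂
      (hbot Q₁ h₁) (hbot Q₂ h₂) z' hz
  obtain ⟨P, hP⟩ := Ideal.nonempty_minimalPrimes (I := (⊥ : Ideal (Hull A K))) bot_ne_top
  refine ⟨P, hP, fun P' hP' => ?_⟩
  obtain ⟨Q, hQ, rfl⟩ := hbij.surjOn hP
  obtain ⟨Q', hQ', rfl⟩ := hbij.surjOn hP'
  rw [le_antisymm (hle Q hQ Q' hQ') (hle Q' hQ' Q hQ)]

end Hull

theorem hasUniqueMinimalPrime_congr {R S : Type u} [CommRing R] [CommRing S] (e : R ≃+* S)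
    (h : CAlgX.HasUniqueMinimalPrime R) : CAlgX.HasUniqueMinimalPrime S := by
  obtain ⟨P, hP, hu⟩ := h
  have hcm : ∀ {R S : Type u} [CommRing R] [CommRing S] (e : R ≃+* S) (Q : Ideal S),
      Q ∈ minimalPrimes S → Q.comap e.toRingHom ∈ minimalPrimes R := by
    intro R S _ _ e Q hQ
    have := hQ.1.1
    refine ⟨⟨Ideal.IsPrime.comap _, bot_le⟩, fun q ⟨hq, _⟩ hle x hx => ?_⟩
    have := hQ.2 ⟨hq.comap e.symm.toRingHom, bot_le⟩ (fun y hy => by
      have h1 : e (e.symm y) ∈ Q := hle hy
      rwa [e.apply_symm_apply] at h1) hx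
    change e.symm (e x) ∈ q at this
    rwa [e.symm_apply_apply] at this
  refine ⟨P.comap e.symm.toRingHom, hcm e.symm P hP, fun Q hQ => ?_⟩
  rw [← hu _ (hcm e Q hQ), Ideal.comap_comap]
  ext x
  simp

theorem isUnibranch_iff {A Ah : Type u} [CommRing A] [IsLocalRing A]
    [CommRing Ah] [IsLocalRing Ah] [Algebra A Ah] [IsLocalHom (algebraMap A Ah)]
    [Hensel.IsHenselization A Ah] :
    CAlg2.IsUnibranch A ↔ CAlgX.HasUniqueMinimalPrime Ah := by
  obtain ⟨e⟩ := exists_equiv_localH Ah (R := A)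
  letI : Field (A ⧸ maximalIdeal A) := Ideal.Quotient.field _
  haveI : IsLocalHom (algebraMap A (A ⧸ maximalIdeal A)) :=
    ⟨fun r h => by_contra fun hr => h.ne_zero (Ideal.Quotient.eq_zero_iff_mem.mpr
      ((IsLocalRing.mem_maximalIdeal r).mpr hr))⟩
  constructor
  · intro hA
    refine hasUniqueMinimalPrime_congr e.toRingEquiv (hasUniqueMinimalPrime_of_isUnibranch hA ?_)
    haveI := hA.1
    haveI := hA.2
    obtain ⟨_, _, _, _⟩ := hull_facts (A := A) (K := A ⧸ maximalIdeal A)
    have : Algebra.IsIntegral A (CAlg2.normRed A) := Algebra.IsIntegral.trans (CAlg2.red A)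
    have hsplit : ∀ z : CAlg2.normRed A ⊗[A] LocalH A, ∃ c : CAlg2.normRed A,
        z - algebraMap _ _ c ∈ (maximalIdeal (LocalH A)).map
          (Algebra.TensorProduct.includeRight : LocalH A →ₐ[A] CAlg2.normRed A ⊗[A] LocalH A).toRingHom := by
      intro z
      induction z using TensorProduct.induction_on with
      | zero => exact ⟨0, by simp⟩
      | tmul c h =>
        obtain ⟨a, ha⟩ := Ideal.Quotient.mk_surjective (hullPt A (A ⧸ maximalIdeal A) h)
        refine ⟨a • c, ?_⟩
        have hm : h - algebraMap A (LocalH A) a ∈ maximalIdeal (LocalH A) := by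
          rw [maximalIdeal_hull, RingHom.mem_ker, map_sub, AlgHom.commutes, ← ha]
          exact sub_self _
        have : c ⊗ₜ[A] h - algebraMap (CAlg2.normRed A) _ (a • c) =
            algebraMap (CAlg2.normRed A) (CAlg2.normRed A ⊗[A] LocalH A) c *
              Algebra.TensorProduct.includeRight (h - algebraMap A (LocalH A) a) := by
          rw [Algebra.TensorProduct.algebraMap_apply, Algebra.TensorProduct.algebraMap_apply,
            Algebra.algebraMap_self_apply, Algebra.algebraMap_self_apply,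
            Algebra.TensorProduct.includeRight_apply, Algebra.TensorProduct.tmul_mul_tmul, mul_one, one_mul,
            TensorProduct.tmul_sub, Algebra.algebraMap_eq_smul_one, ← TensorProduct.smul_tmul]
        rw [this]
        exact Ideal.mul_mem_left _ _ (Ideal.mem_map_of_mem _ hm)
      | add x y hx hy =>
        obtain ⟨c, hc⟩ := hx
        obtain ⟨d, hd⟩ := hy
        exact ⟨c + d, by rw [map_add]; convert Ideal.add_mem _ hc hd using 1; ring⟩
    have key : ∀ (M N : Ideal (CAlg2.normRed A ⊗[A] LocalH A)), M.IsMaximal → N.IsMaximal → M ≤ N := by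
      intro M N hM hN z hz
      haveI := hM
      haveI := hN
      have hC : ∀ (M : Ideal (CAlg2.normRed A ⊗[A] LocalH A)) [M.IsMaximal],
          M.comap (algebraMap (CAlg2.normRed A) _) = maximalIdeal (CAlg2.normRed A) := by
        intro M _
        refine eq_maximalIdeal (Ideal.isMaximal_of_isIntegral_of_isMaximal_comap (R := A) _ ?_)
        rw [Ideal.comap_comap, ← IsScalarTower.algebraMap_eq,
          ← (Algebra.TensorProduct.includeRight : LocalH A →ₐ[A] _).comp_algebraMap, ← Ideal.comap_comap]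
        erw [comap_maximal_eq M]
        rw [IsLocalRing.maximalIdeal_comap (algebraMap A (LocalH A))]
        exact maximalIdeal.isMaximal A
      obtain ⟨c, hc⟩ := hsplit z
      have hM' : (maximalIdeal (LocalH A)).map
          (Algebra.TensorProduct.includeRight : LocalH A →ₐ[A] CAlg2.normRed A ⊗[A] LocalH A).toRingHom ≤ M :=
        Ideal.map_le_iff_le_comap.2 (comap_maximal_eq M).ge
      have hN' : (maximalIdeal (LocalH A)).map
          (Algebra.TensorProduct.includeRight : LocalH A →ₐ[A] CAlg2.normRed A ⊗[A] LocalH A).toRingHom ≤ N :=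
        Ideal.map_le_iff_le_comap.2 (comap_maximal_eq N).ge
      have h1 : c ∈ M.comap (algebraMap (CAlg2.normRed A) _) := by
        exact mem_of_sub_mem (D := CAlg2.normRed A ⊗[A] LocalH A) hz (hM' hc)
      rw [hC M, ← hC N] at h1
      exact mem_of_sub_mem' (D := CAlg2.normRed A ⊗[A] LocalH A) h1 (hN' hc)
    exact fun M N hM hN => le_antisymm (key M N hM hN) (key N M hN hM)
  · intro hu
    exact (isUnibranch_of_hasUniqueMinimalPrime
      (hasUniqueMinimalPrime_congr e.symm.toRingEquiv hu)).1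

theorem isGeomUnibranch_iff {A Ash : Type u} [CommRing A] [IsLocalRing A]
    [CommRing Ash] [IsLocalRing Ash] [Algebra A Ash] [IsLocalHom (algebraMap A Ash)]
    [Hensel.IsStrictHenselization A Ash] :
    CAlg2.IsGeomUnibranch A ↔ CAlgX.HasUniqueMinimalPrime Ash := by
  obtain ⟨e⟩ := exists_equiv_localSH Ash (R := A)
  obtain ⟨_, _, _, _⟩ := hull_facts (A := A) (K := SepRes A)
  have hint : Algebra.IsIntegral A (CAlg2.normRed A) := Algebra.IsIntegral.trans (CAlg2.red A)
  constructor
  · intro hA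
    haveI := hA.1.1
    haveI := hA.1.2
    refine hasUniqueMinimalPrime_congr e.toRingEquiv (hasUniqueMinimalPrime_of_isUnibranch hA.1 ?_)
    letI := Ideal.Quotient.field (maximalIdeal (CAlg2.normRed A))
    intro M N hM hN
    let c := Algebra.TensorProduct.comm A (LocalSH A) (CAlg2.normRed A)
    have hcM : (M.comap c.toAlgHom.toRingHom).IsMaximal :=
      Ideal.comap_isMaximal_of_surjective _ c.surjective
    have hcN : (N.comap c.toAlgHom.toRingHom).IsMaximal :=
      Ideal.comap_isMaximal_of_surjective _ c.surjective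
    have hC : ∀ (M : Ideal (CAlg2.normRed A ⊗[A] LocalSH A)) [M.IsMaximal],
        M.comap (algebraMap (CAlg2.normRed A) _) = maximalIdeal (CAlg2.normRed A) := by
      intro M _
      refine eq_maximalIdeal (Ideal.isMaximal_of_isIntegral_of_isMaximal_comap (R := A) _ ?_)
      rw [Ideal.comap_comap, ← IsScalarTower.algebraMap_eq,
        ← (Algebra.TensorProduct.includeRight : LocalSH A →ₐ[A] _).comp_algebraMap, ← Ideal.comap_comap]
      erw [comap_maximal_eq M]
      rw [IsLocalRing.maximalIdeal_comap (algebraMap A (LocalSH A))]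
      exact maximalIdeal.isMaximal A
    have hB : ∀ (M : Ideal (CAlg2.normRed A ⊗[A] LocalSH A)) [M.IsMaximal],
        (M.comap c.toAlgHom.toRingHom).comap (algebraMap (LocalSH A) _) = maximalIdeal (LocalSH A) ∧
        (maximalIdeal (CAlg2.normRed A)).map
          (Algebra.TensorProduct.includeRight : CAlg2.normRed A →ₐ[A] LocalSH A ⊗[A] CAlg2.normRed A) ≤
          M.comap c.toAlgHom.toRingHom := by
      intro M _
      refine ⟨(Eq.trans ?_ (comap_maximal_eq M)), Ideal.map_le_iff_le_comap.2 ((hC M).ge.trans ?_)⟩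
      · rw [Ideal.comap_comap]
        rfl
      · intro x hx
        show c ((1 : LocalSH A) ⊗ₜ[A] x) ∈ M
        rw [Algebra.TensorProduct.comm_tmul]
        exact hx
    have heq : M.comap c.toAlgHom.toRingHom = N.comap c.toAlgHom.toRingHom :=
      hcM.eq_of_le hcN.ne_top (FlatMorWeight.le_of_pow_mem (maximalIdeal (CAlg2.normRed A))
        (ringExpChar (CAlg2.normRed A ⧸ maximalIdeal (CAlg2.normRed A))) (fun x => hA.2 _ x) _ _
        (hB M).2 (hB N).2 ((hB M).1.trans (hB N).1.symm))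
    exact Ideal.comap_injective_of_surjective _ c.surjective heq
  · intro hu
    obtain ⟨hub, hmax⟩ := isUnibranch_of_hasUniqueMinimalPrime
      (hasUniqueMinimalPrime_congr e.symm.toRingEquiv hu)
    refine ⟨hub, fun m' hm' => ?_⟩
    intro x
    letI := Ideal.Quotient.field m'
    let C' := CAlg2.normRed A ⧸ m'
    have hA0 : ∀ a ∈ maximalIdeal A, algebraMap A C' a = 0 := fun a ha => by
      rw [IsScalarTower.algebraMap_apply A (CAlg2.normRed A) C']
      refine Ideal.Quotient.eq_zero_iff_mem.2 ?_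
      have := eq_maximalIdeal (Ideal.isMaximal_comap_of_isIntegral_of_isMaximal (R := A) m')
      exact this.ge ha
    letI : Algebra (ResidueField A) C' := (Ideal.Quotient.lift (maximalIdeal A) (algebraMap A C') hA0).toAlgebra
    haveI : IsScalarTower A (ResidueField A) C' := IsScalarTower.of_algebraMap_eq fun a =>
      (Ideal.Quotient.lift_mk _ _ _).symm
    haveI : Algebra.IsIntegral A C' := Algebra.IsIntegral.trans (CAlg2.normRed A)
    haveI : Algebra.IsIntegral (ResidueField A) C' := Algebra.IsIntegral.tower_top A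
    let Ω := AlgebraicClosure (ResidueField A)
    have hroots : ∀ (y : C'), IsSeparable (ResidueField A) y → ∀ ψ₁ ψ₂ : C' →ₐ[ResidueField A] Ω, ψ₁ y = ψ₂ y := by
      intro y hy ψ₁ ψ₂
      have hsep : IsSeparable (ResidueField A) (ψ₁ y) := by
        rw [IsSeparable, minpoly.algHom_eq ψ₁ ψ₁.toRingHom.injective]
        exact hy
      obtain ⟨h, hh⟩ := hullPt_sep_surjective (R := A)
        (⟨ψ₁ y, mem_separableClosure_iff.2 hsep⟩ : SepRes A)
      obtain ⟨b, hb⟩ := Ideal.Quotient.mk_surjective y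
      let σ : LocalSH A →ₐ[A] Ω :=
        ((separableClosure (ResidueField A) Ω).val.restrictScalars A).comp (hullPt A (SepRes A))
      let Φ : (C' →ₐ[ResidueField A] Ω) → (CAlg2.normRed A ⊗[A] LocalSH A →ₐ[A] Ω) := fun ψ =>
        Algebra.TensorProduct.lift ((ψ.restrictScalars A).comp (Ideal.Quotient.mkₐ A m')) σ
          fun _ _ => Commute.all _ _
      have hker : ∀ ψ, (RingHom.ker (Φ ψ)).IsMaximal := fun ψ => by
        refine isMaximal_ker (Φ ψ) fun x hx => ?_
        rw [maximalIdeal_hull, RingHom.mem_ker] at hx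
        rw [Algebra.TensorProduct.includeRight_apply, Algebra.TensorProduct.lift_tmul, map_one, one_mul]
        show ((hullPt A (SepRes A) x : SepRes A) : Ω) = 0
        rw [hx]
        exact map_zero (separableClosure (ResidueField A) Ω).val
      let z : CAlg2.normRed A ⊗[A] LocalSH A := b ⊗ₜ[A] 1 - (1 : CAlg2.normRed A) ⊗ₜ[A] h
      have hσ : σ h = ψ₁ y := congrArg Subtype.val hh
      have hΦ : ∀ ψ, Φ ψ z = ψ y - ψ₁ y := fun ψ => by
        rw [map_sub, Algebra.TensorProduct.lift_tmul, Algebra.TensorProduct.lift_tmul, map_one, map_one,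
          mul_one, one_mul, hσ, ← hb]
        rfl
      have h1 : z ∈ RingHom.ker (Φ ψ₁) := by rw [RingHom.mem_ker, hΦ, sub_self]
      rw [hmax _ _ (hker ψ₁) (hker ψ₂), RingHom.mem_ker, hΦ, sub_eq_zero] at h1
      exact h1.symm
    haveI : IsPurelyInseparable (ResidueField A) C' := by
      refine ⟨inferInstance, fun y hy => ?_⟩
      have hy' : IsSeparable (ResidueField A) y := hy
      have hint := Algebra.IsIntegral.isIntegral (R := ResidueField A) y
      have hcard : ((minpoly (ResidueField A) y).rootSet Ω).Subsingleton := by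
        intro r₁ hr₁ r₂ hr₂
        rw [Polynomial.mem_rootSet] at hr₁ hr₂
        obtain ⟨ψ₁, h₁⟩ := IntermediateField.exists_algHom_of_splits_of_aeval
          (F := ResidueField A) (E := C') (K := Ω)
          (fun s => ⟨Algebra.IsIntegral.isIntegral s, IsAlgClosed.splits _⟩) hr₁.2
        obtain ⟨ψ₂, h₂⟩ := IntermediateField.exists_algHom_of_splits_of_aeval
          (F := ResidueField A) (E := C') (K := Ω)
          (fun s => ⟨Algebra.IsIntegral.isIntegral s, IsAlgClosed.splits _⟩) hr₂.2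
        rw [← h₁, ← h₂, hroots y hy' ψ₁ ψ₂]
      have h1 : Fintype.card ((minpoly (ResidueField A) y).rootSet Ω) ≤ 1 :=
        Fintype.card_le_one_iff_subsingleton.2 hcard.coe_sort
      rw [Polynomial.card_rootSet_eq_natDegree hy' (IsAlgClosed.splits _)] at h1
      exact minpoly.natDegree_eq_one_iff.1 (le_antisymm h1 (minpoly.natDegree_pos hint))
    haveI : ExpChar (ResidueField A) (ringExpChar C') :=
      (algebraMap (ResidueField A) C').expChar (algebraMap (ResidueField A) C').injective (ringExpChar C')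
    obtain ⟨n, r, hr⟩ := IsPurelyInseparable.pow_mem (ResidueField A) (ringExpChar C') x
    obtain ⟨a, rfl⟩ := IsLocalRing.residue_surjective r
    exact ⟨n, a, hr⟩

end Groth.Agent.CAlgSmall.UnibranchHull

namespace Groth.Agent.CAlgSmall.UnibranchHull

open IsLocalRing HenselLib

theorem bijOn_henselization {A Ah : Type u} [CommRing A] [IsLocalRing A]
    (hfin : (minimalPrimes A).Finite) [CommRing Ah] [IsLocalRing Ah] [Algebra A Ah] [IsLocalHom (algebraMap A Ah)]
    [Hensel.IsHenselization A Ah] :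
    Set.BijOn (fun P : Ideal ((CAlg2.normRed A) ⊗[A] Ah) =>
        P.comap (Algebra.TensorProduct.includeRight.toRingHom :
          Ah →+* (CAlg2.normRed A) ⊗[A] Ah))
      (minimalPrimes ((CAlg2.normRed A) ⊗[A] Ah))
      (minimalPrimes Ah) := by
  obtain ⟨e⟩ := exists_equiv_localH Ah (R := A)
  have : Module.Flat A Ah := Module.Flat.of_linearEquiv e.symm.toLinearEquiv
  refine bijOn (fun q q' hq hq' hle heq => ?_) hfin
  haveI := hq
  haveI := hq'
  have h := hull_eq_of_le_of_comap_eq (q := q.comap e.toRingEquiv.toRingHom)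
    (q' := q'.comap e.toRingEquiv.toRingHom) (Ideal.comap_mono hle) (by
      ext a
      simp only [Ideal.mem_comap]
      show e (algebraMap A _ a) ∈ q ↔ e (algebraMap A _ a) ∈ q'
      rw [e.commutes]
      exact SetLike.ext_iff.1 heq a)
  exact Ideal.comap_injective_of_surjective _ e.surjective h

end Groth.Agent.CAlgSmall.UnibranchHull
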