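import Groth.Agent.HenselLib.WEtNoeth
import Groth.Agent.HenselLib.IndEtale
import Mathlib.RingTheory.LocalRing.ResidueField.Fiber

/-!
# Fibres of ind-étale maps with Noetherian target
-/

universe u

open TensorProduct Groth.Agent.HenselLib

namespace Groth.Agent.CAlgSmall

theorem indEtale_noetherian_fibre {A B : Type u} [CommRing A] [CommRing B] [Algebra A B]
    (hB : EtPBC.IsIndEtale A B) [IsNoetherianRing B] (p : Ideal A) [p.IsPrime] :
    {q : PrimeSpectrum B | q.asIdeal.LiesOver p}.Finite ∧ IsReduced (p.Fiber B) ∧ ringKrullDim (p.Fiber B) ≤ 0 ∧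
      ∀ (q : Ideal B) [q.IsPrime] [q.LiesOver p],
        @Algebra.IsSeparable p.ResidueField q.ResidueField _ _
          (Ideal.ResidueField.mapₐ p q (Algebra.ofId A B) (q.over_def p)).toRingHom.toAlgebra := by
  haveI := IndEt.weaklyEtale A B hB
  let K := p.ResidueField
  haveI : IsNoetherianRing (p.Fiber B) := by
    haveI : IsNoetherianRing (B ⊗[A] K) := Algebra.EssFiniteType.isNoetherianRing B _
    exact isNoetherianRing_of_ringEquiv _ (Algebra.TensorProduct.comm A B K).toRingEquiv
  have hF : WEt.VNR (p.Fiber B) := WEt.vnr_of_weaklyEtale (A := K) (WEt.vnr_field _)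
  haveI : IsReduced (p.Fiber B) := hF.isReduced
  haveI hk : Ring.KrullDimLE 0 (p.Fiber B) := Ring.KrullDimLE.mk₀ fun P hP => haveI := hP; hF.isMaximal P
  haveI : IsArtinianRing (p.Fiber B) :=
    isArtinianRing_iff_isNoetherianRing_krullDimLE_zero.mpr ⟨inferInstance, hk⟩
  refine ⟨?_, inferInstance, Ring.krullDimLE_iff.mp hk, fun q _ _ => ?_⟩
  · have hfin : (PrimeSpectrum.comap (algebraMap A B) ⁻¹' {⟨p, inferInstance⟩}).Finite :=
      Set.finite_coe_iff.mp (Finite.of_equiv _ (PrimeSpectrum.preimageEquivFiber A B ⟨p, inferInstance⟩).symm)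
    exact hfin.subset fun q hq => PrimeSpectrum.ext hq.over.symm
  · let φ : K →ₐ[A] q.ResidueField := Ideal.ResidueField.mapₐ p q (Algebra.ofId A B) (q.over_def p)
    letI : Algebra K q.ResidueField := φ.toRingHom.toAlgebra
    haveI : IsScalarTower A K q.ResidueField :=
      IsScalarTower.of_algebraMap_eq fun a => (φ.commutes a).symm
    let ψ : p.Fiber B →ₐ[K] q.ResidueField :=
      Algebra.TensorProduct.lift (Algebra.ofId K q.ResidueField) (IsScalarTower.toAlgHom A B q.ResidueField)
        fun _ _ => Commute.all _ _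
    haveI : (RingHom.ker ψ).IsPrime := RingHom.ker_isPrime _
    haveI : (RingHom.ker ψ).IsMaximal := hF.isMaximal _
    have hsurj : Function.Surjective ψ := by
      intro x
      obtain ⟨a, s, rfl⟩ := IsLocalization.exists_mk'_eq (nonZeroDivisors (B ⧸ q)) x
      obtain ⟨b, rfl⟩ := Ideal.Quotient.mk_surjective a
      obtain ⟨c, hc⟩ := Ideal.Quotient.mk_surjective (s : B ⧸ q)
      have hψ : ∀ b : B, ψ (1 ⊗ₜ[A] b) = algebraMap (B ⧸ q) q.ResidueField (Ideal.Quotient.mk q b) := by
        intro b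
        show ψ (1 ⊗ₜ[A] b) = _
        rw [Algebra.TensorProduct.lift_tmul, map_one, one_mul, IsScalarTower.coe_toAlgHom',
          IsScalarTower.algebraMap_apply B (B ⧸ q) q.ResidueField]
        rfl
      obtain ⟨a', ha'⟩ := hF (1 ⊗ₜ[A] c)
      refine ⟨(1 ⊗ₜ[A] b) * a', IsLocalization.eq_mk'_iff_mul_eq.mpr ?_⟩
      rw [← hc, ← hψ, ← hψ, map_mul]
      have hne : ψ (1 ⊗ₜ[A] c) ≠ 0 := by
        rw [hψ, hc]
        exact IsFractionRing.to_map_ne_zero_of_mem_nonZeroDivisors s.2
      have h1 := congrArg ψ ha'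
      rw [map_mul, map_mul] at h1
      have h2 : ψ a' * ψ (1 ⊗ₜ[A] c) = 1 := by
        apply mul_left_cancel₀ hne
        rw [mul_one]
        linear_combination -h1
      rw [mul_assoc, h2, mul_one]
    haveI := WEt.isSeparable_residue (K := K) (RingHom.ker ψ)
    exact AlgEquiv.Algebra.isSeparable (Ideal.quotientKerAlgEquivOfSurjective hsurj)

end Groth.Agent.CAlgSmall
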