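import Groth.Agent.EmbLib24.Criterion

/-!
# Closed immersions: injective on closed points and on tangent vectors
-/

set_option autoImplicit false
set_option backward.isDefEq.respectTransparency.types false

universe u

open AlgebraicGeometry CategoryTheory TopologicalSpace Opposite

namespace Groth.Agent.CAlgSmall

theorem isClosedImmersion_of_injOn_closedPoints {k : Type u} [Field k] [IsAlgClosed k]
    {X Y : Scheme.{u}} (f : X ⟶ Y) (q : Y ⟶ Spec (CommRingCat.of k)) [LocallyOfFiniteType q]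
    [LocallyOfFiniteType (f ≫ q)] [IsProper f]
    (hinj : Set.InjOn f.base {x : X | IsClosed ({x} : Set X)})
    (hT : ∀ x : X, IsClosed ({x} : Set X) →
      Ideal.map (f.stalkMap x).hom (IsLocalRing.maximalIdeal (Y.presheaf.stalk (f.base x))) ⊔
        IsLocalRing.maximalIdeal (X.presheaf.stalk x) ^ 2 = IsLocalRing.maximalIdeal (X.presheaf.stalk x)) :
    IsClosedImmersion f := by
  classical
  have : JacobsonSpace X := LocallyOfFiniteType.jacobsonSpace (f ≫ q)
  have : IsLocallyNoetherian X := LocallyOfFiniteType.isLocallyNoetherian (f ≫ q)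
  have : LocallyOfFiniteType f := locallyOfFiniteType_of_comp f q
  have : LocallyQuasiFinite f := by
    rw [← Scheme.Hom.quasiFiniteLocus_eq_top_iff, eq_top_iff]
    rintro x -
    by_contra hx
    obtain ⟨P, hP, hPc⟩ := nonempty_inter_closedPoints (Z := (f.quasiFiniteLocus : Set X)ᶜ) ⟨x, hx⟩
      f.quasiFiniteLocus.isOpen.isClosed_compl.isLocallyClosed
    refine hP (Scheme.Hom.quasiFiniteAt_iff_isOpen_singleton_asFiber.2 ?_)
    have hfib : f ⁻¹' {f P} = {P} := by
      refine Set.eq_singleton_iff_unique_mem.2 ⟨rfl, fun z hz => ?_⟩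
      have hclP : IsClosed ({f P} : Set Y) := by
        simpa using f.isClosedMap _ hPc
      have hsub : f ⁻¹' {f P} ∩ closedPoints X ⊆ {P} := fun w hw => (hinj hPc hw.2 hw.1.symm).symm
      have h1 := JacobsonSpace.closure_inter_closedPoints_eq_closure
        (hclP.preimage f.continuous).isLocallyClosed
      have h2 : z ∈ closure ({P} : Set X) := closure_mono hsub (h1.ge (subset_closure hz))
      rwa [hPc.closure_eq] at h2
    have : ({f.asFiber P} : Set (f.fiber (f P))) = Set.univ := by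
      refine Set.eq_univ_of_forall fun z => Set.mem_singleton_iff.2 ((f.fiberHomeo (f P)).injective ?_)
      rw [Scheme.Hom.asFiber, Homeomorph.apply_symm_apply]
      refine Subtype.ext ?_
      have h := (f.fiberHomeo (f P) z).2
      exact Set.mem_singleton_iff.1 (hfib.le h)
    rw [this]
    exact isOpen_univ
  have : IsFinite f := IsFinite.of_isProper_of_locallyQuasiFinite f
  have hsur : ∀ V : Y.affineOpens, Function.Surjective (f.app V.1) := by
    rintro ⟨V, hV⟩
    have hW : IsAffineOpen (f ⁻¹ᵁ V) := hV.preimage f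
    let _ := (f.app V).hom.toAlgebra
    have : Module.Finite Γ(Y, V) Γ(X, f ⁻¹ᵁ V) := f.finite_app _ hV
    have : IsNoetherianRing Γ(X, f ⁻¹ᵁ V) := IsLocallyNoetherian.component_noetherian ⟨_, hW⟩
    have hpt : ∀ m : Ideal Γ(X, f ⁻¹ᵁ V), m.IsMaximal → ∃ (P : X) (hP : P ∈ f ⁻¹ᵁ V),
        IsClosed ({P} : Set X) ∧ (hW.primeIdealOf ⟨P, hP⟩).asIdeal = m ∧
        m.comap (algebraMap Γ(Y, V) Γ(X, f ⁻¹ᵁ V)) = (hV.primeIdealOf ⟨f P, hP⟩).asIdeal := by
      intro m hm
      let p : PrimeSpectrum Γ(X, f ⁻¹ᵁ V) := ⟨m, hm.isPrime⟩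
      have hP : hW.fromSpec p ∈ f ⁻¹ᵁ V := hW.range_fromSpec.le ⟨p, rfl⟩
      have e : hW.primeIdealOf ⟨hW.fromSpec p, hP⟩ = p :=
        hW.fromSpec.isOpenEmbedding.injective (hW.fromSpec_primeIdealOf ⟨_, hP⟩)
      refine ⟨hW.fromSpec p, hP, ?_, congrArg PrimeSpectrum.asIdeal e, ?_⟩
      · have hp : p ∈ closedPoints (PrimeSpectrum Γ(X, f ⁻¹ᵁ V)) :=
          (PrimeSpectrum.isClosed_singleton_iff_isMaximal p).2 hm
        exact (Set.ext_iff.1 hW.fromSpec.isOpenEmbedding.preimage_closedPoints p).2 hp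
      · have h := IsAffineOpen.comap_primeIdealOf_appLE (f := f) V hV (f ⁻¹ᵁ V) hW le_rfl hP
        rw [e] at h
        rw [← congrArg PrimeSpectrum.asIdeal h, ← Scheme.Hom.app_eq_appLE]
        rfl
    refine EmbLib24.surjective_of_separates ?_ ?_ ?_
    · intro m m' hm hm' h
      obtain ⟨P, hP, hPc, rfl, eP⟩ := hpt m hm
      obtain ⟨Q, hQ, hQc, rfl, eQ⟩ := hpt m' hm'
      have h1 : hV.primeIdealOf ⟨f P, hP⟩ = hV.primeIdealOf ⟨f Q, hQ⟩ :=
        PrimeSpectrum.ext (eP.symm.trans (h.trans eQ))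
      have h2 := congrArg hV.fromSpec h1
      rw [hV.fromSpec_primeIdealOf, hV.fromSpec_primeIdealOf] at h2
      obtain rfl := hinj hPc hQc h2
      rfl
    · intro m hm b
      obtain ⟨P, hP, hPc, rfl, -⟩ := hpt m hm
      obtain ⟨c, hc⟩ := EmbLib24.exists_residue_eq (f ≫ q) hPc (X.presheaf.germ (f ⁻¹ᵁ V) P hP b)
      refine ⟨EmbLib24.gl q V c, ?_⟩
      let _ := TopCat.Presheaf.algebra_section_stalk X.presheaf (⟨P, hP⟩ : ↑(f ⁻¹ᵁ V))
      have := hW.isLocalization_stalk ⟨P, hP⟩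
      refine (IsLocalization.AtPrime.to_map_mem_maximal_iff (X.presheaf.stalk P) _ _).1 ?_
      show X.presheaf.germ (f ⁻¹ᵁ V) P hP (b - f.app V _) ∈ _
      rw [map_sub, Scheme.Hom.app_eq_appLE, EmbLib24.appLE_gl rfl, EmbLib24.germ_gl]
      exact hc
    · intro m hm b hb
      obtain ⟨P, hP, hPc, rfl, eP⟩ := hpt m hm
      rw [eP]
      set q₀ := (hV.primeIdealOf ⟨f P, hP⟩).asIdeal
      set m₀ := (hW.primeIdealOf ⟨P, hP⟩).asIdeal
      let _ := TopCat.Presheaf.algebra_section_stalk X.presheaf (⟨P, hP⟩ : ↑(f ⁻¹ᵁ V))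
      have : IsLocalization.AtPrime (X.presheaf.stalk P) m₀ := hW.isLocalization_stalk ⟨P, hP⟩
      let _ := TopCat.Presheaf.algebra_section_stalk Y.presheaf (⟨f P, hP⟩ : V)
      have : IsLocalization.AtPrime (Y.presheaf.stalk (f P)) q₀ := hV.isLocalization_stalk ⟨f P, hP⟩
      have hmm : m₀.map (algebraMap Γ(X, f ⁻¹ᵁ V) (X.presheaf.stalk P)) =
          IsLocalRing.maximalIdeal (X.presheaf.stalk P) :=
        IsLocalization.AtPrime.map_eq_maximalIdeal m₀ (X.presheaf.stalk P)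
      have hqq : q₀.map (algebraMap Γ(Y, V) (Y.presheaf.stalk (f P))) =
          IsLocalRing.maximalIdeal (Y.presheaf.stalk (f P)) :=
        IsLocalization.AtPrime.map_eq_maximalIdeal q₀ (Y.presheaf.stalk (f P))
      have hcomm : (f.stalkMap P).hom.comp (algebraMap Γ(Y, V) (Y.presheaf.stalk (f P))) =
          (algebraMap Γ(X, f ⁻¹ᵁ V) (X.presheaf.stalk P)).comp (algebraMap Γ(Y, V) Γ(X, f ⁻¹ᵁ V)) :=
        RingHom.ext fun a => Scheme.Hom.germ_stalkMap_apply f V P hP a
      have h2 : IsLocalRing.maximalIdeal (X.presheaf.stalk P) ≤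
          (q₀.map (algebraMap Γ(Y, V) Γ(X, f ⁻¹ᵁ V)) ⊔ m₀ ^ 2).map
            (algebraMap Γ(X, f ⁻¹ᵁ V) (X.presheaf.stalk P)) := by
        rw [Ideal.map_sup, Ideal.map_pow, hmm, Ideal.map_map, ← hcomm, ← Ideal.map_map, hqq]
        exact (hT P hPc).ge
      have hb' := h2 (hmm ▸ Ideal.mem_map_of_mem _ hb)
      rw [IsLocalization.algebraMap_mem_map_algebraMap_iff m₀.primeCompl] at hb'
      obtain ⟨s, hs, hsb⟩ := hb'
      obtain ⟨y, i, hi, hy⟩ := hm.exists_inv hs
      have : b = y * (s * b) + i * b := by rw [← mul_assoc, ← add_mul, hy, one_mul]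
      rw [this]
      exact add_mem (Ideal.mul_mem_left _ _ hsb)
        (Ideal.mem_sup_right (by rw [pow_two]; exact Ideal.mul_mem_mul hi hb))
  have himm : IsImmersion f := PnEmb.isImmersion_of_charts f (fun V : Y.affineOpens => V.1) (fun V => V.2)
    (fun V => V.2.preimage f) hsur fun x => by
      obtain ⟨_, ⟨V, hV, rfl⟩, hxV, -⟩ :=
        Y.isBasis_affineOpens.exists_subset_of_mem_open (Set.mem_univ (f x)) isOpen_univ
      exact ⟨⟨V, hV⟩, hxV⟩
  exact IsClosedImmersion.of_isPreimmersion f f.isClosedMap.isClosed_range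

end Groth.Agent.CAlgSmall
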