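import Mathlib

/-!
# Modules as filtered colimits of finitely presented modules; Lazard's theorem
-/

set_option backward.isDefEq.respectTransparency.types false
set_option maxSynthPendingDepth 3

noncomputable section

universe u

open CategoryTheory CategoryTheory.Limits Finsupp

namespace Groth.Agent.CAlgSmall.ColimFP

variable (R : Type u) [CommRing R] (M : Type u) [AddCommGroup M] [Module R M]

/-- The tautological presentation `⊕_{M × ℕ} R → M`. -/
noncomputable def π : ((M × ℕ) →₀ R) →ₗ[R] M := Finsupp.linearCombination R Prod.fst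

/-- Finite sub-presentations. -/
structure Idx where
  s : Finset (M × ℕ)
  K : Submodule R ((M × ℕ) →₀ R)
  fg : K.FG
  le_supp : K ≤ supported R R (s : Set (M × ℕ))
  le_ker : K ≤ LinearMap.ker (π R M)

instance : Preorder (Idx R M) :=
  Preorder.lift fun i : Idx R M ↦ (i.s, i.K)

variable {R M}

theorem Idx.le_iff {i j : Idx R M} : i ≤ j ↔ i.s ⊆ j.s ∧ i.K ≤ j.K := Iff.rfl

instance : Nonempty (Idx R M) := ⟨⟨∅, ⊥, Submodule.fg_bot, bot_le, bot_le⟩⟩

theorem Idx.exists_ub (i j : Idx R M) : ∃ k, i ≤ k ∧ j ≤ k := by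
  classical
  refine ⟨⟨i.s ∪ j.s, i.K ⊔ j.K, i.fg.sup j.fg, sup_le ?_ ?_, sup_le i.le_ker j.le_ker⟩,
    ⟨Finset.subset_union_left, le_sup_left⟩, ⟨Finset.subset_union_right, le_sup_right⟩⟩
  · exact i.le_supp.trans (supported_mono (by simp))
  · exact j.le_supp.trans (supported_mono (by simp))

/-- The finitely presented module of a sub-presentation. -/
abbrev G (i : Idx R M) : Type u :=
  supported R R (i.s : Set (M × ℕ)) ⧸ i.K.comap (supported R R (i.s : Set (M × ℕ))).subtype

/-- The class of an element. -/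
noncomputable def cls {i : Idx R M} (a : (M × ℕ) →₀ R)
    (ha : a ∈ supported R R (i.s : Set (M × ℕ))) : G i := Submodule.Quotient.mk ⟨a, ha⟩

/-- Transition maps. -/
noncomputable def f (i j : Idx R M) (h : i ≤ j) : G i →ₗ[R] G j :=
  Submodule.mapQ _ _ (Submodule.inclusion (supported_mono (by exact_mod_cast h.1)))
    (fun _ hx ↦ h.2 hx)

instance directedSystem : DirectedSystem (G (R := R) (M := M)) fun i j h ↦ f i j h where
  map_self i x := by
    obtain ⟨a, rfl⟩ := Submodule.Quotient.mk_surjective _ x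
    rfl
  map_map k j i hij hjk x := by
    obtain ⟨a, rfl⟩ := Submodule.Quotient.mk_surjective _ x
    rfl

instance finite_G (i : Idx R M) : Module.Finite R (G i) := by
  haveI : Module.Finite R (supported R R (i.s : Set (M × ℕ))) :=
    Module.Finite.equiv (supportedEquivFinsupp (R := R) (M := R) (i.s : Set (M × ℕ))).symm
  infer_instance

instance finitePresentation_G (i : Idx R M) : Module.FinitePresentation R (G i) := by
  haveI : Module.Free R (supported R R (i.s : Set (M × ℕ))) :=
    Module.Free.of_equiv (supportedEquivFinsupp (R := R) (M := R) (i.s : Set (M × ℕ))).symm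
  haveI : Module.Finite R (supported R R (i.s : Set (M × ℕ))) :=
    Module.Finite.equiv (supportedEquivFinsupp (R := R) (M := R) (i.s : Set (M × ℕ))).symm
  haveI := Module.finitePresentation_of_projective R (supported R R (i.s : Set (M × ℕ)))
  refine Module.finitePresentation_of_surjective (Submodule.mkQ _) (Submodule.mkQ_surjective _) ?_
  rw [Submodule.ker_mkQ]
  refine Submodule.fg_of_fg_map_injective _ (Submodule.injective_subtype _) ?_
  rw [Submodule.map_comap_eq, Submodule.range_subtype, inf_eq_right.mpr i.le_supp]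
  exact i.fg

/-- The map to `M`. -/
noncomputable def toM (i : Idx R M) : G i →ₗ[R] M :=
  Submodule.liftQ _ ((π R M).comp (supported R R (i.s : Set (M × ℕ))).subtype)
    (fun _ hx ↦ i.le_ker hx)

section Sub

variable (Q : Idx R M → Prop) (hQ : ∀ i, ∃ j, i ≤ j ∧ Q j)

instance : DirectedSystem (fun i : {i // Q i} ↦ G i.1) fun i j h ↦ f i.1 j.1 h where
  map_self i x := DirectedSystem.map_self (f := fun i j h ↦ f i j h) (i := i.1) x
  map_map k j i hij hjk x := DirectedSystem.map_map (f := fun i j h ↦ f i j h) hij hjk x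

include hQ in
theorem isDirected_sub : IsDirected {i // Q i} (· ≤ ·) :=
  ⟨fun i j ↦ by
    obtain ⟨k, hik, hjk⟩ := i.1.exists_ub j.1
    obtain ⟨l, hkl, hl⟩ := hQ k
    exact ⟨⟨l, hl⟩, hik.trans hkl, hjk.trans hkl⟩⟩

include hQ in
theorem nonempty_sub : Nonempty {i // Q i} :=
  let ⟨j, _, hj⟩ := hQ (Classical.arbitrary (Idx R M))
  ⟨⟨j, hj⟩⟩

/-- The comparison map. -/
noncomputable def desc [DecidableEq {i // Q i}] :
    Module.DirectLimit (fun i : {i // Q i} ↦ G i.1) (fun i j h ↦ f i.1 j.1 h) →ₗ[R] M :=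
  Module.DirectLimit.lift R {i // Q i} _ _ (fun i ↦ toM i.1) fun i j h x ↦ by
    obtain ⟨a, rfl⟩ := Submodule.Quotient.mk_surjective _ x
    rfl

include hQ in
theorem bijective_desc [DecidableEq {i // Q i}] : Function.Bijective (desc Q) := by
  classical
  haveI := isDirected_sub Q hQ
  haveI := nonempty_sub Q hQ
  constructor
  · rw [injective_iff_map_eq_zero]
    intro z hz
    obtain ⟨i, x, rfl⟩ := Module.DirectLimit.exists_of z
    obtain ⟨⟨a, ha⟩, rfl⟩ := Submodule.Quotient.mk_surjective _ x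
    rw [desc, Module.DirectLimit.lift_of] at hz
    have hπ : π R M a = 0 := hz
    let j : Idx R M := ⟨i.1.s, i.1.K ⊔ Submodule.span R {a}, i.1.fg.sup (Submodule.fg_span_singleton a),
      sup_le i.1.le_supp ((Submodule.span_singleton_le_iff_mem _ _).mpr ha),
      sup_le i.1.le_ker ((Submodule.span_singleton_le_iff_mem _ _).mpr hπ)⟩
    obtain ⟨l, hl, hlQ⟩ := hQ j
    have h1 : i.1 ≤ j := ⟨Finset.Subset.refl _, le_sup_left⟩
    have hil : i ≤ ⟨l, hlQ⟩ := h1.trans hl
    rw [← Module.DirectLimit.of_f (hij := hil)]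
    have : f i.1 l hil (Submodule.Quotient.mk ⟨a, ha⟩) = 0 :=
      (Submodule.Quotient.mk_eq_zero _).mpr
        (hl.2 (le_sup_right (a := i.1.K) (Submodule.mem_span_singleton_self a)))
    rw [this, map_zero]
  · intro m
    obtain ⟨l, hl, hlQ⟩ := hQ ⟨{(m, 0)}, ⊥, Submodule.fg_bot, bot_le, bot_le⟩
    refine ⟨Module.DirectLimit.of R {i // Q i} _ _ ⟨l, hlQ⟩
      (cls (Finsupp.single (m, 0) 1) (single_mem_supported R 1 (hl.1 (Finset.mem_singleton_self _)))), ?_⟩
    rw [desc, Module.DirectLimit.lift_of]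
    show π R M (Finsupp.single (m, 0) 1) = m
    simp [π]

end Sub

/-- Free sub-presentations are cofinal for flat modules. -/
theorem exists_free_ge [Module.Flat R M] (i : Idx R M) :
    ∃ j, i ≤ j ∧ Module.Free R (G j) := by
  classical
  let S := supported R R (i.s : Set (M × ℕ))
  haveI : Module.Free R S :=
    Module.Free.of_equiv (supportedEquivFinsupp (R := R) (M := R) (i.s : Set (M × ℕ))).symm
  haveI : Module.Finite R S :=
    Module.Finite.equiv (supportedEquivFinsupp (R := R) (M := R) (i.s : Set (M × ℕ))).symm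
  haveI : Module.Finite R (i.K.comap S.subtype) := Module.Finite.iff_fg.mpr <| by
    refine Submodule.fg_of_fg_map_injective _ (Submodule.injective_subtype _) ?_
    rw [Submodule.map_comap_eq, Submodule.range_subtype, inf_eq_right.mpr i.le_supp]
    exact i.fg
  obtain ⟨k, a, y, hya, haf⟩ := Module.Flat.exists_factorization_of_comp_eq_zero_of_free
    (R := R) (M := M) (f := (i.K.comap S.subtype).subtype) (x := (π R M).comp S.subtype)
    (LinearMap.ext fun z ↦ i.le_ker z.2)
  let N₀ : ℕ := i.s.sup (fun p ↦ p.2) + 1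
  let t : Fin k → M × ℕ := fun l ↦ (y (Finsupp.single l 1), N₀ + l.val)
  have ht : Function.Injective t := fun l l' h ↦ Fin.ext <| by
    have := congrArg Prod.snd h
    simp only [t] at this
    omega
  have hts : ∀ l, t l ∉ i.s := fun l h ↦ by
    have := Finset.le_sup (f := fun p : M × ℕ ↦ p.2) h
    simp only [t, N₀] at this
    omega
  let b : (Fin k →₀ R) →ₗ[R] ((M × ℕ) →₀ R) := lmapDomain R R t
  have hπb : ∀ w, π R M (b w) = y w := by
    intro w
    show (π R M).comp b w = y w
    congr 1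
    ext l
    simp [π, b, t]
  let D : S →ₗ[R] ((M × ℕ) →₀ R) := S.subtype - b.comp a
  let s' : Finset (M × ℕ) := i.s ∪ Finset.univ.image t
  have hbsupp : ∀ w, b w ∈ supported R R ((Finset.univ.image t : Finset _) : Set (M × ℕ)) := fun w p hp ↦ by
    have := Finsupp.mapDomain_support (f := t) (s := w) hp
    simp only [Finset.mem_image] at this
    obtain ⟨l, -, rfl⟩ := this
    simp
  let j : Idx R M := ⟨s', LinearMap.range D, Module.Finite.iff_fg.mp inferInstance, ?_, ?_⟩
  rotate_left
  · rintro _ ⟨z, rfl⟩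
    exact sub_mem (supported_mono (by simp [s']) z.2)
      (supported_mono (by simp [s']) (hbsupp (a z)))
  · rintro _ ⟨z, rfl⟩
    show π R M ((z : (M × ℕ) →₀ R) - b (a z)) = 0
    rw [map_sub, hπb, sub_eq_zero]
    exact LinearMap.congr_fun hya z
  refine ⟨j, ⟨Finset.subset_union_left, fun z hz ↦ ⟨⟨z, i.le_supp hz⟩, ?_⟩⟩, ?_⟩
  · have : a ⟨z, i.le_supp hz⟩ = 0 :=
      LinearMap.congr_fun haf (⟨⟨z, i.le_supp hz⟩, hz⟩ : i.K.comap S.subtype)
    simp [D, this]
  let c : ((M × ℕ) →₀ R) →ₗ[R] (Fin k →₀ R) :=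
    Finsupp.lcomapDomain t ht
  let Φ : ((M × ℕ) →₀ R) →ₗ[R] (Fin k →₀ R) :=
    a.comp (restrictDom R R (i.s : Set (M × ℕ))) + c
  have hcS : ∀ z ∈ S, c z = 0 := fun z hz ↦ by
    ext l
    show z (t l) = 0
    exact Finsupp.notMem_support_iff.mp fun hl ↦ hts l (Finset.mem_coe.mp (hz hl))
  have hrS : ∀ z : S, restrictDom R R (i.s : Set (M × ℕ)) z.1 = z := fun z ↦ by
    apply Subtype.ext
    ext p
    rw [restrictDom_apply, Finsupp.filter_apply]
    split_ifs with h
    · rfl
    · exact (Finsupp.notMem_support_iff.mp fun hp ↦ h (z.2 hp)).symm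
  have hrb : ∀ w, restrictDom R R (i.s : Set (M × ℕ)) (b w) = 0 := fun w ↦ by
    apply Subtype.ext
    ext p
    rw [restrictDom_apply, Finsupp.filter_apply]
    split_ifs with h
    · refine Finsupp.mapDomain_notin_range w p ?_
      rintro ⟨l, rfl⟩
      exact hts l (Finset.mem_coe.mp h)
    · rfl
  have hcb : ∀ w, c (b w) = w := fun w ↦ by
    ext l
    exact Finsupp.mapDomain_apply ht w l
  let Ψ := Φ.comp (supported R R (s' : Set (M × ℕ))).subtype
  have hΨ : Function.Surjective Ψ := fun w ↦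
    ⟨⟨b w, supported_mono (by simp [s']) (hbsupp w)⟩, by simp [Ψ, Φ, hrb, hcb]⟩
  have hker : j.K.comap (supported R R (j.s : Set (M × ℕ))).subtype = LinearMap.ker Ψ := by
    ext ⟨z, hz⟩
    simp only [Submodule.mem_comap, Submodule.coe_subtype, LinearMap.mem_ker]
    constructor
    · rintro ⟨w, rfl⟩
      simp [Ψ, Φ, D, hrS, hrb, hcb, hcS w.1 w.2]
    · intro h
      let w : S := restrictDom R R (i.s : Set (M × ℕ)) z
      have hdec : z = (w : (M × ℕ) →₀ R) + b (c z) := by
        ext p
        by_cases hp : p ∈ i.s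
        · have : b (c z) p = 0 := Finsupp.mapDomain_notin_range _ p
            (fun ⟨l, hl⟩ ↦ hts l (hl ▸ hp))
          simp [w, Finsupp.add_apply, this, hp]
        · by_cases hpt : ∃ l, t l = p
          · obtain ⟨l, rfl⟩ := hpt
            simp [w, b, c, hp, Finsupp.mapDomain_apply ht]
          · have h1 : b (c z) p = 0 := Finsupp.mapDomain_notin_range _ p (by simpa using hpt)
            have h2 : z p = 0 := Finsupp.notMem_support_iff.mp fun hzp ↦ by
              have := hz hzp
              simp only [s', j, Finset.coe_union, Finset.coe_image, Finset.coe_univ, Set.image_univ,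
                Set.mem_union, Finset.mem_coe, Set.mem_range] at this
              rcases this with h | h
              · exact hp h
              · exact hpt h
            simp [w, Finsupp.add_apply, Finsupp.filter_apply, h1, h2, hp]
      refine ⟨w, ?_⟩
      have hz0 : a w + c z = 0 := h
      have hcz : c z = -a w := eq_neg_of_add_eq_zero_right hz0
      rw [hdec, hcz, map_neg]
      simp [D, sub_eq_add_neg]
  exact Module.Free.of_equiv
    ((Submodule.quotEquivOfEq _ _ hker).trans (Ψ.quotKerEquivOfSurjective hΨ)).symm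

theorem exists_directLimit (Q : Idx R M → Prop) (hQ : ∀ i, ∃ j, i ≤ j ∧ Q j)
    [DecidableEq {i // Q i}] :
    Nonempty (colimit (ModuleCat.directLimitDiagram (R := R)
      (fun i : {i // Q i} ↦ G i.1) (fun i j h ↦ f i.1 j.1 h)) ≅ ModuleCat.of R M) :=
  ⟨(colimit.isColimit _).coconePointUniqueUpToIso (ModuleCat.directLimitIsColimit _ _) ≪≫
    (LinearEquiv.ofBijective _ (bijective_desc Q hQ)).toModuleIso⟩

theorem flat_of_colimit_free {J : Type u} [Preorder J] [IsDirected J (· ≤ ·)] [Nonempty J]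
    (F : J ⥤ ModuleCat.{u} R) (hF : ∀ j, Module.Finite R (F.obj j) ∧ Module.Free R (F.obj j))
    (e : colimit F ≅ ModuleCat.of R M) : Module.Flat R M := by
  classical
  haveI : Module.Flat R (colimit F : ModuleCat.{u} R) := by
    refine Module.Flat.of_forall_exists_factorization fun {l f x} hx ↦ ?_
    choose jj yy hyy using fun a : Fin l ↦ Concrete.colimit_exists_rep F (x (Finsupp.single a 1))
    obtain ⟨j, hj⟩ := Finset.exists_le (Finset.univ.image jj)
    let x' : (Fin l →₀ R) →ₗ[R] F.obj j := Finsupp.linearCombination R fun a ↦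
      F.map (homOfLE (hj (jj a) (Finset.mem_image_of_mem _ (Finset.mem_univ a)))) (yy a)
    have hx' : ∀ z, colimit.ι F j (x' z) = x z := by
      intro z
      show ((colimit.ι F j).hom.comp x') z = x z
      congr 1
      refine Finsupp.lhom_ext' fun a ↦ LinearMap.ext_ring ?_
      show colimit.ι F j (x' (Finsupp.single a 1)) = x (Finsupp.single a 1)
      simp only [x', Finsupp.linearCombination_single, one_smul]
      rw [colimit.w_apply, hyy]
    obtain ⟨i, hji, h0⟩ : ∃ (i : J) (h : j ⟶ i), F.map h (x' f) = 0 := by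
      obtain ⟨i, g₁, g₂, hg⟩ := Concrete.colimit_exists_of_rep_eq F (x' f) (0 : F.obj j)
        (by rw [hx', hx, map_zero])
      exact ⟨i, g₁, by simpa using hg⟩
    haveI := (hF i).1
    haveI := (hF i).2
    let bas := (Module.Free.chooseBasis R (F.obj i)).reindex (Fintype.equivFin _)
    refine ⟨_, bas.repr.toLinearMap.comp ((F.map hji).hom.comp x'),
      (colimit.ι F i).hom.comp bas.repr.symm.toLinearMap, ?_, ?_⟩
    · refine LinearMap.ext fun z ↦ ?_
      simp only [LinearMap.comp_apply, LinearEquiv.coe_coe, LinearEquiv.symm_apply_apply]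
      rw [← hx' z]
      exact (colimit.w_apply F hji (x' z)).symm
    · simp [h0]
  exact Module.Flat.of_linearEquiv e.toLinearEquiv.symm

theorem finitePresentation_of_retract {P : Type u} [AddCommGroup P] [Module R P]
    [Module.FinitePresentation R P] (s : M →ₗ[R] P) (p : P →ₗ[R] M) (h : p.comp s = LinearMap.id) :
    Module.FinitePresentation R M := by
  have hps : ∀ z, p (s z) = z := LinearMap.congr_fun h
  refine Module.finitePresentation_of_surjective p (fun z ↦ ⟨s z, hps z⟩) ?_
  have : LinearMap.ker p = LinearMap.range (LinearMap.id - s.comp p) := by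
    ext z
    refine ⟨fun hz ↦ ⟨z, by simp [LinearMap.mem_ker.mp hz]⟩, ?_⟩
    rintro ⟨w, rfl⟩
    simp [hps]
  rw [this]
  exact Module.Finite.iff_fg.mp inferInstance

theorem finitePresentation_of_post_surjective
    (h : ∀ (J : Type u) [SmallCategory J] [IsFiltered J] (F : J ⥤ ModuleCat.{u} R),
      Function.Surjective (colimit.post F (coyoneda.obj (Opposite.op (ModuleCat.of R M))))) :
    Module.FinitePresentation R M := by
  classical
  haveI := isDirected_sub (fun _ : Idx R M ↦ True) (fun i ↦ ⟨i, le_rfl, trivial⟩)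
  haveI := nonempty_sub (fun _ : Idx R M ↦ True) (fun i ↦ ⟨i, le_rfl, trivial⟩)
  obtain ⟨e⟩ := exists_directLimit (R := R) (M := M) (fun _ ↦ True) (fun i ↦ ⟨i, le_rfl, trivial⟩)
  obtain ⟨z, hz⟩ := h _ _ e.inv
  obtain ⟨i, s, rfl⟩ := Types.jointly_surjective' z
  have hs : s ≫ colimit.ι _ i = e.inv :=
    ((congrArg (fun φ ↦ φ s) (colimit.ι_post (ModuleCat.directLimitDiagram (R := R)
      (fun i : {i : Idx R M // True} ↦ G i.1) (fun i j h ↦ f i.1 j.1 h))
      (coyoneda.obj (Opposite.op (ModuleCat.of R M))) i)).symm.trans hz)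
  refine @finitePresentation_of_retract R _ M _ _ (G i.1) _ _ (finitePresentation_G i.1) s.hom
    ((colimit.ι _ i) ≫ e.hom).hom ?_
  have : s ≫ colimit.ι _ i ≫ e.hom = 𝟙 _ := by rw [← Category.assoc, hs, Iso.inv_hom_id]
  exact congrArg ModuleCat.Hom.hom this

/-- Quotients by finitely generated submodules. -/
noncomputable def quotDiagram : {N : Submodule R M // N.FG} ⥤ ModuleCat.{u} R where
  obj N := ModuleCat.of R (M ⧸ N.1)
  map {N N'} h := ModuleCat.ofHom (Submodule.mapQ N.1 N'.1 LinearMap.id (fun z hz ↦ h.le hz))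
  map_id N := ModuleCat.hom_ext (Submodule.linearMap_qext _ rfl)
  map_comp _ _ := ModuleCat.hom_ext (Submodule.linearMap_qext _ rfl)

theorem finite_of_post_injective
    (h : ∀ (J : Type u) [SmallCategory J] [IsFiltered J] (F : J ⥤ ModuleCat.{u} R),
      Function.Injective (colimit.post F (coyoneda.obj (Opposite.op (ModuleCat.of R M))))) :
    Module.Finite R M := by
  classical
  let J := {N : Submodule R M // N.FG}
  haveI : IsDirected J (· ≤ ·) := ⟨fun N N' ↦ ⟨⟨N.1 ⊔ N'.1, N.2.sup N'.2⟩,
    (le_sup_left : N.1 ≤ _), (le_sup_right : N'.1 ≤ _)⟩⟩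
  haveI : Nonempty J := ⟨⟨⊥, Submodule.fg_bot⟩⟩
  let F := quotDiagram (R := R) (M := M)
  let H := coyoneda.obj (Opposite.op (ModuleCat.of R M))
  let j₀ : J := ⟨⊥, Submodule.fg_bot⟩
  let q : H.obj (F.obj j₀) := ModuleCat.ofHom (Submodule.mkQ (⊥ : Submodule R M))
  have h0 : q ≫ colimit.ι F j₀ = (0 : ModuleCat.of R M ⟶ F.obj j₀) ≫ colimit.ι F j₀ := by
    apply ModuleCat.hom_ext
    refine LinearMap.ext fun x ↦ ?_
    let j₁ : J := ⟨Submodule.span R {x}, Submodule.fg_span_singleton x⟩
    show colimit.ι F j₀ (Submodule.Quotient.mk x) = colimit.ι F j₀ 0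
    rw [← colimit.w_apply F (homOfLE (bot_le : j₀.1 ≤ j₁.1) : j₀ ⟶ j₁) (Submodule.Quotient.mk x), map_zero]
    have : (F.map (homOfLE (bot_le : j₀.1 ≤ j₁.1) : j₀ ⟶ j₁)) (Submodule.Quotient.mk x) = 0 :=
      (Submodule.Quotient.mk_eq_zero _).mpr (Submodule.mem_span_singleton_self x)
    rw [this, map_zero]
  have h1 : colimit.ι (F ⋙ H) j₀ q = colimit.ι (F ⋙ H) j₀ (0 : ModuleCat.of R M ⟶ F.obj j₀) := by
    apply h J F
    have hp : ∀ v, colimit.post F H (colimit.ι (F ⋙ H) j₀ v) = H.map (colimit.ι F j₀) v :=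
      fun v ↦ congrArg (fun φ ↦ φ v) (colimit.ι_post F H j₀)
    rw [hp, hp]
    exact h0
  obtain ⟨j, g₁, g₂, hg⟩ := (Types.FilteredColimit.colimit_eq_iff (F ⋙ H)).mp h1
  have hj : j.1 = ⊤ := by
    refine eq_top_iff.mpr fun x _ ↦ ?_
    have hg' : (q ≫ F.map g₁).hom x = ((0 : ModuleCat.of R M ⟶ F.obj j₀) ≫ F.map g₂).hom x := by
      exact congrArg (fun φ : ModuleCat.of R M ⟶ F.obj j ↦ φ.hom x) hg
    rw [Limits.zero_comp] at hg'
    exact (Submodule.Quotient.mk_eq_zero _).mp hg'
  exact ⟨hj ▸ j.2⟩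

end Groth.Agent.CAlgSmall.ColimFP
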