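import Mathlib

/-!
# Composition factors counted by lengths of localizations
-/

set_option maxSynthPendingDepth 3

universe u

open Submodule

namespace Groth.Agent.CAlgSmall

variable {R : Type u} [CommRing R] (m : Ideal R) [m.IsMaximal]

/-- Length at the maximal ideal `m`. -/
noncomputable def lenAt (P : Type u) [AddCommGroup P] [Module R P] : ℕ∞ :=
  Module.length (Localization.AtPrime m) (LocalizedModule m.primeCompl P)

theorem lenAt_congr {P Q : Type u} [AddCommGroup P] [Module R P] [AddCommGroup Q] [Module R Q]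
    (e : P ≃ₗ[R] Q) : lenAt m P = lenAt m Q := by
  let F := LocalizedModule.map m.primeCompl e.toLinearMap
  exact LinearEquiv.length_eq (LinearEquiv.ofBijective F
    ⟨LocalizedModule.map_injective m.primeCompl _ e.injective,
      LocalizedModule.map_surjective m.primeCompl _ e.surjective⟩)

theorem lenAt_add {P Q T : Type u} [AddCommGroup P] [Module R P] [AddCommGroup Q] [Module R Q]
    [AddCommGroup T] [Module R T] (f : P →ₗ[R] Q) (g : Q →ₗ[R] T) (hf : Function.Injective f)
    (hg : Function.Surjective g) (h : Function.Exact f g) :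
    lenAt m Q = lenAt m P + lenAt m T :=
  Module.length_eq_add_of_exact _ _ (LocalizedModule.map_injective m.primeCompl f hf)
    (LocalizedModule.map_surjective m.primeCompl g hg) (LocalizedModule.map_exact m.primeCompl f g h)

theorem lenAt_quot_of_ne (n : Ideal R) [n.IsMaximal] (h : n ≠ m) : lenAt m (R ⧸ n) = 0 := by
  obtain ⟨s, hsn, hsm⟩ := SetLike.not_le_iff_exists.mp
    (fun hle ↦ h (‹n.IsMaximal›.eq_of_le (Ideal.IsMaximal.ne_top ‹m.IsMaximal›) hle))
  haveI : Subsingleton (LocalizedModule m.primeCompl (R ⧸ n)) := by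
    rw [LocalizedModule.subsingleton_iff]
    intro z
    obtain ⟨a, rfl⟩ := Ideal.Quotient.mk_surjective z
    exact ⟨s, hsm, (Ideal.Quotient.eq_zero_iff_mem).mpr (n.mul_mem_right a hsn)⟩
  exact Module.length_eq_zero

theorem lenAt_quot_self : lenAt m (R ⧸ m) = 1 := by
  let S := m.primeCompl
  let e : LocalizedModule S (R ⧸ m) := LocalizedModule.mkLinearMap S _ 1
  have he : e ≠ 0 := by
    intro h0
    obtain ⟨⟨s, hs⟩, hse⟩ := (IsLocalizedModule.eq_zero_iff S (LocalizedModule.mkLinearMap S (R ⧸ m))).mp h0
    exact hs ((Ideal.Quotient.eq_zero_iff_mem (a := s) (I := m)).mp (by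
      rw [← mul_one (Ideal.Quotient.mk m s)]; exact hse))
  have hgen : ∀ z : LocalizedModule S (R ⧸ m), z ≠ 0 →
      ∃ c : (Localization.AtPrime m)ˣ, z = (c : Localization.AtPrime m) • e := by
    intro z hz
    obtain ⟨⟨q, s⟩, rfl⟩ := IsLocalizedModule.mk'_surjective S (LocalizedModule.mkLinearMap S (R ⧸ m)) z
    obtain ⟨a, rfl⟩ := Ideal.Quotient.mk_surjective q
    have ha : a ∉ m := fun ha ↦ hz (by
      simp [Ideal.Quotient.eq_zero_iff_mem.mpr ha])
    refine ⟨(IsLocalization.map_units (Localization.AtPrime m) (⟨a, ha⟩ : S)).unit *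
      (IsLocalization.map_units (Localization.AtPrime m) s).unit⁻¹, ?_⟩
    simp only [Function.uncurry]
    rw [IsLocalizedModule.mk'_eq_iff]
    show LocalizedModule.mkLinearMap S _ (Ideal.Quotient.mk m a) = (s : R) • _
    rw [← algebraMap_smul (Localization.AtPrime m) (s : R), smul_smul, Units.val_mul,
      mul_comm, mul_assoc, IsUnit.val_inv_mul, mul_one, IsUnit.unit_spec, algebraMap_smul,
      ← map_smul]
    congr 1
    exact (mul_one _).symm
  haveI : Nontrivial (LocalizedModule S (R ⧸ m)) := ⟨e, 0, he⟩
  rw [lenAt, Module.length_eq_one_iff]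
  refine isSimpleModule_iff_toSpanSingleton_surjective.mpr ⟨inferInstance, fun z hz w ↦ ?_⟩
  obtain ⟨c, rfl⟩ := hgen z hz
  rcases eq_or_ne w 0 with rfl | hw
  · exact ⟨0, by simp⟩
  · obtain ⟨d, rfl⟩ := hgen w hw
    exact ⟨d * ((c⁻¹ : _) : Localization.AtPrime m), by simp [smul_smul, mul_assoc]⟩

theorem card_factors_eq (M : Type u) [AddCommGroup M] [Module R M]
    (s : CompositionSeries (Submodule R M)) (h0 : s.head = ⊥) (h1 : s.last = ⊤) :
    ((Finset.univ.filter fun i : Fin s.length => (s i.castSucc).colon (s i.succ : Set M) = m).card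
      : ℕ∞) = lenAt m M := by
  classical
  have hstep : ∀ i : Fin s.length, lenAt m (s i.succ) = lenAt m (s i.castSucc) +
      (if (s i.castSucc).colon (s i.succ : Set M) = m then 1 else 0) := by
    intro i
    have hcov : s i.castSucc ⋖ s i.succ := s.step i
    have hle : s i.castSucc ≤ s i.succ := hcov.le
    let N := (s i.castSucc).comap (s i.succ).subtype
    rw [lenAt_add m (Submodule.inclusion hle) N.mkQ (Submodule.inclusion_injective hle)
      N.mkQ_surjective (by
        rw [LinearMap.exact_iff, Submodule.ker_mkQ, Submodule.range_inclusion])]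
    congr 1
    haveI : IsSimpleModule R (s i.succ ⧸ N) := (covBy_iff_quot_is_simple hle).mp hcov
    obtain ⟨n, hn, ⟨e⟩⟩ := isSimpleModule_iff_quot_maximal.mp ‹IsSimpleModule R (s i.succ ⧸ N)›
    haveI := hn
    have hcolon : (s i.castSucc).colon (s i.succ : Set M) = n := by
      rw [← Ideal.annihilator_quotient (I := n), ← e.annihilator_eq]
      ext r
      rw [Submodule.mem_colon, Module.mem_annihilator]
      constructor
      · intro h q
        obtain ⟨⟨z, hz⟩, rfl⟩ := N.mkQ_surjective q
        rw [← map_smul]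
        exact (Submodule.Quotient.mk_eq_zero N).mpr (h z hz)
      · intro h z hz
        have h2 := h (N.mkQ ⟨z, hz⟩)
        rw [← map_smul] at h2
        exact (Submodule.Quotient.mk_eq_zero N).mp h2
    rw [lenAt_congr m e, hcolon]
    split_ifs with hnm
    · subst hnm; exact lenAt_quot_self n
    · exact lenAt_quot_of_ne m n hnm
  have key : ∀ j : ℕ, (hj : j ≤ s.length) → lenAt m (s ⟨j, Nat.lt_succ_of_le hj⟩) =
      ((Finset.univ.filter fun i : Fin s.length => (i : ℕ) < j ∧
        (s i.castSucc).colon (s i.succ : Set M) = m).card : ℕ∞) := by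
    intro j
    induction j with
    | zero =>
      intro _
      simp only [Nat.not_lt_zero, false_and, Finset.filter_false, Finset.card_empty, Nat.cast_zero]
      haveI : Subsingleton (LocalizedModule m.primeCompl (s ⟨0, Nat.succ_pos _⟩)) := by
        haveI : Subsingleton (s ⟨0, Nat.succ_pos _⟩) :=
          (Submodule.subsingleton_iff_eq_bot).mpr h0
        infer_instance
      exact Module.length_eq_zero
    | succ j ih =>
      intro hj
      have h := hstep ⟨j, hj⟩
      rw [show (⟨j, hj⟩ : Fin s.length).succ = ⟨j + 1, Nat.lt_succ_of_le hj⟩ from rfl,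
        show (⟨j, hj⟩ : Fin s.length).castSucc = ⟨j, Nat.lt_succ_of_le (Nat.le_of_succ_le hj)⟩ from rfl,
        ih (Nat.le_of_succ_le hj)] at h
      rw [h]
      have hset : (Finset.univ.filter fun i : Fin s.length => (i : ℕ) < j + 1 ∧
          (s i.castSucc).colon (s i.succ : Set M) = m) =
        (Finset.univ.filter fun i : Fin s.length => (i : ℕ) < j ∧
          (s i.castSucc).colon (s i.succ : Set M) = m) ∪
        (({⟨j, hj⟩} : Finset (Fin s.length)).filter fun i ↦
          (s i.castSucc).colon (s i.succ : Set M) = m) := by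
        ext i
        simp only [Finset.mem_filter, Finset.mem_univ, true_and, Finset.mem_union,
          Finset.mem_singleton, Fin.ext_iff]
        grind
      rw [hset, Finset.card_union_of_disjoint]
      · push_cast
        congr 1
        rw [Finset.filter_singleton]
        split_ifs with h1 h2 h2 <;> simp_all
      · rw [Finset.disjoint_left]
        intro i hi hi'
        simp only [Finset.mem_filter, Finset.mem_singleton] at hi hi'
        rw [hi'.1] at hi
        exact lt_irrefl _ hi.2.1
  have := key s.length le_rfl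
  rw [show s ⟨s.length, Nat.lt_succ_self _⟩ = ⊤ from h1, lenAt_congr m Submodule.topEquiv] at this
  rw [this]
  congr 2
  ext i
  simp [i.2]

end Groth.Agent.CAlgSmall
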