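import Mathlib

/-!
# Comparison theorem: projective complex into a resolved object
-/

universe v u

open CategoryTheory CategoryTheory.Limits HomologicalComplex

namespace Groth.Agent.CAlgSmall.Comparison

variable {C : Type u} [Category.{v} C] [Abelian C] {M N : C}
  {F Q : ChainComplex C ℕ} (εF : F ⟶ (ChainComplex.single₀ C).obj M)
  (εQ : Q ⟶ (ChainComplex.single₀ C).obj N) [QuasiIso εQ]

include εQ in
theorem exact_succ (n : ℕ) : (ShortComplex.mk _ _ (Q.d_comp_d (n + 2) (n + 1) n)).Exact := by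
  have h : Q.ExactAt (n + 1) := by
    rw [← quasiIsoAt_iff_exactAt' εQ (n + 1) (ChainComplex.exactAt_succ_single_obj _ _)]
    infer_instance
  exact ((HomologicalComplex.exactAt_iff' _ (n + 2) (n + 1) n) (by simp) (by simp)).1 h

omit [QuasiIso εQ] in
theorem d_comp_f_zero : Q.d 1 0 ≫ εQ.f 0 = 0 := by
  rw [← εQ.comm 1 0]
  exact comp_zero

set_option backward.isDefEq.respectTransparency.types false in
set_option backward.defeqAttrib.useBackward true in
noncomputable def isColimitCofork :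
    IsColimit (CokernelCofork.ofπ (εQ.f 0) (d_comp_f_zero εQ)) := by
  refine IsColimit.ofIsoColimit (Q.opcyclesIsCokernel 1 0 (by simp)) ?_
  refine Cofork.ext (Q.isoHomologyι₀.symm ≪≫ isoOfQuasiIsoAt εQ 0 ≪≫
    singleObjHomologySelfIso _ _ _) ?_
  rw [← cancel_mono (singleObjHomologySelfIso (ComplexShape.down ℕ) 0 _).inv,
    ← cancel_mono (ChainComplex.isoHomologyι₀ _).hom]
  dsimp
  simp only [ChainComplex.isoHomologyι₀_inv_naturality_assoc, p_opcyclesMap_assoc, ChainComplex.single₀_obj_zero,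
    Category.assoc, Iso.hom_inv_id, Category.comp_id, isoHomologyι_inv_hom_id,
    singleObjHomologySelfIso_inv_homologyι, singleObjOpcyclesSelfIso_hom, ChainComplex.single₀ObjXSelf,
    Iso.refl_inv, Category.id_comp]

theorem exact₀ : (ShortComplex.mk _ _ (d_comp_f_zero εQ)).Exact :=
  ShortComplex.exact_of_g_is_cokernel _ (isColimitCofork εQ)

variable [∀ n, Projective (F.X n)]

include εQ in
set_option backward.isDefEq.respectTransparency false in
theorem exists_lift (g : M ⟶ N) :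
    ∃ φ : F ⟶ Q, φ ≫ εQ = εF ≫ (ChainComplex.single₀ C).map g := by
  haveI : Epi (εQ.f 0) := epi_of_isColimit_cofork (isColimitCofork εQ)
  let f0 : F.X 0 ⟶ Q.X 0 := Projective.factorThru (εF.f 0 ≫ g) (εQ.f 0)
  have hf0 : f0 ≫ εQ.f 0 = εF.f 0 ≫ g := Projective.factorThru_comp _ _
  let f1 : F.X 1 ⟶ Q.X 1 := (exact₀ εQ).liftFromProjective (F.d 1 0 ≫ f0) (by
    show (F.d 1 0 ≫ f0) ≫ εQ.f 0 = 0
    rw [Category.assoc, hf0, reassoc_of% (d_comp_f_zero εF)]
    simp)
  have hf1 : f1 ≫ Q.d 1 0 = F.d 1 0 ≫ f0 := (exact₀ εQ).liftFromProjective_comp _ _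
  let φ : F ⟶ Q := ChainComplex.mkHom _ _ f0 f1 hf1 fun n ⟨a, b, w⟩ ↦
    ⟨(exact_succ εQ n).liftFromProjective (F.d (n + 2) (n + 1) ≫ b) (by simp [w]),
      (exact_succ εQ n).liftFromProjective_comp _ _⟩
  refine ⟨φ, ?_⟩
  ext
  simpa [φ] using hf0

include εQ in
theorem nonempty_homotopy {α β : F ⟶ Q} (h : α ≫ εQ = β ≫ εQ) : Nonempty (Homotopy α β) := by
  let f := α - β
  have comm : f.f 0 ≫ εQ.f 0 = 0 := by
    have := HomologicalComplex.congr_hom h 0
    simp only [HomologicalComplex.comp_f] at this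
    show (α.f 0 - β.f 0) ≫ εQ.f 0 = 0
    exact (Preadditive.sub_comp _ _ _).trans (sub_eq_zero.mpr this)
  let s0 : F.X 0 ⟶ Q.X 1 := (exact₀ εQ).liftFromProjective (f.f 0) comm
  have hs0 : s0 ≫ Q.d 1 0 = f.f 0 := (exact₀ εQ).liftFromProjective_comp _ _
  let s1 : F.X 1 ⟶ Q.X 2 := (exact_succ εQ 0).liftFromProjective (f.f 1 - F.d 1 0 ≫ s0) (by
    show (f.f 1 - F.d 1 0 ≫ s0) ≫ Q.d 1 0 = 0
    rw [Preadditive.sub_comp, Category.assoc, hs0, HomologicalComplex.Hom.comm, sub_self])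
  have hs1 : s1 ≫ Q.d 2 1 = f.f 1 - F.d 1 0 ≫ s0 := (exact_succ εQ 0).liftFromProjective_comp _ _
  let H : Homotopy f 0 := Homotopy.mkInductive _ s0 (by simp [hs0]) s1 (by simp [hs1])
    fun n ⟨a, b, w⟩ ↦ ⟨(exact_succ εQ (n + 1)).liftFromProjective
      (f.f (n + 2) - F.d _ _ ≫ b) (by simp [w]), by
      simp [(exact_succ εQ (n + 1)).liftFromProjective_comp]⟩
  exact ⟨Homotopy.equivSubZero.invFun H⟩

end Groth.Agent.CAlgSmall.Comparison
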