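import Mathlib

/-!
# A criterion for discrete valuation rings
-/

set_option autoImplicit false
set_option maxHeartbeats 800000

universe u

open IsLocalRing Polynomial

namespace Groth.Agent.CAlgSmall.DVRCriterion

/-- A Noetherian local ring with a nonzerodivisor `t` in the maximal ideal, only prime containing it,
such that `a/t` integral implies `t ∣ a`, is a DVR. -/
theorem isDVR_of_integrallyClosed_at {S : Type u} [CommRing S] [IsNoetherianRing S] [IsLocalRing S]
    (t : S) (htm : t ∈ maximalIdeal S) (ht : ∀ y, t * y = 0 → y = 0)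
    (honly : ∀ Q : Ideal S, Q.IsPrime → t ∈ Q → Q = maximalIdeal S)
    (hcl : ∀ (a : S) (p : S[X]), p.Monic → (p.scaleRoots t).eval a = 0 → t ∣ a) :
    ∃ _ : IsDomain S, IsDiscreteValuationRing S := by
  classical
  have hnu : ¬ IsUnit t := (mem_maximalIdeal t).1 htm
  let T := Ideal.span {t}
  have hle : maximalIdeal S ≤ T.radical := by
    rw [Ideal.radical_eq_sInf]
    exact le_sInf fun Q ⟨hQ, hQp⟩ => (honly Q hQp (hQ (Ideal.mem_span_singleton_self t))).ge
  obtain ⟨k, hk⟩ := Ideal.exists_pow_le_of_le_radical_of_fg_radical hle (IsNoetherian.noetherian _)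
  have hex : ∃ k, maximalIdeal S ^ k ≤ T := ⟨k, hk⟩
  have hk0 : Nat.find hex ≠ 0 := fun h => by
    have := Nat.find_spec hex
    rw [h, pow_zero, Ideal.one_eq_top] at this
    exact hnu (Ideal.span_singleton_eq_top.1 (top_le_iff.1 this))
  obtain ⟨k0, hk0'⟩ := Nat.exists_eq_succ_of_ne_zero hk0
  obtain ⟨a, ha, haT⟩ := SetLike.not_le_iff_exists.1 (Nat.find_min hex (show k0 < Nat.find hex by omega))
  have hma : ∀ y ∈ maximalIdeal S, t ∣ a * y := fun y hy => Ideal.mem_span_singleton.1
    (Nat.find_spec hex (by rw [hk0', pow_succ]; exact Ideal.mul_mem_mul ha hy))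
  choose r hr using hma
  obtain ⟨x, hx, u, hu⟩ : ∃ x ∈ maximalIdeal S, ∃ u : Sˣ, a * x = t * u := by
    by_contra hno
    push Not at hno
    have hmem : ∀ y (hy : y ∈ maximalIdeal S), r y hy ∈ maximalIdeal S := fun y hy => by
      rw [mem_maximalIdeal]
      intro hun
      exact hno y hy hun.unit (hr y hy)
    let φ : Module.End S (maximalIdeal S) :=
      { toFun := fun y => ⟨r y.1 y.2, hmem y.1 y.2⟩
        map_add' := fun y z => by
          refine Subtype.ext (sub_eq_zero.1 (ht _ ?_))
          show t * (r (y.1 + z.1) _ - (r y.1 _ + r z.1 _)) = 0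
          rw [mul_sub, mul_add, ← hr, ← hr, ← hr]; ring
        map_smul' := fun c y => by
          refine Subtype.ext (sub_eq_zero.1 (ht _ ?_))
          show t * (r (c * y.1) _ - c * r y.1 _) = 0
          rw [mul_sub, mul_left_comm t c, ← hr, ← hr]; ring }
    obtain ⟨p, hp, hpφ⟩ := LinearMap.exists_monic_and_aeval_eq_zero S φ
    have hpow : ∀ i y, t ^ i * ((φ ^ i) y).1 = a ^ i * y.1 := by
      intro i
      induction i with
      | zero => intro y; simp
      | succ i ih =>
        intro y
        rw [pow_succ φ, Module.End.mul_apply, pow_succ, mul_comm (t ^ i) t, mul_assoc, ih]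
        show t * (a ^ i * r y.1 y.2) = _
        rw [mul_left_comm, ← hr]; ring
    have h0 : ((aeval φ p) ⟨t, htm⟩).1 = 0 := by rw [hpφ]; rfl
    have h1 : (p.scaleRoots t).eval a * t = 0 := by
      rw [eval_eq_sum_range, natDegree_scaleRoots, Finset.sum_mul]
      rw [aeval_eq_sum_range, LinearMap.sum_apply, AddSubmonoidClass.coe_finsetSum] at h0
      have h2 := congrArg (fun z => t ^ p.natDegree * z) h0
      simp only [mul_zero, Finset.mul_sum] at h2
      rw [← h2]
      refine Finset.sum_congr rfl fun i hi => ?_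
      have hin : i ≤ p.natDegree := Nat.lt_succ_iff.1 (Finset.mem_range.1 hi)
      rw [coeff_scaleRoots, LinearMap.smul_apply]
      show _ = t ^ p.natDegree * (p.coeff i * ((φ ^ i) ⟨t, htm⟩).1)
      conv_rhs => rw [← Nat.sub_add_cancel hin, pow_add]
      calc _ = p.coeff i * t ^ (p.natDegree - i) * (a ^ i * t) := by ring
        _ = p.coeff i * t ^ (p.natDegree - i) * (t ^ i * ((φ ^ i) ⟨t, htm⟩).1) := by rw [hpow i ⟨t, htm⟩]
        _ = _ := by ring
    exact haT (Ideal.mem_span_singleton.2 (hcl a p hp (ht _ (by rw [mul_comm]; exact h1))))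
  have hxnzd : ∀ y, x * y = 0 → y = 0 := fun y hy => ht y ((Units.mul_left_eq_zero u).1
    (show t * y * u = 0 by rw [mul_right_comm, ← hu, mul_assoc, hy, mul_zero]))
  have hmax : maximalIdeal S = Ideal.span {x} := by
    refine le_antisymm (fun y hy => Ideal.mem_span_singleton.2 ?_) ((Ideal.span_singleton_le_iff_mem _).2 hx)
    refine ⟨r y hy * ↑u⁻¹, sub_eq_zero.1 (ht _ ?_)⟩
    have h1 : t * y * u = x * (t * r y hy) := by rw [mul_right_comm, ← hu, ← hr]; ring
    have h2 : t * y = x * (t * r y hy) * ↑u⁻¹ := by rw [← h1]; simp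
    rw [mul_sub, h2]; ring
  have hdec : ∀ y : S, y ≠ 0 → ∃ (n : ℕ) (w : Sˣ), y = x ^ n * w := by
    intro y hy
    have hex : ∃ n, ¬ x ^ n ∣ y := by
      by_contra hall
      push Not at hall
      refine hy ?_
      have h1 : y ∈ ⨅ i : ℕ, maximalIdeal S ^ i := Submodule.mem_iInf _ |>.2 fun i => by
        rw [hmax, Ideal.span_singleton_pow]; exact Ideal.mem_span_singleton.2 (hall i)
      rwa [Ideal.iInf_pow_eq_bot_of_isLocalRing (I := maximalIdeal S) (maximalIdeal.isMaximal S).ne_top] at h1
    have h0 : Nat.find hex ≠ 0 := fun h => by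
      have := Nat.find_spec hex; rw [h, pow_zero] at this; exact this (one_dvd y)
    obtain ⟨n, hn⟩ := Nat.exists_eq_succ_of_ne_zero h0
    obtain ⟨w, hw⟩ := not_not.1 (Nat.find_min hex (show n < Nat.find hex by omega))
    have hwu : IsUnit w := by
      refine of_not_not fun hwn => Nat.find_spec hex ?_
      have : w ∈ maximalIdeal S := (mem_maximalIdeal w).2 hwn
      rw [hmax, Ideal.mem_span_singleton] at this
      rw [hn, pow_succ, hw]
      exact mul_dvd_mul_left _ this
    exact ⟨n, hwu.unit, hw⟩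
  have hpownzd : ∀ n y, x ^ n * y = 0 → y = 0 := by
    intro n
    induction n with
    | zero => intro y h; simpa using h
    | succ n ih => intro y h; exact hxnzd y (ih _ (by rw [← mul_assoc, ← pow_succ]; exact h))
  haveI : NoZeroDivisors S := ⟨fun {y z} h => by
    by_contra hc
    push Not at hc
    obtain ⟨n, w, rfl⟩ := hdec y hc.1
    exact hc.2 ((Units.mul_right_eq_zero w).1 (hpownzd n _ (by rw [← mul_assoc, ← h])))⟩
  haveI hdom : IsDomain S := NoZeroDivisors.to_isDomain S
  refine ⟨hdom, ?_⟩
  have hnf : ¬ IsField S := fun hF => by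
    have h0 := isField_iff_maximalIdeal_eq.1 hF
    rw [h0, Ideal.mem_bot] at htm
    exact one_ne_zero (ht 1 (by rw [htm, zero_mul]))
  exact ((IsDiscreteValuationRing.TFAE S hnf).out 4 0).1 (⟨⟨x, hmax⟩⟩ : (maximalIdeal S).IsPrincipal)

/-- Being integrally closed in an algebra passes to a localisation. -/
theorem dvd_of_localization {R B : Type u} [CommRing R] [CommRing B] [Algebra R B]
    (hinj : Function.Injective (algebraMap R B))
    (hic : ∀ b : B, IsIntegral R b → b ∈ Set.range (algebraMap R B))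
    (P : Ideal R) [P.IsPrime] {S : Type u} [CommRing S] [Algebra R S] [IsLocalization.AtPrime S P]
    (t u : R) (hu : u ∉ P) (hdvd : algebraMap R B t ∣ algebraMap R B u)
    (a : S) (p : S[X]) (hp : p.Monic) (he : (p.scaleRoots (algebraMap R S t)).eval a = 0) :
    algebraMap R S t ∣ a := by
  let M := Algebra.algebraMapSubmonoid B P.primeCompl
  let L := Localization M
  let φ : S →+* L := IsLocalization.map L (algebraMap R B) (M := P.primeCompl) (T := M)
    (fun y hy => Submonoid.mem_map_of_mem _ hy)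
  letI : Algebra S L := φ.toAlgebra
  haveI hLmap : IsLocalization (Submonoid.map (algebraMap R B) P.primeCompl) L := (inferInstance : IsLocalization M L)
  haveI : IsScalarTower R S L := IsScalarTower.of_algebraMap_eq fun r => by
    rw [IsScalarTower.algebraMap_apply R B L]
    exact (IsLocalization.map_eq _ r).symm
  have hφinj : Function.Injective φ := IsLocalization.map_injective_of_injective _ _ _ hinj
  obtain ⟨c, hc⟩ := hdvd
  have huL : IsUnit (algebraMap B L (algebraMap R B u)) :=
    IsLocalization.map_units L (⟨_, Submonoid.mem_map_of_mem _ hu⟩ : M)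
  have htL : IsUnit (algebraMap R L t) := by
    rw [IsScalarTower.algebraMap_apply R B L]
    rw [hc, map_mul] at huL
    exact isUnit_of_mul_isUnit_left huL
  obtain ⟨t', ht'⟩ := htL
  let x : L := φ a * ↑t'⁻¹
  have hfac : φ a = algebraMap S L (algebraMap R S t) * x := by
    rw [← IsScalarTower.algebraMap_apply R S L, ← ht', mul_left_comm, Units.mul_inv, mul_one]
  have hxint : IsIntegral S x := by
    refine ⟨p, hp, ?_⟩
    have h1 : eval₂ (algebraMap S L) (φ a) (p.scaleRoots (algebraMap R S t)) = 0 := by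
      show eval₂ φ (φ a) _ = 0
      rw [eval₂_at_apply, he, map_zero]
    rw [hfac, scaleRoots_eval₂_mul] at h1
    have hunit : IsUnit (algebraMap S L (algebraMap R S t)) := by
      rw [← IsScalarTower.algebraMap_apply R S L, ← ht']; exact t'.isUnit
    exact ((hunit.pow _).mul_right_eq_zero).1 h1
  obtain ⟨⟨m, hm⟩, hmx⟩ := IsIntegral.exists_multiple_integral_of_isLocalization P.primeCompl x hxint
  obtain ⟨b, ⟨w, hwM⟩, hbw⟩ := IsLocalization.exists_mk'_eq M x
  obtain ⟨w0, hw0, rfl⟩ := hwM
  have hbint : IsIntegral R (algebraMap B L (algebraMap R B m * b)) := by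
    have h1 : algebraMap B L (algebraMap R B m * b) = algebraMap R L w0 * (m • x) := by
      rw [Algebra.smul_def, map_mul, ← IsScalarTower.algebraMap_apply R B L, mul_left_comm]
      congr 1
      rw [IsScalarTower.algebraMap_apply R B L, ← hbw, mul_comm]
      exact (IsLocalization.mk'_spec L b ⟨algebraMap R B w0, _⟩).symm
    rw [h1]
    exact isIntegral_algebraMap.mul hmx
  obtain ⟨q, hq, hqb⟩ := hbint
  have h2 : algebraMap B L (aeval (algebraMap R B m * b) q) = 0 := by
    rw [← aeval_algebraMap_apply, aeval_def]; exact hqb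
  obtain ⟨⟨v', v, hv, rfl⟩, hv'⟩ := (IsLocalization.map_eq_zero_iff M L _).1 h2
  have hint : IsIntegral R (algebraMap R B v * (algebraMap R B m * b)) := by
    haveI : Nontrivial R := ⟨⟨0, 1, fun h => ‹P.IsPrime›.ne_top ((Ideal.eq_top_iff_one _).2 (h ▸ zero_mem P))⟩⟩
    refine ⟨(q * X).scaleRoots v, (monic_scaleRoots_iff v).2 (hq.mul monic_X), ?_⟩
    rw [scaleRoots_eval₂_mul, eval₂_mul, eval₂_X, ← aeval_def, natDegree_mul_X hq.ne_zero, pow_succ]
    calc _ = algebraMap R B v ^ q.natDegree * (algebraMap R B v * aeval (algebraMap R B m * b) q) *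
          (algebraMap R B m * b) := by ring
      _ = 0 := by rw [hv', mul_zero, zero_mul]
  obtain ⟨r, hr⟩ := hic _ hint
  refine ⟨IsLocalization.mk' S r (⟨v, hv⟩ * ⟨m, hm⟩ * ⟨w0, hw0⟩ : P.primeCompl), hφinj ?_⟩
  rw [map_mul, hfac]
  show _ = algebraMap S L (algebraMap R S t) * _
  congr 1
  rw [IsLocalization.map_mk', ← hbw]
  refine IsLocalization.mk'_eq_of_eq ?_
  show algebraMap R B w0 * algebraMap R B r = algebraMap R B _ * b
  rw [hr]
  simp only [Submonoid.coe_mul, map_mul]
  ring

end Groth.Agent.CAlgSmall.DVRCriterion
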