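import Mathlib
import Groth.Agent.EGA43.GenFree

/-!
# Uniform degree bounds over all fields: parameters by Noetherian induction, kernels of polynomial
matrices (Hermann's bound for syzygies, existence form).
-/

universe u

open MvPolynomial TensorProduct

namespace Groth.Agent.CAlgSmall.DegBound

set_option backward.isDefEq.respectTransparency.types false

/-- Noetherian induction over a parameter ring. -/
theorem exists_bound_of_generic {A : Type u} [CommRing A] [IsNoetherianRing A]
    (Pk : ∀ (k : Type u) [Field k], (A →+* k) → ℕ → Prop)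
    (mono : ∀ (k : Type u) [Field k] (φ : A →+* k) (R R' : ℕ), R ≤ R' → Pk k φ R → Pk k φ R')
    (gen : ∀ P : Ideal A, P.IsPrime → ∃ f : A, f ∉ P ∧ ∃ R : ℕ, ∀ (k : Type u) [Field k] (φ : A →+* k),
      (∀ x ∈ P, φ x = 0) → φ f ≠ 0 → Pk k φ R) :
    ∃ R : ℕ, ∀ (k : Type u) [Field k] (φ : A →+* k), Pk k φ R := by
  suffices h : ∀ I : Ideal A, ∃ R : ℕ, ∀ (k : Type u) [Field k] (φ : A →+* k),
      (∀ x ∈ I, φ x = 0) → Pk k φ R by
    obtain ⟨R, hR⟩ := h ⊥
    exact ⟨R, fun k _ φ => hR k φ fun x hx => by simp [Submodule.mem_bot _ |>.1 hx]⟩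
  intro I
  induction I using WellFoundedGT.induction with
  | _ I ih =>
    by_cases htop : I = ⊤
    · refine ⟨0, fun k _ φ hφ => absurd (hφ 1 (htop ▸ Submodule.mem_top)) (by simp)⟩
    by_cases hI : I.IsPrime
    · obtain ⟨f, hf, R₁, hR₁⟩ := gen I hI
      have hlt : I < I ⊔ Ideal.span {f} :=
        lt_of_le_of_ne le_sup_left fun he => hf (he ▸ Ideal.mem_sup_right (Ideal.mem_span_singleton_self f))
      obtain ⟨R₂, hR₂⟩ := ih _ hlt
      refine ⟨max R₁ R₂, fun k _ φ hφ => ?_⟩
      by_cases h : φ f = 0
      · refine mono k φ R₂ _ (le_max_right _ _) (hR₂ k φ fun x hx => ?_)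
        exact RingHom.mem_ker.1 ((sup_le (a := I) (b := Ideal.span {f}) (c := RingHom.ker φ) (fun y hy => hφ y hy)
          ((Ideal.span_singleton_le_iff_mem _).2 h)) hx)
      · exact mono k φ R₁ _ (le_max_left _ _) (hR₁ k φ hφ h)
    · obtain h | ⟨a, ha, b, hb, hab⟩ := Ideal.not_isPrime_iff.1 hI
      · exact absurd h htop
      have hla : I < I ⊔ Ideal.span {a} :=
        lt_of_le_of_ne le_sup_left fun he => ha (he ▸ Ideal.mem_sup_right (Ideal.mem_span_singleton_self a))
      have hlb : I < I ⊔ Ideal.span {b} :=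
        lt_of_le_of_ne le_sup_left fun he => hb (he ▸ Ideal.mem_sup_right (Ideal.mem_span_singleton_self b))
      obtain ⟨R₁, hR₁⟩ := ih _ hla
      obtain ⟨R₂, hR₂⟩ := ih _ hlb
      refine ⟨max R₁ R₂, fun k _ φ hφ => ?_⟩
      have h0 : φ a * φ b = 0 := by rw [← map_mul]; exact hφ _ hab
      rcases mul_eq_zero.1 h0 with h | h
      · refine mono k φ R₁ _ (le_max_left _ _) (hR₁ k φ fun x hx => ?_)
        exact RingHom.mem_ker.1 ((sup_le (a := I) (b := Ideal.span {a}) (c := RingHom.ker φ) (fun y hy => hφ y hy)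
          ((Ideal.span_singleton_le_iff_mem _).2 h)) hx)
      · refine mono k φ R₂ _ (le_max_right _ _) (hR₂ k φ fun x hx => ?_)
        exact RingHom.mem_ker.1 ((sup_le (a := I) (b := Ideal.span {b}) (c := RingHom.ker φ) (fun y hy => hφ y hy)
          ((Ideal.span_singleton_le_iff_mem _).2 h)) hx)

/-- Exponents with all entries at most `e`. -/
noncomputable def expo {N e : ℕ} (s : Fin N → Fin (e + 1)) : Fin N →₀ ℕ :=
  Finsupp.equivFunOnFinite.symm fun i => (s i : ℕ)

theorem expo_injective {N e : ℕ} : Function.Injective (expo : (Fin N → Fin (e + 1)) → _) := by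
  intro s t h
  funext i
  have := DFunLike.congr_fun h i
  simpa [expo, Fin.val_inj] using this

theorem eq_sum_expo {N e : ℕ} {k : Type*} [CommSemiring k] (p : MvPolynomial (Fin N) k)
    (hp : p.totalDegree ≤ e) :
    p = ∑ s : Fin N → Fin (e + 1), monomial (expo s) (coeff (expo s) p) := by
  classical
  ext d
  rw [coeff_sum]
  simp only [coeff_monomial]
  by_cases hd : ∃ s : Fin N → Fin (e + 1), expo s = d
  · obtain ⟨s, rfl⟩ := hd
    rw [Finset.sum_eq_single s (fun t _ hts => if_neg fun h => hts (expo_injective h))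
      (fun h => absurd (Finset.mem_univ s) h), if_pos rfl]
  · rw [Finset.sum_eq_zero fun t _ => if_neg fun h => hd ⟨t, h⟩]
    by_contra hne
    apply hd
    have hmem : d ∈ p.support := mem_support_iff.2 fun h => hne h
    have hle : ∀ i, d i ≤ e := fun i => by
      by_cases hi : i ∈ d.support
      · exact ((Finset.single_le_sum (fun j _ => Nat.zero_le (d j)) hi).trans
          (le_totalDegree hmem)).trans hp
      · simp [Finsupp.notMem_support_iff.1 hi]
    exact ⟨fun i => ⟨d i, Nat.lt_succ_of_le (hle i)⟩, by ext i; simp [expo]⟩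

theorem exists_pseudoInverse {S P Q : Type*} [CommRing S] [AddCommGroup P] [Module S P]
    [AddCommGroup Q] [Module S Q] [Module.Projective S Q] (M : P →ₗ[S] Q)
    [Module.Projective S (Q ⧸ LinearMap.range M)] :
    ∃ h : Q →ₗ[S] P, ∀ x, M (h (M x)) = M x := by
  obtain ⟨σ, hσ⟩ := Module.projective_lifting_property (LinearMap.range M).mkQ LinearMap.id
    (Submodule.mkQ_surjective _)
  have hσ' : ∀ c, (LinearMap.range M).mkQ (σ c) = c := fun c => LinearMap.congr_fun hσ c
  let ρ : Q →ₗ[S] LinearMap.range M :=
    (LinearMap.id - σ.comp (LinearMap.range M).mkQ).codRestrict _ fun q => by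
      refine (Submodule.Quotient.mk_eq_zero _).1 ?_
      rw [← Submodule.mkQ_apply]
      simp only [LinearMap.sub_apply, LinearMap.id_coe, id_eq, LinearMap.coe_comp,
        Function.comp_apply, map_sub, hσ', sub_self]
  have hρ : ∀ y : LinearMap.range M, ρ (y : Q) = y := fun y => by
    apply Subtype.ext
    have h0 : (LinearMap.range M).mkQ (y : Q) = 0 := (Submodule.Quotient.mk_eq_zero _).2 y.2
    simp only [ρ, LinearMap.codRestrict_apply, LinearMap.sub_apply, LinearMap.id_coe, id_eq,
      LinearMap.coe_comp, Function.comp_apply, h0, map_zero, sub_zero]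
  haveI : Module.Projective S (LinearMap.range M) :=
    Module.Projective.of_split (LinearMap.range M).subtype ρ (LinearMap.ext hρ)
  obtain ⟨τ, hτ⟩ := Module.projective_lifting_property M.rangeRestrict LinearMap.id
    M.surjective_rangeRestrict
  refine ⟨τ.comp ρ, fun x => ?_⟩
  have h1 := LinearMap.congr_fun hτ (M.rangeRestrict x)
  have h2 : ρ (M x) = M.rangeRestrict x := hρ (M.rangeRestrict x)
  rw [LinearMap.comp_apply, h2]
  exact congrArg Subtype.val h1

variable {N : ℕ}

/-- Coefficientwise base change of a vector of polynomials. -/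
noncomputable def vmap {S k ι : Type*} [CommRing S] [CommRing k] (φ : S →+* k) (v : ι → MvPolynomial (Fin N) S) :
    ι → MvPolynomial (Fin N) k :=
  fun i => MvPolynomial.map φ (v i)

/-- The monomial basis of vectors of polynomials. -/
noncomputable def vbasis (S : Type*) [CommRing S] (ι : Type*) [Fintype ι] :
    Module.Basis (Σ _ : ι, (Fin N →₀ ℕ)) S (ι → MvPolynomial (Fin N) S) :=
  Pi.basis fun _ => MvPolynomial.basisMonomials (Fin N) S

theorem vbasis_apply (S : Type*) [CommRing S] (ι : Type*) [Fintype ι] [DecidableEq ι]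
    (x : Σ _ : ι, (Fin N →₀ ℕ)) :
    vbasis (N := N) S ι x = Pi.single x.1 (monomial x.2 1) := by
  simp [vbasis, Pi.basis_apply]

theorem vmap_vbasis {S k : Type*} [CommRing S] [CommRing k] (φ : S →+* k) (ι : Type*) [Fintype ι]
    (x : Σ _ : ι, (Fin N →₀ ℕ)) : vmap φ (vbasis S ι x) = vbasis k ι x := by
  classical
  funext i
  rw [vbasis_apply, vbasis_apply]
  by_cases h : i = x.1
  · subst h; simp [vmap]
  · simp [vmap, Pi.single_eq_of_ne h]

theorem vmap_add {S k ι : Type*} [CommRing S] [CommRing k] (φ : S →+* k)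
    (v w : ι → MvPolynomial (Fin N) S) : vmap φ (v + w) = vmap φ v + vmap φ w :=
  funext fun i => map_add _ _ _

theorem vmap_smul {S k ι : Type*} [CommRing S] [CommRing k] (φ : S →+* k) (c : S)
    (v : ι → MvPolynomial (Fin N) S) : vmap φ (c • v) = φ c • vmap φ v := by
  funext i
  simp [vmap, Pi.smul_apply, MvPolynomial.smul_eq_C_mul]

theorem exists_semilinear {S k : Type*} [CommRing S] [CommRing k] (φ : S →+* k) {ι κ : Type*}
    [Fintype ι] [Fintype κ]
    (h : (ι → MvPolynomial (Fin N) S) →ₗ[S] (κ → MvPolynomial (Fin N) S)) :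
    ∃ h' : (ι → MvPolynomial (Fin N) k) →ₗ[k] (κ → MvPolynomial (Fin N) k),
      ∀ y, h' (vmap φ y) = vmap φ (h y) := by
  refine ⟨(vbasis k ι).constr k fun x => vmap φ (h (vbasis S ι x)), fun y => ?_⟩
  have hy : y ∈ Submodule.span S (Set.range (vbasis (N := N) S ι)) := by
    rw [(vbasis S ι).span_eq]; trivial
  induction hy using Submodule.span_induction with
  | mem z hz =>
    obtain ⟨x, rfl⟩ := hz
    rw [vmap_vbasis, Module.Basis.constr_basis]
  | zero =>
    rw [map_zero]
    have h0 : vmap φ (0 : ι → MvPolynomial (Fin N) S) = 0 := funext fun i => map_zero _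
    have h0' : vmap φ (0 : κ → MvPolynomial (Fin N) S) = 0 := funext fun i => map_zero _
    rw [h0, h0', map_zero]
  | add v w _ _ hv hw => rw [vmap_add, map_add, map_add, vmap_add, hv, hw]
  | smul c v _ hv => rw [vmap_smul, map_smul, map_smul, vmap_smul, hv]

theorem vmap_mulVec {S k : Type*} [CommRing S] [CommRing k] (φ : S →+* k) {a b : Type*} [Fintype b]
    (M : Matrix a b (MvPolynomial (Fin N) S)) (v : b → MvPolynomial (Fin N) S) :
    vmap φ (M.mulVec v) = (M.map (MvPolynomial.map φ)).mulVec (vmap φ v) := by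
  funext i
  simp [vmap, Matrix.mulVec, dotProduct, map_sum]

/-- If the cokernel of a matrix over `S[X]` is `S`-projective, the kernel commutes with base change. -/
theorem ker_subset_span {S k : Type*} [CommRing S] [CommRing k] (φ : S →+* k) {a b : Type*}
    [Fintype a] [Fintype b] [DecidableEq b] (M : Matrix a b (MvPolynomial (Fin N) S))
    (h : (a → MvPolynomial (Fin N) S) →ₗ[S] (b → MvPolynomial (Fin N) S))
    (hh : ∀ x, M.mulVec (h (M.mulVec x)) = M.mulVec x)
    (w : b → MvPolynomial (Fin N) k) (hw : (M.map (MvPolynomial.map φ)).mulVec w = 0) :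
    w ∈ Submodule.span (MvPolynomial (Fin N) k) (vmap φ '' {v | M.mulVec v = 0}) := by
  obtain ⟨h', hh'⟩ := exists_semilinear φ h
  let Mk : (b → MvPolynomial (Fin N) k) →ₗ[k] (a → MvPolynomial (Fin N) k) :=
    (Matrix.mulVecLin (M.map (MvPolynomial.map φ))).restrictScalars k
  have key : ∀ y : b → MvPolynomial (Fin N) k, y - h' (Mk y) ∈
      (Submodule.span (MvPolynomial (Fin N) k) (vmap φ '' {v | M.mulVec v = 0})).restrictScalars k := by
    intro y
    have hy : y ∈ Submodule.span k (Set.range (vbasis (N := N) k b)) := by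
      rw [(vbasis k b).span_eq]; trivial
    induction hy using Submodule.span_induction with
    | mem z hz =>
      obtain ⟨x, rfl⟩ := hz
      refine Submodule.subset_span ⟨vbasis S b x - h (M.mulVec (vbasis S b x)), ?_, ?_⟩
      · rw [Set.mem_setOf_eq, Matrix.mulVec_sub, hh, sub_self]
      · have he : Mk (vbasis k b x) = vmap φ (M.mulVec (vbasis S b x)) := by
          rw [vmap_mulVec, vmap_vbasis]; rfl
        rw [he, hh']
        funext i
        simp only [vmap, Pi.sub_apply, map_sub]
        exact congrArg₂ (· - ·) (congrFun (vmap_vbasis φ b x) i) rfl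
    | zero => rw [map_zero, map_zero, sub_zero]; exact Submodule.zero_mem _
    | add v w _ _ hv hw =>
      rw [map_add, map_add, add_sub_add_comm]; exact Submodule.add_mem _ hv hw
    | smul c v _ hv =>
      rw [map_smul, map_smul, ← smul_sub]; exact Submodule.smul_mem _ c hv
  have := key w
  have hw' : Mk w = 0 := hw
  rw [hw', map_zero, sub_zero] at this
  exact this

/-- Base change of a linear map with free base-changed cokernel has a pseudo-inverse. -/
theorem exists_pseudoInverse_baseChange {A S P Q C P' Q' : Type*} [CommRing A] [CommRing S]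
    [Algebra A S] [AddCommGroup P] [Module A P] [AddCommGroup Q] [Module A Q] [Module.Free A Q]
    [AddCommGroup C] [Module A C] [AddCommGroup P'] [Module S P'] [AddCommGroup Q'] [Module S Q']
    (L : P →ₗ[A] Q) (q : Q →ₗ[A] C) (hex : Function.Exact L q) (hsur : Function.Surjective q)
    (hfree : Module.Free S (S ⊗[A] C))
    (EP : (S ⊗[A] P) ≃ₗ[S] P') (EQ : (S ⊗[A] Q) ≃ₗ[S] Q') (MS : P' →ₗ[S] Q')
    (hM : ∀ z, MS (EP z) = EQ (L.baseChange S z)) :
    ∃ h : Q' →ₗ[S] P', ∀ x, MS (h (MS x)) = MS x := by
  have hexT : Function.Exact (L.baseChange S) (q.baseChange S) := lTensor_exact S hex hsur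
  have hsurT : Function.Surjective (q.baseChange S) := LinearMap.lTensor_surjective S hsur
  haveI := hfree
  haveI : Module.Projective S ((S ⊗[A] Q) ⧸ LinearMap.range (L.baseChange S)) :=
    Module.Projective.of_equiv (hexT.linearEquivOfSurjective hsurT).symm
  obtain ⟨hT, hhT⟩ := exists_pseudoInverse (L.baseChange S)
  refine ⟨EP.toLinearMap ∘ₗ hT ∘ₗ EQ.symm.toLinearMap, fun x => ?_⟩
  obtain ⟨z, rfl⟩ := EP.surjective x
  simp only [LinearMap.coe_comp, LinearEquiv.coe_coe, Function.comp_apply]
  rw [hM z, LinearEquiv.symm_apply_apply, hM, hhT]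

/-- Transport of a pseudo-inverse to polynomials over `S`, from freeness of the base-changed
cokernel. -/
theorem exists_pseudoInverse_of_free {A S : Type u} [CommRing A] [CommRing S] [Algebra A S]
    {a b : Type} [Fintype a] [Fintype b] [DecidableEq a] [DecidableEq b]
    (M : Matrix a b (MvPolynomial (Fin N) A))
    (hfree : Module.Free S
      (S ⊗[A] ((a → MvPolynomial (Fin N) A) ⧸ LinearMap.range (Matrix.mulVecLin M)))) :
    ∃ h : (a → MvPolynomial (Fin N) S) →ₗ[S] (b → MvPolynomial (Fin N) S),
        ∀ x, (M.map (MvPolynomial.map (algebraMap A S))).mulVec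
            (h ((M.map (MvPolynomial.map (algebraMap A S))).mulVec x)) =
          (M.map (MvPolynomial.map (algebraMap A S))).mulVec x := by
  let E : ∀ (c : Type) [Fintype c] [DecidableEq c], (S ⊗[A] (c → MvPolynomial (Fin N) A)) ≃ₗ[S]
      (c → MvPolynomial (Fin N) S) := fun c _ _ =>
    ((vbasis A c).baseChange S).equiv (vbasis S c) (Equiv.refl _)
  have hE : ∀ (c : Type) [Fintype c] [DecidableEq c] (y : c → MvPolynomial (Fin N) A),
      E c (1 ⊗ₜ y) = vmap (algebraMap A S) y := by
    intro c _ _ y
    have hy : y ∈ Submodule.span A (Set.range (vbasis (N := N) A c)) := by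
      rw [(vbasis A c).span_eq]; trivial
    induction hy using Submodule.span_induction with
    | mem z hz =>
      obtain ⟨x, rfl⟩ := hz
      rw [← Module.Basis.baseChange_apply, Module.Basis.equiv_apply, vmap_vbasis, Equiv.refl_apply]
    | zero => rw [tmul_zero, map_zero]; funext i; simp [vmap]
    | add v w _ _ hv hw => rw [tmul_add, map_add, hv, hw, vmap_add]
    | smul r v _ hv =>
      rw [tmul_smul, ← algebraMap_smul S r ((1 : S) ⊗ₜ[A] v), map_smul, hv, vmap_smul]
  let MS := M.map (MvPolynomial.map (algebraMap A S))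
  let LA : (b → MvPolynomial (Fin N) A) →ₗ[A] (a → MvPolynomial (Fin N) A) :=
    (Matrix.mulVecLin M).restrictScalars A
  have hM : ∀ z, MS.mulVec (E b z) = E a (LA.baseChange S z) := by
    intro z
    induction z using TensorProduct.induction_on with
    | zero => rw [map_zero, map_zero, map_zero, Matrix.mulVec_zero]
    | tmul s y =>
      have h1 : s ⊗ₜ[A] y = s • ((1 : S) ⊗ₜ[A] y) := by
        rw [TensorProduct.smul_tmul', smul_eq_mul, mul_one]
      rw [h1, map_smul, map_smul, map_smul, Matrix.mulVec_smul, hE, LinearMap.baseChange_tmul, hE]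
      exact congrArg (s • ·) (vmap_mulVec _ M y).symm
    | add v w hv hw => simp only [map_add, Matrix.mulVec_add, hv, hw]
  haveI : Module.Free A (a → MvPolynomial (Fin N) A) := Module.Free.of_basis (vbasis A a)
  let R' := LinearMap.range (Matrix.mulVecLin M)
  have hex : Function.Exact LA (R'.mkQ.restrictScalars A) := by
    intro y
    rw [LinearMap.coe_restrictScalars, Submodule.mkQ_apply, Submodule.Quotient.mk_eq_zero]
    rfl
  have hsur : Function.Surjective (R'.mkQ.restrictScalars A) := by
    rw [LinearMap.coe_restrictScalars]; exact Submodule.mkQ_surjective _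
  obtain ⟨h, hh⟩ := exists_pseudoInverse_baseChange LA (R'.mkQ.restrictScalars A) hex hsur hfree
    (E b) (E a) (MS.mulVecLin.restrictScalars S) hM
  exact ⟨h, hh⟩

/-- The generic step: over a Noetherian domain some localisation makes the cokernel free. -/
theorem exists_pseudoInverse_away {A : Type u} [CommRing A] [IsDomain A] [IsNoetherianRing A]
    {a b : Type} [Fintype a] [Fintype b] [DecidableEq a] [DecidableEq b]
    (M : Matrix a b (MvPolynomial (Fin N) A)) :
    ∃ f : A, f ≠ 0 ∧
      ∃ h : (a → MvPolynomial (Fin N) (Localization.Away f)) →ₗ[Localization.Away f]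
          (b → MvPolynomial (Fin N) (Localization.Away f)),
        ∀ x, (M.map (MvPolynomial.map (algebraMap A (Localization.Away f)))).mulVec
            (h ((M.map (MvPolynomial.map (algebraMap A (Localization.Away f)))).mulVec x)) =
          (M.map (MvPolynomial.map (algebraMap A (Localization.Away f)))).mulVec x := by
  obtain ⟨f, hf0, hfree⟩ := EGA43.GenFree.gFree (R := A) (S := MvPolynomial (Fin N) A)
    ((a → MvPolynomial (Fin N) A) ⧸ LinearMap.range (Matrix.mulVecLin M))
  exact ⟨f, hf0, exists_pseudoInverse_of_free M hfree⟩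

/-- **Hermann's bound, existence form.** Kernels of polynomial matrices of bounded size and degree
are generated in bounded degree, uniformly in the field. -/
theorem exists_ker_bound (N e : ℕ) (a b : Type) [Fintype a] [Fintype b] [DecidableEq a]
    [DecidableEq b] : ∃ R : ℕ, ∀ (k : Type u) [Field k]
    (M : Matrix a b (MvPolynomial (Fin N) k)), (∀ i j, (M i j).totalDegree ≤ e) →
    ∀ w : b → MvPolynomial (Fin N) k, M.mulVec w = 0 →
      w ∈ Submodule.span (MvPolynomial (Fin N) k)
        {v | M.mulVec v = 0 ∧ ∀ j, (v j).totalDegree ≤ R} := by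
  classical
  let A₀ := MvPolynomial (a × b × (Fin N → Fin (e + 1))) (ULift.{u} ℤ)
  haveI : IsNoetherianRing (ULift.{u} ℤ) :=
    isNoetherianRing_of_ringEquiv ℤ ULift.ringEquiv.symm
  let U : Matrix a b (MvPolynomial (Fin N) A₀) := fun i j =>
    ∑ s, monomial (expo s) (X (i, j, s))
  obtain ⟨R, hR⟩ := exists_bound_of_generic (A := A₀)
    (fun k _ φ R => ∀ w : b → MvPolynomial (Fin N) k,
      (U.map (MvPolynomial.map φ)).mulVec w = 0 →
      w ∈ Submodule.span (MvPolynomial (Fin N) k)
        {v | (U.map (MvPolynomial.map φ)).mulVec v = 0 ∧ ∀ j, (v j).totalDegree ≤ R})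
    (by intro k _ φ R R' hRR h w hw; refine Submodule.span_mono ?_ (h w hw); intro v hv; exact ⟨hv.1, fun j => (hv.2 j).trans hRR⟩)
    (fun P hP => by
      haveI := hP
      let MA := U.map (MvPolynomial.map (Ideal.Quotient.mk P))
      obtain ⟨f, hf0, h, hh⟩ := exists_pseudoInverse_away MA
      obtain ⟨f₀, rfl⟩ := Ideal.Quotient.mk_surjective f
      refine ⟨f₀, fun hm => hf0 (Ideal.Quotient.eq_zero_iff_mem.2 hm), ?_⟩
      let S := Localization.Away (Ideal.Quotient.mk P f₀)
      haveI : IsNoetherianRing S := IsLocalization.isNoetherianRing (Submonoid.powers (Ideal.Quotient.mk P f₀)) S inferInstance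
      let MS := MA.map (MvPolynomial.map (algebraMap (A₀ ⧸ P) S))
      obtain ⟨T, hT⟩ := IsNoetherian.noetherian (LinearMap.ker (Matrix.mulVecLin MS))
      refine ⟨T.sup fun v => Finset.univ.sup fun j => (v j).totalDegree, fun k _ φ hPφ hf w hw => ?_⟩
      let φP : A₀ ⧸ P →+* k := Ideal.Quotient.lift P φ hPφ
      have hu : IsUnit (φP (Ideal.Quotient.mk P f₀)) := isUnit_iff_ne_zero.2 (by simpa [φP] using hf)
      let φS : S →+* k := IsLocalization.Away.lift (Ideal.Quotient.mk P f₀) hu
      have hφ : φS.comp ((algebraMap (A₀ ⧸ P) S).comp (Ideal.Quotient.mk P)) = φ := by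
        refine RingHom.ext fun x => ?_
        simp [φS, φP, IsLocalization.Away.lift_eq]
      have hMk : MS.map (MvPolynomial.map φS) = U.map (MvPolynomial.map φ) := by
        ext1 i j
        simp only [MS, MA, Matrix.map_apply, MvPolynomial.map_map]
        rw [← RingHom.comp_assoc, RingHom.comp_assoc, hφ]
      have h1 := ker_subset_span φS MS h hh w (by rw [hMk]; exact hw)
      refine Submodule.span_le.2 ?_ h1
      rintro _ ⟨v, hv, rfl⟩
      have hvT : v ∈ Submodule.span (MvPolynomial (Fin N) S) (T : Set (b → MvPolynomial (Fin N) S)) := by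
        rw [hT]; exact hv
      induction hvT using Submodule.span_induction with
      | mem z hz =>
        refine Submodule.subset_span ⟨?_, fun j => ?_⟩
        · rw [← hMk, ← vmap_mulVec]
          have hz0 : MS.mulVec z = 0 := by
            have : z ∈ LinearMap.ker (Matrix.mulVecLin MS) := hT ▸ Submodule.subset_span hz
            exact this
          rw [hz0]; funext i; simp [vmap]
        · refine le_trans ?_ (Finset.le_sup (f := fun v : b → MvPolynomial (Fin N) S =>
            Finset.univ.sup fun j => (v j).totalDegree) hz)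
          refine le_trans ?_ (Finset.le_sup (f := fun j => (z j).totalDegree) (Finset.mem_univ j))
          exact Finset.sup_mono (support_map_subset _ _)
      | zero =>
        have h0 : vmap φS (0 : b → MvPolynomial (Fin N) S) = 0 := funext fun i => map_zero _
        rw [h0]; exact Submodule.zero_mem _
      | add x y hx hy ihx ihy =>
        rw [vmap_add]
        exact Submodule.add_mem _ (ihx (by
          have : x ∈ LinearMap.ker (Matrix.mulVecLin MS) := hT ▸ hx
          exact this)) (ihy (by
          have : y ∈ LinearMap.ker (Matrix.mulVecLin MS) := hT ▸ hy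
          exact this))
      | smul c x hx ihx =>
        have he : vmap φS (c • x) = MvPolynomial.map φS c • vmap φS x := by
          funext i; simp [vmap]
        rw [he]
        exact Submodule.smul_mem _ _ (ihx (by
          have : x ∈ LinearMap.ker (Matrix.mulVecLin MS) := hT ▸ hx
          exact this)))
  refine ⟨R, fun k _ M hM w hw => ?_⟩
  let φ : A₀ →+* k := eval₂Hom ((Int.castRingHom k).comp ULift.ringEquiv.toRingHom)
    fun x => coeff (expo x.2.2) (M x.1 x.2.1)
  have hU : U.map (MvPolynomial.map φ) = M := by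
    ext1 i j
    simp only [U, Matrix.map_apply, map_sum, map_monomial]
    conv_rhs => rw [eq_sum_expo (M i j) (hM i j)]
    refine Finset.sum_congr rfl fun s _ => ?_
    congr 1
    exact eval₂Hom_X' _ _ _
  have := hR k φ
  rw [hU] at this
  exact this w hw

end Groth.Agent.CAlgSmall.DegBound
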