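import Mathlib

/-! A derivation extends to a birational finite type extension after multiplying by a power. -/

set_option autoImplicit false

universe u

namespace Groth.Agent.CAlgSmall.DerivExt

/-- Derivations extend to localizations. -/
theorem exists_localization {R L : Type u} [CommRing R] [CommRing L] [Algebra R L] (M : Submonoid R)
    [IsLocalization M L] (D : Derivation ℤ R R) :
    ∃ DL : Derivation ℤ L L, ∀ r, DL (algebraMap R L r) = algebraMap R L (D r) := by
  let a := algebraMap R L
  let D₀ : R →+* TrivSqZeroExt L L :=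
    { toFun := fun r ↦ TrivSqZeroExt.inl (a r) + TrivSqZeroExt.inr (a (D r))
      map_one' := by simp
      map_mul' := fun x y ↦ by ext <;> simp [mul_comm]
      map_zero' := by simp
      map_add' := fun x y ↦ by ext <;> simp }
  have hu : ∀ y : M, IsUnit (D₀ y) := fun y ↦ by
    rw [TrivSqZeroExt.isUnit_iff_isUnit_fst]; simpa [D₀, a] using IsLocalization.map_units L y
  let T : L →+* TrivSqZeroExt L L := IsLocalization.lift hu
  have hT : ∀ r, T (a r) = D₀ r := IsLocalization.lift_eq hu
  have hfst : ∀ z, (T z).fst = z := fun z ↦ RingHom.congr_fun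
    (IsLocalization.ringHom_ext M (j := ((TrivSqZeroExt.fstHom L L L).toRingHom.comp T)) (k := RingHom.id L)
      (RingHom.ext fun r ↦ by simp [hT, D₀, a])) z
  refine ⟨Derivation.mk' (AddMonoidHom.toIntLinearMap
    { toFun := fun z ↦ (T z).snd
      map_zero' := by simp
      map_add' := fun x y ↦ by simp }) (fun x y ↦ ?_), fun r ↦ ?_⟩
  · show (T (x * y)).snd = x • (T y).snd + y • (T x).snd
    rw [map_mul, TrivSqZeroExt.snd_mul, hfst, hfst]
    simp [mul_comm]
  · show (T (a r)).snd = _
    rw [hT]
    show (TrivSqZeroExt.inl (a r) + TrivSqZeroExt.inr (a (D r))).snd = _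
    rw [TrivSqZeroExt.snd_add, TrivSqZeroExt.snd_inl, TrivSqZeroExt.snd_inr, zero_add]

theorem exists_ext_aux {R R' L : Type u} [CommRing R] [CommRing R'] [CommRing L] [Algebra R R'] [Algebra.FiniteType R R']
    [Algebra R L] [Algebra R' L] [IsScalarTower R R' L]
    (hinj : Function.Injective (algebraMap R R')) (g : R) (hg : IsSMulRegular R' (algebraMap R R' g))
    (hloc : ∀ x : R', ∃ n : ℕ, (algebraMap R R' g) ^ n * x ∈ Set.range (algebraMap R R')) (D : Derivation ℤ R R)
    [IsLocalization.Away (algebraMap R R' g) L] :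
    ∃ (N : ℕ) (D' : Derivation ℤ R' R'), ∀ r : R, D' (algebraMap R R' r) = algebraMap R R' (g ^ N * D r) := by
  classical
  let g' := algebraMap R R' g
  let ι := algebraMap R' L
  have hgn : Submonoid.powers g' ≤ nonZeroDivisors R' := Submonoid.powers_le.mpr
    ((mem_nonZeroDivisors_iff_right).mpr fun x hx ↦ hg (by
      show g' * x = g' * 0
      rw [mul_zero, mul_comm, hx]))
  have hι : Function.Injective ι := IsLocalization.injective L hgn
  have hu : IsUnit (ι g') := IsLocalization.Away.algebraMap_isUnit g'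
  have : IsLocalization (Submonoid.powers g) L := by
    constructor
    constructor
    · rintro ⟨_, n, rfl⟩
      rw [IsScalarTower.algebraMap_apply R R' L, map_pow, map_pow]
      exact hu.pow n
    · intro z
      obtain ⟨x, ⟨_, a, rfl⟩, rfl⟩ := IsLocalization.exists_mk'_eq (Submonoid.powers g') z
      obtain ⟨n, r, hr⟩ := hloc x
      refine ⟨(r, ⟨g ^ (a + n), a + n, rfl⟩), ?_⟩
      have hspec : ι (g' ^ a) * IsLocalization.mk' L x (⟨g' ^ a, a, rfl⟩ : Submonoid.powers g') = ι x :=
        IsLocalization.mk'_spec' L x (⟨g' ^ a, a, rfl⟩ : Submonoid.powers g')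
      show IsLocalization.mk' L x (⟨g' ^ a, a, rfl⟩ : Submonoid.powers g') * algebraMap R L (g ^ (a + n)) = algebraMap R L r
      rw [IsScalarTower.algebraMap_apply R R' L, IsScalarTower.algebraMap_apply R R' L, hr, map_pow, pow_add,
        map_mul, ← mul_assoc, mul_comm _ (algebraMap R' L (algebraMap R R' g ^ a)), hspec, map_mul, mul_comm]
    · intro x y h
      rw [IsScalarTower.algebraMap_apply R R' L, IsScalarTower.algebraMap_apply R R' L] at h
      exact ⟨1, by rw [hinj (hι h)]⟩
  obtain ⟨DL, hDL⟩ := exists_localization (L := L) (Submonoid.powers g) D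
  have hex : ∀ x : R', ∃ n : ℕ, ι g' ^ n * DL (ι x) ∈ Set.range ι := fun x ↦ by
    obtain ⟨y, ⟨_, n, rfl⟩, hy⟩ := IsLocalization.exists_mk'_eq (Submonoid.powers g') (DL (ι x))
    exact ⟨n, y, by rw [← hy, ← map_pow]; exact (IsLocalization.mk'_spec' L y (⟨g' ^ n, n, rfl⟩ : Submonoid.powers g')).symm⟩
  choose n hn using hex
  obtain ⟨s, hs⟩ := (inferInstance : Algebra.FiniteType R R').out
  let N := s.sup n
  have hbase : ∀ r, DL (ι (algebraMap R R' r)) = ι (algebraMap R R' (D r)) := fun r ↦ by
    rw [← IsScalarTower.algebraMap_apply, hDL, IsScalarTower.algebraMap_apply R R' L]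
  have hall : ∀ x : R', ι g' ^ N * DL (ι x) ∈ Set.range ι := fun x ↦ by
    have hx : x ∈ Algebra.adjoin R (s : Set R') := hs ▸ Algebra.mem_top
    induction hx using Algebra.adjoin_induction with
    | mem x hx =>
      obtain ⟨y, hy⟩ := hn x
      refine ⟨g' ^ (N - n x) * y, ?_⟩
      rw [map_mul, hy, map_pow, ← mul_assoc, ← pow_add, Nat.sub_add_cancel (Finset.le_sup (f := n) hx)]
    | algebraMap r => exact ⟨g' ^ N * algebraMap R R' (D r), by rw [map_mul, map_pow, hbase]⟩
    | add x y _ _ hx hy =>
      obtain ⟨a, ha⟩ := hx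
      obtain ⟨b, hb⟩ := hy
      exact ⟨a + b, by rw [map_add, ha, hb, map_add, map_add, mul_add]⟩
    | mul x y _ _ hx hy =>
      obtain ⟨a, ha⟩ := hx
      obtain ⟨b, hb⟩ := hy
      refine ⟨x * b + y * a, ?_⟩
      rw [map_add, map_mul, map_mul, ha, hb, map_mul, Derivation.leibniz, smul_eq_mul, smul_eq_mul]
      ring
  choose E hE using hall
  refine ⟨N, Derivation.mk' (AddMonoidHom.toIntLinearMap
    { toFun := E
      map_zero' := hι (by rw [hE, map_zero, map_zero, mul_zero])
      map_add' := fun x y ↦ hι (by rw [hE, map_add, map_add, mul_add, map_add, hE, hE]) }) (fun x y ↦ hι ?_),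
    fun r ↦ hι ?_⟩
  · show ι (E (x * y)) = ι (x • E y + y • E x)
    rw [hE, map_mul, Derivation.leibniz, map_add, smul_eq_mul, smul_eq_mul, smul_eq_mul, smul_eq_mul, map_mul, map_mul, hE, hE]
    ring
  · show ι (E _) = _
    rw [hE, hbase, map_mul, map_pow, map_mul, map_pow]

end Groth.Agent.CAlgSmall.DerivExt

namespace Groth.Agent.CAlgSmall.DerivExt

theorem exists_ext {R R' : Type u} [CommRing R] [CommRing R'] [Algebra R R'] [Algebra.FiniteType R R']
    (hinj : Function.Injective (algebraMap R R')) (g : R) (hg : IsSMulRegular R' (algebraMap R R' g))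
    (hloc : ∀ x : R', ∃ n : ℕ, (algebraMap R R' g) ^ n * x ∈ Set.range (algebraMap R R')) (D : Derivation ℤ R R) :
    ∃ (N : ℕ) (D' : Derivation ℤ R' R'), ∀ r : R, D' (algebraMap R R' r) = algebraMap R R' (g ^ N * D r) :=
  exists_ext_aux (L := Localization.Away (algebraMap R R' g)) hinj g hg hloc D

end Groth.Agent.CAlgSmall.DerivExt
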