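import Groth.Agent.PrinLib.DiffCriterion
import Groth.Agent.Diff16.EtaleUniv
import Groth.Agent.AmpleLib.Sections
import Groth.Agent.Coherent.QcohLocal
import Groth.Prelude.Def_DiffOp

/-!
# Differential operators on global sections of affine schemes extend to the sheaves
-/

set_option linter.unusedSectionVars false
set_option autoImplicit false
set_option backward.isDefEq.respectTransparency.types false
set_option maxHeartbeats 1000000

universe u

open CategoryTheory CategoryTheory.Limits AlgebraicGeometry TopologicalSpace Opposite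
open scoped TensorProduct
open Groth.Agent.Coherent Groth.Agent.PicLib Groth.Agent.AmpleLib

namespace Groth.Agent.CAlgSmall.DiffGlob

section ord

variable {A B M N : Type u} [CommRing A] [CommRing B] [AddCommGroup M] [Module A M] [AddCommGroup N] [Module B N]

/-- The commutator with a scalar, along a ring map. -/
def comm (φ : A →+* B) (E : M →+ N) (c : A) : M →+ N :=
  AddMonoidHom.mk' (fun x => E (c • x) - φ c • E x) fun x y => by
    simp only [smul_add, map_add]; abel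

theorem comm_apply (φ : A →+* B) (E : M →+ N) (c : A) (x : M) : comm φ E c x = E (c • x) - φ c • E x := rfl

/-- Order at most `k` along a ring map. -/
def Ord (φ : A →+* B) : ℕ → (M →+ N) → Prop
  | 0, E => ∀ (c : A) (x : M), E (c • x) = φ c • E x
  | k + 1, E => ∀ c, Ord φ k (comm φ E c)

theorem Ord.sub {φ : A →+* B} : ∀ {k : ℕ} {E E' : M →+ N}, Ord φ k E → Ord φ k E' → Ord φ k (E - E')
  | 0, E, E', h, h' => fun c x => by
    simp only [AddMonoidHom.sub_apply, h c x, h' c x, smul_sub]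
  | k + 1, E, E', h, h' => fun c => by
    have he : comm φ (E - E') c = comm φ E c - comm φ E' c := by
      ext x; simp only [comm_apply, AddMonoidHom.sub_apply, smul_sub]; abel
    rw [he]
    exact Ord.sub (h c) (h' c)

theorem Ord.postcomp {B' N' : Type u} [CommRing B'] [AddCommGroup N'] [Module B' N'] {φ : A →+* B} (ψ : B →+* B')
    (ρ : N →+ N') (hρ : ∀ (b : B) (y : N), ρ (b • y) = ψ b • ρ y) :
    ∀ {k : ℕ} {E : M →+ N}, Ord φ k E → Ord (ψ.comp φ) k (ρ.comp E)
  | 0, E, h => fun c x => by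
    show ρ (E (c • x)) = ψ (φ c) • ρ (E x)
    rw [h c x, hρ]
  | k + 1, E, h => fun c => by
    have he : comm (ψ.comp φ) (ρ.comp E) c = ρ.comp (comm φ E c) := by
      ext x; simp only [comm_apply, AddMonoidHom.comp_apply, RingHom.comp_apply, map_sub, hρ]
    rw [he]
    exact Ord.postcomp ψ ρ hρ (h c)

theorem Ord.precomp {A' M' : Type u} [CommRing A'] [AddCommGroup M'] [Module A' M'] {φ : A →+* B} (ψ : A' →+* A)
    (ρ : M' →+ M) (hρ : ∀ (a : A') (y : M'), ρ (a • y) = ψ a • ρ y) :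
    ∀ {k : ℕ} {E : M →+ N}, Ord φ k E → Ord (φ.comp ψ) k (E.comp ρ)
  | 0, E, h => fun c x => by
    show E (ρ (c • x)) = φ (ψ c) • E (ρ x)
    rw [hρ, h]
  | k + 1, E, h => fun c => by
    have he : comm (φ.comp ψ) (E.comp ρ) c = (comm φ E (ψ c)).comp ρ := by
      ext x; simp only [comm_apply, AddMonoidHom.comp_apply, RingHom.comp_apply, hρ]
    rw [he]
    exact Ord.precomp ψ ρ hρ (h (ψ c))

/-- An operator on a localisation vanishing on the original module vanishes. -/
theorem Ord.eq_zero {A₀ M₀ : Type u} [CommRing A₀] [AddCommGroup M₀] [Module A₀ M₀] (ψ : A₀ →+* A) (ρ : M₀ →+ M)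
    (hρ : ∀ (a : A₀) (y : M₀), ρ (a • y) = ψ a • ρ y) (g : A₀) (hg : IsUnit (ψ g))
    (hsurj : ∀ x : M, ∃ (n : ℕ) (m : M₀), ψ g ^ n • x = ρ m) {φ : A →+* B} :
    ∀ {k : ℕ} {E : M →+ N}, Ord φ k E → (∀ m, E (ρ m) = 0) → E = 0
  | 0, E, h, h0 => by
    ext x
    obtain ⟨n, m, hm⟩ := hsurj x
    have h1 := h (ψ g ^ n) x
    rw [hm, h0] at h1
    exact (((hg.pow n).map φ).smul_eq_zero).1 h1.symm
  | k + 1, E, h, h0 => by
    ext x
    obtain ⟨n, m, hm⟩ := hsurj x
    have hc : comm φ E (ψ (g ^ n)) = 0 := Ord.eq_zero ψ ρ hρ g hg hsurj (h _) fun m' => by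
      rw [comm_apply, ← hρ, h0, h0, smul_zero, sub_zero]
    have h1 := DFunLike.congr_fun hc x
    rw [comm_apply, map_pow, hm, h0, zero_sub, AddMonoidHom.zero_apply, neg_eq_zero] at h1
    exact (((hg.pow n).map φ).smul_eq_zero).1 h1

theorem ev_gen_mul [Module A N] (E : M →ₗ[ℤ] N) (a : A) (m : M) (q : A ⊗[ℤ] A) :
    PrinLib.DiffAlg.ev E m (PrinLib.DiffAlg.gen a * q) =
      PrinLib.DiffAlg.ev (comm (RingHom.id A) E.toAddMonoidHom a).toIntLinearMap m q := by
  induction q using TensorProduct.induction_on with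
  | zero => simp
  | tmul x y =>
    simp only [PrinLib.DiffAlg.gen, sub_mul, Algebra.TensorProduct.tmul_mul_tmul, one_mul, map_sub,
      PrinLib.DiffAlg.ev_tmul, AddMonoidHom.coe_toIntLinearMap, comm_apply, RingHom.id_apply,
      LinearMap.toAddMonoidHom_coe, smul_sub, smul_smul, mul_comm x a]
  | add v w hv hw => simp only [mul_add, map_add, hv, hw]

theorem Ord.ev_prod [Module A N] : ∀ {k : ℕ} (E : M →ₗ[ℤ] N),
    Ord (RingHom.id A) k E.toAddMonoidHom → ∀ (a : Fin (k + 1) → A) (m : M),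
      PrinLib.DiffAlg.ev E m (∏ i, PrinLib.DiffAlg.gen (k := ℤ) (a i)) = 0
  | 0, E, h, a, m => by
    rw [Fin.prod_univ_succ, Fin.prod_univ_zero, ev_gen_mul, PrinLib.DiffAlg.ev_one]
    show E (a 0 • m) - a 0 • E m = 0
    exact sub_eq_zero.2 (h (a 0) m)
  | k + 1, E, h, a, m => by
    rw [Fin.prod_univ_succ, ev_gen_mul]
    exact Ord.ev_prod _ (h (a 0)) _ m

end ord

/-- The algebraic definition gives the order along the identity. -/
theorem ord_of_isDiffOpLE {R A M N : Type u} [CommRing R] [CommRing A] [Algebra R A] [AddCommGroup M] [Module A M]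
    [Module R M] [IsScalarTower R A M] [AddCommGroup N] [Module A N] [Module R N] [IsScalarTower R A N] :
    ∀ {k : ℕ} (D : M →ₗ[R] N), _root_.Diff16.IsDiffOpLE R A M N k D → Ord (RingHom.id A) k D.toAddMonoidHom
  | 0, D, h => fun c x => h c x
  | k + 1, D, h => fun c => by
    have he : comm (RingHom.id A) D.toAddMonoidHom c = (_root_.Diff16.commutator R A M N D c).toAddMonoidHom := by
      ext x; simp [comm_apply, _root_.Diff16.commutator]
    rw [he]
    exact ord_of_isDiffOpLE _ (h c)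

/-- Operators extend to localisations. -/
theorem exists_ord_extension {R A A₁ M N M₁ N₁ : Type u} [CommRing R] [CommRing A] [Algebra R A] [CommRing A₁]
    [Algebra A A₁] (g : A) [IsLocalization.Away g A₁]
    [AddCommGroup M] [Module A M] [Module R M] [IsScalarTower R A M]
    [AddCommGroup N] [Module A N] [Module R N] [IsScalarTower R A N]
    [AddCommGroup M₁] [Module A₁ M₁] [AddCommGroup N₁] [Module A₁ N₁]
    (rM : M →+ M₁) (hrM : ∀ (a : A) (m : M), rM (a • m) = algebraMap A A₁ a • rM m)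
    (rN : N →+ N₁) (hrN : ∀ (a : A) (m : N), rN (a • m) = algebraMap A A₁ a • rN m)
    (hsurj : ∀ x : M₁, ∃ (n : ℕ) (m : M), algebraMap A A₁ g ^ n • x = rM m)
    (hker : ∀ m : M, rM m = 0 → ∃ n : ℕ, g ^ n • m = 0)
    {k : ℕ} (D : M →ₗ[R] N) (hD : _root_.Diff16.IsDiffOpLE R A M N k D) :
    ∃ E : M₁ →+ N₁, Ord (RingHom.id A₁) k E ∧ ∀ m, E (rM m) = rN (D m) := by
  letI : Algebra R A₁ := ((algebraMap A A₁).comp (algebraMap R A)).toAlgebra
  haveI : IsScalarTower R A A₁ := IsScalarTower.of_algebraMap_eq' rfl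
  letI : Module A M₁ := Module.compHom M₁ (algebraMap A A₁)
  letI : Module A N₁ := Module.compHom N₁ (algebraMap A A₁)
  haveI : IsScalarTower A A₁ M₁ := IsScalarTower.of_algebraMap_smul fun _ _ => rfl
  haveI : IsScalarTower A A₁ N₁ := IsScalarTower.of_algebraMap_smul fun _ _ => rfl
  haveI : Algebra.FormallyEtale A A₁ := Algebra.FormallyEtale.of_isLocalization (Submonoid.powers g)
  let fM : M →ₗ[A] M₁ := { toFun := rM, map_add' := map_add rM, map_smul' := hrM }
  let fN : N →ₗ[A] N₁ := { toFun := rN, map_add' := map_add rN, map_smul' := hrN }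
  have hloc : IsLocalizedModule (Submonoid.powers g) fM := by
    refine IsLocalizedModule.Away.mk_of_addCommGroup ?_ (fun x => ?_) hker
    · refine (Module.End.isUnit_iff _).2 ⟨fun x y hxy => ?_, fun x => ?_⟩
      · exact (IsLocalization.Away.algebraMap_isUnit g).smul_left_cancel.1 hxy
      · obtain ⟨v, hv⟩ := IsLocalization.Away.algebraMap_isUnit (S := A₁) g
        exact ⟨(↑v⁻¹ : A₁) • x, by
          show algebraMap A A₁ g • (↑v⁻¹ : A₁) • x = x
          rw [smul_smul, ← hv, Units.mul_inv, one_smul]⟩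
    · obtain ⟨n, m, hm⟩ := hsurj x
      refine ⟨n, m, ?_⟩
      show algebraMap A A₁ (g ^ n) • x = rM m
      rwa [map_pow]
  have hbc : IsBaseChange A₁ fM := IsLocalizedModule.isBaseChange (Submonoid.powers g) A₁ fM
  obtain ⟨D', hD', hD''⟩ := Groth.Agent.Diff16.exists_diffOp_baseChange (S' := A₁) hD
  let α : A₁ ⊗[A] N →ₗ[A₁] N₁ := LinearMap.liftBaseChange A₁ fN
  refine ⟨(α.toAddMonoidHom.comp D'.toAddMonoidHom).comp hbc.equiv.symm.toLinearMap.toAddMonoidHom, ?_, fun m => ?_⟩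
  · have h1 := Ord.postcomp (RingHom.id A₁) α.toAddMonoidHom (fun b y => map_smul α b y) (ord_of_isDiffOpLE D' hD')
    exact Ord.precomp (RingHom.id A₁) hbc.equiv.symm.toLinearMap.toAddMonoidHom
      (fun b y => map_smul hbc.equiv.symm b y) h1
  · show α (D' (hbc.equiv.symm (fM m))) = rN (D m)
    rw [hbc.equiv_symm_apply, show D' ((1 : A₁) ⊗ₜ[A] m) = (1 : A₁) ⊗ₜ[A] D m from hD'' m,
      LinearMap.liftBaseChange_tmul, one_smul]
    rfl

variable {X S : Scheme.{u}} [IsAffine X] [IsAffine S] (f : X ⟶ S) (F G : X.Modules)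

theorem exists_global (hF : Coh.IsQCoh F) (k : ℕ) :
    letI : Algebra Γ(S, ⊤) Γ(X, ⊤) := f.appTop.hom.toAlgebra
    letI : Module Γ(S, ⊤) Γ(F, ⊤) := Module.compHom Γ(F, ⊤) f.appTop.hom
    letI : Module Γ(S, ⊤) Γ(G, ⊤) := Module.compHom Γ(G, ⊤) f.appTop.hom
    haveI : IsScalarTower Γ(S, ⊤) Γ(X, ⊤) Γ(F, ⊤) := IsScalarTower.of_algebraMap_smul fun _ _ => rfl
    haveI : IsScalarTower Γ(S, ⊤) Γ(X, ⊤) Γ(G, ⊤) := IsScalarTower.of_algebraMap_smul fun _ _ => rfl
    ∀ D' : Γ(F, ⊤) →ₗ[Γ(S, ⊤)] Γ(G, ⊤), _root_.Diff16.IsDiffOpLE Γ(S, ⊤) Γ(X, ⊤) Γ(F, ⊤) Γ(G, ⊤) k D' →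
      ∃ D : F.presheaf ⟶ G.presheaf, PrinPart.IsDiffOpLE f F G k D ∧
        ∀ m : Γ(F, ⊤), (D.app (op ⊤)).hom m = D' m := by
  intro D' hD'
  letI : Algebra Γ(S, ⊤) Γ(X, ⊤) := f.appTop.hom.toAlgebra
  letI : Module Γ(S, ⊤) Γ(F, ⊤) := Module.compHom Γ(F, ⊤) f.appTop.hom
  letI : Module Γ(S, ⊤) Γ(G, ⊤) := Module.compHom Γ(G, ⊤) f.appTop.hom
  haveI : IsScalarTower Γ(S, ⊤) Γ(X, ⊤) Γ(F, ⊤) := IsScalarTower.of_algebraMap_smul fun _ _ => rfl
  haveI : IsScalarTower Γ(S, ⊤) Γ(X, ⊤) Γ(G, ⊤) := IsScalarTower.of_algebraMap_smul fun _ _ => rfl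
  have hX := isAffineOpen_top X
  let B : Γ(X, ⊤) → X.Opens := fun g => X.basicOpen g
  let rA : ∀ g, Γ(X, ⊤) →+* Γ(X, B g) := fun g => (X.presheaf.map (homOfLE (X.basicOpen_le g)).op).hom
  have hu : ∀ g, IsUnit (rA g g) := fun g => RingedSpace.isUnit_res_basicOpen X.toRingedSpace g
  have hsurj : ∀ g (x : Γ(F, B g)), ∃ (n : ℕ) (m : Γ(F, ⊤)),
      rA g g ^ n • x = resM F (X.basicOpen_le g) m := fun g x => by
    obtain ⟨n, t, ht⟩ := (localizesOn_of_isQCoh F hX).exists_pow_smul g x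
    exact ⟨n, t, by rw [← map_pow]; exact ht.symm⟩
  have hext : ∀ g, ∃ E : Γ(F, B g) →+ Γ(G, B g), Ord (RingHom.id Γ(X, B g)) k E ∧
      ∀ m, E (resM F (X.basicOpen_le g) m) = resM G (X.basicOpen_le g) (D' m) := fun g => by
    letI : Algebra Γ(X, ⊤) Γ(X, B g) := (rA g).toAlgebra
    haveI : IsLocalization.Away g Γ(X, B g) := hX.isLocalization_basicOpen g
    exact exists_ord_extension g (resM F (X.basicOpen_le g)) (fun a m => resM_smul F _ a m)
      (resM G (X.basicOpen_le g)) (fun a m => resM_smul G _ a m) (hsurj g)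
      ((localizesOn_of_isQCoh F hX).exists_pow_smul_eq_zero g) D' hD'
  choose E hE hEval using hext
  have hnat : ∀ (g g' : Γ(X, ⊤)) (h : B g' ≤ B g) (x : Γ(F, B g)),
      E g' (resM F h x) = resM G h (E g x) := fun g g' h x => by
    let ψ : Γ(X, B g) →+* Γ(X, B g') := (X.presheaf.map (homOfLE h).op).hom
    have h1 := (Ord.precomp ψ (resM F h) (fun a y => resM_smul F h a y) (hE g'))
    have h2 := (Ord.postcomp ψ (resM G h) (fun a y => resM_smul G h a y) (hE g))
    rw [RingHom.id_comp] at h1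
    rw [RingHom.comp_id] at h2
    have h3 := Ord.eq_zero (rA g) (resM F (X.basicOpen_le g)) (fun a y => resM_smul F _ a y) g (hu g) (hsurj g)
      (h1.sub h2) fun m => by
        show E g' (resM F h (resM F _ m)) - resM G h (E g (resM F _ m)) = 0
        rw [resM_resM, hEval, hEval, resM_resM, sub_self]
    exact sub_eq_zero.1 (DFunLike.congr_fun h3 x)
  have hbase : ∀ (r : Γ(S, ⊤)) (g : Γ(X, ⊤)) (x : Γ(F, B g)),
      E g (rA g (f.appTop r) • x) = rA g (f.appTop r) • E g x := fun r g x => by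
    have hord : ∀ {j : ℕ} {E₀ : Γ(F, B g) →+ Γ(G, B g)}, Ord (RingHom.id _) j E₀ →
        (∀ m, E₀ (resM F (X.basicOpen_le g) m) = 0) → E₀ = 0 :=
      fun {j E₀} h h0 => Ord.eq_zero (rA g) (resM F (X.basicOpen_le g)) (fun a y => resM_smul F _ a y) g (hu g)
        (hsurj g) h h0
    cases k with
    | zero => exact hE g _ x
    | succ k =>
      have h3 := hord (hE g (rA g (f.appTop r))) fun m => by
        rw [comm_apply, ← resM_smul, hEval, hEval, RingHom.id_apply, ← resM_smul,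
          show D' (f.appTop r • m) = f.appTop r • D' m from map_smul D' r m, sub_self]
      exact sub_eq_zero.1 (DFunLike.congr_fun h3 x)
  have hb : Opens.IsBasis (Set.range B) := isBasis_basicOpen X
  let α : (inducedFunctor B).op ⋙ F.presheaf ⟶ (inducedFunctor B).op ⋙ (Coh.toAb G).1 :=
    { app := fun g => AddCommGrpCat.ofHom (E g.unop)
      naturality := fun g g' i => by
        ext x
        exact hnat g.unop g'.unop (leOfHom i.unop.hom) x }
  let D : F.presheaf ⟶ G.presheaf := TopCat.Sheaf.restrictHomEquivHom F.presheaf (Coh.toAb G) hb α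
  have happ : ∀ g (x : Γ(F, B g)), D.app (op (B g)) x = E g x := fun g x =>
    ConcreteCategory.congr_hom (TopCat.Sheaf.extend_hom_app F.presheaf (Coh.toAb G) hb α g) x
  have hres : ∀ {U V : X.Opens} (h : V ≤ U) (x : Γ(F, U)),
      D.app (op V) (resM F h x) = resM G h (D.app (op U) x) := fun h x =>
    ConcreteCategory.congr_hom (D.naturality (homOfLE h).op) x
  have hloc : ∀ (U : X.Opens) (s s' : Γ(G, U)),
      (∀ g (h : B g ≤ U), resM G h s = resM G h s') → s = s' := fun U s s' h =>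
    AmpleLib.sec_ext _ _ _ fun x hx => by
      obtain ⟨_, ⟨g, rfl⟩, hxg, hle⟩ := Opens.isBasis_iff_nbhd.1 hb hx
      exact ⟨B g, hle, hxg, h g hle⟩
  refine ⟨D, PrinLib.isDiffOpLE_of_altSumZero f k (fun V s U hU t => ?_) (fun U a t => ?_), fun m => ?_⟩
  · refine AmpleLib.sec_ext _ _ _ fun x hx => ?_
    obtain ⟨_, ⟨r, rfl⟩, hxr, hrV⟩ := Opens.isBasis_iff_nbhd.1 (isBasis_basicOpen S) (hU hx)
    obtain ⟨_, ⟨g, rfl⟩, hxg, hgle⟩ := Opens.isBasis_iff_nbhd.1 hb
      (show x ∈ U ⊓ f ⁻¹ᵁ S.basicOpen r from ⟨hx, hxr⟩)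
    have hgU : B g ≤ U := hgle.trans inf_le_left
    have hgr : B g ≤ f ⁻¹ᵁ S.basicOpen r := hgle.trans inf_le_right
    refine ⟨B g, hgU, hxg, ?_⟩
    have := (isAffineOpen_top S).isLocalization_basicOpen r
    obtain ⟨⟨s', _, n, rfl⟩, hs'⟩ := IsLocalization.surj (M := Submonoid.powers r) (R := Γ(S, ⊤))
      (S := Γ(S, S.basicOpen r)) (S.presheaf.map (homOfLE hrV).op s)
    let fg : Γ(S, S.basicOpen r) →+* Γ(X, B g) := (f.appLE (S.basicOpen r) (B g) hgr).hom
    have hfg : ∀ a : Γ(S, ⊤), fg (algebraMap _ _ a) = rA g (f.appTop a) := fun a => by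
      show (S.presheaf.map (homOfLE (S.basicOpen_le r)).op ≫ f.appLE _ _ hgr) a = _
      rw [Scheme.Hom.map_appLE]
      rfl
    have hc : X.presheaf.map (homOfLE hgU).op (X.presheaf.map (homOfLE hU).op (f.app V s)) =
        fg (S.presheaf.map (homOfLE hrV).op s) := by
      show (f.app V ≫ X.presheaf.map (homOfLE hU).op ≫ X.presheaf.map (homOfLE hgU).op) s =
        (S.presheaf.map (homOfLE hrV).op ≫ f.appLE _ _ hgr) s
      rw [Scheme.Hom.map_appLE, ← Functor.map_comp]
      rfl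
    rw [← hres, resM_smul, resM_smul, ← hres, happ, happ, hc]
    have hun : IsUnit (fg (algebraMap _ _ r) ^ n) :=
      (((IsLocalization.Away.algebraMap_isUnit r).map fg)).pow n
    refine hun.smul_left_cancel.1 ?_
    have h1 : fg (algebraMap _ _ r) ^ n * fg (S.presheaf.map (homOfLE hrV).op s) = rA g (f.appTop s') := by
      rw [← hfg, ← map_pow, ← map_mul, mul_comm, ← map_pow]
      exact congrArg fg hs'
    rw [← map_pow, ← map_pow, hfg, ← hbase, smul_smul, smul_smul, ← hfg, map_pow, map_pow, h1, hbase]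
  · refine hloc U _ _ fun g hg => ?_
    rw [map_zero, map_sum]
    have h1 := Ord.ev_prod (E g).toIntLinearMap (hE g) (fun i => X.presheaf.map (homOfLE hg).op (a i)) (resM F hg t)
    rw [PrinLib.DiffAlg.ev_prod_gen] at h1
    refine Eq.trans (Finset.sum_congr rfl fun H _ => ?_) h1
    rw [map_zsmul, resM_smul, map_prod, ← hres, resM_smul, map_prod, happ]
    rfl
  · refine hloc ⊤ _ _ fun g hg => ?_
    refine (hres hg m).symm.trans ((happ g _).trans ?_)
    exact hEval g m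

end Groth.Agent.CAlgSmall.DiffGlob
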