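import Groth.Agent.EGA43.DimFormula.Core
import Groth.Agent.EGA43.Chevalley.DimBounds
import Groth.Agent.DimLib.Points
import Mathlib.AlgebraicGeometry.Properties

/-!
# Dimension bounds for morphisms locally of finite type
-/

set_option autoImplicit false
set_option backward.isDefEq.respectTransparency false

universe u

open CategoryTheory AlgebraicGeometry

namespace Groth.Agent.CAlgSmall

open Groth.Agent FlatMorWeight EGA43.DimFormula

variable {X Y : Scheme.{u}} (f : X ⟶ Y)

theorem mem_irreducibleComponents_of_isMaximalPt {ξ : X} (h : IsMaximalPt ξ) :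
    closure {ξ} ∈ irreducibleComponents (↥X) := by
  refine ⟨isIrreducible_singleton.closure, fun Z hZ hle => ?_⟩
  have hZc : IsIrreducible (closure Z) := hZ.closure
  have hg := hZc.isGenericPoint_genericPoint isClosed_closure
  have hsp : hZc.genericPoint ⤳ ξ := hg.specializes (subset_closure (hle (subset_closure rfl)))
  intro z hz
  have h1 := hg.specializes (subset_closure hz)
  rw [h _ hsp] at h1
  exact specializes_iff_mem_closure.mp h1

theorem trdAt_eq_of_trdeg_eq {x : X} {n : ℕ}
    (hn : letI := (f.residueFieldMap x).hom.toAlgebra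
      Algebra.trdeg (Y.residueField (f x)) (X.residueField x) = n) : trdAt f x = n := by
  show Cardinal.toNat _ = n
  rw [hn, Cardinal.toNat_natCast]

theorem trdAt_le_of_trdeg_le {x : X} {n : ℕ}
    (hn : letI := (f.residueFieldMap x).hom.toAlgebra
      Algebra.trdeg (Y.residueField (f x)) (X.residueField x) ≤ n) : trdAt f x ≤ n := by
  have h := Cardinal.toNat_le_toNat hn Cardinal.natCast_lt_aleph0
  rwa [Cardinal.toNat_natCast] at h

theorem dimAt_add_trdAt_le [IsLocallyNoetherian Y] [LocallyOfFiniteType f] (x : X) (E : ℕ)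
    (hE : ∀ ξ : X, closure {ξ} ∈ irreducibleComponents (↥X) → ξ ⤳ x → trdAt f ξ ≤ E) :
    dimAt x + trdAt f x ≤ dimAt (f x) + E := by
  haveI := LocallyOfFiniteType.isLocallyNoetherian f
  obtain ⟨ξ, hξ, hx, hc⟩ := exists_cod_eq x
  have h1 := le_formula f hx
  have h2 := cod_le_dimAt (hx.map f.continuous)
  have h3 := hE ξ (mem_irreducibleComponents_of_isMaximalPt hξ) hx
  omega

theorem ringKrullDim_stalk_add_le [IsLocallyNoetherian Y] [LocallyOfFiniteType f] (x : X) (n E : ℕ)
    (hn : trdAt f x = n)
    (hE : ∀ ξ : X, closure {ξ} ∈ irreducibleComponents (↥X) → ξ ⤳ x → trdAt f ξ ≤ E) :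
    ringKrullDim (X.presheaf.stalk x) + n ≤ ringKrullDim (Y.presheaf.stalk (f x)) + E := by
  haveI := LocallyOfFiniteType.isLocallyNoetherian f
  rw [dimAt_eq, dimAt_eq, ← hn]
  exact_mod_cast dimAt_add_trdAt_le f x E hE

theorem topologicalKrullDim_le_add [IsLocallyNoetherian Y] [LocallyOfFiniteType f] (E : ℕ)
    (hE : ∀ ξ : X, closure {ξ} ∈ irreducibleComponents (↥X) → trdAt f ξ ≤ E) :
    topologicalKrullDim X ≤ topologicalKrullDim Y + E := by
  haveI := LocallyOfFiniteType.isLocallyNoetherian f
  rw [DimLib.topologicalKrullDim_eq_krullDim, DimLib.topologicalKrullDim_eq_krullDim]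
  rcases isEmpty_or_nonempty X with h | h
  · rw [Order.krullDim_eq_bot]; exact bot_le
  rw [Order.krullDim_eq_iSup_coheight]
  refine iSup_le fun x => ?_
  have h1 := ringKrullDim_stalk_add_le f x (trdAt f x) E rfl fun ξ hξ _ => hE ξ hξ
  have h2 : ((Order.coheight (f x) : ℕ∞) : WithBot ℕ∞) ≤ Order.krullDim Y :=
    Order.coheight_le_krullDim _
  rw [ringKrullDim_stalk_eq_coheight, ringKrullDim_stalk_eq_coheight] at h1
  refine le_trans ?_ (h1.trans (by gcongr))
  exact le_add_of_nonneg_right (by positivity)

/-- Closed maps do not decrease heights. -/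
theorem height_le_of_isClosedMap (hc : IsClosedMap f.base) (x : X) :
    Order.height (f x) ≤ Order.height x := by
  suffices h : ∀ (m : ℕ) (x : X), (m : ℕ∞) ≤ Order.height (f x) → (m : ℕ∞) ≤ Order.height x by
    rcases hm : Order.height (f x) with _ | m
    · refine le_of_eq (Eq.symm (ENat.eq_top_iff_forall_ge.mpr fun k => h k x (by rw [hm]; exact le_top)))
    · exact h m x (by rw [hm]; rfl)
  intro m
  induction m with
  | zero => intro x _; exact bot_le
  | succ m ih =>
    intro x hx
    obtain ⟨p, hp, hlen⟩ := Order.exists_series_of_le_height (f x) hx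
    let y := p.eraseLast.last
    have hy : y < f x := hp ▸ p.eraseLast_last_rel_last (by omega)
    have hmy : (m : ℕ∞) ≤ Order.height y := by
      have h := Order.length_le_height (p := p.eraseLast) (x := y) le_rfl
      rw [RelSeries.eraseLast_length, hlen] at h
      simpa using h
    have hmem : y ∈ f.base '' closure {x} := by
      have hsub : closure ({f x} : Set Y) ⊆ f.base '' closure {x} :=
        closure_minimal (Set.singleton_subset_iff.mpr ⟨x, subset_closure rfl, rfl⟩) (hc _ isClosed_closure)
      exact hsub (specializes_iff_mem_closure.mp (Scheme.le_iff_specializes.mp hy.le))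
    obtain ⟨x', hx', hxy⟩ := hmem
    have hlt : x' < x := lt_of_le_not_ge (Scheme.le_iff_specializes.mpr (specializes_iff_mem_closure.mpr hx'))
      fun hle => hy.not_ge (by
        rw [← hxy]
        exact Scheme.le_iff_specializes.mpr ((Scheme.le_iff_specializes.mp hle).map f.continuous))
    have h1 := ih x' (by rw [show f x' = y from hxy]; exact hmy)
    rw [Nat.cast_succ]
    calc (m : ℕ∞) + 1 ≤ Order.height x' + 1 := by gcongr
      _ ≤ Order.height x := Order.height_add_one_le hlt

/-- Dimension of the source of a closed dominant morphism of irreducible schemes. -/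
theorem le_topologicalKrullDim_of_isClosedMap [IrreducibleSpace X] [IrreducibleSpace Y] [IsDominant f]
    [LocallyOfFiniteType f] (hc : IsClosedMap f.base) (n : ℕ) (hn : trdAt f (genericPoint X) = n) :
    topologicalKrullDim Y + n ≤ topologicalKrullDim X := by
  let η := genericPoint Y
  have hfib : Order.krullDim ↥(f.fiber η) = (n : WithBot ℕ∞) := by
    rw [← DimLib.topologicalKrullDim_eq_krullDim, EGA43.Chevalley.fiber_dim_eq_generic f, ← hn]
  have hne : Nonempty ↥(f.fiber η) := by
    refine (Order.krullDim_nonneg_iff).mp ?_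
    rw [hfib]; positivity
  obtain ⟨s, hs⟩ := Order.le_krullDim_iff.mp hfib.ge
  have hmono : StrictMono (f.fiberι η) := by
    intro a b hab
    refine lt_of_le_not_ge (Scheme.le_iff_specializes.mpr ?_) fun h => hab.not_ge (Scheme.le_iff_specializes.mpr ?_)
    · exact (Scheme.le_iff_specializes.mp hab.le).map (f.fiberι η).continuous
    · exact (f.fiberι η).isEmbedding.isInducing.specializes_iff.mp (Scheme.le_iff_specializes.mp h)
  let p : LTSeries X := s.map _ hmono
  have hx0 : f p.head = η := by
    have h := f.range_fiberι η ▸ Set.mem_range_self (f := f.fiberι η) s.head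
    simpa [p] using h
  have hlen : p.length = n := by simpa [p] using hs
  have key : ∀ m : ℕ, (m : ℕ∞) ≤ Order.height η → ((m + n : ℕ) : WithBot ℕ∞) ≤ Order.krullDim X := by
    intro m hm
    obtain ⟨r, hr, hrl⟩ := Order.exists_series_of_le_height p.head
      (hm.trans (hx0 ▸ height_le_of_isClosedMap f hc p.head))
    rw [← hrl, ← hlen]
    exact Order.LTSeries.length_le_krullDim (r.smash p hr)
  have hY : Order.krullDim Y = ((Order.height η : ℕ∞) : WithBot ℕ∞) := by
    refine le_antisymm ?_ (Order.height_le_krullDim η)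
    haveI : Nonempty Y := ⟨η⟩
    rw [Order.krullDim_eq_iSup_height]
    exact iSup_le fun y => WithBot.coe_le_coe.mpr
      (Order.height_mono (Scheme.le_iff_specializes.mpr (genericPoint_specializes y)))
  rw [DimLib.topologicalKrullDim_eq_krullDim, DimLib.topologicalKrullDim_eq_krullDim, hY]
  rcases hm : Order.height η with _ | m
  · have : Order.krullDim X = ⊤ := by
      haveI : Nonempty X := ⟨genericPoint X⟩
      obtain ⟨h, hh⟩ := WithBot.ne_bot_iff_exists.mp (show Order.krullDim X ≠ ⊥ from
        fun h0 => by rw [Order.krullDim_eq_bot_iff] at h0; exact h0.false (genericPoint X))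
      rw [← hh, show h = ⊤ from ENat.eq_top_iff_forall_ge.mpr fun k => ?_, WithBot.coe_top]
      have hk := key k (by rw [hm]; exact le_top)
      rw [← hh] at hk
      exact le_trans (by exact_mod_cast Nat.le_add_right k n) (WithBot.coe_le_coe.mp hk)
    rw [this]; exact le_top
  · exact_mod_cast key m (by rw [hm]; rfl)

end Groth.Agent.CAlgSmall
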