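import Groth.Agent.FlatMorWeight.UnramifiedEtale
import Groth.Prelude.Def_CAlg2

/-! Unramified + injective local map over a geometrically unibranch point is étale near the point. -/

universe u

set_option autoImplicit false

namespace Groth.Agent.CAlgSmall.EtaleUnibranch

theorem exists_etale_away {A B : Type u} [CommRing A] [IsDomain A] [CommRing B]
    [Algebra A B] (q : Ideal B) [q.IsPrime] (p : Ideal A) [p.IsPrime] [q.LiesOver p]
    (hA : CAlg2.IsGeomUnibranch (Localization.AtPrime p)) [Algebra.FiniteType A B] [Algebra.IsUnramifiedAt A q]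
    (hinj : Function.Injective (Localization.localRingHom p q (algebraMap A B) (q.over_def p))) :
    ∃ g : B, g ∉ q ∧ Algebra.Etale A (Localization.Away g) := by
  let Bq := Localization.AtPrime q
  let f : A →+* Bq := (algebraMap B Bq).comp (algebraMap A B)
  have hf : ∀ a, f a = 0 → a = 0 := fun a ha => by
    have h1 := Localization.localRingHom_to_map p q (algebraMap A B) (q.over_def p) a
    have h2 : algebraMap A (Localization.AtPrime p) a = 0 := hinj (by rw [h1, map_zero]; exact ha)
    exact (map_eq_zero_iff _ (IsLocalization.injective _ p.primeCompl_le_nonZeroDivisors)).1 h2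
  let S := (nonZeroDivisors A).map f
  have hdisj : Disjoint ((⊥ : Ideal Bq) : Set Bq) S := by
    rw [Set.disjoint_left]
    rintro x (rfl : x = 0) ⟨a, ha, hax⟩
    exact nonZeroDivisors.ne_zero ha (hf a hax)
  obtain ⟨P, hP, -, hPS⟩ := Ideal.exists_le_prime_disjoint ⊥ S hdisj
  have hle : P.comap (algebraMap B Bq) ≤ q := fun x hx =>
    (IsLocalization.AtPrime.to_map_mem_maximal_iff Bq q x).1 (IsLocalRing.le_maximalIdeal hP.ne_top hx)
  have hbot : (P.comap (algebraMap B Bq)).comap (algebraMap A B) = ⊥ := by
    rw [eq_bot_iff]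
    intro a ha
    by_contra ha0
    exact Set.disjoint_left.1 hPS ha ⟨a, mem_nonZeroDivisors_of_ne_zero ha0, rfl⟩
  exact FlatMorWeight.exists_etale_away q p (q.over_def p).symm hA (P.comap (algebraMap B Bq)) hle hbot

end Groth.Agent.CAlgSmall.EtaleUnibranch
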