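import Mathlib
import Groth.Prelude.Def_Found
import Groth.Agent.CAlgH.Nagata

/-! Eventual bijectivity of `(C ⊗ B)_red` for finite birational subalgebras of a finite extension. -/

set_option autoImplicit false
universe u

open TensorProduct CategoryTheory AlgebraicGeometry

namespace Groth.Agent.CAlgSmall.EventRed

variable {A B K' : Type u} [CommRing A] [IsDomain A] [CommRing B] [Algebra A B] [Field K'] [Algebra A K']
  [Algebra (FractionRing A) K'] [IsScalarTower A (FractionRing A) K']
  [FiniteDimensional (FractionRing A) K']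

/-- The N-2 hypothesis bounds integral elements in the residue fields at minimal primes. -/
theorem exists_fg_bound [IsNoetherianRing B]
    (hJ : ∀ (q : Ideal B) [q.IsPrime], q ∈ minimalPrimes B → CAlg.IsN2 (B ⧸ q)) [Module.Flat A B]
    (Q : Ideal (B ⊗[A] K')) [Q.IsPrime] (hQ : Q ∈ minimalPrimes (B ⊗[A] K'))
    {L : Type u} [Field L] [Algebra B L] (ψ : B ⊗[A] K' →ₐ[B] L) (hker : ∀ w, ψ w = 0 ↔ w ∈ Q)
    (hgen : ∀ z : L, ∃ a b, z = ψ a / ψ b) :
    ∃ N : Submodule B L, N.FG ∧ ∀ (c : K'), IsIntegral A c → ∀ b : B, ψ (b ⊗ₜ c) ∈ N := by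
  classical
  let W := B ⊗[A] K'
  let β : B →+* L := algebraMap B L
  let γ : K' →+* L := ψ.toRingHom.comp Algebra.TensorProduct.includeRight.toRingHom
  have hψβ : ∀ b : B, ψ (algebraMap B W b) = β b := fun b => ψ.commutes b
  have hAK : ∀ a : A, γ (algebraMap A K' a) = β (algebraMap A B a) := fun a => by
    rw [← hψβ]
    show ψ ((1 : B) ⊗ₜ algebraMap A K' a) = ψ (algebraMap A B a ⊗ₜ (1 : K'))
    congr 1
    rw [Algebra.algebraMap_eq_smul_one, Algebra.algebraMap_eq_smul_one, smul_tmul]
  let q := Q.comap (algebraMap B W)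
  haveI : q.IsPrime := Q.comap_isPrime _
  have hq : q ∈ minimalPrimes B := by
    haveI : Module.Flat A K' := Module.Flat.trans A (FractionRing A) K'
    haveI : Q.LiesOver q := ⟨rfl⟩
    refine ⟨⟨inferInstance, bot_le⟩, fun q' hq' hle => ?_⟩
    haveI := hq'.1
    obtain ⟨Q', hQ'Q, hQ', hov⟩ := Ideal.exists_ideal_le_liesOver_of_le (p := q') (q := q) Q hle
    have : Q' = Q := le_antisymm hQ'Q (hQ.2 ⟨hQ', bot_le⟩ hQ'Q)
    subst this
    exact le_of_eq (Ideal.LiesOver.over (P := Q') (p := q')).symm
  have hβker : ∀ b : B, β b = 0 ↔ b ∈ q := fun b => by rw [← hψβ]; exact hker _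
  let β' : B ⧸ q →+* L := Ideal.Quotient.lift q β fun b hb => (hβker b).2 hb
  have hβ' : Function.Injective β' := by
    rw [injective_iff_map_eq_zero]
    intro x hx
    obtain ⟨b, rfl⟩ := Ideal.Quotient.mk_surjective x
    exact Ideal.Quotient.eq_zero_iff_mem.2 ((hβker b).1 hx)
  let F := FractionRing (B ⧸ q)
  letI algq : Algebra (B ⧸ q) L := β'.toAlgebra
  let σ : F →+* L := IsFractionRing.lift hβ'
  letI algF : Algebra F L := σ.toAlgebra
  haveI : IsScalarTower (B ⧸ q) F L := .of_algebraMap_eq fun x =>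
    (IsFractionRing.lift_algebraMap hβ' x).symm
  haveI : IsScalarTower B (B ⧸ q) L := .of_algebraMap_eq fun x => by
    show algebraMap B L x = β' (Ideal.Quotient.mk q x)
    rw [Ideal.Quotient.lift_mk]
  have hKinj : Function.Injective (algebraMap A K') := by
    rw [IsScalarTower.algebraMap_eq A (FractionRing A) K']
    exact (algebraMap (FractionRing A) K').injective.comp (IsFractionRing.injective A _)
  have hθ : Function.Injective ((algebraMap (B ⧸ q) F).comp ((Ideal.Quotient.mk q).comp (algebraMap A B))) := by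
    rw [injective_iff_map_eq_zero]
    intro a ha
    rw [RingHom.comp_apply, map_eq_zero_iff _ (IsFractionRing.injective (B ⧸ q) F), RingHom.comp_apply,
      Ideal.Quotient.eq_zero_iff_mem] at ha
    have h1 := (hβker _).2 ha
    rw [← hAK] at h1
    exact hKinj (γ.injective (h1.trans (map_zero γ).symm) |>.trans (map_zero _).symm)
  let κ : FractionRing A →+* F := IsFractionRing.lift hθ
  have hκ : σ.comp κ = γ.comp (algebraMap (FractionRing A) K') := by
    refine IsLocalization.ringHom_ext (nonZeroDivisors A) (RingHom.ext fun a => ?_)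
    simp only [RingHom.comp_apply, κ, σ, IsFractionRing.lift_algebraMap]
    rw [← IsScalarTower.algebraMap_apply A (FractionRing A) K', hAK]
    rfl
  let e := Module.finBasis (FractionRing A) K'
  let S := IntermediateField.adjoin F (Set.range fun i => γ (e i))
  have hint : ∀ i, IsIntegral F (γ (e i)) := fun i => by
    have h0 : IsIntegral (FractionRing A) (e i) := IsIntegral.of_finite _ _
    exact h0.map_of_comp_eq κ γ hκ
  haveI : FiniteDimensional F S :=
    IntermediateField.finiteDimensional_adjoin (by rintro _ ⟨i, rfl⟩; exact hint i)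
  have hγS : ∀ x : K', γ x ∈ S := fun x => by
    rw [← e.sum_repr x, map_sum]
    refine sum_mem fun i _ => ?_
    rw [Algebra.smul_def, map_mul]
    refine mul_mem ?_ (IntermediateField.subset_adjoin F _ ⟨i, rfl⟩)
    rw [show γ (algebraMap (FractionRing A) K' (e.repr x i)) = σ (κ (e.repr x i)) from
      (RingHom.congr_fun hκ _).symm]
    exact S.algebraMap_mem _
  have hβS : ∀ b : B, β b ∈ S := fun b => by
    rw [show β b = σ (algebraMap (B ⧸ q) F (Ideal.Quotient.mk q b)) from
      ((IsFractionRing.lift_algebraMap hβ' _).trans (Ideal.Quotient.lift_mk _ _ _)).symm]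
    exact S.algebraMap_mem _
  have hWS : ∀ w : W, ψ w ∈ S := fun w => by
    induction w using TensorProduct.induction_on with
    | zero => rw [map_zero]; exact zero_mem _
    | tmul b x =>
      have h1 : (b ⊗ₜ[A] x : W) = algebraMap B W b * Algebra.TensorProduct.includeRight x := by
        show b ⊗ₜ[A] x = (b ⊗ₜ[A] (1 : K')) * ((1 : B) ⊗ₜ[A] x)
        rw [Algebra.TensorProduct.tmul_mul_tmul, mul_one, one_mul]
      rw [h1, map_mul]
      refine mul_mem ?_ (hγS x)
      rw [hψβ]
      exact hβS b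
    | add a b ha hb => rw [map_add]; exact add_mem ha hb
  have htop : S = ⊤ := by
    rw [eq_top_iff]
    intro z _
    obtain ⟨a, b, rfl⟩ := hgen z
    exact div_mem (hWS a) (hWS b)
  haveI : FiniteDimensional F L :=
    Module.Finite.equiv ((IntermediateField.equivOfEq htop).trans IntermediateField.topEquiv).toLinearEquiv
  have hfin : Module.Finite (B ⧸ q) (integralClosure (B ⧸ q) L) :=
    CAlgH.isN2_apply (hJ q hq) F L
  haveI := hfin
  haveI : Module.Finite B (B ⧸ q) := inferInstance
  haveI : Module.Finite B (integralClosure (B ⧸ q) L) := Module.Finite.trans (B ⧸ q) _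
  refine ⟨(Subalgebra.toSubmodule (integralClosure (B ⧸ q) L)).restrictScalars B,
    Module.Finite.iff_fg.1 ‹_›, fun c hc b => ?_⟩
  have h1 : (b ⊗ₜ[A] c : W) = algebraMap B W b * Algebra.TensorProduct.includeRight c := by
        show b ⊗ₜ[A] c = (b ⊗ₜ[A] (1 : K')) * ((1 : B) ⊗ₜ[A] c)
        rw [Algebra.TensorProduct.tmul_mul_tmul, mul_one, one_mul]
  show IsIntegral (B ⧸ q) (ψ (b ⊗ₜ[A] c))
  rw [h1, map_mul]
  refine IsIntegral.mul ?_ ?_
  · rw [hψβ, show β b = algebraMap (B ⧸ q) L (Ideal.Quotient.mk q b) from IsScalarTower.algebraMap_apply B (B ⧸ q) L b]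
    exact isIntegral_algebraMap
  · exact hc.map_of_comp_eq ((Ideal.Quotient.mk q).comp (algebraMap A B)) γ (RingHom.ext fun a => by
      simp only [RingHom.comp_apply]
      rw [hAK]
      exact Ideal.Quotient.lift_mk _ _ _)

/-- Finite subalgebras generating `K'` as fraction field. -/
def P (A K' : Type u) [CommRing A] [Field K'] [Algebra A K'] (C : Subalgebra A K') : Prop :=
  Module.Finite A C ∧ ∀ x : K', ∃ a b : C, (b : K') ≠ 0 ∧ x * b = a

omit [IsDomain A] [Algebra (FractionRing A) K'] [IsScalarTower A (FractionRing A) K']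
  [FiniteDimensional (FractionRing A) K'] in
theorem P_sup {C D : Subalgebra A K'} (hC : P A K' C) (hD : Module.Finite A D) :
    P A K' (C ⊔ D) := by
  haveI := hC.1
  haveI := hD
  refine ⟨Subalgebra.finite_sup C D, fun x => ?_⟩
  obtain ⟨a, b, hb, h⟩ := hC.2 x
  exact ⟨⟨a, (le_sup_left : C ≤ C ⊔ D) a.2⟩, ⟨b, (le_sup_left : C ≤ C ⊔ D) b.2⟩, hb, h⟩

theorem exists_P : ∃ C : Subalgebra A K', P A K' C := by
  classical
  let e := Module.finBasis (FractionRing A) K'
  haveI : Algebra.IsAlgebraic A K' :=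
    (IsFractionRing.comap_isAlgebraic_iff (A := A) (K := FractionRing A) (C := K')).2 inferInstance
  obtain ⟨y, hy0, hy⟩ := Algebra.IsAlgebraic.exists_integral_multiples A (Finset.univ.image e)
  let S : Set K' := Set.range fun i => y • e i
  let C := Algebra.adjoin A S
  have hKinj : Function.Injective (algebraMap A K') := by
    rw [IsScalarTower.algebraMap_eq A (FractionRing A) K']
    exact (algebraMap (FractionRing A) K').injective.comp (IsFractionRing.injective A _)
  refine ⟨C, Module.Finite.iff_fg.2 (fg_adjoin_of_finite (Set.finite_range _) ?_), fun x => ?_⟩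
  · rintro _ ⟨i, rfl⟩
    exact hy _ (Finset.mem_image_of_mem _ (Finset.mem_univ i))
  obtain ⟨⟨d, hd⟩, hnum⟩ := IsLocalization.exist_integer_multiples_of_finite (nonZeroDivisors A)
    fun i => e.repr x i
  choose num hnum using hnum
  have hmem : x * algebraMap A K' (d * y) ∈ C := by
    rw [show x * algebraMap A K' (d * y) = ∑ i, e.repr x i • e i * algebraMap A K' (d * y) by
      rw [← Finset.sum_mul, e.sum_repr]]
    refine Subalgebra.sum_mem _ fun i _ => ?_
    have h1 : algebraMap A K' (num i) = algebraMap A K' d * algebraMap (FractionRing A) K' (e.repr x i) := by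
      rw [IsScalarTower.algebraMap_apply A (FractionRing A) K' (num i), hnum i, Algebra.smul_def,
        map_mul, ← IsScalarTower.algebraMap_apply]
    have h2 : e.repr x i • e i * algebraMap A K' (d * y) = algebraMap A K' (num i) * (y • e i) := by
      rw [Algebra.smul_def, Algebra.smul_def, map_mul, h1]; ring
    rw [h2]
    exact C.mul_mem (C.algebraMap_mem _) (Algebra.subset_adjoin ⟨i, rfl⟩)
  refine ⟨⟨_, hmem⟩, ⟨_, C.algebraMap_mem (d * y)⟩, ?_, rfl⟩
  exact fun h => mul_ne_zero (nonZeroDivisors.ne_zero hd) hy0 (hKinj (h.trans (map_zero _).symm))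

theorem exists_stable [IsNoetherianRing B] [Module.Flat A B]
    (hJ : ∀ (q : Ideal B) [q.IsPrime], q ∈ minimalPrimes B → CAlg.IsN2 (B ⧸ q)) :
    ∃ Cα : Subalgebra A K', P A K' Cα ∧
      (∀ C : Subalgebra A K', P A K' C → ∀ hle : Cα ≤ C,
        (∀ x : ↥Cα ⊗[A] B, IsNilpotent (Algebra.TensorProduct.map (Subalgebra.inclusion hle) (AlgHom.id A B) x) →
          IsNilpotent x) ∧
        (∀ y : ↥C ⊗[A] B, ∃ x : ↥Cα ⊗[A] B,
          IsNilpotent (Algebra.TensorProduct.map (Subalgebra.inclusion hle) (AlgHom.id A B) x - y))) := by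
  classical
  let W := B ⊗[A] K'
  haveI : Algebra.EssFiniteType A K' := Algebra.EssFiniteType.comp A (FractionRing A) K'
  haveI : Algebra.EssFiniteType B W := inferInstance
  haveI : IsNoetherianRing W := Algebra.EssFiniteType.isNoetherianRing B W
  haveI : Finite (minimalPrimes W) := (minimalPrimes.finite_of_isNoetherianRing W).to_subtype
  haveI (Q : minimalPrimes W) : Q.1.IsPrime := Q.2.1.1
  let Φ : W →ₐ[B] (∀ Q : minimalPrimes W, FractionRing (W ⧸ Q.1)) :=
    { (Pi.ringHom fun Q : minimalPrimes W => algebraMap W (FractionRing (W ⧸ Q.1))) with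
      commutes' := fun b => funext fun Q => (IsScalarTower.algebraMap_apply B W _ b).symm }
  have hΦ : ∀ w, Φ w = 0 → IsNilpotent w := fun w hw => by
    rw [← mem_nilradical, nilradical, Ideal.radical_eq_sInf, Ideal.mem_sInf]
    intro J hJ'
    haveI := hJ'.2
    obtain ⟨Q, hQ, hQJ⟩ := Ideal.exists_minimalPrimes_le (I := (⊥ : Ideal W)) (J := J) bot_le
    have h := congrFun hw ⟨Q, hQ⟩
    haveI := hQ.1.1
    change algebraMap W (FractionRing (W ⧸ Q)) w = 0 at h
    rw [IsScalarTower.algebraMap_apply W (W ⧸ Q), map_eq_zero_iff _ (IsFractionRing.injective (W ⧸ Q) _)] at h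
    exact hQJ (Ideal.Quotient.eq_zero_iff_mem.1 h)
  choose N hNfg hN using fun Q : minimalPrimes W => exists_fg_bound (K' := K') hJ Q.1 Q.2
    (IsScalarTower.toAlgHom B W (FractionRing (W ⧸ Q.1)))
    (fun w => by
      show algebraMap W (FractionRing (W ⧸ Q.1)) w = 0 ↔ _
      rw [IsScalarTower.algebraMap_apply W (W ⧸ Q.1),
        map_eq_zero_iff _ (IsFractionRing.injective (W ⧸ Q.1) _)]
      exact Ideal.Quotient.eq_zero_iff_mem)
    (fun z => by
      obtain ⟨a, b, -, rfl⟩ := IsFractionRing.div_surjective (W ⧸ Q.1) z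
      obtain ⟨a, rfl⟩ := Ideal.Quotient.mk_surjective a
      obtain ⟨b, rfl⟩ := Ideal.Quotient.mk_surjective b
      exact ⟨a, b, rfl⟩)
  let T : Submodule B (∀ Q : minimalPrimes W, FractionRing (W ⧸ Q.1)) := Submodule.pi Set.univ N
  haveI : IsNoetherian B T := by
    haveI := Fintype.ofFinite (minimalPrimes W)
    exact isNoetherian_of_fg_of_noetherian T (Submodule.fg_pi fun Q => hNfg Q)
  let img : Subalgebra A K' → Submodule B (∀ Q : minimalPrimes W, FractionRing (W ⧸ Q.1)) := fun C =>
    LinearMap.range (Φ.comp (Algebra.TensorProduct.map (AlgHom.id B B) C.val)).toLinearMap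
  have himg : ∀ C, P A K' C → img C ≤ T := by
    rintro C hC _ ⟨z, rfl⟩
    haveI := hC.1
    induction z using TensorProduct.induction_on with
    | zero => rw [map_zero]; exact zero_mem _
    | tmul b c =>
      intro Q _
      exact hN Q _ ((IsIntegral.of_finite A c).map C.val) b
    | add a b ha hb => rw [map_add]; exact add_mem ha hb
  obtain ⟨C₀, hC₀⟩ := exists_P (A := A) (K' := K')
  let 𝒮 : Set (Submodule B T) :=
    {M | ∃ C, P A K' C ∧ M = (img C).comap T.subtype}
  obtain ⟨M, ⟨Cα, hCα, rfl⟩, hmax⟩ := wellFounded_gt.has_min 𝒮 ⟨_, C₀, hC₀, rfl⟩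
  refine ⟨Cα, hCα, fun C hC hle => ?_⟩
  have himgeq : img C ≤ img Cα := by
    intro z hz
    have hmono : img Cα ≤ img C := by
      rintro _ ⟨w, rfl⟩
      refine ⟨Algebra.TensorProduct.map (AlgHom.id A B) (Subalgebra.inclusion hle) w, ?_⟩
      induction w using TensorProduct.induction_on with
      | zero => simp only [map_zero]
      | tmul b c => rfl
      | add a b ha hb => simp only [map_add, ha, hb]
    have h1 : (img C).comap T.subtype ≤ (img Cα).comap T.subtype := by
      by_contra h
      exact hmax _ ⟨C, hC, rfl⟩ (lt_of_le_of_ne (Submodule.comap_mono hmono) fun he => h he.ge)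
    exact h1 (x := ⟨z, himg C hC hz⟩) hz
  have hinj : ∀ D : Subalgebra A K', Function.Injective
      (Algebra.TensorProduct.map (AlgHom.id A B) D.val) := fun D =>
    Module.Flat.lTensor_preserves_injective_linearMap (M := B) D.val.toLinearMap Subtype.val_injective
  have hnil : ∀ (D : Subalgebra A K') (z : ↥D ⊗[A] B),
      IsNilpotent ((Algebra.TensorProduct.map (AlgHom.id A B) D.val)
        (Algebra.TensorProduct.comm A D B z)) → IsNilpotent z := fun D z hz =>
    (IsNilpotent.map_iff (f := ((Algebra.TensorProduct.map (AlgHom.id A B) D.val).comp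
      (Algebra.TensorProduct.comm A D B).toAlgHom))
      ((hinj D).comp (Algebra.TensorProduct.comm A D B).injective)).1 hz
  have hcompat : ∀ x : ↥Cα ⊗[A] B,
      Algebra.TensorProduct.map (AlgHom.id A B) C.val (Algebra.TensorProduct.comm A C B
        (Algebra.TensorProduct.map (Subalgebra.inclusion hle) (AlgHom.id A B) x)) =
      Algebra.TensorProduct.map (AlgHom.id A B) Cα.val (Algebra.TensorProduct.comm A Cα B x) := fun x => by
    induction x using TensorProduct.induction_on with
    | zero => simp only [map_zero]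
    | tmul c b => rfl
    | add a b ha hb => simp only [map_add, ha, hb]
  refine ⟨fun x hx => hnil Cα x ?_, fun y => ?_⟩
  · rw [← hcompat]
    exact (hx.map (Algebra.TensorProduct.comm A C B)).map _
  · obtain ⟨x', hx'⟩ := himgeq ⟨Algebra.TensorProduct.comm A C B y, rfl⟩
    refine ⟨(Algebra.TensorProduct.comm A Cα B).symm x', hnil C _ (hΦ _ ?_)⟩
    rw [map_sub, map_sub, map_sub, hcompat, AlgEquiv.apply_symm_apply]
    exact sub_eq_zero.2 hx'

/-- The radicial part. -/
theorem universallyInjective_inclusion {A B K' : Type u} [CommRing A] [CommRing B] [Algebra A B] [Field K']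
    [Algebra A K'] (hff : Module.FaithfullyFlat A B) (Cα : Subalgebra A K') (hCα : P A K' Cα)
    (h : ∀ C : Subalgebra A K', P A K' C → ∀ hle : Cα ≤ C, ∀ y : ↥C ⊗[A] B, ∃ x : ↥Cα ⊗[A] B,
      IsNilpotent (Algebra.TensorProduct.map (Subalgebra.inclusion hle) (AlgHom.id A B) x - y))
    (hint : Cα ≤ integralClosure A K') :
    UniversallyInjective (Spec.map (CommRingCat.ofHom (Subalgebra.inclusion hint).toRingHom)) := by
  refine ((tfae_universallyInjective _).out 0 1).2 fun K iK g₁ g₂ hg => ?_
  letI : Field K := iK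
  obtain ⟨u₁, rfl⟩ := Spec.map_surjective g₁
  obtain ⟨u₂, rfl⟩ := Spec.map_surjective g₂
  simp only [← Spec.map_comp] at hg
  have hg' : ∀ c : Cα, u₁.hom (Subalgebra.inclusion hint c) = u₂.hom (Subalgebra.inclusion hint c) :=
    fun c => congr($(Spec.map_injective hg).hom c)
  suffices he : u₁.hom = u₂.hom by rw [CommRingCat.hom_ext he]
  ext ⟨a, ha⟩
  let C := Cα ⊔ Algebra.adjoin A {a}
  have hC : P A K' C := P_sup hCα (Module.Finite.iff_fg.2
    (ha.fg_adjoin_singleton : (Subalgebra.toSubmodule (Algebra.adjoin A ({a} : Set K'))).FG))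
  have hCi : C ≤ integralClosure A K' := sup_le hint (Algebra.adjoin_le (Set.singleton_subset_iff.2 ha))
  letI : Algebra A K := (u₁.hom.comp (algebraMap A (integralClosure A K'))).toAlgebra
  let v₁ : C →ₐ[A] K := ⟨u₁.hom.comp (Subalgebra.inclusion hCi).toRingHom, fun r => rfl⟩
  let v₂ : C →ₐ[A] K := ⟨u₂.hom.comp (Subalgebra.inclusion hCi).toRingHom, fun r =>
    (hg' (algebraMap A Cα r)).symm⟩
  haveI := hff
  haveI : Nontrivial (K ⊗[A] B) := inferInstance
  obtain ⟨M, hM⟩ := Ideal.exists_maximal (K ⊗[A] B)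
  let G : (C →ₐ[A] K) → (↥C ⊗[A] B →+* (K ⊗[A] B) ⧸ M) := fun v =>
    (Ideal.Quotient.mk M).comp (Algebra.TensorProduct.map v (AlgHom.id A B)).toRingHom
  have le' : Cα ≤ C := le_sup_left
  obtain ⟨x, hx⟩ := h C hC le'
    ((⟨a, (le_sup_right : _ ≤ C) (Algebra.self_mem_adjoin_singleton A a)⟩ : C) ⊗ₜ[A] (1 : B))
  have hGx : ∀ z, G v₁ (Algebra.TensorProduct.map (Subalgebra.inclusion le') (AlgHom.id A B) z) =
      G v₂ (Algebra.TensorProduct.map (Subalgebra.inclusion le') (AlgHom.id A B) z) := fun z => by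
    induction z using TensorProduct.induction_on with
    | zero => simp only [map_zero]
    | tmul c b =>
      exact congrArg (Ideal.Quotient.mk M) (congrArg (· ⊗ₜ[A] (AlgHom.id A B b)) (hg' c))
    | add p r hp hr =>
      simp only [map_add] at hp hr ⊢
      exact congrArg₂ (· + ·) hp hr
  have hred : ∀ v, G v (Algebra.TensorProduct.map (Subalgebra.inclusion le') (AlgHom.id A B) x) =
      G v ((⟨a, (le_sup_right : _ ≤ C) (Algebra.self_mem_adjoin_singleton A a)⟩ : C) ⊗ₜ[A] (1 : B)) :=
    fun v => by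
      haveI : IsReduced ((K ⊗[A] B) ⧸ M) := inferInstance
      exact sub_eq_zero.1 (by rw [← map_sub]; exact (hx.map (G v)).eq_zero)
  have hGx := hGx x
  rw [hred, hred] at hGx
  have hj : Function.Injective ((Ideal.Quotient.mk M).comp
      (Algebra.TensorProduct.includeLeftRingHom : K →+* K ⊗[A] B)) := RingHom.injective _
  exact hj hGx

end Groth.Agent.CAlgSmall.EventRed
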