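import Mathlib
import Groth.Prelude.Def_Found
import Groth.Agent.CAlgSmall.EventRed

/-! Finiteness of the integral closure from reducedness after base change. -/

set_option autoImplicit false
universe u

open TensorProduct

namespace Groth.Agent.CAlgSmall.EventRed

variable {A B K' : Type u} [CommRing A] [IsDomain A] [CommRing B] [Algebra A B] [Field K'] [Algebra A K']
  [Algebra (FractionRing A) K'] [IsScalarTower A (FractionRing A) K']
  [FiniteDimensional (FractionRing A) K']

theorem finite_integralClosure [IsNoetherianRing B] [Module.FaithfullyFlat A B]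
    (hJ : ∀ (q : Ideal B) [q.IsPrime], q ∈ minimalPrimes B → CAlg.IsN2 (B ⧸ q))
    [IsReduced (B ⊗[A] K')] : Module.Finite A (integralClosure A K') := by
  obtain ⟨Cα, hCα, h⟩ := exists_stable (A := A) (B := B) (K' := K') hJ
  have hred : ∀ D : Subalgebra A K', IsReduced (↥D ⊗[A] B) := fun D =>
    isReduced_of_injective (((Algebra.TensorProduct.map (AlgHom.id A B) D.val).comp
      (Algebra.TensorProduct.comm A D B).toAlgHom))
      ((Module.Flat.lTensor_preserves_injective_linearMap (M := B) D.val.toLinearMap
        Subtype.val_injective).comp (Algebra.TensorProduct.comm A D B).injective)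
  have hα : ∀ x ∈ Cα, IsIntegral A x := fun x hx => by
    haveI := hCα.1
    exact (IsIntegral.of_finite A (⟨x, hx⟩ : Cα)).map Cα.val
  have heq : integralClosure A K' = Cα := by
    refine le_antisymm (fun a ha => ?_) hα
    have hC : P A K' (Cα ⊔ Algebra.adjoin A {a}) := P_sup hCα
      (Module.Finite.iff_fg.2 ((show IsIntegral A a from ha).fg_adjoin_singleton))
    let C := Cα ⊔ Algebra.adjoin A {a}
    have hle : Cα ≤ C := le_sup_left
    have hsurj : Function.Surjective ((Subalgebra.inclusion hle).toLinearMap.lTensor B) := by
      rw [LinearMap.lTensor_surj_iff_rTensor_surj]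
      intro y
      obtain ⟨x, hx⟩ := (h C hC hle).2 y
      haveI := hred C
      exact ⟨x, sub_eq_zero.1 hx.eq_zero⟩
    obtain ⟨b, hb⟩ := (Module.FaithfullyFlat.lTensor_surjective_iff_surjective A B
      (Subalgebra.inclusion hle).toLinearMap).1 hsurj
      ⟨a, (le_sup_right : _ ≤ C) (Algebra.self_mem_adjoin_singleton A a)⟩
    have hba : (b : K') = a := congrArg Subtype.val hb
    exact hba ▸ b.2
  rw [heq]
  exact hCα.1

/-- `B ⊗ K'` is reduced if the base change to a ring containing `B` is. -/
theorem isReduced_tensor_of_injective {R : Type u} [CommRing R] [Algebra A R] (ι : B →ₐ[A] R)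
    (hι : Function.Injective ι) (h : IsReduced (R ⊗[A] K')) : IsReduced (B ⊗[A] K') := by
  haveI : Module.Flat A K' := Module.Flat.trans A (FractionRing A) K'
  haveI := h
  exact isReduced_of_injective (Algebra.TensorProduct.map ι (AlgHom.id A K'))
    (Module.Flat.rTensor_preserves_injective_linearMap (M := K') ι.toLinearMap hι)

end Groth.Agent.CAlgSmall.EventRed
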