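import Groth.Agent.CAlgSmall.SingleExt
import Groth.Agent.DCat.RHomCxProj

/-! `Ext` from pseudo-coherent objects into the adic system of a finite module. -/

set_option autoImplicit false
set_option backward.isDefEq.respectTransparency false
set_option backward.defeqAttrib.useBackward true
set_option linter.style.haveILetI false

universe u

open CategoryTheory CategoryTheory.Limits HomologicalComplex
attribute [local instance] HasDerivedCategory.standard

namespace Groth.Agent.CAlgSmall.ExtEssConst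

open SingleExt

variable {A : Type u} [CommRing A]

lemma exists_rep {K : Dual.D A} (hK : DRing.IsPseudoCoherent' A K) :
    ∃ (E : DRing.Cx A) (_ : E.IsKProjective), DRing.TermwiseFiniteFree E ∧ Nonempty (DRing.toD E ≅ K) := by
  obtain ⟨E, b, hb, hf, he⟩ := hK
  exact ⟨E, DCat.isKProjective_of_vanishesAbove E b hb (DRingLib.projective_of_free hf), hf, he⟩

variable [IsNoetherianRing A]

/-- Ext into `Iⁿ M` lands in `Iⁿ⁻ᶜ Ext`. -/
theorem exists_image_pow (I : Ideal A) (K : Dual.D A) (hK : DRing.IsPseudoCoherent' A K) (M : Type u)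
    [AddCommGroup M] [Module A M] [Module.Finite A M] (p : ℤ) :
    ∃ c : ℕ, ∀ n : ℕ, ∀ e : K ⟶ (Dual.inD A ↥(I ^ n • ⊤ : Submodule A M))⟦p⟧,
      e ≫ ((DerivedCategory.singleFunctor (ModuleCat.{u} A) 0).map
            (ModuleCat.ofHom (I ^ n • ⊤ : Submodule A M).subtype))⟦p⟧' ∈
        (I ^ (n - c) • ⊤ : Submodule A (K ⟶ (Dual.inD A M)⟦p⟧)) := by
  obtain ⟨E, _, hf, ⟨ι⟩⟩ := exists_rep hK
  obtain ⟨c, hc⟩ := exists_cls_mem E p I (ModuleCat.of A M) hf
  refine ⟨c, fun n e => ?_⟩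
  obtain ⟨z, hz⟩ := cls_surjective E p (ModuleCat.of A ↥(I ^ n • ⊤ : Submodule A M)) (ι.hom ≫ e)
  let s : ModuleCat.of A ↥(I ^ n • ⊤ : Submodule A M) ⟶ ModuleCat.of A M :=
    ModuleCat.ofHom (I ^ n • ⊤ : Submodule A M).subtype
  have h1 := hc n ⟨z.1 ≫ s, mem_Cyc_comp E p s z⟩ fun x => (z.1 x).2
  rw [cls_naturality E p s z, hz] at h1
  have h2 := Submodule.mem_map_of_mem
    (f := Linear.leftComp A ((Dual.inD A (ModuleCat.of A M))⟦p⟧) ι.inv) h1
  rw [Submodule.map_smul''] at h2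
  have h3 := Submodule.smul_mono le_rfl le_top h2
  simp only [Linear.leftComp_apply, Category.assoc, Iso.inv_hom_id_assoc] at h3
  exact h3

theorem finite_ext (K : Dual.D A) (hK : DRing.IsPseudoCoherent' A K) (M : Type u)
    [AddCommGroup M] [Module A M] [Module.Finite A M] (p : ℤ) :
    Module.Finite A (K ⟶ (Dual.inD A M)⟦p⟧) := by
  obtain ⟨E, _, hf, ⟨ι⟩⟩ := exists_rep hK
  haveI := finite_shiftHom E p (ModuleCat.of A M) hf
  refine Module.Finite.of_surjective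
    (Linear.leftComp A ((Dual.inD A (ModuleCat.of A M))⟦p⟧) ι.inv) fun x => ⟨ι.hom ≫ x, ?_⟩
  exact ι.inv_hom_id_assoc x

lemma eq_zero_of_mem_pow {I : Ideal A} {H : Type*} [AddCommGroup H] [Module A H] {t k : ℕ}
    (ht : I ^ t • (⊤ : Submodule A H) = ⊥) (hk : t ≤ k) {x : H}
    (hx : x ∈ I ^ k • (⊤ : Submodule A H)) : x = 0 :=
  (Submodule.mem_bot A).1 (ht.le (Submodule.smul_mono_left (Ideal.pow_le_pow_right hk) hx))

variable (I : Ideal A) (K : Dual.D A) (hK : DRing.IsPseudoCoherent' A K) (a : ℤ)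
  (htors : ∀ (M : Type u) [AddCommGroup M] [Module A M], Module.Finite A M → ∀ i : ℤ, a ≤ i →
    ∀ e : K ⟶ (Dual.inD A M)⟦i⟧, ∃ n : ℕ, ∀ x ∈ I ^ n, x • e = 0)
  (M : Type u) [AddCommGroup M] [Module A M] [Module.Finite A M] (i : ℤ) (hi : a ≤ i)

include hK htors hi in
theorem exists_injective : ∃ m : ℕ, Function.Injective fun e : K ⟶ (Dual.inD A M)⟦i⟧ =>
    e ≫ ((DerivedCategory.singleFunctor (ModuleCat.{u} A) 0).map
      (ModuleCat.ofHom (I ^ m • ⊤ : Submodule A M).mkQ))⟦i⟧' := by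
  obtain ⟨E, _, hf, ⟨ι⟩⟩ := exists_rep hK
  obtain ⟨c, hc⟩ := exists_cls_mem E i I (ModuleCat.of A M) hf
  haveI := finite_shiftHom E i (ModuleCat.of A M) hf
  obtain ⟨t, ht⟩ := exists_pow_smul_top_eq_bot I
    (H := DRing.toD E ⟶ (Dual.inD A (ModuleCat.of A M))⟦i⟧) fun y => by
      obtain ⟨n, hn⟩ := htors M inferInstance i hi (ι.inv ≫ y)
      refine ⟨n, fun x hx => ?_⟩
      have h := hn x hx
      rw [← Linear.comp_smul] at h
      exact (cancel_epi ι.inv).1 (h.trans comp_zero.symm)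
  refine ⟨t + c, fun e e' h => ?_⟩
  let q : ModuleCat.of A M ⟶ ModuleCat.of A (M ⧸ (I ^ (t + c) • ⊤ : Submodule A M)) :=
    ModuleCat.ofHom (I ^ (t + c) • ⊤ : Submodule A M).mkQ
  obtain ⟨z, hz⟩ := cls_surjective E i (ModuleCat.of A M) (ι.hom ≫ (e - e'))
  have h0 : cls E i _ ⟨z.1 ≫ q, mem_Cyc_comp E i q z⟩ = 0 := by
    rw [cls_naturality E i q z, hz, Category.assoc]
    refine (congrArg _ ?_).trans comp_zero
    exact (Preadditive.sub_comp _ _ _).trans (sub_eq_zero.2 h)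
  obtain ⟨g, hg⟩ := (cls_eq_zero_iff E i _ (-i + 1) rfl).1 h0
  haveI : Projective (E.X (-i + 1)) :=
    (IsProjective.iff_projective _).1 (DRingLib.projective_of_free hf _)
  haveI : Epi q := (ModuleCat.epi_iff_surjective _).2 (Submodule.mkQ_surjective _)
  let g' := Projective.factorThru g q
  have hg' : g' ≫ q = g := Projective.factorThru_comp g q
  let z' : Cyc E i (ModuleCat.of A M) := ⟨z.1 - E.d (-i) (-i + 1) ≫ g', by
    rw [mem_Cyc, Preadditive.comp_sub, (mem_Cyc E i z.1).1 z.2, E.d_comp_d_assoc]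
    simp⟩
  have hzz : cls E i _ z' = cls E i _ z := by
    rw [← sub_eq_zero, ← map_sub, cls_eq_zero_iff E i _ (-i + 1) rfl]
    exact ⟨-g', by simp [z']⟩
  have hval : ∀ x, z'.1 x ∈ I ^ (t + c) • (⊤ : Submodule A M) := fun x => by
    have h1 : z'.1 ≫ q = 0 := by
      simp only [z', Preadditive.sub_comp, Category.assoc, hg', sub_eq_zero]
      exact hg
    exact (Submodule.Quotient.mk_eq_zero _).1 (congr($h1 x))
  have h2 : ι.hom ≫ (e - e') = 0 := by
    rw [← hz, ← hzz]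
    exact eq_zero_of_mem_pow ht (by omega) (hc (t + c) z' hval)
  exact sub_eq_zero.1 ((cancel_epi ι.hom).1 (h2.trans comp_zero.symm))

include hK htors hi in
theorem exists_range_subset (n : ℕ) : ∃ (m' : ℕ) (hnm : n ≤ m'),
    ∀ e : K ⟶ (Dual.inD A (M ⧸ (I ^ m' • ⊤ : Submodule A M)))⟦i⟧,
      ∃ e' : K ⟶ (Dual.inD A M)⟦i⟧,
        e' ≫ ((DerivedCategory.singleFunctor (ModuleCat.{u} A) 0).map
            (ModuleCat.ofHom (I ^ n • ⊤ : Submodule A M).mkQ))⟦i⟧' =
          e ≫ ((DerivedCategory.singleFunctor (ModuleCat.{u} A) 0).map (ModuleCat.ofHom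
            (Submodule.mapQ (I ^ m' • ⊤ : Submodule A M) (I ^ n • ⊤) (LinearMap.id : M →ₗ[A] M)
              (Submodule.smul_mono_left (Ideal.pow_le_pow_right hnm)))))⟦i⟧' := by
  obtain ⟨E, _, hf, ⟨ι⟩⟩ := exists_rep hK
  let N : Submodule A M := I ^ n • ⊤
  obtain ⟨c, hc⟩ := exists_cls_mem E (i + 1) I (ModuleCat.of A N) hf
  haveI := finite_shiftHom E (i + 1) (ModuleCat.of A N) hf
  obtain ⟨t, ht⟩ := exists_pow_smul_top_eq_bot I
    (H := DRing.toD E ⟶ (Dual.inD A (ModuleCat.of A N))⟦i + 1⟧) fun y => by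
      obtain ⟨k, hk⟩ := htors N inferInstance (i + 1) (by omega) (ι.inv ≫ y)
      refine ⟨k, fun x hx => ?_⟩
      have h := hk x hx
      rw [← Linear.comp_smul] at h
      exact (cancel_epi ι.inv).1 (h.trans comp_zero.symm)
  refine ⟨n + (c + t), Nat.le_add_right _ _, fun e => ?_⟩
  let q : ModuleCat.of A M ⟶ ModuleCat.of A (M ⧸ (I ^ (n + (c + t)) • ⊤ : Submodule A M)) :=
    ModuleCat.ofHom (I ^ (n + (c + t)) • ⊤ : Submodule A M).mkQ
  let qn : ModuleCat.of A M ⟶ ModuleCat.of A (M ⧸ N) := ModuleCat.ofHom N.mkQ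
  let τ : ModuleCat.of A (M ⧸ (I ^ (n + (c + t)) • ⊤ : Submodule A M)) ⟶ ModuleCat.of A (M ⧸ N) :=
    ModuleCat.ofHom (Submodule.mapQ (I ^ (n + (c + t)) • ⊤ : Submodule A M) N LinearMap.id
      (Submodule.smul_mono_left (Ideal.pow_le_pow_right (Nat.le_add_right _ _))))
  have hqτ : q ≫ τ = qn := by ext x; rfl
  obtain ⟨x, hx⟩ := cls_surjective E i (ModuleCat.of A (M ⧸ (I ^ (n + (c + t)) • ⊤ : Submodule A M))) (ι.hom ≫ e)
  haveI : Projective (E.X (-i)) :=
    (IsProjective.iff_projective _).1 (DRingLib.projective_of_free hf _)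
  haveI : Epi q := (ModuleCat.epi_iff_surjective _).2 (Submodule.mkQ_surjective _)
  let φ := Projective.factorThru x.1 q
  have hφ : φ ≫ q = x.1 := Projective.factorThru_comp x.1 q
  let δ : E.X (-(i + 1)) ⟶ ModuleCat.of A M := E.d (-(i + 1)) (-i) ≫ φ
  have hδq : δ ≫ q = 0 := by
    rw [Category.assoc, hφ, show -(i + 1) = -i - 1 by omega]
    exact (mem_Cyc E i x.1).1 x.2
  have hδ : ∀ v, δ v ∈ I ^ (c + t) • N := fun v => by
    rw [← Submodule.mul_smul, ← pow_add, add_comm]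
    exact (Submodule.Quotient.mk_eq_zero _).1 (congr($hδq v))
  let δ' : E.X (-(i + 1)) ⟶ ModuleCat.of A N :=
    ModuleCat.ofHom (δ.hom.codRestrict N fun v => Submodule.smul_le_right (hδ v))
  have hδ' : δ' ≫ ModuleCat.ofHom N.subtype = δ := by ext v; rfl
  have hcyc : δ' ∈ Cyc E (i + 1) (ModuleCat.of A N) := by
    rw [mem_Cyc]
    haveI : Mono (ModuleCat.ofHom N.subtype) := (ModuleCat.mono_iff_injective _).2 N.injective_subtype
    rw [← cancel_mono (ModuleCat.ofHom N.subtype), Category.assoc, hδ', zero_comp]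
    exact E.d_comp_d_assoc _ _ _ _ |>.trans zero_comp
  have hval : ∀ v, δ' v ∈ I ^ (c + t) • (⊤ : Submodule A N) := fun v => by
    have h1 : ((δ' v : N) : M) ∈ (I ^ (c + t) • (⊤ : Submodule A N)).map N.subtype := by
      rw [Submodule.map_smul'', Submodule.map_subtype_top]; exact hδ v
    obtain ⟨w, hw, hwe⟩ := h1
    rwa [Subtype.ext (a1 := w) (a2 := δ' v) hwe] at hw
  have hzero : cls E (i + 1) _ ⟨δ', hcyc⟩ = 0 :=
    eq_zero_of_mem_pow ht (by omega) (hc (c + t) ⟨δ', hcyc⟩ hval)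
  obtain ⟨h, hh⟩ := (cls_eq_zero_iff E (i + 1) _ (-i) (by omega)).1 hzero
  let z : Cyc E i (ModuleCat.of A M) := ⟨φ - h ≫ ModuleCat.ofHom N.subtype, by
    rw [mem_Cyc, Preadditive.comp_sub, sub_eq_zero, show -i - 1 = -(i + 1) by omega]
    exact hδ'.symm.trans ((congrArg (· ≫ _) hh).trans (Category.assoc _ _ _))⟩
  refine ⟨ι.inv ≫ cls E i _ z, ?_⟩
  have hcy : z.1 ≫ qn = x.1 ≫ τ := by
    have h0 : ModuleCat.ofHom N.subtype ≫ qn = 0 := by
      ext v; exact (Submodule.Quotient.mk_eq_zero _).2 v.2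
    simp only [z, Preadditive.sub_comp, Category.assoc, h0, comp_zero, sub_zero]
    rw [← hqτ, ← Category.assoc, hφ]
  have key : cls E i _ z ≫ ((DerivedCategory.singleFunctor (ModuleCat.{u} A) 0).map qn)⟦i⟧' =
      (ι.hom ≫ e) ≫ ((DerivedCategory.singleFunctor (ModuleCat.{u} A) 0).map τ)⟦i⟧' := by
    rw [← hx, ← cls_naturality E i qn z (mem_Cyc_comp E i qn z),
      ← cls_naturality E i τ x (mem_Cyc_comp E i τ x)]
    exact congrArg (cls E i _) (Subtype.ext hcy)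
  refine (Category.assoc _ _ _).trans ((congrArg _ key).trans ?_)
  rw [Category.assoc, Iso.inv_hom_id_assoc]

end Groth.Agent.CAlgSmall.ExtEssConst
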