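import Mathlib.Algebra.Category.ModuleCat.Ext.HasExt
import Mathlib.Algebra.Category.ModuleCat.Projective
import Mathlib.Algebra.Homology.DerivedCategory.Ext.ExactSequences
import Mathlib.Algebra.Homology.DerivedCategory.Ext.EnoughProjectives
import Mathlib.Algebra.Homology.ShortComplex.ModuleCat
import Mathlib.RingTheory.Filtration

/-!
# Artin–Rees for `Ext` in the first variable
-/

set_option autoImplicit false
set_option backward.isDefEq.respectTransparency false
set_option backward.defeqAttrib.useBackward true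

universe u

open CategoryTheory CategoryTheory.Abelian

namespace Groth.Agent.CAlgSmall

variable {A : Type u} [CommRing A]

theorem exists_ext_pow_factor [IsNoetherianRing A] (I : Ideal A) :
    ∀ (p : ℕ) (M : Type u) [AddCommGroup M] [Module A M] [Module.Finite A M] (N : Type u)
      [AddCommGroup N] [Module A N], ∃ c : ℕ, ∀ n : ℕ, c ≤ n →
      ∀ e : Ext.{u} (ModuleCat.of A M) (ModuleCat.of A N) p,
        ∃ e' : Ext.{u} (ModuleCat.of A (I ^ n • ⊤ : Submodule A M))
            (ModuleCat.of A (I ^ (n - c) • ⊤ : Submodule A N)) p,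
          e'.comp (Ext.mk₀ (ModuleCat.ofHom (I ^ (n - c) • ⊤ : Submodule A N).subtype)) (add_zero p) =
            (Ext.mk₀ (ModuleCat.ofHom (I ^ n • ⊤ : Submodule A M).subtype)).comp e (zero_add p) := by
  intro p
  induction p with
  | zero =>
    intro M _ _ _ N _ _
    refine ⟨0, fun n _ e => ?_⟩
    obtain ⟨φ, rfl⟩ : ∃ φ, Ext.mk₀ φ = e := ⟨Ext.homEquiv₀ e, Ext.mk₀_homEquiv₀_apply e⟩
    have hmap : ∀ x ∈ (I ^ n • ⊤ : Submodule A M), φ.hom x ∈ (I ^ (n - 0) • ⊤ : Submodule A N) := by
      intro x hx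
      have h := Submodule.mem_map_of_mem (f := φ.hom) hx
      rw [Submodule.map_smul''] at h
      exact Submodule.smul_mono le_rfl le_top h
    refine ⟨Ext.mk₀ (ModuleCat.ofHom ((φ.hom ∘ₗ (I ^ n • ⊤ : Submodule A M).subtype).codRestrict _
      fun x => hmap x x.2)), ?_⟩
    rw [Ext.mk₀_comp_mk₀, Ext.mk₀_comp_mk₀]
    rfl
  | succ p ih =>
    intro M _ _ _ N _ _
    obtain ⟨m, π, hπ⟩ := Module.Finite.exists_fin' A M
    let K := LinearMap.ker π
    let S : ShortComplex (ModuleCat.{u} A) :=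
      ShortComplex.mk (ModuleCat.ofHom K.subtype) (ModuleCat.ofHom π) (by
        ext ⟨x, hx⟩
        exact hx)
    have hS : S.ShortExact := ModuleCat.shortComplex_shortExact S
      (LinearMap.exact_subtype_ker_map π) K.injective_subtype hπ
    obtain ⟨c', hc'⟩ := ih K N
    obtain ⟨c₁, hc₁⟩ := I.exists_pow_inf_eq_pow_smul K
    refine ⟨c₁ + c', fun n hn e => ?_⟩
    have : Projective S.X₂ := by
      haveI : Module.Projective A (Fin m → A) := inferInstance
      exact (IsProjective.iff_projective (Fin m → A)).mp this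
    obtain ⟨e₁, he₁⟩ := Ext.contravariant_sequence_exact₃ hS (ModuleCat.of A N) e
      (Ext.eq_zero_of_projective _) (n₀ := p) (add_comm 1 p)
    -- the restricted sequence
    let F' : Submodule A (Fin m → A) := I ^ n • ⊤
    let M' : Submodule A M := I ^ n • ⊤
    have hπF : ∀ x ∈ F', π x ∈ M' := by
      intro x hx
      have h := Submodule.mem_map_of_mem (f := π) hx
      rw [Submodule.map_smul''] at h
      exact Submodule.smul_mono le_rfl le_top h
    let π' : F' →ₗ[A] M' := (π ∘ₗ F'.subtype).codRestrict _ fun x => hπF x x.2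
    have hπ' : Function.Surjective π' := by
      intro y
      have hy : (y : M) ∈ F'.map π := by
        rw [Submodule.map_smul'', Submodule.map_top, LinearMap.range_eq_top.mpr hπ]
        exact y.2
      obtain ⟨x, hx, hxy⟩ := hy
      exact ⟨⟨x, hx⟩, Subtype.ext hxy⟩
    let i' : ModuleCat.of A (LinearMap.ker π') ⟶ ModuleCat.of A F' := ModuleCat.ofHom (LinearMap.ker π').subtype
    let q' : ModuleCat.of A F' ⟶ ModuleCat.of A M' := ModuleCat.ofHom π'
    have hw' : i' ≫ q' = 0 := ModuleCat.hom_ext (LinearMap.comp_ker_subtype π')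
    let S' : ShortComplex (ModuleCat.{u} A) := ShortComplex.mk i' q' hw'
    have hS' : S'.ShortExact := ModuleCat.shortComplex_shortExact S'
      (LinearMap.exact_subtype_ker_map π') (LinearMap.ker π').injective_subtype hπ'
    let r : LinearMap.ker π' →ₗ[A] K :=
      (F'.subtype ∘ₗ (LinearMap.ker π').subtype).codRestrict _ fun x => congrArg Subtype.val x.2
    let θ : S' ⟶ S :=
      { τ₁ := ModuleCat.ofHom r
        τ₂ := ModuleCat.ofHom F'.subtype
        τ₃ := ModuleCat.ofHom M'.subtype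
        comm₁₂ := rfl
        comm₂₃ := rfl }
    have hnat := hS'.extClass_naturality hS θ
    -- Artin–Rees
    have hAR : ∀ x : LinearMap.ker π', r x ∈ (I ^ (n - c₁) • ⊤ : Submodule A K) := by
      intro x
      have h1 : ((r x : K) : Fin m → A) ∈ I ^ n • ⊤ ⊓ K := ⟨x.1.2, (r x).2⟩
      rw [hc₁ n (le_of_add_le_left hn)] at h1
      have h2 : ((r x : K) : Fin m → A) ∈ (I ^ (n - c₁) • ⊤ : Submodule A K).map K.subtype := by
        rw [Submodule.map_smul'', Submodule.map_top, Submodule.range_subtype]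
        exact Submodule.smul_mono le_rfl inf_le_right h1
      obtain ⟨y, hy, hyx⟩ := h2
      rwa [← (Subtype.ext hyx : y = r x)]
    let j : ModuleCat.of A (LinearMap.ker π') ⟶ ModuleCat.of A (I ^ (n - c₁) • ⊤ : Submodule A K) :=
      ModuleCat.ofHom (r.codRestrict _ hAR)
    have hj : θ.τ₁ = j ≫ ModuleCat.ofHom (I ^ (n - c₁) • ⊤ : Submodule A K).subtype := rfl
    obtain ⟨e₁', he₁'⟩ := hc' (n - c₁) (Nat.le_sub_of_add_le (by omega)) e₁
    rw [Nat.sub_add_eq]
    refine ⟨hS'.extClass.comp ((Ext.mk₀ j).comp e₁' (zero_add p)) (add_comm 1 p), ?_⟩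
    rw [Ext.comp_assoc_of_third_deg_zero, Ext.comp_assoc_of_third_deg_zero, he₁',
      Ext.mk₀_comp_mk₀_assoc, ← hj, ← he₁]
    change _ = (Ext.mk₀ θ.τ₃).comp _ _
    rw [← Ext.comp_assoc hS'.extClass (Ext.mk₀ θ.τ₁) e₁ (add_zero 1) (zero_add p) (by omega), hnat,
      Ext.comp_assoc (Ext.mk₀ θ.τ₃) hS.extClass e₁ (zero_add 1) (add_comm 1 p) (by omega)]

attribute [local instance] HasDerivedCategory.standard

theorem exists_hom_pow_factor [IsNoetherianRing A] (I : Ideal A) (M N : Type u) [AddCommGroup M]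
    [Module A M] [Module.Finite A M] [AddCommGroup N] [Module A N] (p : ℕ) :
    ∃ c : ℕ, ∀ n : ℕ, c ≤ n →
      ∀ e : (DerivedCategory.singleFunctor (ModuleCat.{u} A) 0).obj (ModuleCat.of A M) ⟶
          ((DerivedCategory.singleFunctor (ModuleCat.{u} A) 0).obj (ModuleCat.of A N))⟦(p : ℤ)⟧,
        ∃ e' : (DerivedCategory.singleFunctor (ModuleCat.{u} A) 0).obj
              (ModuleCat.of A (I ^ n • ⊤ : Submodule A M)) ⟶
            ((DerivedCategory.singleFunctor (ModuleCat.{u} A) 0).obj
              (ModuleCat.of A (I ^ (n - c) • ⊤ : Submodule A N)))⟦(p : ℤ)⟧,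
          e' ≫ ((DerivedCategory.singleFunctor (ModuleCat.{u} A) 0).map
                  (ModuleCat.ofHom (I ^ (n - c) • ⊤ : Submodule A N).subtype))⟦(p : ℤ)⟧' =
            (DerivedCategory.singleFunctor (ModuleCat.{u} A) 0).map
                (ModuleCat.ofHom (I ^ n • ⊤ : Submodule A M).subtype) ≫ e := by
  obtain ⟨c, hc⟩ := exists_ext_pow_factor I p M N
  refine ⟨c, fun n hn e => ?_⟩
  obtain ⟨e', he'⟩ := hc n hn (Ext.homEquiv.symm e)
  refine ⟨e'.hom, ?_⟩
  have h := congrArg Ext.hom he'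
  rw [Ext.comp_hom, Ext.comp_hom, Ext.mk₀_hom, Ext.mk₀_hom, ShiftedHom.comp_mk₀, ShiftedHom.mk₀_comp] at h
  simpa [Ext.hom] using h

end Groth.Agent.CAlgSmall
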