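import Groth.Agent.AlgSpLib.FppfRing
import Mathlib.RingTheory.Spectrum.Prime.Chevalley
import Mathlib.RingTheory.Flat.FaithfullyFlat.Algebra
import Mathlib.RingTheory.LocalRing.ResidueField.Fiber

/-!
# Descent of faithfully flat finitely presented algebras to a finitely presented base
-/

universe u

namespace Groth.Agent.CAlgSmall

open TensorProduct

/-- The image of `Spec` of a base change is the preimage of the image. -/
theorem mem_range_comap_baseChange {C A₁ B' : Type u} [CommRing C] [CommRing A₁] [CommRing B']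
    [Algebra C A₁] [Algebra C B'] (p : PrimeSpectrum A₁)
    (h : PrimeSpectrum.comap (algebraMap C A₁) p ∈ Set.range (PrimeSpectrum.comap (algebraMap C B'))) :
    p ∈ Set.range (PrimeSpectrum.comap (algebraMap A₁ (A₁ ⊗[C] B'))) := by
  rw [← PrimeSpectrum.nontrivial_iff_mem_rangeComap] at h ⊢
  let k₀ := (PrimeSpectrum.comap (algebraMap C A₁) p).asIdeal.ResidueField
  let k := p.asIdeal.ResidueField
  let φ : k₀ →+* k := Ideal.ResidueField.map _ p.asIdeal (algebraMap C A₁) rfl
  let _ : Algebra k₀ k := φ.toAlgebra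
  have : IsScalarTower C k₀ k := IsScalarTower.of_algebraMap_eq fun a => by
    rw [RingHom.algebraMap_toAlgebra, IsScalarTower.algebraMap_apply C A₁ k]
    exact (Ideal.ResidueField.map_algebraMap (I := (PrimeSpectrum.comap (algebraMap C A₁) p).asIdeal) (J := p.asIdeal) (algebraMap C A₁) rfl a).symm
  have h1 : Nontrivial (k ⊗[C] B') := by
    have : Nontrivial (k ⊗[k₀] (k₀ ⊗[C] B')) :=
      (Module.FaithfullyFlat.nontrivial_tensorProduct_iff_right k₀ k).mpr h
    exact (AlgebraTensorModule.cancelBaseChange C k₀ k k B').symm.toEquiv.nontrivial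
  exact (AlgebraTensorModule.cancelBaseChange C A₁ k k B').toEquiv.nontrivial

/-- A faithfully flat finitely presented algebra descends to a faithfully flat one over a finitely
presented algebra over any given base. -/
theorem exists_faithfullyFlat_descent {R A B : Type u} [CommRing R] [CommRing A] [CommRing B]
    [Algebra R A] [Algebra A B] [Algebra.FinitePresentation A B] [Module.FaithfullyFlat A B] :
    ∃ (A₀ B₀ : Type u) (_ : CommRing A₀) (_ : CommRing B₀) (_ : Algebra R A₀) (_ : Algebra A₀ A)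
      (_ : IsScalarTower R A₀ A) (_ : Algebra A₀ B₀), Algebra.FinitePresentation R A₀ ∧
      Algebra.FinitePresentation A₀ B₀ ∧ Module.FaithfullyFlat A₀ B₀ ∧
      Nonempty (B ≃ₐ[A] A ⊗[A₀] B₀) := by
  obtain ⟨C, _, _, B', _, _, hC, hB', hflat, ⟨e⟩⟩ := AlgSpLib.FppfRing.exists_flat_model A B
  let g : C →+* A := algebraMap C A
  have : Algebra.FinitePresentation ℤ C :=
    Algebra.FinitePresentation.of_finiteType.mp hC
  -- the open image of `Spec B'`
  let U := Set.range (PrimeSpectrum.comap (algebraMap C B'))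
  have hU : IsOpen U := (PrimeSpectrum.isOpenMap_comap_of_hasGoingDown_of_finitePresentation).isOpen_range
  have hAU : ∀ p : PrimeSpectrum A, PrimeSpectrum.comap g p ∈ U := by
    intro p
    obtain ⟨q, hq⟩ := PrimeSpectrum.comap_surjective_of_faithfullyFlat (B := B) p
    refine ⟨PrimeSpectrum.comap
      (e.toRingEquiv.toRingHom.comp (Algebra.TensorProduct.includeRight : B' →ₐ[C] A ⊗[C] B').toRingHom) q, ?_⟩
    rw [← hq, ← PrimeSpectrum.comap_comp_apply, ← PrimeSpectrum.comap_comp_apply]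
    refine congrArg (fun f => PrimeSpectrum.comap f q) (RingHom.ext fun c => ?_)
    show e (1 ⊗ₜ[C] algebraMap C B' c) = algebraMap A B (g c)
    rw [← e.commutes]
    congr 1
    rw [Algebra.TensorProduct.algebraMap_apply, Algebra.algebraMap_self, RingHom.id_apply,
      Algebra.algebraMap_eq_smul_one, tmul_smul, TensorProduct.smul_tmul', Algebra.smul_def, mul_one]
  obtain ⟨I, hI⟩ := (PrimeSpectrum.isOpen_iff _).mp hU
  have hIA : Ideal.span (g '' I) = ⊤ := by
    by_contra hne
    obtain ⟨m, hm, hle⟩ := Ideal.exists_le_maximal _ hne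
    have h1 := hAU ⟨m, hm.isPrime⟩
    have h2 : PrimeSpectrum.comap g ⟨m, hm.isPrime⟩ ∈ Uᶜ := by
      rw [hI]
      intro x hx
      exact hle (Ideal.subset_span ⟨x, hx, rfl⟩)
    exact h2 h1
  obtain ⟨n, a, v, hsum⟩ := (Submodule.mem_span_set' (s := g '' (I : Set C))).mp
    ((Ideal.eq_top_iff_one _).mp hIA)
  choose c hc hcv using fun i => (v i).2
  -- the finitely presented base
  let rel : (MvPolynomial (Fin n) (R ⊗[ℤ] C)) := (∑ i, MvPolynomial.C ((Algebra.TensorProduct.includeRight : C →ₐ[ℤ] R ⊗[ℤ] C) (c i))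
    * MvPolynomial.X i) - 1
  let A₁' : CommRing (R ⊗[ℤ] C) := inferInstance
  let A₂' : CommRing (MvPolynomial (Fin n) (R ⊗[ℤ] C)) := inferInstance
  let A₀ := (MvPolynomial (Fin n) (R ⊗[ℤ] C)) ⧸ Ideal.span {rel}
  let θ : R ⊗[ℤ] C →ₐ[R] A :=
    Algebra.TensorProduct.lift (Algebra.ofId R A) g.toIntAlgHom fun _ _ => Commute.all _ _
  let Θ : (MvPolynomial (Fin n) (R ⊗[ℤ] C)) →ₐ[R] A :=
    { toRingHom := MvPolynomial.eval₂Hom θ.toRingHom a
      commutes' := fun r => by
        show MvPolynomial.eval₂Hom θ.toRingHom a (MvPolynomial.C (algebraMap R (R ⊗[ℤ] C) r)) = _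
        rw [MvPolynomial.eval₂Hom_C]
        exact θ.commutes r }
  have hrel : Θ rel = 0 := by
    show MvPolynomial.eval₂Hom θ.toRingHom a rel = 0
    rw [map_sub, map_sum, map_one, sub_eq_zero, ← hsum]
    refine Finset.sum_congr rfl fun i _ => ?_
    rw [map_mul, MvPolynomial.eval₂Hom_C, MvPolynomial.eval₂Hom_X', ← hcv, smul_eq_mul, mul_comm]
    congr 1
    show θ (1 ⊗ₜ[ℤ] c i) = _
    simp [θ]
  let Θ₀ : A₀ →ₐ[R] A := Ideal.Quotient.liftₐ _ Θ fun x hx => by
    have : Ideal.span {rel} ≤ RingHom.ker Θ := (Ideal.span_singleton_le_iff_mem _).mpr hrel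
    exact this hx
  let ι : C →+* A₀ := (Ideal.Quotient.mk _).comp
    (MvPolynomial.C.comp (Algebra.TensorProduct.includeRight : C →ₐ[ℤ] R ⊗[ℤ] C).toRingHom)
  have hι : ∀ x : C, Θ₀ (ι x) = g x := fun x => by
    show MvPolynomial.eval₂Hom θ.toRingHom a (MvPolynomial.C (1 ⊗ₜ[ℤ] x)) = _
    rw [MvPolynomial.eval₂Hom_C]
    show θ (1 ⊗ₜ[ℤ] x) = _
    simp [θ]
  letI : Algebra A₀ A := Θ₀.toRingHom.toAlgebra
  have : IsScalarTower R A₀ A := IsScalarTower.of_algebraMap_eq fun r => (Θ₀.commutes r).symm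
  letI : Algebra C A₀ := ι.toAlgebra
  have : IsScalarTower C A₀ A := IsScalarTower.of_algebraMap_eq fun x => (hι x).symm
  have hA₀ : Algebra.FinitePresentation R A₀ := by
    have : Algebra.FinitePresentation R (MvPolynomial (Fin n) (R ⊗[ℤ] C)) :=
      Algebra.FinitePresentation.trans R (R ⊗[ℤ] C) (MvPolynomial (Fin n) (R ⊗[ℤ] C))
    exact Algebra.FinitePresentation.quotient ⟨{rel}, by simp⟩
  have hsurj : Function.Surjective (PrimeSpectrum.comap (algebraMap A₀ (A₀ ⊗[C] B'))) := by
    intro p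
    apply mem_range_comap_baseChange p
    show _ ∈ U
    by_contra hp
    have hp' : PrimeSpectrum.comap ι p ∈ PrimeSpectrum.zeroLocus (I : Set C) := hI ▸ hp
    have h1 : (1 : A₀) ∈ p.asIdeal := by
      have h0 : Ideal.Quotient.mk (Ideal.span {rel}) rel = 0 :=
        Ideal.Quotient.eq_zero_iff_mem.mpr (Ideal.subset_span rfl)
      rw [map_sub, map_one, sub_eq_zero, map_sum] at h0
      rw [← h0]
      refine sum_mem fun i _ => ?_
      rw [map_mul]
      exact Ideal.mul_mem_right _ _ (hp' (hc i))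
    exact p.isPrime.ne_top ((Ideal.eq_top_iff_one _).mpr h1)
  exact ⟨A₀, A₀ ⊗[C] B', inferInstance, inferInstance, inferInstance, inferInstance, inferInstance,
    inferInstance, hA₀, inferInstance, Module.FaithfullyFlat.of_comap_surjective hsurj,
    ⟨e.symm.trans (Algebra.TensorProduct.cancelBaseChange C A₀ A A B').symm⟩⟩

end Groth.Agent.CAlgSmall
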