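import Groth.Agent.CAlgSmall.FPExtend
import Mathlib.CategoryTheory.Filtered.Basic

/-!
# A quasi-coherent module is a filtered colimit of finitely presented ones
-/

set_option autoImplicit false
set_option linter.unusedSectionVars false
set_option backward.isDefEq.respectTransparency false
set_option maxHeartbeats 1000000

universe u

open CategoryTheory CategoryTheory.Limits AlgebraicGeometry Opposite TopologicalSpace
open Groth.Agent.Coherent Groth.Agent.Props12.FPColimit

namespace Groth.Agent.CAlgSmall.FPFiltered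

variable {X : Scheme.{u}}

theorem biprod_app_ext {M N : X.Modules} {U : X.Opens} (x : Γ(M ⊞ N, U)) :
    (biprod.inl : M ⟶ M ⊞ N).app U ((biprod.fst : M ⊞ N ⟶ M).app U x) +
      (biprod.inr : N ⟶ M ⊞ N).app U ((biprod.snd : M ⊞ N ⟶ N).app U x) = x := by
  have h := Coherent.Existence.app_congr (biprod.total (X := M) (Y := N)) U x
  rwa [Scheme.Modules.Hom.add_app] at h

theorem isFP_biprod (M N : X.Modules) (hM : CohB1.IsFP M) (hN : CohB1.IsFP N) : CohB1.IsFP (M ⊞ N) := by
  have := FPExtend.isQCoh_of_isFP M hM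
  have := FPExtend.isQCoh_of_isFP N hN
  have : Coh.IsQCoh (M ⊞ N) := isQCoh_biprod _ _
  refine EGA43.FPKernel.isFP_of_forall_exists_affine _ fun x => ?_
  obtain ⟨U, hU, hx, -⟩ := Opens.isBasis_iff_nbhd.mp X.isBasis_affineOpens (Opens.mem_top x)
  refine ⟨U, hU, hx, ?_⟩
  have := EGA43.QcohFP.finitePresentation_sections M hM hU
  have := EGA43.QcohFP.finitePresentation_sections N hN hU
  let e : (Γ(M, U) × Γ(N, U)) ≃ₗ[Γ(X, U)] Γ(M ⊞ N, U) :=
    { toFun := fun z => (biprod.inl : M ⟶ M ⊞ N).app U z.1 + (biprod.inr : N ⟶ M ⊞ N).app U z.2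
      invFun := fun x => ((biprod.fst : M ⊞ N ⟶ M).app U x, (biprod.snd : M ⊞ N ⟶ N).app U x)
      map_add' := fun a b => by simp only [Prod.fst_add, Prod.snd_add, map_add]; abel
      map_smul' := fun r a => by
        simp only [Prod.smul_fst, Prod.smul_snd, Scheme.Modules.Hom.app_smul, RingHom.id_apply, smul_add]
      left_inv := fun z => by
        have h1 := Coherent.Existence.app_congr (biprod.inl_fst (X := M) (Y := N)) U z.1
        have h2 := Coherent.Existence.app_congr (biprod.inl_snd (X := M) (Y := N)) U z.1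
        have h3 := Coherent.Existence.app_congr (biprod.inr_fst (X := M) (Y := N)) U z.2
        have h4 := Coherent.Existence.app_congr (biprod.inr_snd (X := M) (Y := N)) U z.2
        refine Prod.ext ?_ ?_
        · show (biprod.fst : M ⊞ N ⟶ M).app U (_ + _) = z.1
          rw [map_add]
          refine (congrArg₂ (· + ·) h1 h3).trans ?_
          show z.1 + (0 : N ⟶ M).app U z.2 = z.1
          simp
        · show (biprod.snd : M ⊞ N ⟶ N).app U (_ + _) = z.2
          rw [map_add]
          refine (congrArg₂ (· + ·) h2 h4).trans ?_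
          show (0 : M ⟶ N).app U z.1 + z.2 = z.2
          simp
      right_inv := biprod_app_ext }
  exact Module.FinitePresentation.of_equiv e

section kill

variable [CompactSpace X] [QuasiSeparatedSpace X] {P F : X.Modules} [Coh.IsQCoh P] [Coh.IsQCoh F]
  (hP : CohB1.IsFP P) {p : P ⟶ F}

include hP in
/-- A map from a finite type module killed in `F` is killed at a later stage. -/
theorem exists_kill {M : X.Modules} [Coh.IsQCoh M] (hM : CohB1.IsFT M) {Q : Idx (kernel p)}
    (h : M ⟶ obj p Q) (h0 : h ≫ (ι p).app Q = 0) :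
    ∃ (R : Idx (kernel p)) (hR : Q ≤ R), h ≫ (diagram p).map (homOfLE hR) = 0 := by
  classical
  have : Coh.IsQCoh (kernel p) := isQCoh_kernel p
  have : Coh.IsQCoh (cokernel (Q.1.toι ≫ kernel.ι p)) := FPExtend.isQCoh_of_isFP _ (isFP_obj p hP Q)
  obtain ⟨t, ht, hcov⟩ := isCompact_iff_finite_and_eq_biUnion_affineOpens.1
    (show IsCompact ((⊤ : X.Opens) : Set X) from isCompact_univ)
  have := ht.to_subtype
  let π := cokernel.π (Q.1.toι ≫ kernel.ι p)
  have hgen : ∀ V : t, ∃ (n : ℕ) (a : Fin n → Γ(M, V.1.1)), Submodule.span Γ(X, V.1.1) (Set.range a) = ⊤ := fun V => by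
    have := H8Lim.finite_sections_of_isFT (M := M) hM V.1.2
    exact Module.Finite.exists_fin
  choose n a ha using hgen
  choose b hb using fun (V : t) (i : Fin (n V)) =>
    Coherent.Existence.app_surjective_of_epi π V.1.2 (h.app V.1.1 (a V i))
  have hpb : ∀ V i, p.app V.1.1 (b V i) = 0 := fun V i => by
    have h1 := Coherent.Existence.app_congr (π_ι p Q) V.1.1 (b V i)
    refine h1.symm.trans ?_
    show ((ι p).app Q).app V.1.1 (π.app V.1.1 (b V i)) = 0
    rw [hb]
    exact (Coherent.Existence.app_congr h0 V.1.1 (a V i)).trans (by simp)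
  choose k hk using fun V i => kernel_sections_exact p (b V i) (hpb V i)
  choose S hS hmem using fun V : t => exists_good_containing_qcqs (F := kernel p) V.1.2.isCompact
    (fun i : ULift.{u} (Fin (n V)) => k V i.down)
  let T : Option t → SubM (kernel p) := fun o => o.elim Q.1 S
  let R : Idx (kernel p) := ⟨SubM.sum T, SubM.good_sum T (by rintro (_ | V); exacts [Q.2, hS V])⟩
  have hR : Q ≤ R := fun W => SubM.le_sum T none W
  refine ⟨R, hR, ?_⟩
  have hzero : ∀ V i, (h ≫ (diagram p).map (homOfLE hR)).app V.1.1 (a V i) = 0 := fun V i => by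
    show ((diagram p).map (homOfLE hR)).app V.1.1 (h.app V.1.1 (a V i)) = 0
    rw [← hb V i]
    have h1 := Coherent.Existence.app_congr
      (cokernel.π_desc (Q.1.toι ≫ kernel.ι p) (cokernel.π (R.1.toι ≫ kernel.ι p)) (comp_π_eq_zero p hR))
      V.1.1 (b V i)
    refine h1.trans ?_
    obtain ⟨c, hc⟩ := R.1.mem_range_toι.2 (SubM.le_sum T (some V) V.1.1 (hmem V ⟨i⟩))
    rw [← hk V i]
    show (cokernel.π (R.1.toι ≫ kernel.ι p)).app V.1.1 ((kernel.ι p).app V.1.1 (k V i)) = 0
    rw [← show R.1.toι.app V.1.1 c = k V i from hc]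
    exact (Coherent.Existence.app_congr (cokernel.condition (R.1.toι ≫ kernel.ι p)) V.1.1 c).trans (by simp)
  refine Scheme.Modules.hom_ext _ _ fun W => ?_
  ext x
  refine app_eq_zero_of_local (h ≫ (diagram p).map (homOfLE hR)) x fun y hy => ?_
  have hyt : y ∈ (⊤ : X.Opens) := trivial
  rw [hcov] at hyt
  simp only [Opens.mem_iSup] at hyt
  obtain ⟨V, hV, hyV⟩ := hyt
  obtain ⟨O, hO, hyO, hle⟩ := exists_isAffineOpen_mem_and_subset (x := y) (U := W ⊓ V.1) ⟨hy, hyV⟩
  have hOW : O ≤ W := fun z hz => (hle hz).1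
  have hOV : O ≤ V.1 := fun z hz => (hle hz).2
  obtain ⟨f, hfO, hyf⟩ := V.2.exists_basicOpen_le (V := O) ⟨y, hyO⟩ hyV
  refine ⟨X.basicOpen f, hfO.trans hOW, hyf, ?_⟩
  let g := h ≫ (diagram p).map (homOfLE hR)
  obtain ⟨m, w, hw⟩ := qcoh_exists_pow_smul V.2 M f (resM M (hfO.trans hOW) x)
  have key : ∀ z ∈ Submodule.span Γ(X, V.1) (Set.range (a ⟨V, hV⟩)), g.app V.1 z = 0 := by
    intro z hz
    induction hz using Submodule.span_induction with
    | mem z hz => obtain ⟨i, rfl⟩ := hz; exact hzero ⟨V, hV⟩ i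
    | zero => exact map_zero _
    | add z z' _ _ hz hz' => rw [map_add, hz, hz', add_zero]
    | smul r z _ hz => rw [Scheme.Modules.Hom.app_smul, hz, smul_zero]
  have hw0 : g.app V.1 w = 0 := key w ((ha ⟨V, hV⟩).ge Submodule.mem_top)
  have h1 := congrArg (resM _ (X.basicOpen_le f)) hw0
  rw [← app_resM, hw, Scheme.Modules.Hom.app_smul, map_zero] at h1
  have hun : IsUnit (X.presheaf.map (homOfLE (X.basicOpen_le f)).op (f ^ m)) := by
    rw [map_pow]
    exact (RingedSpace.isUnit_res_basicOpen X.toRingedSpace f).pow m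
  exact hun.smul_eq_zero.1 h1

end kill

section system

variable (F : X.Modules)

/-- Formal finite sums of sections over affine opens. -/
inductive Code : Type u
  | seed (V : X.affineOpens) (s : Γ(F, V.1))
  | add (a b : Code)

variable [CompactSpace X] [QuasiSeparatedSpace X] [Coh.IsQCoh F]

/-- The finitely presented module of a formal sum, over `F`. -/
noncomputable def cov : Code F → Over F
  | .seed V s => Over.mk (FPExtend.exists_seed F V s).choose_spec.choose
  | .add a b => Over.mk (biprod.desc (cov a).hom (cov b).hom)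

theorem isFP_cov : ∀ c : Code F, CohB1.IsFP (cov F c).left
  | .seed V s => (FPExtend.exists_seed F V s).choose_spec.choose_spec.choose_spec.1
  | .add a b => isFP_biprod _ _ (isFP_cov a) (isFP_cov b)

theorem exists_seed_section (V : X.affineOpens) (s : Γ(F, V.1)) :
    ∃ a : Γ((cov F (.seed V s)).left, V.1), (cov F (.seed V s)).hom.app V.1 a = s :=
  ⟨_, (FPExtend.exists_seed F V s).choose_spec.choose_spec.choose_spec.2⟩

instance (c : Code F) : Coh.IsQCoh (cov F c).left := FPExtend.isQCoh_of_isFP _ (isFP_cov F c)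

/-- The indices: a formal sum and a submodule of finite type of relations. -/
abbrev Raw : Type u := Σ c : Code F, Idx (kernel (cov F c).hom)

/-- The quotient, over `F`. -/
noncomputable def ovr (i : Raw F) : Over F := Over.mk ((ι (cov F i.1).hom).app i.2)

/-- The index category. -/
abbrev Sys : Type u := InducedCategory (Over F) (ovr F)

/-- The diagram of finitely presented modules. -/
noncomputable def sysDiag : Sys F ⥤ X.Modules := inducedFunctor (ovr F) ⋙ Over.forget F

/-- Its cocone. -/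
noncomputable def sysCocone : Cocone (sysDiag F) :=
  Cocone.mk F
    { app := fun i => (ovr F i).hom
      naturality := fun i k f => (Over.w f.hom).trans (Category.comp_id _).symm }

theorem isFP_sys (i : Sys F) : CohB1.IsFP ((sysDiag F).obj i) :=
  isFP_obj (cov F i.1).hom (isFP_cov F i.1) i.2

/-- The transition to a larger submodule of relations. -/
noncomputable def up (c : Code F) {Q R : Idx (kernel (cov F c).hom)} (h : Q ≤ R) :
    Quiver.Hom (V := Sys F) ⟨c, Q⟩ ⟨c, R⟩ :=
  InducedCategory.homMk (Over.homMk ((diagram (cov F c).hom).map (homOfLE h))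
    ((ι (cov F c).hom).naturality (homOfLE h) |>.trans (Category.comp_id _)))

/-- A map from the generators into a stage which is compatible with the maps to `F` gives a morphism of stages. -/
theorem exists_morph (i : Sys F) (k : Sys F) (v : (cov F i.1).left ⟶ (ovr F k).left)
    (hv : v ≫ (ovr F k).hom = (cov F i.1).hom) :
    ∃ (R : Idx (kernel (cov F k.1).hom)) (_ : i ⟶ (⟨k.1, R⟩ : Sys F)), k.2 ≤ R := by
  have : Coh.IsQCoh (kernel (cov F i.1).hom) := isQCoh_kernel _
  have := SubM.isQCoh i.2.2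
  obtain ⟨R, hR, hkill⟩ := exists_kill (isFP_cov F k.1) (SubM.isFT i.2.2)
    ((i.2.1.toι ≫ kernel.ι (cov F i.1).hom) ≫ v) (Q := k.2) (by
      show ((i.2.1.toι ≫ kernel.ι _) ≫ v) ≫ (ovr F k).hom = 0
      rw [Category.assoc, hv, Category.assoc, kernel.condition, comp_zero])
  refine ⟨R, InducedCategory.homMk (Over.homMk
    (cokernel.desc _ (v ≫ (diagram (cov F k.1).hom).map (homOfLE hR)) (by rw [← Category.assoc]; exact hkill)) ?_), hR⟩
  refine (cancel_epi (cokernel.π (i.2.1.toι ≫ kernel.ι (cov F i.1).hom))).1 ?_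
  show cokernel.π _ ≫ cokernel.desc _ _ _ ≫ (ι (cov F k.1).hom).app R =
    cokernel.π _ ≫ (ι (cov F i.1).hom).app i.2
  rw [cokernel.π_desc_assoc, π_ι, Category.assoc, (ι (cov F k.1).hom).naturality (homOfLE hR)]
  exact hv

theorem exists_upper (i k : Sys F) : ∃ (l : Sys F) (_ : i ⟶ l) (_ : k ⟶ l), True := by
  let c := Code.add i.1 k.1
  let Q₀ : Idx (kernel (cov F c).hom) := Classical.arbitrary _
  obtain ⟨R₁, f₁, h₁⟩ := exists_morph F i ⟨c, Q₀⟩ ((biprod.inl : (cov F i.1).left ⟶ _) ≫ cokernel.π _) (by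
    show ((biprod.inl : (cov F i.1).left ⟶ _) ≫ cokernel.π _) ≫ (ι (cov F c).hom).app Q₀ = _
    rw [Category.assoc, π_ι]
    exact biprod.inl_desc _ _)
  obtain ⟨R₂, f₂, h₂⟩ := exists_morph F k ⟨c, R₁⟩ ((biprod.inr : (cov F k.1).left ⟶ _) ≫ cokernel.π _) (by
    show ((biprod.inr : (cov F k.1).left ⟶ _) ≫ cokernel.π _) ≫ (ι (cov F c).hom).app R₁ = _
    rw [Category.assoc, π_ι]
    exact biprod.inr_desc _ _)
  exact ⟨⟨c, R₂⟩, f₁ ≫ up F c h₂, f₂, trivial⟩

theorem exists_equalize (i k : Sys F) (f g : i ⟶ k) : ∃ (l : Sys F) (h : k ⟶ l), f ≫ h = g ≫ h := by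
  obtain ⟨R, hR, hkill⟩ := exists_kill (isFP_cov F k.1) (FPExtend.isFT_of_isFP _ (isFP_cov F i.1))
    (Q := k.2) (cokernel.π (i.2.1.toι ≫ kernel.ι (cov F i.1).hom) ≫ (f.hom.left - g.hom.left)) (by
      have hf := Over.w f.hom
      have hg := Over.w g.hom
      show (_ ≫ _) ≫ (ovr F k).hom = 0
      rw [Category.assoc, Preadditive.sub_comp, hf, hg, sub_self, comp_zero])
  refine ⟨⟨k.1, R⟩, up F k.1 hR, InducedCategory.hom_ext (Over.OverMorphism.ext ?_)⟩
  refine (cancel_epi (cokernel.π (i.2.1.toι ≫ kernel.ι (cov F i.1).hom))).1 (sub_eq_zero.1 ?_)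
  show cokernel.π _ ≫ f.hom.left ≫ _ - cokernel.π _ ≫ g.hom.left ≫ _ = 0
  rw [← Preadditive.comp_sub, ← Preadditive.sub_comp, ← Category.assoc]
  exact hkill

instance isFiltered_sys : IsFiltered (Sys F) where
  cocone_objs i k := by
    obtain ⟨l, f, g, -⟩ := exists_upper F i k
    exact ⟨l, f, g, trivial⟩
  cocone_maps i k f g := exists_equalize F i k f g
  nonempty := ⟨⟨.seed ⟨⊥, isAffineOpen_bot X⟩ 0, Classical.arbitrary _⟩⟩

variable {F}

theorem exists_stage_eq (i : Sys F) {V : X.Opens} (hV : IsAffineOpen V) (z : Γ((sysDiag F).obj i, V))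
    (hz : (ovr F i).hom.app V z = 0) : ∃ (l : Sys F) (h : i ⟶ l), ((sysDiag F).map h).app V z = 0 := by
  let p := (cov F i.1).hom
  let π := cokernel.π (i.2.1.toι ≫ kernel.ι p)
  have : Coh.IsQCoh (cokernel (i.2.1.toι ≫ kernel.ι p)) := FPExtend.isQCoh_of_isFP _ (isFP_sys F i)
  have : Coh.IsQCoh (kernel p) := isQCoh_kernel p
  obtain ⟨b, rfl⟩ := Coherent.Existence.app_surjective_of_epi π hV z
  have hpb : p.app V b = 0 := (Coherent.Existence.app_congr (π_ι p i.2) V b).symm.trans hz
  obtain ⟨k, rfl⟩ := kernel_sections_exact p b hpb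
  obtain ⟨S, hS, hmem⟩ := exists_good_containing_qcqs (F := kernel p) hV.isCompact (fun _ : PUnit.{u + 1} => k)
  let T : Option PUnit.{u + 1} → SubM (kernel p) := fun o => o.elim i.2.1 fun _ => S
  let R : Idx (kernel p) := ⟨SubM.sum T, SubM.good_sum T (by rintro (_ | _); exacts [i.2.2, hS])⟩
  have hR : i.2 ≤ R := fun W => SubM.le_sum T none W
  refine ⟨⟨i.1, R⟩, up F i.1 hR, ?_⟩
  have h1 := Coherent.Existence.app_congr
    (cokernel.π_desc (i.2.1.toι ≫ kernel.ι p) (cokernel.π (R.1.toι ≫ kernel.ι p)) (comp_π_eq_zero p hR))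
    V ((kernel.ι p).app V k)
  refine h1.trans ?_
  obtain ⟨c, hc⟩ := R.1.mem_range_toι.2 (SubM.le_sum T (some PUnit.unit) V (hmem PUnit.unit))
  rw [← hc]
  exact (Coherent.Existence.app_congr (cokernel.condition (R.1.toι ≫ kernel.ι p)) V c).trans (by simp)

theorem cocone_app_eq (c : Cocone (sysDiag F)) (i k : Sys F) {V : X.Opens} (hV : IsAffineOpen V)
    (y : Γ((sysDiag F).obj i, V)) (y' : Γ((sysDiag F).obj k, V))
    (h : (ovr F i).hom.app V y = (ovr F k).hom.app V y') : (c.ι.app i).app V y = (c.ι.app k).app V y' := by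
  obtain ⟨l, f, g, -⟩ := exists_upper F i k
  have hz : (ovr F l).hom.app V (((sysDiag F).map f).app V y - ((sysDiag F).map g).app V y') = 0 := by
    rw [map_sub, sub_eq_zero]
    refine Eq.trans (Coherent.Existence.app_congr (Over.w f.hom) V y) (h.trans ?_)
    exact (Coherent.Existence.app_congr (Over.w g.hom) V y').symm
  obtain ⟨m, e, he⟩ := exists_stage_eq l hV _ hz
  have h1 := congrArg ((c.ι.app m).app V) he
  rw [map_zero, map_sub, map_sub, sub_eq_zero] at h1
  have hw : ∀ {a : Sys F} (r : a ⟶ l) (x : Γ((sysDiag F).obj a, V)),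
      (c.ι.app m).app V (((sysDiag F).map e).app V (((sysDiag F).map r).app V x)) = (c.ι.app a).app V x := fun r x => by
    refine Eq.trans ?_ (Coherent.Existence.app_congr (c.w (r ≫ e)) V x)
    rw [Functor.map_comp]
    rfl
  rwa [hw, hw] at h1

variable (F)

theorem nonempty_isColimit_sys : Nonempty (IsColimit (sysCocone F)) := by
  classical
  choose a ha using fun (V : X.affineOpens) (s : Γ(F, V.1)) => exists_seed_section F V s
  let st : ∀ (V : X.affineOpens), Γ(F, V.1) → Sys F := fun V s => ⟨.seed V s, Classical.arbitrary _⟩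
  let y : ∀ (V : X.affineOpens) (s : Γ(F, V.1)), Γ((sysDiag F).obj (st V s), V.1) := fun V s =>
    (cokernel.π ((st V s).2.1.toι ≫ kernel.ι (cov F (st V s).1).hom)).app V.1 (a V s)
  have hy : ∀ V s, (ovr F (st V s)).hom.app V.1 (y V s) = s := fun V s =>
    (Coherent.Existence.app_congr (π_ι _ (st V s).2) V.1 (a V s)).trans (ha V s)
  have key : ∀ (c : Cocone (sysDiag F)) (V : X.affineOpens) (s : Γ(F, V.1)) (i : Sys F)
      (z : Γ((sysDiag F).obj i, V.1)), (ovr F i).hom.app V.1 z = s →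
        (c.ι.app i).app V.1 z = (c.ι.app (st V s)).app V.1 (y V s) := fun c V s i z h =>
    cocone_app_eq c i _ V.2 z _ (h.trans (hy V s).symm)
  have hcomb : ∀ (V : X.affineOpens) (s s' : Γ(F, V.1)), ∃ (i : Sys F) (z z' : Γ((sysDiag F).obj i, V.1)),
      (ovr F i).hom.app V.1 z = s ∧ (ovr F i).hom.app V.1 z' = s' := fun V s s' => by
    obtain ⟨l, f, g, -⟩ := exists_upper F (st V s) (st V s')
    exact ⟨l, _, _, (Coherent.Existence.app_congr (Over.w f.hom) V.1 (y V s)).trans (hy V s),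
      (Coherent.Existence.app_congr (Over.w g.hom) V.1 (y V s')).trans (hy V s')⟩
  have hdesc : ∀ c : Cocone (sysDiag F), ∃ φ : F ⟶ c.pt, ∀ (U : X.Opens) (hU : IsAffineOpen U) (s : Γ(F, U)),
      φ.app U s = (c.ι.app (st ⟨U, hU⟩ s)).app U (y ⟨U, hU⟩ s) := fun c => by
    refine RelVALib.exists_hom_of_affine F c.pt
      (fun U hU => AddMonoidHom.mk' (fun s => (c.ι.app (st ⟨U, hU⟩ s)).app U (y ⟨U, hU⟩ s)) fun s s' => ?_)
      (fun U hU r s => ?_) (fun U U' hU hU' h s => ?_)
    · obtain ⟨i, z, z', hz, hz'⟩ := hcomb ⟨U, hU⟩ s s'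
      rw [← key c ⟨U, hU⟩ _ i (z + z') (by rw [map_add, hz, hz']), ← key c ⟨U, hU⟩ _ i z hz,
        ← key c ⟨U, hU⟩ _ i z' hz', map_add]
    · simp only [AddMonoidHom.mk'_apply]
      rw [← key c ⟨U, hU⟩ _ (st ⟨U, hU⟩ s) (r • y ⟨U, hU⟩ s)
        ((Scheme.Modules.Hom.app_smul _ r _).trans (congrArg (r • ·) (hy ⟨U, hU⟩ s)))]
      exact Scheme.Modules.Hom.app_smul _ r _
    · simp only [AddMonoidHom.mk'_apply]
      rw [← key c ⟨U', hU'⟩ _ (st ⟨U, hU⟩ s) (resM _ h (y ⟨U, hU⟩ s))
        ((app_resM _ h _).trans (congrArg (resM F h) (hy ⟨U, hU⟩ s)))]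
      exact app_resM _ h _
  choose d hd using hdesc
  have hext : ∀ {M : X.Modules} (φ ψ : F ⟶ M), (∀ (U : X.Opens) (_ : IsAffineOpen U) (s : Γ(F, U)),
      φ.app U s = ψ.app U s) → φ = ψ := fun {M} φ ψ h => Scheme.Modules.hom_ext _ _ fun W => by
    ext s
    refine AmpleLib.sec_ext _ _ _ fun x hx => ?_
    obtain ⟨U, hU, hxU, hle⟩ := exists_isAffineOpen_mem_and_subset (x := x) (U := W) hx
    refine ⟨U, hle, hxU, ?_⟩
    rw [← app_resM, ← app_resM]
    exact h U hU _
  refine ⟨{ desc := d, fac := fun c i => ?_, uniq := fun c m hm => ?_ }⟩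
  · refine Scheme.Modules.hom_ext _ _ fun W => ?_
    ext z
    refine AmpleLib.sec_ext _ _ _ fun x hx => ?_
    obtain ⟨U, hU, hxU, hle⟩ := exists_isAffineOpen_mem_and_subset (x := x) (U := W) hx
    refine ⟨U, hle, hxU, ?_⟩
    rw [← app_resM, ← app_resM]
    exact (hd c U hU _).trans (key c ⟨U, hU⟩ _ i _ rfl).symm
  · refine hext _ _ fun U hU s => (hd c U hU s).symm ▸ ?_
    rw [← hm (st ⟨U, hU⟩ s)]
    exact congrArg (m.app U) (hy ⟨U, hU⟩ s).symm

theorem exists_filtered :
    ∃ (I : Type u) (_ : SmallCategory I) (_ : IsFiltered I) (D : I ⥤ X.Modules) (c : Limits.Cocone D)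
      (_ : Limits.IsColimit c), (∀ i, CohB1.IsFP (D.obj i)) ∧ c.pt = F :=
  ⟨Sys F, inferInstance, inferInstance, sysDiag F, sysCocone F, (nonempty_isColimit_sys F).some, isFP_sys F, rfl⟩

end system

end Groth.Agent.CAlgSmall.FPFiltered
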