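import Groth.Agent.FlatMor12.StdEtaleFinite
import Groth.Prelude.Def_Mor2
import Mathlib

/-!
# Finite morphisms to affine schemes after a finite free cover
-/

set_option linter.unusedSectionVars false
set_option autoImplicit false
set_option maxHeartbeats 800000

universe u

open CategoryTheory CategoryTheory.Limits AlgebraicGeometry TensorProduct Polynomial

namespace Groth.Agent.CAlgSmall.FinCover

/-- The universal algebra with `n` roots of a monic polynomial. -/
theorem exists_rootAlg (R : Type u) [CommRing R] (g : R[X]) (hg : g.Monic) :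
    ∀ n : ℕ, ∃ (C : Type u) (_ : CommRing C) (_ : Algebra R C) (x : Fin n → C),
      Module.Free R C ∧ Module.Finite R C ∧ Algebra.adjoin R (Set.range x) = ⊤ ∧
      (∀ i, aeval (x i) g = 0) ∧
      ∀ (D : Type u) [CommRing D] [Algebra R D] (y : Fin n → D), (∀ i, aeval (y i) g = 0) →
        ∃ ψ : C →ₐ[R] D, ∀ i, ψ (x i) = y i := by
  intro n
  induction n with
  | zero =>
    exact ⟨R, inferInstance, Algebra.id R, Fin.elim0, inferInstance, inferInstance, Subsingleton.elim _ _,
      fun i => i.elim0, fun D _ _ _ _ => ⟨Algebra.ofId R D, fun i => i.elim0⟩⟩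
  | succ n ih =>
    obtain ⟨C, _, _, x, hfree, hfin, hgen, hroot, huniv⟩ := ih
    let G := g.map (algebraMap R C)
    have hG : G.Monic := hg.map _
    have := hG.free_adjoinRoot
    have := hG.finite_adjoinRoot
    let x' : Fin (n + 1) → AdjoinRoot G := Fin.cons (AdjoinRoot.root G) fun i => algebraMap C _ (x i)
    refine ⟨AdjoinRoot G, inferInstance, inferInstance, x', Module.Free.trans (S := C),
      Module.Finite.trans C _, ?_, ?_, ?_⟩
    · refine eq_top_iff.2 ?_
      rintro z -
      have hC : ∀ c : C, algebraMap C (AdjoinRoot G) c ∈ Algebra.adjoin R (Set.range x') := fun c => by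
        have hc : c ∈ Algebra.adjoin R (Set.range x) := hgen.ge Algebra.mem_top
        induction hc using Algebra.adjoin_induction with
        | mem a ha =>
          obtain ⟨i, rfl⟩ := ha
          exact Algebra.subset_adjoin ⟨i.succ, Fin.cons_succ _ _ i⟩
        | algebraMap r =>
          rw [← IsScalarTower.algebraMap_apply]
          exact Subalgebra.algebraMap_mem _ r
        | add a b _ _ ha hb => rw [map_add]; exact add_mem ha hb
        | mul a b _ _ ha hb => rw [map_mul]; exact mul_mem ha hb
      have hz : z ∈ Algebra.adjoin C ({AdjoinRoot.root G} : Set (AdjoinRoot G)) :=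
        (AdjoinRoot.adjoinRoot_eq_top).ge Algebra.mem_top
      induction hz using Algebra.adjoin_induction with
      | mem a ha =>
        obtain rfl := Set.mem_singleton_iff.1 ha
        exact Algebra.subset_adjoin ⟨0, Fin.cons_zero _ _⟩
      | algebraMap c => exact hC c
      | add a b _ _ ha hb => exact add_mem ha hb
      | mul a b _ _ ha hb => exact mul_mem ha hb
    · refine Fin.cases ?_ fun i => ?_
      · show aeval (AdjoinRoot.root G) g = 0
        rw [← aeval_map_algebraMap C]
        exact AdjoinRoot.aeval_eq G ▸ AdjoinRoot.mk_self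
      · show aeval (algebraMap C (AdjoinRoot G) (x i)) g = 0
        rw [aeval_algebraMap_apply, hroot, map_zero]
    · intro D _ _ y hy
      obtain ⟨ψ, hψ⟩ := huniv D (fun i => y i.succ) fun i => hy _
      have h0 : G.eval₂ ψ (y 0) = 0 := by
        show Polynomial.eval₂ (ψ : C →+* D) (y 0) _ = 0
        rw [eval₂_map, show ((ψ : C →+* D).comp (algebraMap R C)) = algebraMap R D from RingHom.ext ψ.commutes]
        exact hy 0
      refine ⟨AdjoinRoot.liftAlgHom G ψ (y 0) h0, Fin.cases ?_ fun i => ?_⟩
      · show AdjoinRoot.liftAlgHom G ψ (y 0) h0 (AdjoinRoot.root G) = y 0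
        simp
      · show AdjoinRoot.liftAlgHom G ψ (y 0) h0 (algebraMap C (AdjoinRoot G) (x i)) = y i.succ
        rw [AdjoinRoot.algebraMap_eq, ← hψ i]
        simp

/-- After a finite free extension a finite algebra is generated by roots of one split monic polynomial. -/
theorem exists_split_gen (R S : Type u) [CommRing R] [CommRing S] [Algebra R S] [Module.Finite R S] :
    ∃ (T : Type u) (_ : CommRing T) (_ : Algebra R T), Module.Finite R T ∧ Module.Free R T ∧
      Function.Injective (algebraMap R T) ∧
      ∃ (n N : ℕ) (a : Fin N → T) (s : Fin n → T ⊗[R] S), Algebra.adjoin T (Set.range s) = ⊤ ∧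
        ∀ i, aeval (s i) (∏ j, (Polynomial.X - Polynomial.C (a j))) = 0 := by
  classical
  cases subsingleton_or_nontrivial R with
  | inl h =>
    have : Subsingleton (R ⊗[R] S) := Module.subsingleton R _
    exact ⟨R, inferInstance, Algebra.id R, inferInstance, inferInstance, Function.injective_id, 0, 0, Fin.elim0,
      Fin.elim0, Subsingleton.elim _ _, fun i => i.elim0⟩
  | inr h =>
    obtain ⟨n, s, hs⟩ := Module.Finite.exists_fin (R := R) (M := S)
    choose P hP hPs using fun i => Algebra.IsIntegral.isIntegral (R := R) (s i)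
    let Q := ∏ i, P i
    have hQ : Q.Monic := monic_prod_of_monic _ _ fun i _ => hP i
    obtain ⟨T, _, _, a, hfree, hfin, hinj, hsplit⟩ :=
      FlatMor12.exists_splitting_free Q.natDegree R Q hQ rfl
    refine ⟨T, inferInstance, inferInstance, hfin, hfree, hinj, n, Q.natDegree, a, fun i => 1 ⊗ₜ s i,
      eq_top_iff.2 ?_, fun i => ?_⟩
    · rintro z -
      induction z using TensorProduct.induction_on with
      | zero => exact zero_mem _
      | tmul t w =>
        have hw : w ∈ Submodule.span R (Set.range s) := hs.ge Submodule.mem_top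
        induction hw using Submodule.span_induction generalizing t with
        | mem b hb =>
          obtain ⟨i, rfl⟩ := hb
          rw [show t ⊗ₜ[R] s i = t • ((1 : T) ⊗ₜ[R] s i) by rw [TensorProduct.smul_tmul', smul_eq_mul, mul_one]]
          exact Subalgebra.smul_mem _ (Algebra.subset_adjoin (R := T) (s := Set.range fun i => (1 : T) ⊗ₜ[R] s i) ⟨i, rfl⟩) t
        | zero => rw [TensorProduct.tmul_zero]; exact zero_mem _
        | add b c _ _ hb hc => rw [TensorProduct.tmul_add]; exact add_mem (hb t) (hc t)
        | smul r b _ hb => rw [TensorProduct.tmul_smul, TensorProduct.smul_tmul']; exact hb _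
      | add b c hb hc => exact add_mem hb hc
    · rw [← hsplit, aeval_map_algebraMap,
        show (fun i => (1 : T) ⊗ₜ[R] s i) i = Algebra.TensorProduct.includeRight (s i) from rfl, aeval_algHom_apply,
        show aeval (s i) Q = 0 from ?_, map_zero]
      rw [map_prod]
      exact Finset.prod_eq_zero (Finset.mem_univ i) (hPs i)

theorem isFinLocFree_SpecMap (R T : Type u) [CommRing R] [CommRing T] [Algebra R T] [Module.Finite R T]
    [Module.Free R T] : Mor2.IsFinLocFree (Spec.map (CommRingCat.ofHom (algebraMap R T))) := by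
  refine ⟨(IsFinite.SpecMap_iff _).2 ?_, (HasRingHomProperty.Spec_iff (P := @Flat)).2 ?_,
    (HasRingHomProperty.Spec_iff (P := @LocallyOfFinitePresentation)).2 ?_⟩
  · exact RingHom.finite_algebraMap.2 inferInstance
  · exact RingHom.flat_algebraMap_iff.2 inferInstance
  · have : Module.FinitePresentation R T := Module.finitePresentation_of_projective R T
    have : Algebra.FinitePresentation R T := Algebra.FinitePresentation.of_finitePresentation R T
    exact RingHom.finitePresentation_algebraMap.2 inferInstance

theorem exists_cover {X Y : Scheme.{u}} [IsAffine X] (f : Y ⟶ X) [IsFinite f] :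
    ∃ (X' : Scheme.{u}) (b : X' ⟶ X) (Z' : Scheme.{u}) (c : Z' ⟶ X') (i : pullback f b ⟶ Z'),
      Mor2.IsFinLocFree b ∧ Surjective b ∧ Mor2.IsFinLocFree c ∧ IsClosedImmersion i ∧
      i ≫ c = pullback.snd f b ∧
      ∃ (m : ℕ) (Zj : Fin m → Scheme.{u}) (ιj : ∀ j, Zj j ⟶ Z'),
        (∀ j, IsClosedImmersion (ιj j)) ∧ (∀ j, IsIso (ιj j ≫ c)) ∧
        (⋃ j, Set.range (ιj j).base) = Set.univ := by
  classical
  have : IsAffine Y := isAffine_of_isAffineHom f
  let R := Γ(X, ⊤)
  let S := Γ(Y, ⊤)
  letI : Algebra R S := f.appTop.hom.toAlgebra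
  have : Module.Finite R S := by
    have h1 := (HasAffineProperty.iff_of_isAffine (P := @IsFinite) (f := f)).1 inferInstance
    exact RingHom.finite_algebraMap.1 h1.2
  obtain ⟨T, _, _, hfin, hfree, hinj, n, N, a, s, hgen, hroot⟩ := exists_split_gen R S
  let g : T[X] := ∏ j, (Polynomial.X - Polynomial.C (a j))
  have hg : g.Monic := monic_prod_of_monic _ _ fun j _ => monic_X_sub_C _
  obtain ⟨C, _, _, x, hCfree, hCfin, hCgen, hCroot, huniv⟩ := exists_rootAlg T g hg n
  obtain ⟨φ, hφ⟩ := huniv (T ⊗[R] S) s hroot
  have hφs : Function.Surjective φ := by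
    rw [← AlgHom.range_eq_top]
    refine top_le_iff.1 (hgen.ge.trans (Algebra.adjoin_le ?_))
    rintro _ ⟨i, rfl⟩
    exact ⟨x i, hφ i⟩
  have hga : ∀ j, aeval (a j) g = 0 := fun j => by
    rw [map_prod]
    exact Finset.prod_eq_zero (Finset.mem_univ j) (by simp)
  choose ψ hψ using fun J : Fin n → Fin N => huniv T (fun i => a (J i)) fun i => hga (J i)
  let e := (Fintype.equivFin (Fin n → Fin N)).symm
  let b₀ : Spec (CommRingCat.of T) ⟶ X := Spec.map (CommRingCat.ofHom (algebraMap R T)) ≫ X.isoSpec.inv
  have hpb : IsPullback (Spec.map (CommRingCat.ofHom (Algebra.TensorProduct.includeRight (R := R) (A := T) (B := S)).toRingHom) ≫ Y.isoSpec.inv)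
      (Spec.map (CommRingCat.ofHom (algebraMap T (T ⊗[R] S)))) f b₀ := by
    have h := isPullback_SpecMap_of_isPushout _ _ _ _ (CommRingCat.isPushout_tensorProduct R T S)
    refine h.flip.of_iso (Iso.refl _) Y.isoSpec.symm (Iso.refl _) X.isoSpec.symm ?_ ?_ ?_ ?_
    · simp
    · simp
    · exact (Scheme.isoSpec_inv_naturality f)
    · simp [b₀]
  have hb₀ : Mor2.IsFinLocFree b₀ := by
    obtain ⟨h1, h2, h3⟩ := isFinLocFree_SpecMap R T
    exact ⟨inferInstance, inferInstance, inferInstance⟩
  have hsurj : Surjective b₀ := by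
    have h1 : Surjective (Spec.map (CommRingCat.ofHom (algebraMap R T))) := by
      have : FaithfulSMul R T := (faithfulSMul_iff_algebraMap_injective R T).mpr hinj
      exact ⟨Algebra.IsIntegral.comap_surjective R T⟩
    infer_instance
  let i₀ : pullback f b₀ ⟶ Spec (CommRingCat.of C) :=
    hpb.isoPullback.inv ≫ Spec.map (CommRingCat.ofHom φ.toRingHom)
  refine ⟨Spec (CommRingCat.of T), b₀, Spec (CommRingCat.of C), Spec.map (CommRingCat.ofHom (algebraMap T C)), i₀,
    hb₀, hsurj, isFinLocFree_SpecMap T C, ?_, ?_, Fintype.card (Fin n → Fin N), fun _ => Spec (CommRingCat.of T),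
    fun j => Spec.map (CommRingCat.ofHom (ψ (e j)).toRingHom), fun j => ?_, fun j => ?_, ?_⟩
  · have : IsClosedImmersion (Spec.map (CommRingCat.ofHom φ.toRingHom)) :=
      IsClosedImmersion.spec_of_surjective _ hφs
    infer_instance
  · have h1 : Spec.map (CommRingCat.ofHom φ.toRingHom) ≫ Spec.map (CommRingCat.ofHom (algebraMap T C)) =
        Spec.map (CommRingCat.ofHom (algebraMap T (T ⊗[R] S))) := by
      rw [← Spec.map_comp, ← CommRingCat.ofHom_comp]
      exact congrArg (fun k => Spec.map (CommRingCat.ofHom k)) (RingHom.ext φ.commutes)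
    rw [Category.assoc, h1]
    exact hpb.isoPullback_inv_snd
  · exact IsClosedImmersion.spec_of_surjective _ fun t => ⟨algebraMap T C t, (ψ (e j)).commutes t⟩
  · have h1 : Spec.map (CommRingCat.ofHom (ψ (e j)).toRingHom) ≫ Spec.map (CommRingCat.ofHom (algebraMap T C)) = 𝟙 _ := by
      rw [← Spec.map_comp, ← CommRingCat.ofHom_comp, ← Spec.map_id]
      exact congrArg Spec.map (CommRingCat.hom_ext (RingHom.ext (ψ (e j)).commutes))
    rw [h1]
    infer_instance
  · refine Set.eq_univ_of_forall fun q => ?_
    change PrimeSpectrum C at q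
    have hJ : ∀ i, ∃ j, x i - algebraMap T C (a j) ∈ q.asIdeal := fun i => by
      have h1 : ∏ j, (x i - algebraMap T C (a j)) ∈ q.asIdeal := by
        rw [show ∏ j, (x i - algebraMap T C (a j)) = aeval (x i) g by simp [g, map_prod], hCroot]
        exact zero_mem _
      simpa using (Ideal.IsPrime.prod_mem_iff (hp := q.2)).1 h1
    choose J hJ using hJ
    have hker : ∀ z, z - algebraMap T C (ψ J z) ∈ q.asIdeal := fun z => by
      have hz : z ∈ Algebra.adjoin T (Set.range x) := hCgen.ge Algebra.mem_top
      induction hz using Algebra.adjoin_induction with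
      | mem w hw => obtain ⟨i, rfl⟩ := hw; rw [hψ]; exact hJ i
      | algebraMap r => rw [AlgHom.commutes]; simp
      | add v w _ _ hv hw => rw [map_add, map_add, add_sub_add_comm]; exact add_mem hv hw
      | mul v w _ _ hv hw =>
        rw [map_mul, map_mul, show v * w - algebraMap T C (ψ J v) * algebraMap T C (ψ J w) =
          v * (w - algebraMap T C (ψ J w)) + algebraMap T C (ψ J w) * (v - algebraMap T C (ψ J v)) by ring]
        exact add_mem (Ideal.mul_mem_left _ _ hw) (Ideal.mul_mem_left _ _ hv)
    refine Set.mem_iUnion.2 ⟨e.symm J, PrimeSpectrum.comap (algebraMap T C) q, ?_⟩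
    show PrimeSpectrum.comap (ψ (e (e.symm J))).toRingHom (PrimeSpectrum.comap (algebraMap T C) q) = q
    rw [Equiv.apply_symm_apply]
    ext z
    show algebraMap T C (ψ J z) ∈ q.asIdeal ↔ z ∈ q.asIdeal
    constructor
    · intro h; simpa using add_mem (hker z) h
    · intro h; simpa using sub_mem h (hker z)

/-- The splitting statement with separate indices. -/
theorem exists_splitting (R S : Type u) [CommRing R] [CommRing S] [Algebra R S] [Module.Finite R S] :
    ∃ (R' : Type u) (_ : CommRing R') (_ : Algebra R R'), Module.Finite R R' ∧ Module.Free R R' ∧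
      Function.Injective (algebraMap R R') ∧
      ∃ (n : ℕ) (d : Fin n → ℕ) (α : (i : Fin n) → Fin (d i) → R')
        (φ : MvPolynomial (Fin n) R' →ₐ[R'] R' ⊗[R] S), Function.Surjective φ ∧
          ∀ i, φ (∏ j, (MvPolynomial.X i - MvPolynomial.C (α i j))) = 0 := by
  obtain ⟨T, _, _, hfin, hfree, hinj, n, N, a, s, hgen, hroot⟩ := exists_split_gen R S
  refine ⟨T, inferInstance, inferInstance, hfin, hfree, hinj, n, fun _ => N, fun _ => a, MvPolynomial.aeval s,
    ?_, fun i => ?_⟩
  · rw [← AlgHom.range_eq_top, ← Algebra.adjoin_range_eq_range_aeval, hgen]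
  · rw [← hroot i, map_prod, map_prod]
    simp

end Groth.Agent.CAlgSmall.FinCover
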