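import Groth.Agent.AlgSpLib.GenFinite
import Mathlib.AlgebraicGeometry.Limits

/-!
# Finite fibre over a generic point of a component iff finite over a neighbourhood
-/

universe u

open CategoryTheory CategoryTheory.Limits AlgebraicGeometry

noncomputable section

namespace Groth.Agent.CAlgSmall

set_option backward.isDefEq.respectTransparency.types false

/-- A generic point of an irreducible component has no proper generalisation. -/
theorem eq_of_specializes_of_mem_irreducibleComponents {Y : Scheme.{u}} {η : ↥Y}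
    (hη : closure {η} ∈ irreducibleComponents (↥Y)) (t : ↥Y) (ht : t ⤳ η) : t = η := by
  have h1 : closure {η} ⊆ closure ({t} : Set ↥Y) :=
    closure_minimal (Set.singleton_subset_iff.mpr (specializes_iff_mem_closure.mp ht)) isClosed_closure
  have h2 : closure ({t} : Set ↥Y) ⊆ closure {η} := hη.2 (isIrreducible_singleton.closure) h1
  exact (ht.antisymm (specializes_iff_mem_closure.mpr (h2 (subset_closure rfl)))).eq

/-- Finiteness near `η` once the fibre lies in an affine open. -/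
theorem exists_nhd_finite_of_affine {X T : Scheme.{u}} [IsAffine T] (f : X ⟶ T) [LocallyOfFiniteType f]
    [QuasiCompact f] {η : ↥T} (hmax : ∀ t, t ⤳ η → t = η)
    (hfin : (f ⁻¹' {η}).Finite) (V : X.Opens) (haff : IsAffineOpen V) (hFV : ∀ w, f w = η → w ∈ V) :
    ∃ N : T.Opens, IsAffineOpen N ∧ η ∈ N ∧ IsFinite (f ∣_ N) := by
  classical
  have : CompactSpace ↥X := QuasiCompact.compactSpace_of_compactSpace f
  -- the fibre is in `V`, so a neighbourhood of it too
  let C : Set ↥X := (V : Set ↥X)ᶜ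
  have hC : IsClosed C := V.isOpen.isClosed_compl
  let I := Scheme.IdealSheafData.vanishingIdeal (⟨C, hC⟩ : TopologicalSpace.Closeds ↥X)
  have hr : Set.range (I.subschemeι ≫ f) = f '' C := by
    rw [Scheme.Hom.comp_base, TopCat.coe_comp, Set.range_comp, Scheme.IdealSheafData.range_subschemeι,
      Scheme.IdealSheafData.coe_support_vanishingIdeal]
    rfl
  have : CompactSpace ↥I.subscheme := I.subschemeι.isClosedEmbedding.compactSpace
  have hCη : η ∉ closure (f '' C) := by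
    rw [← hr]
    refine AlgSpLib.notMem_closure_range_of_maximal (I.subschemeι ≫ f) hmax ?_
    rw [hr]
    rintro ⟨w, hw, e⟩
    exact hw (hFV w e)
  obtain ⟨N₀, hN₀, hηN₀, hN₀C⟩ := exists_isAffineOpen_mem_and_subset (x := η)
    (U := ⟨(closure (f '' C))ᶜ, isClosed_closure.isOpen_compl⟩) hCη
  have hsub : f ⁻¹ᵁ N₀ ≤ V := fun w hw => by
    by_contra h
    exact hN₀C hw (subset_closure ⟨w, h, rfl⟩)
  let g := f ∣_ N₀
  have : IsAffine N₀.toScheme := hN₀
  have : IsAffine V.toScheme := haff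
  have : IsSeparated g := by
    have : IsSeparated (g ≫ terminal.from N₀.toScheme) := by
      rw [show g ≫ terminal.from N₀.toScheme = X.homOfLE hsub ≫ terminal.from V.toScheme from terminal.hom_ext _ _]
      infer_instance
    exact IsSeparated.of_comp g (terminal.from N₀.toScheme)
  have : CompactSpace ↥(f ⁻¹ᵁ N₀).toScheme :=
    isCompact_iff_compactSpace.mp (f.isCompact_preimage hN₀.isCompact)
  let η₀ : ↥N₀.toScheme := ⟨η, hηN₀⟩
  have hmax₀ : ∀ t, t ⤳ η₀ → t = η₀ := fun t ht =>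
    Subtype.ext (hmax _ (ht.map N₀.ι.continuous))
  have hfin₀ : (g ⁻¹' {η₀}).Finite := by
    refine Set.Finite.subset (hfin.preimage (f ⁻¹ᵁ N₀).ι.isOpenEmbedding.injective.injOn) fun w hw => ?_
    have h1 : f ((f ⁻¹ᵁ N₀).ι w) = N₀.ι (g w) := by
      rw [← Scheme.Hom.comp_apply, ← Scheme.Hom.comp_apply, morphismRestrict_ι]
    show f ((f ⁻¹ᵁ N₀).ι w) = η
    rw [h1, show g w = η₀ from hw]
    rfl
  obtain ⟨N, hN, hηN, hNfin⟩ := AlgSpLib.exists_isFinite_of_finite_fibre g hmax₀ hfin₀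
  refine ⟨N₀.ι ''ᵁ N, hN.image_of_isOpenImmersion N₀.ι, ⟨η₀, hηN, rfl⟩, ?_⟩
  exact ((MorphismProperty.arrow_mk_iso_iff @IsFinite (morphismRestrictRestrict f N₀ N)).1 hNfin)


theorem exists_nhd_finite {X T : Scheme.{u}} [IsAffine T] (f : X ⟶ T) [LocallyOfFiniteType f]
    [QuasiCompact f] [QuasiSeparated f] {η : ↥T} (hmax : ∀ t, t ⤳ η → t = η)
    (hfin : (f ⁻¹' {η}).Finite) : ∃ N : T.Opens, IsAffineOpen N ∧ η ∈ N ∧ IsFinite (f ∣_ N) := by
  classical
  have : CompactSpace ↥X := QuasiCompact.compactSpace_of_compactSpace f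
  have : QuasiSeparatedSpace ↥X := quasiSeparatedSpace_of_quasiSeparated f
  set F := f ⁻¹' {η}
  -- points of the fibre have no proper generalisation
  have hxmax : ∀ x ∈ F, ∀ t, t ⤳ x → t = x := by
    intro x hx t ht
    have hft : f t = η := hmax _ ((show f x = η from hx) ▸ ht.map f.continuous)
    have : Finite (f.fiber η) := (f.fiberHomeo η).finite_iff.mpr hfin.to_subtype
    have hs : (f.fiberHomeo η).symm ⟨t, hft⟩ ⤳ (f.fiberHomeo η).symm ⟨x, hx⟩ :=
      (Topology.IsInducing.subtypeVal.specializes_iff.mp ht).map (f.fiberHomeo η).symm.continuous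
    exact congrArg Subtype.val ((f.fiberHomeo η).symm.injective (specializes_iff_eq.mp hs))
  let F' := hfin.toFinset
  have hmem : ∀ {x}, x ∈ F' ↔ x ∈ F := Set.Finite.mem_toFinset hfin
  -- affine neighbourhoods avoiding the other points
  have hU : ∀ x : F', ∃ U : X.Opens, IsAffineOpen U ∧ (x : ↥X) ∈ U ∧ ∀ y ∈ F', y ≠ (x : ↥X) → y ∉ U := by
    intro x
    let O : X.Opens := ⟨(closure ((F'.erase (x : ↥X) : Finset ↥X) : Set ↥X))ᶜ, isClosed_closure.isOpen_compl⟩
    have hxO : (x : ↥X) ∈ O := by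
      intro hc
      rw [← Set.biUnion_of_singleton ((F'.erase (x : ↥X) : Finset ↥X) : Set ↥X),
        (Finset.finite_toSet _).closure_biUnion, Set.mem_iUnion₂] at hc
      obtain ⟨y, hy, hxy⟩ := hc
      obtain ⟨hne, hyF⟩ := Finset.mem_erase.mp (Finset.mem_coe.mp hy)
      exact hne (hxmax x (hmem.mp x.2) y (specializes_iff_mem_closure.mpr hxy))
    obtain ⟨U, hU, hxU, hUO⟩ := exists_isAffineOpen_mem_and_subset (x := (x : ↥X)) (U := O) hxO
    exact ⟨U, hU, hxU, fun y hy hne hyU =>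
      hUO hyU (subset_closure (Finset.mem_coe.mpr (Finset.mem_erase.mpr ⟨hne, hy⟩)))⟩
  choose U hUaff hxU hUavoid using hU
  have hnot : ∀ x y : F', y ≠ x → (x : ↥X) ∉ closure ((U y : X.Opens) : Set ↥X) := by
    intro x y hne hc
    have : CompactSpace ↥(U y).toScheme := isCompact_iff_compactSpace.mp (hUaff y).isCompact
    rw [← (U y).range_ι] at hc
    refine AlgSpLib.notMem_closure_range_of_maximal (U y).ι (hxmax x (hmem.mp x.2)) ?_ hc
    rw [Scheme.Opens.range_ι]
    exact hUavoid y x x.2 fun h => hne (Subtype.ext h).symm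
  have hW : ∀ x : F', ∃ W : X.Opens, IsAffineOpen W ∧ (x : ↥X) ∈ W ∧ W ≤ U x ∧
      ∀ y, y ≠ x → Disjoint W (U y) := by
    intro x
    let O : X.Opens := U x ⊓ ⟨(closure (⋃ y ∈ ({x}ᶜ : Set F'), ((U y : X.Opens) : Set ↥X)))ᶜ,
      isClosed_closure.isOpen_compl⟩
    have hxO : (x : ↥X) ∈ O := by
      refine ⟨hxU x, fun hc => ?_⟩
      rw [(Set.toFinite _).closure_biUnion, Set.mem_iUnion₂] at hc
      obtain ⟨y, hy, hxy⟩ := hc
      exact hnot x y hy hxy
    obtain ⟨W, hW, hxW, hWO⟩ := exists_isAffineOpen_mem_and_subset (x := (x : ↥X)) (U := O) hxO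
    refine ⟨W, hW, hxW, fun z hz => (hWO hz).1, fun y hy => ?_⟩
    rw [← TopologicalSpace.Opens.coe_disjoint, Set.disjoint_left]
    exact fun z hzW hzy => (hWO hzW).2 (subset_closure (Set.mem_iUnion₂.mpr ⟨y, hy, hzy⟩))
  choose W hWaff hxW hWU hWdisj using hW
  have hdisj : (Set.univ : Set F').PairwiseDisjoint W := fun a _ b _ hab =>
    (hWdisj a b (Ne.symm hab)).mono_right (hWU b)
  have haff : IsAffineOpen (⨆ x : F', W x) :=
    IsAffineOpen.iSup_of_disjoint hWaff fun a b hab => hdisj (Set.mem_univ a) (Set.mem_univ b) hab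
  set V := ⨆ x : F', W x
  exact exists_nhd_finite_of_affine f hmax hfin V haff fun w e =>
    TopologicalSpace.Opens.mem_iSup.mpr ⟨⟨w, hmem.mpr e⟩, hxW _⟩

theorem finite_preimage_iff_exists_finite {X Y : Scheme.{u}} (f : X ⟶ Y) [LocallyOfFiniteType f]
    [QuasiCompact f] [QuasiSeparated f] (η : ↥Y) (hη : closure {η} ∈ irreducibleComponents (↥Y)) :
    (f ⁻¹' {η}).Finite ↔ ∃ V : Y.Opens, IsAffineOpen V ∧ η ∈ V ∧ IsFinite (f ∣_ V) := by
  constructor
  · intro hfin
    obtain ⟨_, ⟨T, hT, rfl⟩, hηT, -⟩ :=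
      Y.isBasis_affineOpens.exists_subset_of_mem_open (Set.mem_univ η) isOpen_univ
    have : IsAffine (Scheme.Opens.toScheme T) := hT
    let η' : ↥(Scheme.Opens.toScheme T) := ⟨η, hηT⟩
    have hmax : ∀ t, t ⤳ η' → t = η' := fun t ht => Subtype.ext
      (eq_of_specializes_of_mem_irreducibleComponents hη _ (ht.map (Scheme.Opens.ι T).continuous))
    have hfin' : ((f ∣_ T) ⁻¹' {η'}).Finite := by
      refine Set.Finite.subset (hfin.preimage (f ⁻¹ᵁ T).ι.isOpenEmbedding.injective.injOn) fun w hw => ?_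
      have h1 : f ((f ⁻¹ᵁ T).ι w) = (Scheme.Opens.ι T) ((f ∣_ T) w) := by
        rw [← Scheme.Hom.comp_apply, ← Scheme.Hom.comp_apply, morphismRestrict_ι]
      show f ((f ⁻¹ᵁ T).ι w) = η
      rw [h1, show (f ∣_ T) w = η' from hw]
      rfl
    obtain ⟨N, hN, hηN, hNfin⟩ := exists_nhd_finite (f ∣_ T) hmax hfin'
    refine ⟨(Scheme.Opens.ι T) ''ᵁ N, hN.image_of_isOpenImmersion (Scheme.Opens.ι T), ⟨η', hηN, rfl⟩, ?_⟩
    exact ((MorphismProperty.arrow_mk_iso_iff @IsFinite (morphismRestrictRestrict f T N)).1 hNfin)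
  · rintro ⟨V, -, hηV, hfin⟩
    refine Set.Finite.subset (((f ∣_ V).finite_preimage_singleton ⟨η, hηV⟩).image (f ⁻¹ᵁ V).ι) fun w hw => ?_
    have hwV : w ∈ f ⁻¹ᵁ V := by show f w ∈ V; rw [hw]; exact hηV
    refine ⟨⟨w, hwV⟩, Subtype.ext ?_, rfl⟩
    rw [morphismRestrict_base_coe]
    exact hw

/-- Finiteness over a dense open when generic points correspond. -/
theorem exists_dense_open_finite {X Y : Scheme.{u}} (f : X ⟶ Y) [LocallyOfFiniteType f]
    [QuasiCompact f] (hX : (irreducibleComponents ↥X).Finite)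
    (hgen : ∀ x : X, closure {x} ∈ irreducibleComponents ↥X ↔
      closure {f.base x} ∈ irreducibleComponents ↥Y) :
    ∃ V : Y.Opens, Dense (V : Set Y) ∧ IsFinite (f ∣_ V) := by
  classical
  have key : ∀ η : ↥Y, closure {η} ∈ irreducibleComponents ↥Y →
      ∃ V : Y.Opens, η ∈ V ∧ IsFinite (f ∣_ V) := by
    intro η hη
    have hfin : (f ⁻¹' {η}).Finite := by
      refine Set.Finite.of_finite_image (f := fun x => closure ({x} : Set ↥X)) (hX.subset ?_) ?_
      · rintro _ ⟨x, hx, rfl⟩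
        exact (hgen x).mpr ((show f x = η from hx) ▸ hη)
      · intro x _ y _ hxy
        exact (inseparable_iff_closure_eq.mpr hxy).eq
    obtain ⟨_, ⟨T, hT, rfl⟩, hηT, -⟩ :=
      Y.isBasis_affineOpens.exists_subset_of_mem_open (Set.mem_univ η) isOpen_univ
    have : IsAffine (Scheme.Opens.toScheme T) := hT
    let X₀ := f ⁻¹ᵁ T
    let η' : ↥(Scheme.Opens.toScheme T) := ⟨η, hηT⟩
    have hmax : ∀ t, t ⤳ η' → t = η' := fun t ht => Subtype.ext
      (eq_of_specializes_of_mem_irreducibleComponents hη _ (ht.map (Scheme.Opens.ι T).continuous))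
    have hw0 : ∀ w, (f ∣_ T) w = η' → f (X₀.ι w) = η := fun w hw => by
      have h1 : f (X₀.ι w) = (Scheme.Opens.ι T) ((f ∣_ T) w) := by
        rw [← Scheme.Hom.comp_apply, ← Scheme.Hom.comp_apply, morphismRestrict_ι]
      rw [h1, hw]
      rfl
    have hfin' : ((f ∣_ T) ⁻¹' {η'}).Finite :=
      Set.Finite.subset (hfin.preimage X₀.ι.isOpenEmbedding.injective.injOn) hw0
    let F' := hfin.toFinset
    have hW : ∀ x : F', ∃ W : X.Opens, IsAffineOpen W ∧ (x : ↥X) ∈ W ∧ W ≤ X₀ ∧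
        ∀ Z ∈ irreducibleComponents ↥X, Z ≠ closure {(x : ↥X)} → Disjoint (W : Set ↥X) Z := by
      intro x
      have hxF : f (x : ↥X) = η := hfin.mem_toFinset.mp x.2
      have hxgen : closure {(x : ↥X)} ∈ irreducibleComponents ↥X := (hgen _).mpr (hxF ▸ hη)
      let O : X.Opens := X₀ ⊓ ⟨(⋃ Z ∈ irreducibleComponents ↥X \ {closure {(x : ↥X)}}, Z)ᶜ,
        (Set.Finite.isClosed_biUnion (hX.diff) fun Z hZ =>
          isClosed_of_mem_irreducibleComponents Z hZ.1).isOpen_compl⟩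
      have hxO : (x : ↥X) ∈ O := by
        refine ⟨show f (x : ↥X) ∈ T by rw [hxF]; exact hηT, fun hc => ?_⟩
        rw [Set.mem_iUnion₂] at hc
        obtain ⟨Z, ⟨hZ, hne⟩, hxZ⟩ := hc
        have hle : closure {(x : ↥X)} ≤ Z := closure_minimal (Set.singleton_subset_iff.mpr hxZ)
          (isClosed_of_mem_irreducibleComponents Z hZ)
        exact hne (le_antisymm (hxgen.2 hZ.1 hle) hle)
      obtain ⟨W, hW, hxW, hWO⟩ := exists_isAffineOpen_mem_and_subset (x := (x : ↥X)) (U := O) hxO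
      refine ⟨W, hW, hxW, fun z hz => (hWO hz).1, fun Z hZ hne => Set.disjoint_left.mpr fun z hz hzZ => ?_⟩
      exact (hWO hz).2 (Set.mem_iUnion₂.mpr ⟨Z, ⟨hZ, hne⟩, hzZ⟩)
    choose W hWaff hxW hWX₀ hWdisj using hW
    have haff : IsAffineOpen (⨆ x : F', W x) := by
      refine IsAffineOpen.iSup_of_disjoint hWaff fun a b hab => ?_
      show Disjoint (W a) (W b)
      rw [← TopologicalSpace.Opens.coe_disjoint, Set.disjoint_left]
      intro z hza hzb
      obtain ⟨Z, hZ, hzZ⟩ : ∃ Z, Z ∈ irreducibleComponents ↥X ∧ z ∈ Z :=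
        ⟨irreducibleComponent z, irreducibleComponent_mem_irreducibleComponents z, mem_irreducibleComponent⟩
      have ha : Z = closure {(a : ↥X)} := by
        by_contra hne
        exact Set.disjoint_left.mp (hWdisj a Z hZ hne) hza hzZ
      have hb : Z = closure {(b : ↥X)} := by
        by_contra hne
        exact Set.disjoint_left.mp (hWdisj b Z hZ hne) hzb hzZ
      exact hab (Subtype.ext (inseparable_iff_closure_eq.mpr (ha.symm.trans hb)).eq)
    have haff' : IsAffineOpen (X₀.ι ⁻¹ᵁ ⨆ x : F', W x) :=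
      haff.preimage_of_isOpenImmersion X₀.ι (by
        rw [Scheme.Opens.opensRange_ι]; exact iSup_le hWX₀)
    obtain ⟨N, hN, hηN, hNfin⟩ := exists_nhd_finite_of_affine (f ∣_ T) hmax hfin' _ haff' fun w hw => by
      show X₀.ι w ∈ ⨆ x : F', W x
      exact TopologicalSpace.Opens.mem_iSup.mpr
        ⟨⟨X₀.ι w, hfin.mem_toFinset.mpr (hw0 w hw)⟩, hxW _⟩
    refine ⟨(Scheme.Opens.ι T) ''ᵁ N, ⟨η', hηN, rfl⟩, ?_⟩
    exact ((MorphismProperty.arrow_mk_iso_iff @IsFinite (morphismRestrictRestrict f T N)).1 hNfin)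
  choose V hηV hVfin using key
  let ι := {η : ↥Y // closure {η} ∈ irreducibleComponents ↥Y}
  refine ⟨⨆ i : ι, V i.1 i.2, ?_, ?_⟩
  · rw [dense_iff_closure_eq, Set.eq_univ_iff_forall]
    intro y
    obtain ⟨Z, hZ, hyZ⟩ : ∃ Z, Z ∈ irreducibleComponents ↥Y ∧ y ∈ Z :=
      ⟨irreducibleComponent y, irreducibleComponent_mem_irreducibleComponents y, mem_irreducibleComponent⟩
    have hc : closure {hZ.1.genericPoint} = Z :=
      (hZ.1.isGenericPoint_genericPoint (isClosed_of_mem_irreducibleComponents Z hZ)).def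
    refine closure_mono (Set.singleton_subset_iff.mpr ?_) (hc.symm ▸ hyZ)
    have hgc : closure {hZ.1.genericPoint} ∈ irreducibleComponents ↥Y := by rw [hc]; exact hZ
    exact TopologicalSpace.Opens.mem_iSup.mpr ⟨⟨_, hgc⟩, hηV _ hgc⟩
  · exact (IsZariskiLocalAtTarget.iff_of_iSup_eq_top (P := @IsFinite)
      (fun i : ι => (⨆ i : ι, V i.1 i.2).ι ⁻¹ᵁ V i.1 i.2)
      (by rw [← Scheme.Hom.preimage_iSup, Scheme.Opens.ι_preimage_self])).mpr fun i => by
        refine (MorphismProperty.arrow_mk_iso_iff @IsFinite (morphismRestrictRestrict f _ _)).2 ?_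
        rw [Scheme.Hom.image_preimage_eq_opensRange_inf, Scheme.Opens.opensRange_ι,
          inf_eq_right.mpr (le_iSup (fun i : ι => V i.1 i.2) i)]
        exact hVfin i.1 i.2

end Groth.Agent.CAlgSmall
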