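import Mathlib
import Groth.Agent.FlatCrit.Tor
import Groth.Agent.Tor15.TorDim
import Groth.Agent.CAlgH3.TorBridge

/-! Flatness from flatness away from `V(I)`, flatness modulo `I` and vanishing of `Tor_i(M, A/I)`. -/

set_option autoImplicit false

universe u

open TensorProduct Function CategoryTheory CategoryTheory.Limits

namespace Groth.Agent.CAlgSmall.FlatAwayTor

open Groth.Agent.FlatCrit

variable {A : Type u} [CommRing A]

/-- The syzygies of `M` by free modules. -/
noncomputable def syz (M : ModuleCat.{u} A) : ℕ → ModuleCat.{u} A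
  | 0 => M
  | j + 1 => ModuleCat.of A (LinearMap.ker
      (Finsupp.linearCombination A (id : syz M j → syz M j) : ((syz M j) →₀ A) →ₗ[A] syz M j))

variable (M : ModuleCat.{u} A)

/-- The free cover of a syzygy. -/
noncomputable abbrev cov (j : ℕ) : ((syz M j) →₀ A) →ₗ[A] syz M j := Finsupp.linearCombination A id

/-- The next syzygy inside the free cover. -/
noncomputable abbrev inc (j : ℕ) : syz M (j + 1) →ₗ[A] ((syz M j) →₀ A) := (LinearMap.ker (cov M j)).subtype

theorem cov_surjective (j : ℕ) : Surjective (cov M j) := fun n ↦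
  ⟨Finsupp.single n 1, by simp [cov]⟩

theorem exact_inc (j : ℕ) : Exact (inc M j) (cov M j) := LinearMap.exact_subtype_ker_map _

theorem inc_injective (j : ℕ) : Injective (inc M j) := (LinearMap.ker (cov M j)).injective_subtype

/-- `Tor₁(syz j, N) = 0`. -/
def T (j : ℕ) (N : Type u) [AddCommGroup N] [Module A N] : Prop := TorVanish A (syz M j) N

theorem T_iff (j : ℕ) (N : Type u) [AddCommGroup N] [Module A N] :
    T M j N ↔ Injective ((inc M j).rTensor N) :=
  ⟨fun h ↦ Tor15.torVanish_symm h (inc M j) (cov M j) (exact_inc M j) (cov_surjective M j) (inc_injective M j),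
   fun h ↦ Tor15.torVanish_symm
     (TorVanish.of_presentation (inc M j) (cov M j) (exact_inc M j) (cov_surjective M j) torVanish_of_projective h)⟩

theorem T_sub (j : ℕ) {N : Type u} [AddCommGroup N] [Module A N] (N' : Submodule A N)
    (h : T M j N) (h'' : T M (j + 1) (N ⧸ N')) : T M j N' := by
  rw [T_iff] at h ⊢
  have h2 : Injective (N'.subtype.lTensor (syz M (j + 1))) :=
    (LinearMap.lTensor_inj_iff_rTensor_inj _ _).mpr
      (h'' N'.subtype N'.mkQ (LinearMap.exact_subtype_mkQ N') N'.mkQ_surjective N'.injective_subtype)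
  rw [injective_iff_map_eq_zero]
  intro z hz
  refine h2 ((h (?_ : _ = (inc M j).rTensor N 0)).trans (map_zero _).symm)
  rw [map_zero, ← LinearMap.comp_apply, LinearMap.rTensor_comp_lTensor, ← LinearMap.lTensor_comp_rTensor,
    LinearMap.comp_apply, hz, map_zero]

theorem T_union (j : ℕ) {N : Type u} [AddCommGroup N] [Module A N] (Nk : ℕ → Submodule A N)
    (hmono : Monotone Nk) (hsup : ∀ x, ∃ k, x ∈ Nk k) (h : ∀ k, T M j (Nk k)) : T M j N := by
  rw [T_iff, injective_iff_map_eq_zero]
  have hex : ∀ z : syz M (j + 1) ⊗[A] N, ∃ k, z ∈ LinearMap.range ((Nk k).subtype.lTensor (syz M (j + 1))) := by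
    intro z
    induction z with
    | zero => exact ⟨0, zero_mem _⟩
    | tmul a x =>
      obtain ⟨k, hk⟩ := hsup x
      exact ⟨k, a ⊗ₜ ⟨x, hk⟩, rfl⟩
    | add x y hx hy =>
      obtain ⟨k, a, rfl⟩ := hx
      obtain ⟨l, b, rfl⟩ := hy
      refine ⟨max k l, (Submodule.inclusion (hmono (le_max_left k l))).lTensor _ a +
        (Submodule.inclusion (hmono (le_max_right k l))).lTensor _ b, ?_⟩
      rw [map_add, ← LinearMap.comp_apply, ← LinearMap.comp_apply, ← LinearMap.lTensor_comp,
        ← LinearMap.lTensor_comp]
      rfl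
  intro z hz
  obtain ⟨k, z, rfl⟩ := hex z
  rw [(T_iff M j _).mp (h k) ((?_ : (inc M j).rTensor (Nk k) z = 0).trans (map_zero _).symm), map_zero]
  refine Module.Flat.lTensor_preserves_injective_linearMap (M := (syz M j) →₀ A) (Nk k).subtype
    (Nk k).injective_subtype ?_
  rw [map_zero, ← hz, ← LinearMap.comp_apply, LinearMap.lTensor_comp_rTensor, ← LinearMap.rTensor_comp_lTensor,
    LinearMap.comp_apply]

theorem flat_of_exact_of_flat {K F Q : Type u} [AddCommGroup K] [Module A K] [AddCommGroup F] [Module A F]
    [AddCommGroup Q] [Module A Q] [Module.Flat A F] [Module.Flat A Q] (i : K →ₗ[A] F) (p : F →ₗ[A] Q)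
    (hip : Exact i p) (hp : Surjective p) (hi : Injective i) : Module.Flat A K := by
  rw [Module.Flat.iff_lTensor_preserves_injective_linearMap]
  intro X Y _ _ _ _ g hg
  have hiX : Injective (i.rTensor X) :=
    (LinearMap.lTensor_inj_iff_rTensor_inj X i).mp (LinearMap.lTensor_injective_of_exact_of_flat p hp i hi hip X)
  have h2 : Injective (g.lTensor F ∘ i.rTensor X) :=
    (Module.Flat.lTensor_preserves_injective_linearMap g hg).comp hiX
  rw [← LinearMap.coe_comp, LinearMap.lTensor_comp_rTensor, ← LinearMap.rTensor_comp_lTensor, LinearMap.coe_comp] at h2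
  exact h2.of_comp

theorem rTensor_injective_of_localized {K F Q N : Type u} [AddCommGroup K] [Module A K] [AddCommGroup F]
    [Module A F] [AddCommGroup Q] [Module A Q] [AddCommGroup N] [Module A N] (g : A)
    (hQ : Module.Flat A (LocalizedModule (Submonoid.powers g) Q)) (i : K →ₗ[A] F) (p : F →ₗ[A] Q)
    (hip : Exact i p) (hp : Surjective p) (hi : Injective i) (hN : Bijective fun x : N ↦ g • x) :
    Injective (i.rTensor N) := by
  let S := Submonoid.powers g
  let iL : LocalizedModule S K →ₗ[A] LocalizedModule S F := (LocalizedModule.map S i).restrictScalars A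
  let pL : LocalizedModule S F →ₗ[A] LocalizedModule S Q := (LocalizedModule.map S p).restrictScalars A
  have hiL : Injective iL := LocalizedModule.map_injective S i hi
  have hpL : Surjective pL := LocalizedModule.map_surjective S p hp
  have hexL : Exact iL pL := LocalizedModule.map_exact S i p hip
  have hinj : Injective (iL.rTensor N) :=
    (LinearMap.lTensor_inj_iff_rTensor_inj N iL).mp (LinearMap.lTensor_injective_of_exact_of_flat pL hpL iL hiL hexL N)
  rw [injective_iff_map_eq_zero]
  intro z hz
  let mk : K →ₗ[A] LocalizedModule S K := LocalizedModule.mkLinearMap S K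
  let mkF : F →ₗ[A] LocalizedModule S F := LocalizedModule.mkLinearMap S F
  have hsq : iL ∘ₗ mk = mkF ∘ₗ i := LinearMap.ext fun x ↦ by
    show LocalizedModule.map S i (LocalizedModule.mk x 1) = LocalizedModule.mk (i x) 1
    rw [LocalizedModule.map_mk]
  have h0 : mk.rTensor N z = 0 := by
    refine hinj ?_
    rw [map_zero, ← LinearMap.comp_apply, ← LinearMap.rTensor_comp, hsq, LinearMap.rTensor_comp,
      LinearMap.comp_apply, hz, map_zero]
  have : IsLocalizedModule S mk := localizedModuleIsLocalizedModule S
  have : IsLocalizedModule S (AlgebraTensorModule.rTensor A N mk) := inferInstance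
  obtain ⟨⟨_, k, rfl⟩, hk⟩ := (IsLocalizedModule.eq_zero_iff S (AlgebraTensorModule.rTensor A N mk)).mp h0
  rw [Submonoid.smul_def] at hk
  induction k with
  | zero => simpa using hk
  | succ k ih =>
    refine ih ?_
    change g ^ (k + 1) • z = 0 at hk
    show g ^ k • z = 0
    let e : N ≃ₗ[A] N := LinearEquiv.ofBijective (LinearMap.lsmul A N g) hN
    have hg : ∀ w : K ⊗[A] N, g • w = e.lTensor K w := fun w ↦ by
      induction w with
      | zero => simp
      | add x y hx hy => rw [smul_add, map_add, hx, hy]
      | tmul a x => rw [TensorProduct.smul_tmul', TensorProduct.smul_tmul, LinearEquiv.lTensor_tmul]; rfl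
    rw [pow_succ', mul_smul, hg] at hk
    exact (e.lTensor K).map_eq_zero_iff.mp hk

theorem flat_localized_step {K F Q : Type u} [AddCommGroup K] [Module A K] [AddCommGroup F] [Module A F]
    [AddCommGroup Q] [Module A Q] [Module.Flat A F] (g : A)
    (hQ : Module.Flat A (LocalizedModule (Submonoid.powers g) Q)) (i : K →ₗ[A] F) (p : F →ₗ[A] Q)
    (hip : Exact i p) (hp : Surjective p) (hi : Injective i) :
    Module.Flat A (LocalizedModule (Submonoid.powers g) K) := by
  let S := Submonoid.powers g
  have : Module.Flat (Localization S) (LocalizedModule S F) := inferInstance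
  have : Module.Flat A (LocalizedModule S F) := Module.Flat.trans A (Localization S) _
  exact flat_of_exact_of_flat ((LocalizedModule.map S i).restrictScalars A)
    ((LocalizedModule.map S p).restrictScalars A) (LocalizedModule.map_exact S i p hip)
    (LocalizedModule.map_surjective S p hp)
    (show Injective ((LocalizedModule.map S i).restrictScalars A) from LocalizedModule.map_injective S i hi)

theorem flat_syz_localized (g : A) (h : Module.Flat A (LocalizedModule (Submonoid.powers g) M)) (j : ℕ) :
    Module.Flat A (LocalizedModule (Submonoid.powers g) (syz M j)) := by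
  induction j with
  | zero => exact h
  | succ j ih => exact flat_localized_step g ih (inc M j) (cov M j) (exact_inc M j) (cov_surjective M j) (inc_injective M j)

theorem T_of_bijective (g : A) (h : Module.Flat A (LocalizedModule (Submonoid.powers g) M)) (j : ℕ)
    {N : Type u} [AddCommGroup N] [Module A N] (hN : Bijective fun x : N ↦ g • x) : T M j N :=
  (T_iff M j N).mpr (rTensor_injective_of_localized g (flat_syz_localized M g h j) (inc M j) (cov M j)
    (exact_inc M j) (cov_surjective M j) (inc_injective M j) hN)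

variable (I : Ideal A)

theorem T_killed {r : ℕ} (h2 : QuotFlat A M I) (h3 : ∀ j ≤ r, T M j (A ⧸ I)) :
    ∀ j ≤ r, ∀ (N : Type u) [AddCommGroup N] [Module A N], (∀ a ∈ I, ∀ x : N, a • x = 0) → T M j N := by
  have hq : ∀ j ≤ r, QuotFlat A (syz M j) I := by
    intro j
    induction j with
    | zero => exact fun _ ↦ h2
    | succ j ih =>
      intro hj X Y _ _ _ _ i hY hi
      have hX : ∀ a ∈ I, ∀ x : X, a • x = 0 := fun a ha x ↦ hi (by rw [map_smul, hY a ha, map_zero])
      have hh1 : Injective (I.subtype.rTensor (syz M j)) :=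
        h3 j (by omega) I.subtype (Submodule.mkQ I) (LinearMap.exact_subtype_mkQ I) (Submodule.mkQ_surjective I)
          I.injective_subtype
      have hTX : T M j X := torVanish_of_killed hh1 (ih (by omega)) hX
      rw [injective_iff_map_eq_zero]
      intro z hz
      have h4 : Injective ((inc M j).lTensor X) :=
        (LinearMap.lTensor_inj_iff_rTensor_inj X _).mpr ((T_iff M j X).mp hTX)
      refine h4 ((Module.Flat.rTensor_preserves_injective_linearMap (M := (syz M j) →₀ A) i hi ?_).trans
        (map_zero _).symm)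
      rw [map_zero, ← LinearMap.comp_apply, LinearMap.rTensor_comp_lTensor, ← LinearMap.lTensor_comp_rTensor,
        LinearMap.comp_apply, hz, map_zero]
  intro j hj N _ _ hN
  exact torVanish_of_killed
    (h3 j hj I.subtype (Submodule.mkQ I) (LinearMap.exact_subtype_mkQ I) (Submodule.mkQ_surjective I)
      I.injective_subtype) (hq j hj) hN

theorem T_torsion {r : ℕ} (f : Fin r → A) (h2 : QuotFlat A M (Ideal.span (Set.range f)))
    (h3 : ∀ j ≤ r, T M j (A ⧸ Ideal.span (Set.range f))) (j : ℕ) (hj : j ≤ r)
    (N : Type u) [AddCommGroup N] [Module A N] (hN : ∀ m, ∀ x : N, ∃ e : ℕ, f m ^ e • x = 0) : T M j N := by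
  let I := Ideal.span (Set.range f)
  let Nk : ℕ → Submodule A N := fun k ↦
    { carrier := {x | ∀ a ∈ I ^ k, a • x = 0}
      add_mem' := fun hx hy a ha ↦ by rw [smul_add, hx a ha, hy a ha, add_zero]
      zero_mem' := fun a _ ↦ smul_zero a
      smul_mem' := fun c x hx a ha ↦ by rw [smul_comm, hx a ha, smul_zero] }
  have hmono : Monotone Nk := fun k l hkl x hx a ha ↦ hx a (Ideal.pow_le_pow_right hkl ha)
  refine T_union M j Nk hmono (fun x ↦ ?_) fun k ↦ ?_
  · let J := (Submodule.span A {x}).annihilator
    have hle : I ≤ J.radical := Ideal.span_le.mpr (by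
      rintro _ ⟨m, rfl⟩
      obtain ⟨e, he⟩ := hN m x
      exact ⟨e, (Submodule.mem_annihilator_span_singleton _ _).mpr he⟩)
    obtain ⟨k, hk⟩ := Ideal.exists_pow_le_of_le_radical_of_fg hle
      ⟨(Set.finite_range f).toFinset, by rw [Set.Finite.coe_toFinset]⟩
    exact ⟨k, fun a ha ↦ (Submodule.mem_annihilator_span_singleton _ _).mp (hk ha)⟩
  · induction k with
    | zero =>
      refine T_killed M I h2 h3 j hj _ fun a _ x ↦ Subtype.ext ?_
      have : (x : N) = 0 := by
        simpa using x.2 1 (by simp)
      show a • (x : N) = 0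
      rw [this, smul_zero]
    | succ k ih =>
      let N' := (Nk k).comap (Nk (k + 1)).subtype
      refine TorVanish.extension N'
        (TorVanish.of_linearEquiv ih (Submodule.comapSubtypeEquivOfLe (hmono k.le_succ)).symm) ?_
      refine T_killed M I h2 h3 j hj _ fun a ha y ↦ ?_
      obtain ⟨y, rfl⟩ := Submodule.Quotient.mk_surjective _ y
      rw [← Submodule.Quotient.mk_smul, Submodule.Quotient.mk_eq_zero]
      intro b hb
      show b • a • (y : N) = 0
      rw [smul_smul]
      exact y.2 _ (by rw [pow_succ]; exact Ideal.mul_mem_mul hb ha)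

theorem main_T {r : ℕ} (f : Fin r → A) (h1 : ∀ m, Module.Flat A (LocalizedModule (Submonoid.powers (f m)) M))
    (h2 : QuotFlat A M (Ideal.span (Set.range f)))
    (h3 : ∀ j ≤ r, T M j (A ⧸ Ideal.span (Set.range f))) :
    ∀ s ≤ r, ∀ (N : Type u) [AddCommGroup N] [Module A N],
      (∀ m : Fin r, s ≤ m.1 → ∀ x : N, ∃ e : ℕ, f m ^ e • x = 0) → ∀ j, j + s ≤ r → T M j N := by
  intro s
  induction s with
  | zero => exact fun _ N _ _ hN j hj ↦ T_torsion M f h2 h3 j (by omega) N fun m ↦ hN m m.1.zero_le
  | succ s ih =>
    intro hs N _ _ hN j hj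
    let g := f ⟨s, by omega⟩
    let S := Submonoid.powers g
    let L := LocalizedModule S N
    let mk : N →ₗ[A] L := LocalizedModule.mkLinearMap S N
    have hbij : Bijective fun x : L ↦ g • x := by
      have := IsLocalizedModule.map_units mk (⟨g, Submonoid.mem_powers g⟩ : S)
      exact (Module.End.isUnit_iff _).mp this
    have hker : T M j (LinearMap.ker mk) := by
      refine ih (by omega) _ (fun m hm x ↦ ?_) j (by omega)
      rcases eq_or_lt_of_le hm with h | h
      · have hx : mk x.1 = 0 := x.2
        obtain ⟨⟨_, e, rfl⟩, he⟩ := (IsLocalizedModule.eq_zero_iff S mk).mp hx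
        refine ⟨e, Subtype.ext ?_⟩
        rw [show f m = g from congrArg f (Fin.ext h.symm)]
        exact he
      · obtain ⟨e, he⟩ := hN m h x.1
        exact ⟨e, Subtype.ext he⟩
    have hC : T M (j + 1) (L ⧸ LinearMap.range mk) := by
      refine ih (by omega) _ (fun m hm y ↦ ?_) (j + 1) (by omega)
      obtain ⟨y, rfl⟩ := Submodule.Quotient.mk_surjective _ y
      obtain ⟨⟨x, ⟨_, e, rfl⟩⟩, he⟩ := IsLocalizedModule.surj S mk y
      rcases eq_or_lt_of_le hm with h | h
      · refine ⟨e, ?_⟩
        rw [show f m = g from congrArg f (Fin.ext h.symm), ← Submodule.Quotient.mk_smul, Submodule.Quotient.mk_eq_zero]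
        exact ⟨x, he.symm⟩
      · obtain ⟨e', he'⟩ := hN m h x
        refine ⟨e', ?_⟩
        rw [← Submodule.Quotient.mk_smul]
        suffices f m ^ e' • y = 0 by rw [this, Submodule.Quotient.mk_zero]
        have h2 := congrArg (f m ^ e' • ·) he
        simp only [Submonoid.smul_def, ← map_smul, he', map_zero] at h2
        rw [smul_comm] at h2
        exact ((Module.End.isUnit_iff _).mp (IsLocalizedModule.map_units mk (⟨g ^ e, e, rfl⟩ : S))).1
          (h2.trans (map_zero _).symm)
    have himg : T M j (LinearMap.range mk) :=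
      T_sub M j (LinearMap.range mk) (T_of_bijective M g (h1 _) j hbij) hC
    exact TorVanish.extension (LinearMap.ker mk) hker
      (TorVanish.of_linearEquiv himg mk.quotKerEquivRange.symm)

theorem shift_iter (N : Type u) [AddCommGroup N] [Module A N] :
    ∀ (i j : ℕ), Tor15.Dim (R := A) i (syz M j) N → T M (j + i) N := by
  intro i
  induction i with
  | zero =>
    intro j h
    exact Tor15.torVanish_symm h
  | succ i ih =>
    intro j h
    rw [show j + (i + 1) = (j + 1) + i by omega]
    exact ih (j + 1) (Tor15.dim_shift i (inc M j) (cov M j) (exact_inc M j) (cov_surjective M j) (inc_injective M j) h)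

theorem dim_of_isZero (S N : Type u) [AddCommGroup S] [Module A S] [AddCommGroup N] [Module A N] (n : ℕ)
    (hz' : IsZero (((Tor (ModuleCat.{u} A) (n + 2)).obj (ModuleCat.of A S)).obj (ModuleCat.of A N))) :
    Tor15.Dim (R := A) (n + 1) S N := by
  let Pr := projectiveResolution (ModuleCat.of A N)
  let F₁ := (MonoidalCategory.tensoringLeft (ModuleCat.{u} A)).obj (ModuleCat.of A S)
  let d : ∀ m, Pr.complex.X (m + 1) →ₗ[A] Pr.complex.X m := fun m => (Pr.complex.d (m + 1) m).hom
  let q : Pr.complex.X 0 →ₗ[A] N := (Pr.π.f 0).hom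
  have hflat : ∀ m, Module.Flat A (Pr.complex.X m) := fun m => by
    have : Module.Projective A (Pr.complex.X m) := (IsProjective.iff_projective _).2 (Pr.projective m)
    infer_instance
  have hq : Surjective q := (ModuleCat.epi_iff_surjective (Pr.π.f 0)).1 inferInstance
  have hd0 : LinearMap.range (d 0) = LinearMap.ker q :=
    (ShortComplex.exact_of_g_is_cokernel (ShortComplex.mk _ _ Pr.complex_d_comp_π_f_zero)
      Pr.isColimitCokernelCofork).moduleCat_range_eq_ker
  have hd : ∀ m, LinearMap.range (d (m + 1)) = LinearMap.ker (d m) := fun m =>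
    (Pr.exact_succ m).moduleCat_range_eq_ker
  have hpres : ∀ m, Exact (LinearMap.range (d (m + 1))).subtype (d m).rangeRestrict := fun m => by
    rw [LinearMap.exact_iff, LinearMap.ker_rangeRestrict, Submodule.range_subtype, hd]
  have base : Tor15.Dim (R := A) 0 S (LinearMap.range (d n)) := by
    have := hflat n
    refine Tor15.torVanish_symm ?_
    refine TorVanish.of_presentation (LinearMap.range (d (n + 1))).subtype
      (d n).rangeRestrict (hpres n) (d n).surjective_rangeRestrict
      (haveI := hflat (n + 1); Tor15.torVanish_of_flat) ?_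
    have e := Pr.isoLeftDerivedObj F₁ (n + 2)
    rw [show ((Tor (ModuleCat.{u} A) (n + 2)).obj (ModuleCat.of A S)).obj (ModuleCat.of A N) =
        (F₁.leftDerived (n + 2)).obj (ModuleCat.of A N) from rfl, Iso.isZero_iff e,
      HomologicalComplex.homologyFunctor_obj,
      ← HomologicalComplex.exactAt_iff_isZero_homology,
      HomologicalComplex.exactAt_iff' _ (n + 3) (n + 2) (n + 1) (by simp) (by simp),
      ShortComplex.moduleCat_exact_iff_range_eq_ker] at hz'
    change LinearMap.range ((d (n + 2)).lTensor S) = LinearMap.ker ((d (n + 1)).lTensor S) at hz'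
    rw [← LinearMap.lTensor_inj_iff_rTensor_inj, injective_iff_map_eq_zero]
    intro x hx
    obtain ⟨y, rfl⟩ := LinearMap.lTensor_surjective S (d (n + 1)).surjective_rangeRestrict x
    have hy : y ∈ LinearMap.ker ((d (n + 1)).lTensor S) := by
      rw [LinearMap.mem_ker, ← hx, ← LinearMap.comp_apply, ← LinearMap.lTensor_comp]
      rfl
    obtain ⟨w, rfl⟩ := hz'.ge hy
    rw [← LinearMap.comp_apply, ← LinearMap.lTensor_comp]
    have : (d (n + 1)).rangeRestrict ∘ₗ d (n + 2) = 0 := by
      ext v
      have : d (n + 2) v ∈ LinearMap.ker (d (n + 1)) := hd (n + 1) ▸ LinearMap.mem_range_self _ v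
      simpa using this
    rw [this, LinearMap.lTensor_zero, LinearMap.zero_apply]
  have key : ∀ i m, m + i = n → Tor15.Dim (R := A) i S (LinearMap.range (d m)) := by
    intro i
    induction i with
    | zero => intro m hm; obtain rfl : m = n := hm; exact base
    | succ i ih =>
      intro m hm
      exact ⟨_, _, inferInstance, inferInstance, inferInstance, inferInstance, hflat (m + 1), _, _,
        hpres m, (d m).surjective_rangeRestrict, Subtype.val_injective, ih (m + 1) (by lia)⟩
  refine ⟨_, _, inferInstance, inferInstance, inferInstance, inferInstance, hflat 0,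
    (LinearMap.range (d 0)).subtype, q, ?_, hq, Subtype.val_injective, key n 0 (zero_add n)⟩
  rw [LinearMap.exact_iff, Submodule.range_subtype, hd0]

theorem flat_main (M : Type u) [AddCommGroup M] [Module A M] {r : ℕ} (f : Fin r → A)
    (h1 : ∀ i, Module.Flat (Localization.Away (f i)) (LocalizedModule (Submonoid.powers (f i)) M))
    (h2 : Module.Flat (A ⧸ Ideal.span (Set.range f)) ((A ⧸ Ideal.span (Set.range f)) ⊗[A] M))
    (h3 : ∀ i : ℕ, 1 ≤ i → i ≤ r + 1 → IsZero (((Tor (ModuleCat.{u} A) i).obj (ModuleCat.of A M)).obj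
      (ModuleCat.of A (A ⧸ Ideal.span (Set.range f))))) :
    Module.Flat A M := by
  let MM := ModuleCat.of A M
  have hT : ∀ j ≤ r, T MM j (A ⧸ Ideal.span (Set.range f)) := by
    intro j hj
    rcases j with _ | j
    · exact Tor15.torVanish_symm ((CAlgH3.isZero_tor_one_iff M _).mp (h3 1 le_rfl (by omega)))
    · have := shift_iter MM _ (j + 1) 0 (dim_of_isZero M _ j (h3 (j + 2) (by omega) (by omega)))
      rwa [zero_add] at this
  have h1' : ∀ m, Module.Flat A (LocalizedModule (Submonoid.powers (f m)) MM) := fun m ↦ by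
    have := h1 m
    exact Module.Flat.trans A (Localization.Away (f m)) _
  exact Tor15.flat_of_dim_zero fun N _ _ ↦ Tor15.torVanish_symm <|
    main_T MM f h1' (quotFlat_of_flat _ h2) hT r le_rfl N (fun m hm ↦ absurd hm (not_le.mpr m.2)) 0 (by omega)

end Groth.Agent.CAlgSmall.FlatAwayTor
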