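import Mathlib
import Groth.Agent.EGA43.FlatDescent.Main
import Groth.Agent.EGA43.FlatDescent.Model
import Groth.Agent.CAlgMisc2.FiniteDescent

/-! Flatness of finitely presented modules descends along integral injective ring maps. -/

set_option autoImplicit false
set_option backward.isDefEq.respectTransparency false

universe u

open TensorProduct Function

namespace Groth.Agent.CAlgSmall.FlatIntegralDescent

theorem flat_descent_noetherian {R₀ P M₀ R S : Type u} [CommRing R₀] [IsNoetherianRing R₀] [CommRing P]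
    [Algebra R₀ P] [Algebra.FiniteType R₀ P] [AddCommGroup M₀] [Module R₀ M₀] [Module P M₀]
    [IsScalarTower R₀ P M₀] [Module.Finite P M₀] [CommRing R] [Algebra R₀ R] [CommRing S] [Algebra R S]
    [Algebra R₀ S] [IsScalarTower R₀ R S] [Algebra.IsIntegral R S] (hinj : Injective (algebraMap R S))
    [Module.Flat S (S ⊗[R₀] M₀)] : Module.Flat R (R ⊗[R₀] M₀) := by
  classical
  obtain ⟨B, hB, hflat⟩ := EGA43.FlatDescent.exists_stage_flat (R := R₀) (M := M₀) (A := S) P
  obtain ⟨s, hs⟩ := hB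
  choose F hF hFs using fun x : s ↦ Algebra.IsIntegral.isIntegral (R := R) x.1
  let c : Finset R := Finset.univ.biUnion fun x ↦ (F x).coeffs
  let R₁ : Subalgebra R₀ R := Algebra.adjoin R₀ (c : Set R)
  have : IsNoetherianRing R₁ := EGA43.FlatDescent.isNoetherianRing_of_fg ⟨c, rfl⟩
  have hint : ∀ x : s, IsIntegral R₁ (x : S) := fun x ↦ by
    have hl : F x ∈ Polynomial.lifts (algebraMap R₁ R) := by
      rw [Polynomial.lifts_iff_coeff_lifts]
      intro k
      by_cases hk : (F x).coeff k = 0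
      · exact ⟨0, by rw [hk, map_zero]⟩
      · exact ⟨⟨_, Algebra.subset_adjoin (Finset.mem_biUnion.mpr
          ⟨x, Finset.mem_univ _, Polynomial.coeff_mem_coeffs hk⟩)⟩, rfl⟩
    obtain ⟨G, hG, -, hGm⟩ := Polynomial.lifts_and_natDegree_eq_and_monic hl (hF x)
    refine ⟨G, hGm, ?_⟩
    rw [← hFs x, ← hG, Polynomial.eval₂_map, IsScalarTower.algebraMap_eq R₁ R S]
  let S₁ : Subalgebra R₁ S := Algebra.adjoin R₁ (s : Set S)
  have : Module.Finite R₁ S₁ :=
    Module.Finite.iff_fg.mpr (fg_adjoin_of_finite s.finite_toSet fun x hx ↦ hint ⟨x, hx⟩)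
  have hle : ∀ b ∈ B, b ∈ S₁ := by
    intro b hb
    rw [← hs] at hb
    exact (Algebra.adjoin_le (S := S₁.restrictScalars R₀) fun x hx ↦ Algebra.subset_adjoin hx) hb
  let ψ : B →ₐ[R₀] S₁ :=
    { toFun := fun b ↦ ⟨b, hle b b.2⟩
      map_one' := rfl
      map_zero' := rfl
      map_add' := fun _ _ ↦ rfl
      map_mul' := fun _ _ ↦ rfl
      commutes' := fun _ ↦ rfl }
  let : Algebra B S₁ := ψ.toRingHom.toAlgebra
  have : IsScalarTower R₀ B S₁ := IsScalarTower.of_algebraMap_eq fun a ↦ (ψ.commutes a).symm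
  have h1 : Module.Flat S₁ (S₁ ⊗[R₀] M₀) := CAlgMisc2.flat_baseChange_tower (M := M₀) B S₁
  have h2 : Module.Flat S₁ (S₁ ⊗[R₁] (R₁ ⊗[R₀] M₀)) := CAlgMisc2.flat_baseChange_bot (M := M₀) S₁ R₁
  have hinj₁ : Injective (algebraMap R₁ S₁) := fun a b hab ↦ Subtype.ext (hinj (congrArg Subtype.val hab))
  have h3 : Module.Flat R₁ (R₁ ⊗[R₀] M₀) := CAlgMisc2.flat_of_flat_baseChange_finite S₁ hinj₁
  exact CAlgMisc2.flat_baseChange_tower (M := M₀) R₁ R

theorem main (R S : Type u) [CommRing R]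
    [CommRing S] [Algebra R S] [Algebra.IsIntegral R S] (hinj : Injective (algebraMap R S)) (n : ℕ)
    (M : Type u) [AddCommGroup M] [Module (MvPolynomial (Fin n) R) M] [Module R M]
    [IsScalarTower R (MvPolynomial (Fin n) R) M] [Module.FinitePresentation (MvPolynomial (Fin n) R) M]
    [Module.Flat S (S ⊗[R] M)] : Module.Flat R M := by
  obtain ⟨R₀, _, P₀, M₀, _, _, _, _, _, _, _, _, ψ, e, -, -⟩ :=
    EGA43.FlatDescent.exists_model_of_finitePresentation (A := R) (S := MvPolynomial (Fin n) R) (N := M)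
  have : Module.Flat S (S ⊗[R] (R ⊗[R₀] M₀)) :=
    Module.Flat.of_linearEquiv (e.baseChange R S _ _)
  have : Module.Flat S (S ⊗[R₀] M₀) :=
    Module.Flat.of_linearEquiv (AlgebraTensorModule.cancelBaseChange R₀ R S S M₀).symm
  have := flat_descent_noetherian (R₀ := R₀) (P := P₀) (M₀ := M₀) (R := R) (S := S) hinj
  exact Module.Flat.of_linearEquiv e.symm

end Groth.Agent.CAlgSmall.FlatIntegralDescent
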