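import Groth.Agent.EGA43.FlatDescent.GenFreeGeneral
import Mathlib.RingTheory.Localization.Away.Basic
import Mathlib.RingTheory.FinitePresentation

/-!
# Generic finite presentation of finite type algebras over domains
-/

universe u

open MvPolynomial

namespace Groth.Agent.CAlgSmall

theorem exists_localization_finitePresentation {R S : Type u} [CommRing R] [IsDomain R] [CommRing S]
    [Algebra R S] [Algebra.FiniteType R S] :
    ∃ f : R, f ≠ 0 ∧ ∀ (Rf Sf : Type u) [CommRing Rf] [CommRing Sf] [Algebra R Rf]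
      [IsLocalization.Away f Rf] [Algebra S Sf] [IsLocalization.Away (algebraMap R S f) Sf]
      [Algebra Rf Sf] [Algebra R Sf] [IsScalarTower R S Sf] [IsScalarTower R Rf Sf],
      Algebra.FinitePresentation Rf Sf := by
  classical
  obtain ⟨n, π, hπ⟩ := Algebra.FiniteType.iff_quotient_mvPolynomial''.mp (inferInstance : Algebra.FiniteType R S)
  let W : Submodule (MvPolynomial (Fin n) R) (Fin 1 → MvPolynomial (Fin n) R) :=
    Submodule.comap (LinearMap.proj (R := MvPolynomial (Fin n) R) (φ := fun _ : Fin 1 =>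
      MvPolynomial (Fin n) R) 0) (RingHom.ker π)
  obtain ⟨f, s, hf, hsW, -, hpow⟩ := EGA43.FlatDescent.exists_free_and_pow_smul_mem n 1 W
  refine ⟨f, hf, fun Rf Sf => ?_⟩
  intros
  let t : Finset (MvPolynomial (Fin n) R) := s.image fun w => w 0
  have ht : ∀ p ∈ t, π p = 0 := fun p hp => by
    obtain ⟨w, hw, rfl⟩ := Finset.mem_image.mp hp
    exact hsW w hw
  have hpow' : ∀ p, π p = 0 → ∃ m, C f ^ m * p ∈ Ideal.span (t : Set (MvPolynomial (Fin n) R)) := by
    intro p hp
    obtain ⟨m, hm⟩ := hpow (fun _ => p) hp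
    refine ⟨m, ?_⟩
    have h1 : (LinearMap.proj (R := MvPolynomial (Fin n) R) (φ := fun _ : Fin 1 =>
        MvPolynomial (Fin n) R) 0) (f ^ m • fun _ => p) ∈
        (Submodule.span (MvPolynomial (Fin n) R) (s : Set _)).map _ := Submodule.mem_map_of_mem hm
    rw [Submodule.map_span] at h1
    rw [← map_pow, ← MvPolynomial.smul_eq_C_mul]
    simpa [t] using h1
  let Φ : MvPolynomial (Fin n) Rf →ₐ[Rf] Sf := aeval fun i => algebraMap S Sf (π (X i))
  have hΦ : ∀ p, Φ (MvPolynomial.map (algebraMap R Rf) p) = algebraMap S Sf (π p) := by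
    intro p
    induction p using MvPolynomial.induction_on with
    | C a =>
      rw [MvPolynomial.map_C, aeval_C, ← IsScalarTower.algebraMap_apply, IsScalarTower.algebraMap_apply R S Sf]
      exact congrArg _ (π.commutes a).symm
    | add p q hp hq => rw [map_add, map_add, hp, hq, map_add, map_add]
    | mul_X p i h => rw [map_mul, map_mul, h, MvPolynomial.map_X, aeval_X, map_mul, map_mul]
  have hfu : IsUnit (algebraMap R Rf f) := IsLocalization.Away.algebraMap_isUnit f
  let _ : Algebra (MvPolynomial (Fin n) R) (MvPolynomial (Fin n) Rf) := MvPolynomial.algebraMvPolynomial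
  have hloc := MvPolynomial.isLocalization (σ := Fin n) (Submonoid.powers f) Rf
  refine Algebra.FinitePresentation.of_surjective (f := Φ) ?_ ⟨t.image (MvPolynomial.map (algebraMap R Rf)), ?_⟩
  · intro z
    obtain ⟨⟨x, ⟨_, m, rfl⟩⟩, hz⟩ := IsLocalization.surj (Submonoid.powers (algebraMap R S f)) z
    obtain ⟨p, rfl⟩ := hπ x
    refine ⟨MvPolynomial.C ((hfu.unit⁻¹ : Rfˣ) : Rf) ^ m * MvPolynomial.map (algebraMap R Rf) p, ?_⟩
    rw [map_mul, map_pow, aeval_C, hΦ, ← hz]
    show _ * (z * algebraMap S Sf (algebraMap R S f ^ m)) = z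
    rw [map_pow, ← IsScalarTower.algebraMap_apply, IsScalarTower.algebraMap_apply R Rf Sf, mul_left_comm,
      ← mul_pow, ← map_mul, IsUnit.val_inv_mul, map_one, one_pow, mul_one]
  · apply le_antisymm
    · refine Submodule.span_le.mpr fun p hp => ?_
      obtain ⟨q, hq, rfl⟩ := Finset.mem_image.mp (Finset.mem_coe.mp hp)
      show Φ _ = 0
      rw [hΦ, ht q hq, map_zero]
    · intro q hq
      obtain ⟨⟨p, ⟨d, a, ⟨m, rfl⟩, rfl⟩⟩, hp⟩ :=
        IsLocalization.surj ((Submonoid.powers f).map (C (σ := Fin n))) q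
      have hp' : q * MvPolynomial.map (algebraMap R Rf) (C (f ^ m)) = MvPolynomial.map (algebraMap R Rf) p := hp
      have h0 : algebraMap S Sf (π p) = 0 := by
        have hq0 : Φ q = 0 := hq
        rw [← hΦ, ← hp', map_mul, hq0, zero_mul]
      obtain ⟨⟨_, l, rfl⟩, hl⟩ := (IsLocalization.map_eq_zero_iff (Submonoid.powers (algebraMap R S f)) Sf _).mp h0
      have h1 : π (C f ^ l * p) = 0 := by
        rw [map_mul, map_pow, show π (C f) = algebraMap R S f from π.commutes f]
        exact hl
      obtain ⟨k, hk⟩ := hpow' _ h1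
      have h2 : MvPolynomial.map (algebraMap R Rf) (C f ^ k * (C f ^ l * p)) ∈
          Ideal.span ((t.image (MvPolynomial.map (algebraMap R Rf)) : Finset _) : Set _) := by
        rw [Finset.coe_image, ← Ideal.map_span]
        exact Ideal.mem_map_of_mem _ hk
      rw [map_mul, map_mul, ← hp', map_pow, map_pow, MvPolynomial.map_C, MvPolynomial.map_C] at h2
      have hu : IsUnit (C (algebraMap R Rf f) : MvPolynomial (Fin n) Rf) := hfu.map C
      rw [← mul_assoc, Ideal.unit_mul_mem_iff_mem _ ((hu.pow k).mul (hu.pow l)),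
        Ideal.mul_unit_mem_iff_mem _ (by rw [map_pow]; exact (hfu.pow m).map C)] at h2
      exact h2

end Groth.Agent.CAlgSmall
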