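import Groth.Agent.CAlgSmall.FiniteGenericFibre
import Groth.Agent.EGA43.Unibranch.Open
import Mathlib.AlgebraicGeometry.FunctionField
import Mathlib.AlgebraicGeometry.Morphisms.QuasiFinite

/-!
# Generically finite dominant morphisms of integral schemes
-/

universe u

open CategoryTheory CategoryTheory.Limits AlgebraicGeometry

noncomputable section

namespace Groth.Agent.CAlgSmall

set_option backward.isDefEq.respectTransparency.types false

variable {X Y : Scheme.{u}} [IsIntegral X] [IsIntegral Y] (f : X ⟶ Y) [IsDominant f] [LocallyOfFiniteType f]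

omit [LocallyOfFiniteType f] in
theorem map_genericPoint : f (genericPoint X) = genericPoint Y :=
  EGA43.Unibranch.map_genericPoint_of_isDominant f

theorem residue_bijective_generic {Z : Scheme.{u}} [IsIntegral Z] {z : Z} (hz : z = genericPoint Z) :
    Function.Bijective (Z.residue z).hom := by
  subst hz
  exact ⟨(Z.residue (genericPoint Z)).hom.injective (R := Z.functionField), Z.residue_surjective _⟩

theorem quasiFiniteAt_iff_residueField :
    f.QuasiFiniteAt (genericPoint X) ↔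
      letI := (f.residueFieldMap (genericPoint X)).hom.toAlgebra
      Module.Finite (Y.residueField (f.base (genericPoint X))) (X.residueField (genericPoint X)) := by
  set ξ := genericPoint X
  have hy : IsField (Y.presheaf.stalk (f ξ)) := by
    rw [map_genericPoint f]
    exact Semifield.toIsField (Y.functionField : Type u)
  let _ : Field (Y.presheaf.stalk (f ξ)) := hy.toField
  have hsq : (f.residueFieldMap ξ).hom.comp (Y.residue (f ξ)).hom =
      (X.residue ξ).hom.comp (f.stalkMap ξ).hom :=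
    congrArg CommRingCat.Hom.hom (Scheme.residue_residueFieldMap f ξ)
  let eX := RingEquiv.ofBijective (X.residue ξ).hom (residue_bijective_generic rfl)
  let eY := RingEquiv.ofBijective (Y.residue (f ξ)).hom (residue_bijective_generic (map_genericPoint f))
  have e1 : (f.residueFieldMap ξ).hom = (eX.toRingHom.comp (f.stalkMap ξ).hom).comp eY.symm.toRingHom := by
    ext a
    obtain ⟨b, rfl⟩ := eY.surjective a
    show _ = eX ((f.stalkMap ξ).hom (eY.symm (eY b)))
    rw [eY.symm_apply_apply]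
    exact RingHom.congr_fun hsq b
  have e2 : (f.stalkMap ξ).hom = (eX.symm.toRingHom.comp (f.residueFieldMap ξ).hom).comp eY.toRingHom := by
    rw [e1]; ext a; simp
  show (f.stalkMap ξ).hom.QuasiFinite ↔ (f.residueFieldMap ξ).hom.Finite
  constructor
  · intro h
    algebraize [(f.stalkMap ξ).hom]
    have : (f.stalkMap ξ).hom.Finite :=
      (Module.Finite.of_quasiFinite : Module.Finite (Y.presheaf.stalk (f ξ)) (X.presheaf.stalk ξ))
    rw [e1]
    exact ((RingHom.Finite.of_surjective eX.toRingHom eX.surjective).comp this).comp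
      (RingHom.Finite.of_surjective eY.symm.toRingHom eY.symm.surjective)
  · intro h
    refine RingHom.QuasiFinite.of_finite ?_
    rw [e2]
    exact ((RingHom.Finite.of_surjective eX.symm.toRingHom eX.symm.surjective).comp h).comp
      (RingHom.Finite.of_surjective eY.toRingHom eY.surjective)

theorem fibre_eq_of_quasiFiniteAt (h : f.QuasiFiniteAt (genericPoint X)) (x : X)
    (hx : f x = genericPoint Y) : x = genericPoint X := by
  have hc := h.isClopen_singleton_asFiber.1
  set ξ := genericPoint X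
  let w : f.fiber (f ξ) := (f.fiberHomeo (f ξ)).symm ⟨x, hx.trans (map_genericPoint f).symm⟩
  have hsp : f.asFiber ξ ⤳ w := by
    refine Specializes.map (Topology.IsInducing.subtypeVal.specializes_iff.mp ?_)
      (f.fiberHomeo (f ξ)).symm.continuous
    exact genericPoint_specializes x
  have hw : w = f.asFiber ξ := hsp.mem_closed hc rfl
  exact congrArg Subtype.val ((f.fiberHomeo (f ξ)).symm.injective hw)

theorem quasiFiniteAt_of_fibre_eq (h : ∀ x : X, f x = genericPoint Y → x = genericPoint X) :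
    f.QuasiFiniteAt (genericPoint X) := by
  rw [Scheme.Hom.quasiFiniteAt_iff_isOpen_singleton_asFiber]
  have : (f ⁻¹' {f (genericPoint X)}).Subsingleton := fun a ha b hb => by
    rw [h a (ha.trans (map_genericPoint f)), h b (hb.trans (map_genericPoint f))]
  have : Finite (f.fiber (f (genericPoint X))) :=
    (f.fiberHomeo _).finite_iff.mpr this.finite.to_subtype
  exact isOpen_discrete _

omit [IsIntegral X] [IsIntegral Y] [IsDominant f] in
theorem quasiFiniteAt_of_isFinite_resLE {U : X.Opens} {V : Y.Opens} (hUV : U ≤ f ⁻¹ᵁ V)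
    [IsFinite (f.resLE V U hUV)] {x : X} (hx : x ∈ U) : f.QuasiFiniteAt x := by
  let u : U.toScheme := ⟨x, hx⟩
  have h1 : (f.resLE V U hUV ≫ V.ι).QuasiFiniteAt u := Scheme.Hom.quasiFiniteAt _ u
  rw [Scheme.Hom.resLE_comp_ι, Scheme.Hom.quasiFiniteAt_comp_iff_of_isOpenImmersion] at h1
  exact h1

omit [IsIntegral X] [IsIntegral Y] [IsDominant f] [LocallyOfFiniteType f] in
theorem mem_of_nonempty [IrreducibleSpace X] (U : X.Opens) (h : Nonempty U) : genericPoint X ∈ U := by
  obtain ⟨⟨z, hz⟩⟩ := h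
  exact (genericPoint_specializes z).mem_open U.isOpen hz

theorem exists_finite_resLE (h : ∀ x : X, f x = genericPoint Y → x = genericPoint X) :
    ∃ (U : X.Opens) (V : Y.Opens) (hUV : U ≤ f ⁻¹ᵁ V), IsAffineOpen U ∧ IsAffineOpen V ∧
      Nonempty ↥U ∧ IsFinite (f.resLE V U hUV) := by
  obtain ⟨_, ⟨T, hT, rfl⟩, hηT, -⟩ :=
    Y.isBasis_affineOpens.exists_subset_of_mem_open (Set.mem_univ (genericPoint Y)) isOpen_univ
  have hξT : genericPoint X ∈ f ⁻¹ᵁ T := by show f _ ∈ T; rw [map_genericPoint f]; exact hηT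
  obtain ⟨U₀, hU₀, hξU₀, hU₀T⟩ := exists_isAffineOpen_mem_and_subset (x := genericPoint X) (U := f ⁻¹ᵁ T) hξT
  have : IsAffine (Scheme.Opens.toScheme T) := hT
  have : IsAffine U₀.toScheme := hU₀
  let g := f.resLE T U₀ hU₀T
  let η' : ↥(Scheme.Opens.toScheme T) := ⟨genericPoint Y, hηT⟩
  have hmax : ∀ t, t ⤳ η' → t = η' := fun t ht => Subtype.ext
    (((genericPoint_specializes t.1).antisymm (ht.map (Scheme.Opens.ι T).continuous)).eq.symm)
  have hsing : ∀ w, g w = η' → w.1 = genericPoint X := fun w hw => by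
    refine h w.1 ?_
    rw [← Scheme.Hom.coe_resLE_apply f hU₀T w]
    exact congrArg Subtype.val hw
  have hfin : (g ⁻¹' {η'}).Finite :=
    (Set.Subsingleton.finite fun a ha b hb => Subtype.ext ((hsing a ha).trans (hsing b hb).symm))
  obtain ⟨N, hN, hηN, hNfin⟩ := AlgSpLib.exists_isFinite_of_finite_fibre g hmax hfin
  let U := U₀.ι ''ᵁ (g ⁻¹ᵁ N)
  let V := (Scheme.Opens.ι T) ''ᵁ N
  have hUV : U ≤ f ⁻¹ᵁ V := by
    rintro _ ⟨w, hw, rfl⟩
    exact ⟨g w, hw, Scheme.Hom.coe_resLE_apply f hU₀T w⟩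
  have haff : IsAffineOpen (g ⁻¹ᵁ N) := hN.preimage g
  refine ⟨U, V, hUV, haff.image_of_isOpenImmersion _, hN.image_of_isOpenImmersion _, ?_, ?_⟩
  · have hw : g ⟨genericPoint X, hξU₀⟩ ∈ N := by
      have : g ⟨genericPoint X, hξU₀⟩ = η' := Subtype.ext
        ((Scheme.Hom.coe_resLE_apply f hU₀T ⟨genericPoint X, hξU₀⟩).trans (map_genericPoint f))
      rw [this]; exact hηN
    exact ⟨⟨_, ⟨genericPoint X, hξU₀⟩, hw, rfl⟩⟩
  · refine (MorphismProperty.arrow_mk_iso_iff @IsFinite (Arrow.isoMk (U₀.ι.isoImage (g ⁻¹ᵁ N))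
      ((Scheme.Opens.ι T).isoImage N) ?_ : Arrow.mk (g ∣_ N) ≅ Arrow.mk (f.resLE V U hUV))).1 hNfin
    rw [← cancel_mono V.ι]
    dsimp
    rw [Category.assoc, Scheme.Hom.resLE_comp_ι, Scheme.Hom.isoImage_hom_ι_assoc, Category.assoc,
      Scheme.Hom.isoImage_hom_ι, ← Category.assoc _ N.ι, morphismRestrict_ι, Category.assoc,
      Scheme.Hom.resLE_comp_ι]

theorem generic_finite_tfae :
    let ξ := genericPoint ↥X
    let A := letI := (f.residueFieldMap ξ).hom.toAlgebra
      Module.Finite (Y.residueField (f.base ξ)) (X.residueField ξ)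
    let B := ∃ (U : X.Opens) (V : Y.Opens) (hUV : U ≤ f ⁻¹ᵁ V), IsAffineOpen U ∧ IsAffineOpen V ∧
      Nonempty ↥U ∧ IsFinite (f.resLE V U hUV)
    let C := ∀ x : X, f.base x = genericPoint ↥Y → x = ξ
    let D := ∃ V : Y.Opens, IsAffineOpen V ∧ Nonempty ↥V ∧ IsFinite (f ∣_ V)
    (A ↔ B) ∧ (A ↔ C) ∧ (IsSeparated f ∨ QuasiCompact f → (A ↔ D)) := by
  intro ξ A B C D
  have hPA : f.QuasiFiniteAt ξ ↔ A := quasiFiniteAt_iff_residueField f
  have hPC : f.QuasiFiniteAt ξ ↔ C :=
    ⟨fun h => fibre_eq_of_quasiFiniteAt f h, fun h => quasiFiniteAt_of_fibre_eq f h⟩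
  have hBP : B → f.QuasiFiniteAt ξ := by
    rintro ⟨U, V, hUV, -, -, hne, hfin⟩
    exact quasiFiniteAt_of_isFinite_resLE f hUV (mem_of_nonempty U hne)
  have hAC : A ↔ C := hPA.symm.trans hPC
  refine ⟨⟨fun hA => exists_finite_resLE f (hAC.mp hA), fun hB => hPA.mp (hBP hB)⟩, hAC, fun hsq => ?_⟩
  constructor
  · intro hA
    rcases hsq with hsep | hqc
    · obtain ⟨U, V, hUV, -, hV, hne, hfin⟩ := exists_finite_resLE f (hAC.mp hA)
      refine ⟨V, hV, ⟨⟨f ξ, hUV (mem_of_nonempty U hne)⟩⟩, ?_⟩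
      have hcomp : X.homOfLE hUV ≫ (f ∣_ V) = f.resLE V U hUV := by
        rw [← Scheme.Hom.resLE_eq_morphismRestrict, Scheme.Hom.map_resLE]
      have : IsProper (X.homOfLE hUV ≫ (f ∣_ V)) := by rw [hcomp]; infer_instance
      have := IsProper.of_comp (X.homOfLE hUV) (f ∣_ V)
      have hclosed := (X.homOfLE hUV).isClosedMap.isClosed_range
      have heq : U = f ⁻¹ᵁ V := by
        refine le_antisymm hUV fun z hz => ?_
        have hsp : (⟨ξ, hUV (mem_of_nonempty U hne)⟩ : (f ⁻¹ᵁ V).toScheme) ⤳ ⟨z, hz⟩ :=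
          Topology.IsInducing.subtypeVal.specializes_iff.mp (genericPoint_specializes z)
        obtain ⟨w, hw⟩ := hsp.mem_closed hclosed ⟨⟨ξ, mem_of_nonempty U hne⟩, Subtype.ext (by simp)⟩
        have := congrArg Subtype.val hw
        simp at this
        exact this ▸ w.2
      subst heq
      rwa [← Scheme.Hom.resLE_eq_morphismRestrict]
    · obtain ⟨_, ⟨T, hT, rfl⟩, hηT, -⟩ :=
        Y.isBasis_affineOpens.exists_subset_of_mem_open (Set.mem_univ (genericPoint Y)) isOpen_univ
      have : IsAffine (Scheme.Opens.toScheme T) := hT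
      let η' : ↥(Scheme.Opens.toScheme T) := ⟨genericPoint Y, hηT⟩
      have hmax : ∀ t, t ⤳ η' → t = η' := fun t ht => Subtype.ext
        (((genericPoint_specializes t.1).antisymm (ht.map (Scheme.Opens.ι T).continuous)).eq.symm)
      have hC := hAC.mp hA
      have hsing : ∀ w, (f ∣_ T) w = η' → w.1 = ξ := fun w hw => by
        refine hC w.1 ?_
        rw [← morphismRestrict_base_coe f T w]
        exact congrArg Subtype.val hw
      have hξT : ξ ∈ f ⁻¹ᵁ T := by show f _ ∈ T; rw [map_genericPoint f]; exact hηT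
      obtain ⟨W, hW, hξW, -⟩ := exists_isAffineOpen_mem_and_subset (X := (f ⁻¹ᵁ T).toScheme) (x := ⟨ξ, hξT⟩)
        (U := ⊤) trivial
      obtain ⟨N, hN, hηN, hNfin⟩ := exists_nhd_finite_of_affine (f ∣_ T) hmax
        (Set.Subsingleton.finite fun a ha b hb => Subtype.ext ((hsing a ha).trans (hsing b hb).symm))
        W hW fun w hw => (Subtype.ext (hsing w hw) : w = ⟨ξ, hξT⟩) ▸ hξW
      refine ⟨(Scheme.Opens.ι T) ''ᵁ N, hN.image_of_isOpenImmersion _, ⟨⟨_, η', hηN, rfl⟩⟩, ?_⟩
      exact ((MorphismProperty.arrow_mk_iso_iff @IsFinite (morphismRestrictRestrict f T N)).1 hNfin)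
  · rintro ⟨V, hV, hne, hfin⟩
    have hηV : genericPoint Y ∈ V := mem_of_nonempty V hne
    refine hPA.mp (hBP ⟨f ⁻¹ᵁ V, V, le_rfl, ?_, hV, ⟨⟨ξ, ?_⟩⟩, ?_⟩)
    · have : IsAffine V.toScheme := hV
      exact isAffine_of_isAffineHom (f ∣_ V)
    · show f ξ ∈ V; rw [map_genericPoint f]; exact hηV
    · rwa [Scheme.Hom.resLE_eq_morphismRestrict]

end Groth.Agent.CAlgSmall
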