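import Groth.Agent.CAlgSmall.NormalNormalization
import Mathlib

/-!
# Quasi-finiteness over a maximal point of the base
-/

set_option autoImplicit false
set_option maxHeartbeats 800000

universe u

open CategoryTheory CategoryTheory.Limits AlgebraicGeometry TopologicalSpace

namespace Groth.Agent.CAlgSmall.GenericQuasiFinite

variable {X Y : Scheme.{u}} (f : X ⟶ Y) [LocallyOfFiniteType f]

/-- In a locally Noetherian scheme in which all points are maximal, points are open. -/
theorem isOpen_singleton_of_forall_eq {F : Scheme.{u}} [IsLocallyNoetherian F]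
    (h : ∀ a b : F, a ⤳ b → a = b) (x : F) : IsOpen ({x} : Set F) := by
  obtain ⟨U, hU, hxU, -⟩ := exists_isAffineOpen_mem_and_subset (x := x) (U := ⊤) trivial
  haveI : IsNoetherianRing Γ(F, U) := IsLocallyNoetherian.component_noetherian ⟨U, hU⟩
  haveI : NoetherianSpace ↥(U : Set F) := noetherianSpace_of_isAffineOpen U hU
  haveI : QuasiSober ↥(U : Set F) := U.2.isOpenEmbedding_subtypeVal.quasiSober
  have hclosed : ∀ a : ↥(U : Set F), closure {a} = ({a} : Set ↥(U : Set F)) := fun a => by
    refine Set.Subset.antisymm (fun b hb => ?_) subset_closure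
    exact Subtype.ext (h _ _ ((specializes_iff_mem_closure.2 hb).map continuous_subtype_val)).symm
  have hT1 : T1Space ↥(U : Set F) := ⟨fun a => closure_eq_iff_isClosed.1 (hclosed a)⟩
  have hfin : (Set.univ : Set ↥(U : Set F)).Finite := by
    refine Set.Finite.subset ((NoetherianSpace.finite_irreducibleComponents (α := ↥(U : Set F))).biUnion
      (t := fun C => C) fun C hC => ?_) fun a _ => Set.mem_biUnion (irreducibleComponent_mem_irreducibleComponents a)
        mem_irreducibleComponent
    obtain ⟨g, hg⟩ : ∃ g, IsGenericPoint g C := QuasiSober.sober hC.1 (isClosed_of_mem_irreducibleComponents _ hC)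
    rw [← hg.def, hclosed]
    exact Set.finite_singleton g
  haveI : Finite ↥(U : Set F) := Set.finite_univ_iff.1 hfin
  have h1 := U.2.isOpenEmbedding_subtypeVal.isOpenMap {⟨x, hxU⟩} (isOpen_discrete _)
  rwa [Set.image_singleton] at h1

theorem eq_of_qf {x z : X} (hz : f z = f x) (hzx : z ⤳ x) (hq : f.QuasiFiniteAt x) : z = x := by
  obtain ⟨z', hz'⟩ : z ∈ Set.range (f.fiberι (f x)) := by rw [Scheme.Hom.range_fiberι]; exact hz
  have h1 : z' ⤳ f.asFiber x := by
    refine (f.fiberι (f x)).isEmbedding.isInducing.specializes_iff.1 ?_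
    rw [hz', f.fiberι_asFiber]; exact hzx
  have h2 : z' = f.asFiber x := h1.mem_open (Scheme.Hom.quasiFiniteAt_iff_isOpen_singleton_asFiber.1 hq) rfl
  rw [← hz', h2, f.fiberι_asFiber]

theorem eq_of_qf' {x z : X} (hz : f z = f x) (hzx : z ⤳ x) (hq : f.QuasiFiniteAt z) : z = x := by
  obtain ⟨x', hx'⟩ : x ∈ Set.range (f.fiberι (f z)) := by rw [Scheme.Hom.range_fiberι]; exact hz.symm
  have h1 : f.asFiber z ⤳ x' := by
    refine (f.fiberι (f z)).isEmbedding.isInducing.specializes_iff.1 ?_
    rw [hx', f.fiberι_asFiber]; exact hzx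
  have h2 : x' = f.asFiber z := h1.mem_closed hq.isClopen_singleton_asFiber.1 rfl
  rw [← hx', h2, f.fiberι_asFiber]

theorem main (η : Y) (hη : closure {η} ∈ irreducibleComponents ↥Y) :
    ((∀ x : X, f.base x = η → closure {x} ∈ irreducibleComponents ↥X) ↔
      (∀ x : X, f.base x = η → f.QuasiFiniteAt x)) ∧
    ((∀ x : X, f.base x = η → closure {x} ∈ irreducibleComponents ↥X) ↔
      (∀ x : X, f.base x = η → closure {x} ∈ irreducibleComponents ↥X → f.QuasiFiniteAt x)) := by
  have hgen : ∀ z x : X, f x = η → z ⤳ x → f z = η := fun z x hx hz =>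
    (NormalNormalization.closure_mem_irreducibleComponents_iff η).1 hη _ (hx ▸ hz.map f.continuous)
  have hmax : ∀ x : X, (∀ z, z ⤳ x → f z = f x → z = x) → f x = η → closure {x} ∈ irreducibleComponents X :=
    fun x h hx => (NormalNormalization.closure_mem_irreducibleComponents_iff x).2 fun z hz =>
      h z hz ((hgen z x hx hz).trans hx.symm)
  have hfwd : (∀ x : X, f.base x = η → closure {x} ∈ irreducibleComponents ↥X) →
      ∀ x : X, f.base x = η → f.QuasiFiniteAt x := fun h x hx => by
    rw [Scheme.Hom.quasiFiniteAt_iff_isOpen_singleton_asFiber]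
    haveI : LocallyOfFiniteType (f.fiberToSpecResidueField (f x)) := MorphismProperty.pullback_snd _ _ inferInstance
    haveI : IsLocallyNoetherian (f.fiber (f x)) := LocallyOfFiniteType.isLocallyNoetherian (f.fiberToSpecResidueField (f x))
    refine isOpen_singleton_of_forall_eq (fun a b hab => (f.fiberι (f x)).isEmbedding.injective ?_) _
    have hb : f (f.fiberι (f x) b) = f x := by
      have := (f.range_fiberι (f x)).le ⟨b, rfl⟩
      exact this
    exact (NormalNormalization.closure_mem_irreducibleComponents_iff _).1 (h _ (hb.trans hx)) _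
      (hab.map (f.fiberι (f x)).continuous)
  refine ⟨⟨hfwd, fun h x hx => hmax x (fun z hz hzx => eq_of_qf f hzx hz (h x hx)) hx⟩,
    ⟨fun h x hx _ => hfwd h x hx, fun h x hx => ?_⟩⟩
  obtain ⟨g, hg⟩ : ∃ g, IsGenericPoint g (irreducibleComponent x) :=
    QuasiSober.sober isIrreducible_irreducibleComponent isClosed_irreducibleComponent
  have hgx : g ⤳ x := hg.specializes mem_irreducibleComponent
  have hgη : f g = η := hgen g x hx hgx
  have hgc : closure {g} ∈ irreducibleComponents X := hg.def ▸ irreducibleComponent_mem_irreducibleComponents x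
  rw [← eq_of_qf' f (hgη.trans hx.symm) hgx (h g hgη hgc)]
  exact hgc

end Groth.Agent.CAlgSmall.GenericQuasiFinite
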