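import Groth.Agent.VarietyLib.GeomField
import Groth.Prelude.Def_CAlgX
import Mathlib.FieldTheory.PurelyInseparable.Basic
import Mathlib.LinearAlgebra.TensorProduct.RightExactness
import Mathlib.RingTheory.Nilpotent.Lemmas
import Mathlib.FieldTheory.IsAlgClosed.AlgebraicClosure

/-!
# Unique minimal prime of tensor products over separably closed fields
-/

universe u

open TensorProduct

namespace Groth.Agent.CAlgSmall

theorem hasUniqueMinimalPrime_iff {A : Type u} [CommRing A] :
    CAlgX.HasUniqueMinimalPrime A ↔ (nilradical A).IsPrime := by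
  constructor
  · rintro ⟨p, hp, huniq⟩
    have hn : nilradical A = p := by
      rw [show nilradical A = (⊥ : Ideal A).radical from rfl, ← Ideal.sInf_minimalPrimes]
      refine le_antisymm (sInf_le hp) (le_sInf fun q hq => ?_)
      rw [huniq q hq]
    rw [hn]
    exact hp.1.1
  · intro h
    refine ⟨nilradical A, ⟨⟨h, bot_le⟩, fun q hq _ => nilradical_le_prime q (H := hq.1)⟩, fun q hq => ?_⟩
    exact le_antisymm (hq.2 ⟨h, bot_le⟩ (nilradical_le_prime q (H := hq.1.1)))
      (nilradical_le_prime q (H := hq.1.1))

theorem isPrime_nilradical_of_injective {A B : Type u} [CommRing A] [CommRing B] (f : A →+* B)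
    (hf : Function.Injective f) (h : (nilradical B).IsPrime) : (nilradical A).IsPrime := by
  have : nilradical A = (nilradical B).comap f := by
    ext x
    rw [Ideal.mem_comap, mem_nilradical, mem_nilradical]
    exact (IsNilpotent.map_iff hf).symm
  rw [this]
  exact Ideal.comap_isPrime f _

theorem nontrivial_of_uniqueMinimal {A : Type u} [CommRing A] (h : (nilradical A).IsPrime) :
    Nontrivial A := by
  by_contra hA
  have := not_nontrivial_iff_subsingleton.mp hA
  exact h.ne_top (Subsingleton.elim _ _)

/-- Purely inseparable base change preserves primality of the nilradical. -/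
theorem isPrime_nilradical_tensor {k R K : Type u} [Field k] [CommRing R] [Algebra k R] [Field K]
    [Algebra k K] [IsPurelyInseparable k K] (hR : (nilradical R).IsPrime) :
    (nilradical (K ⊗[k] R)).IsPrime := by
  let ι : R →ₐ[k] K ⊗[k] R := Algebra.TensorProduct.includeRight
  have hι : Function.Injective ι :=
    Algebra.TensorProduct.includeRight_injective (algebraMap k K).injective
  have hpow : ∀ z : K ⊗[k] R, ∃ n > 0, ∃ r, ι r = z ^ n := by
    intro z
    obtain ⟨n, hn, r, hr⟩ := IsPurelyInseparable.exists_pow_mem_range_tensorProduct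
      (Algebra.TensorProduct.comm k K R z)
    refine ⟨n, hn, r, (Algebra.TensorProduct.comm k K R).injective ?_⟩
    rw [map_pow, ← hr]
    show Algebra.TensorProduct.comm k K R (1 ⊗ₜ[k] r) = r ⊗ₜ[k] (1 : K)
    simp
  have := nontrivial_of_uniqueMinimal hR
  have : Nontrivial (K ⊗[k] R) := hι.nontrivial
  constructor
  · intro h
    have h1 : (1 : K ⊗[k] R) ∈ nilradical (K ⊗[k] R) := h ▸ trivial
    obtain ⟨n, hn⟩ := mem_nilradical.mp h1
    rw [one_pow] at hn
    exact one_ne_zero hn
  · intro x y hxy
    obtain ⟨a, ha, r, hr⟩ := hpow x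
    obtain ⟨b, hb, s, hs⟩ := hpow y
    have h1 : r ^ b * s ^ a ∈ nilradical R := by
      rw [mem_nilradical, ← IsNilpotent.map_iff hι, map_mul, map_pow, map_pow, hr, hs, ← pow_mul,
        ← pow_mul, mul_comm b a, ← mul_pow]
      exact (mem_nilradical.mp hxy).pow_of_pos (Nat.mul_pos ha hb).ne'
    rcases hR.mem_or_mem h1 with h | h
    · left
      have hn := ((mem_nilradical.mp (hR.mem_of_pow_mem b h)).map ι)
      rw [hr] at hn
      exact mem_nilradical.mpr (IsNilpotent.of_pow hn)
    · right
      have hn := ((mem_nilradical.mp (hR.mem_of_pow_mem a h)).map ι)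
      rw [hs] at hn
      exact mem_nilradical.mpr (IsNilpotent.of_pow hn)

/-- Over an algebraically closed field. -/
theorem isPrime_nilradical_tensor_algClosed {K A B : Type u} [Field K] [IsAlgClosed K] [CommRing A]
    [Algebra K A] [CommRing B] [Algebra K B] (hA : (nilradical A).IsPrime) (hB : (nilradical B).IsPrime) :
    (nilradical (A ⊗[K] B)).IsPrime := by
  have := hA
  have := hB
  have : IsDomain (A ⧸ nilradical A) := Ideal.Quotient.isDomain _
  have : IsDomain (B ⧸ nilradical B) := Ideal.Quotient.isDomain _
  have hd := VarietyLib.isDomain_tensor_of_isAlgClosed K (A ⧸ nilradical A) (B ⧸ nilradical B)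
  let f := Algebra.TensorProduct.map (Ideal.Quotient.mkₐ K (nilradical A))
    (Ideal.Quotient.mkₐ K (nilradical B))
  have hker : RingHom.ker f = nilradical (A ⊗[K] B) := by
    refine le_antisymm ?_ (nilradical_le_prime _ (H := RingHom.ker_isPrime f))
    rw [Algebra.TensorProduct.map_ker _ _ Ideal.Quotient.mk_surjective Ideal.Quotient.mk_surjective]
    refine sup_le ?_ ?_ <;>
    · rw [Ideal.map_le_iff_le_comap]
      intro x hx
      rw [RingHom.mem_ker, Ideal.Quotient.mkₐ_eq_mk, Ideal.Quotient.eq_zero_iff_mem, mem_nilradical] at hx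
      exact mem_nilradical.mpr (hx.map _)
  rw [← hker]
  exact RingHom.ker_isPrime f

theorem hasUniqueMinimalPrime_tensor {k R S : Type u} [Field k] [IsSepClosed k] [CommRing R] [CommRing S]
    [Algebra k R] [Algebra k S] (hR : CAlgX.HasUniqueMinimalPrime R) (hS : CAlgX.HasUniqueMinimalPrime S) :
    CAlgX.HasUniqueMinimalPrime (R ⊗[k] S) := by
  rw [hasUniqueMinimalPrime_iff] at hR hS ⊢
  let K := AlgebraicClosure k
  have : IsPurelyInseparable k K := inferInstance
  have hT := isPrime_nilradical_tensor_algClosed (K := K)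
    (isPrime_nilradical_tensor (k := k) (K := K) hR) (isPrime_nilradical_tensor (k := k) (K := K) hS)
  let φ : R ⊗[k] S →ₐ[k] (K ⊗[k] R) ⊗[K] (K ⊗[k] S) :=
    Algebra.TensorProduct.lift
      ((Algebra.TensorProduct.includeLeft : K ⊗[k] R →ₐ[k] (K ⊗[k] R) ⊗[K] (K ⊗[k] S)).comp
        Algebra.TensorProduct.includeRight)
      (((Algebra.TensorProduct.includeRight : K ⊗[k] S →ₐ[K] (K ⊗[k] R) ⊗[K] (K ⊗[k] S)).restrictScalars k).comp
        Algebra.TensorProduct.includeRight)
      fun _ _ => Commute.all _ _
  refine isPrime_nilradical_of_injective φ.toRingHom ?_ hT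
  let e := AlgebraTensorModule.cancelBaseChange k K K (K ⊗[k] R) S
  have hfac : ∀ z, e (φ z) = LinearMap.rTensor S
      (Algebra.TensorProduct.includeRight : R →ₐ[k] K ⊗[k] R).toLinearMap z := by
    intro z
    induction z with
    | zero => simp
    | add x y hx hy => rw [map_add, map_add, hx, hy, map_add]
    | tmul r s => simp [φ, e, Algebra.TensorProduct.tmul_mul_tmul]
  have hinj : Function.Injective (LinearMap.rTensor S
      (Algebra.TensorProduct.includeRight : R →ₐ[k] K ⊗[k] R).toLinearMap) :=
    Module.Flat.rTensor_preserves_injective_linearMap _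
      (Algebra.TensorProduct.includeRight_injective (algebraMap k K).injective)
  intro x y h
  have h' : φ x = φ y := h
  exact hinj (by rw [← hfac, ← hfac, h'])

end Groth.Agent.CAlgSmall
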