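import Mathlib

/-!
# Nonvanishing of Hom out of finitely presented modules
-/

set_option maxSynthPendingDepth 3

universe u v

open Submodule

namespace Groth.Agent.CAlgSmall

/-- Over a local ring, a nonzero finitely presented module maps nontrivially to a module containing
an element whose annihilator has maximal radical. -/
theorem exists_ne_zero_hom_local {A : Type u} [CommRing A] [IsLocalRing A] {M N : Type v}
    [AddCommGroup M] [Module A M] [Module.FinitePresentation A M] [Nontrivial M]
    [AddCommGroup N] [Module A N] {x : N} (hx : x ≠ 0)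
    (hrad : ∀ a ∈ IsLocalRing.maximalIdeal A, ∃ k : ℕ, a ^ k • x = 0) :
    ∃ φ : M →ₗ[A] N, φ ≠ 0 := by
  classical
  have hfg : (⊤ : Submodule A M).FG := Module.Finite.fg_top
  obtain ⟨s, hs, hsspan⟩ := FG.exists_span_finset_card_eq_spanFinrank hfg
  let π : (s → A) →ₗ[A] M := Fintype.linearCombination A Subtype.val
  have hπ : Function.Surjective π := by
    rw [← LinearMap.range_eq_top, Fintype.range_linearCombination, Subtype.range_val]
    exact hsspan
  have hker : (LinearMap.ker π).FG := Module.FinitePresentation.fg_ker π hπ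
  obtain ⟨t, ht⟩ := hker
  have hunit : ∀ v ∈ LinearMap.ker π, ∀ i : s, v i ∈ IsLocalRing.maximalIdeal A := by
    intro v hv i
    by_contra h
    obtain ⟨c, hc⟩ := IsLocalRing.notMem_maximalIdeal.mp h
    have hmem : (i : M) ∈ span A ((s.erase i : Finset M) : Set M) := by
      have h0 : ∑ j : s, v j • (j : M) = 0 := by
        simpa [π, Fintype.linearCombination_apply] using hv
      rw [← Finset.add_sum_erase _ _ (Finset.mem_univ i)] at h0
      have hvi : v i • (i : M) ∈ span A ((s.erase i : Finset M) : Set M) := by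
        rw [eq_neg_of_add_eq_zero_left h0]
        refine neg_mem (sum_mem fun j hj ↦ smul_mem _ _ (subset_span ?_))
        simp only [Finset.coe_erase, Set.mem_sdiff, Finset.mem_coe, j.2, Set.mem_singleton_iff,
          true_and]
        exact fun e ↦ (Finset.mem_erase.mp hj).1 (Subtype.ext e)
      have := smul_mem _ (↑c⁻¹ : A) hvi
      rwa [← hc, smul_smul, Units.inv_mul, one_smul] at this
    have htop : span A ((s.erase i : Finset M) : Set M) = ⊤ := by
      rw [eq_top_iff, ← hsspan, span_le]
      intro z hz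
      rcases eq_or_ne z i with rfl | hne
      · exact hmem
      · exact subset_span (by simpa [hne] using hz)
    have h1 := spanFinrank_span_le_ncard_of_finite (R := A) (s.erase (i : M)).finite_toSet
    rw [htop, Set.ncard_coe_finset, Finset.card_erase_of_mem i.2, ← hs] at h1
    have := Finset.card_pos.mpr ⟨(i : M), i.2⟩
    omega
  let I : Ideal A := Ideal.span ((fun p : (s → A) × s ↦ p.1 p.2) '' ((t : Set (s → A)) ×ˢ Set.univ))
  have hIfg : I.FG := fg_span ((t.finite_toSet.prod Set.finite_univ).image _)
  have hIrad : I ≤ (Ideal.torsionOf A N x).radical := by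
    rw [Ideal.span_le]
    rintro _ ⟨⟨v, i⟩, ⟨hv, -⟩, rfl⟩
    obtain ⟨k, hk⟩ := hrad _ (hunit v (ht ▸ subset_span hv) i)
    exact ⟨k, hk⟩
  obtain ⟨k, hk⟩ := Ideal.exists_pow_le_of_le_radical_of_fg hIrad hIfg
  have key : ∀ m : ℕ, (∀ a ∈ I ^ m, a • x = 0) → ∃ y : N, y ≠ 0 ∧ ∀ a ∈ I, a • y = 0 := by
    intro m
    induction m with
    | zero => exact fun h ↦ absurd (by simpa using h 1 (by simp)) hx
    | succ m ih =>
      intro h
      by_cases hm : ∀ a ∈ I ^ m, a • x = 0
      · exact ih hm
      · push Not at hm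
        obtain ⟨a, ha, hax⟩ := hm
        refine ⟨a • x, hax, fun b hb ↦ ?_⟩
        rw [smul_smul]
        exact h _ (by rw [pow_succ']; exact Ideal.mul_mem_mul hb ha)
  obtain ⟨y, hy, hIy⟩ := key k fun a ha ↦ hk ha
  obtain ⟨i₀⟩ : Nonempty s := by
    by_contra hne
    have hsub : Subsingleton (s → A) := by
      haveI := not_nonempty_iff.mp hne
      infer_instance
    obtain ⟨m, m', hmm⟩ := exists_pair_ne M
    obtain ⟨a, rfl⟩ := hπ m
    obtain ⟨b, rfl⟩ := hπ m'
    exact hmm (congrArg π (Subsingleton.elim a b))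
  let ψ : (s → A) →ₗ[A] N := (LinearMap.proj i₀).smulRight y
  have hψ : LinearMap.ker π ≤ LinearMap.ker ψ := by
    rw [← ht, span_le]
    intro v hv
    show v i₀ • y = 0
    exact hIy _ (Ideal.subset_span ⟨(v, i₀), ⟨hv, trivial⟩, rfl⟩)
  refine ⟨((LinearMap.ker π).liftQ ψ hψ).comp (π.quotKerEquivOfSurjective hπ).symm.toLinearMap,
    fun h0 ↦ hy ?_⟩
  have := LinearMap.congr_fun h0 (π (Pi.single i₀ 1))
  have he : (π.quotKerEquivOfSurjective hπ).symm (π (Pi.single i₀ 1)) =
      Submodule.Quotient.mk (Pi.single i₀ 1) := by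
    rw [LinearEquiv.symm_apply_eq]; rfl
  simpa [he, ψ] using this

theorem nontrivial_linearMap_of_support_subset (A : Type u) [CommRing A] (M : Type v)
    [AddCommGroup M] [Module A M] [Module.FinitePresentation A M] (N : Type v) [AddCommGroup N]
    [Module A N] [Nontrivial N] (h : Module.support A N ⊆ Module.support A M) :
    Nontrivial (M →ₗ[A] N) := by
  obtain ⟨x, hx⟩ := exists_ne (0 : N)
  have hne : Ideal.torsionOf A N x ≠ ⊤ := fun h0 ↦ hx (by
    simpa using (Ideal.eq_top_iff_one _).mp h0)
  obtain ⟨⟨p, hpmin⟩⟩ := Ideal.nonempty_minimalPrimes hne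
  haveI : p.IsPrime := hpmin.1.1
  let S := p.primeCompl
  let g := LocalizedModule.mkLinearMap S N
  let f := LocalizedModule.mkLinearMap S M
  have hx' : g x ≠ 0 := by
    intro h0
    obtain ⟨⟨s, hs⟩, hsx⟩ := (IsLocalizedModule.eq_zero_iff S g).mp h0
    exact hs (hpmin.1.2 hsx)
  have hpM : (⟨p, ‹_›⟩ : PrimeSpectrum A) ∈ Module.support A M := by
    apply h
    rw [Module.mem_support_iff]
    exact ⟨g x, 0, hx'⟩
  haveI : Nontrivial (LocalizedModule S M) := hpM
  obtain ⟨φ, hφ⟩ := exists_ne_zero_hom_local (A := Localization S) (M := LocalizedModule S M)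
    (N := LocalizedModule S N) hx' fun a ha ↦ by
      have hr := IsLocalization.AtPrime.radical_map_of_mem_minimalPrimes
        (A := Localization S) p _ hpmin
      rw [IsLocalization.AtPrime.map_eq_maximalIdeal p (Localization S)] at hr
      obtain ⟨k, hk⟩ : a ∈ ((Ideal.torsionOf A N x).map (algebraMap A (Localization S))).radical := by
        rw [hr]; exact ha
      refine ⟨k, ?_⟩
      have : (Ideal.torsionOf A N x).map (algebraMap A (Localization S)) ≤
          Ideal.torsionOf (Localization S) (LocalizedModule S N) (g x) := by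
        rw [Ideal.map_le_iff_le_comap]
        intro b hb
        show algebraMap A (Localization S) b • g x = 0
        rw [algebraMap_smul, ← map_smul, show b • x = 0 from hb, map_zero]
      exact this hk
  obtain ⟨ψ, s, hψ⟩ := Module.FinitePresentation.exists_lift_of_isLocalizedModule S g
    ((φ.restrictScalars A).comp f)
  refine ⟨ψ, 0, fun h0 ↦ hφ ?_⟩
  have hz : ∀ m, φ (f m) = 0 := fun m ↦ by
    have h1 := LinearMap.congr_fun hψ m
    rw [h0] at h1
    simp only [LinearMap.comp_zero, LinearMap.zero_apply] at h1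
    exact ((Module.End.isUnit_iff _).mp (IsLocalizedModule.map_units g s)).1
      (h1.symm.trans (map_zero _).symm)
  refine LinearMap.restrictScalars_injective A ?_
  exact IsLocalizedModule.ext S f (IsLocalizedModule.map_units g) (LinearMap.ext fun m ↦ hz m)

end Groth.Agent.CAlgSmall
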