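import Groth.Agent.HenselLib.IndEtale
import Groth.Agent.HenselLib.Unique
import Mathlib.RingTheory.Henselian

/-!
# Maps from ind-étale algebras into henselian local rings
-/

universe u

open CategoryTheory CategoryTheory.Limits

namespace Groth.Agent.CAlgSmall

theorem existsUnique_algHom_indEtale (R S S' K : Type u) [CommRing R] [CommRing S] [CommRing S']
    [Field K] [HenselianLocalRing S'] [Algebra R S] [Algebra R S'] [Algebra R K]
    (hS : EtPBC.IsIndEtale R S) (u : S →ₐ[R] K) (u' : S' →ₐ[R] K) (hu' : Function.Surjective u')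
    (hku' : RingHom.ker u'.toRingHom = IsLocalRing.maximalIdeal S') :
    ∃! g : S →ₐ[R] S', u'.comp g = u := by
  let Q : (S' ⧸ RingHom.ker u') ≃ₐ[R] K := Ideal.quotientKerAlgEquivOfSurjective hu'
  have : HenselianRing S' (RingHom.ker u') := by
    have h : RingHom.ker u' = IsLocalRing.maximalIdeal S' := hku'
    rw [h]; infer_instance
  have lift : ∀ (B : Type u) [CommRing B] [Algebra R B] [Algebra.Etale R B] (σ : B →ₐ[R] K),
      ∃! τ : B →ₐ[R] S', u'.comp τ = σ := by
    intro B _ _ _ σ
    obtain ⟨τ, hτ, huniq⟩ := HenselLib.existsUnique_lift (RingHom.ker u') (Q.symm.toAlgHom.comp σ)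
    have key : ∀ g : B →ₐ[R] S', u'.comp g =
        Q.toAlgHom.comp ((Ideal.Quotient.mkₐ R (RingHom.ker u')).comp g) := fun g => rfl
    refine ⟨τ, by show u'.comp τ = σ; rw [key, hτ]; ext b; simp, fun g hg => huniq g ?_⟩
    have hg' : u'.comp g = σ := hg
    ext b
    apply Q.injective
    have h1 := AlgHom.congr_fun (key g) b
    rw [AlgHom.congr_fun hg' b] at h1
    simpa using h1.symm
  obtain ⟨J, _, _, D, c, hc, het, ⟨e⟩⟩ := hS
  let alg : ∀ j, Algebra R (D.obj j).right := fun j => (D.obj j).hom.hom.toAlgebra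
  let ι : ∀ j, @AlgHom R (D.obj j).right S _ _ _ (alg j) _ := fun j =>
    letI := alg j
    { toRingHom := (c.ι.app j ≫ e.hom).right.hom
      commutes' := fun r => congr($((Under.w (c.ι.app j ≫ e.hom))).hom r) }
  have hι : ∀ {i j} (f : i ⟶ j) (x : (D.obj i).right), ι j ((D.map f).right.hom x) = ι i x := by
    intro i j f x
    show ((c.ι.app j ≫ e.hom).right.hom) ((D.map f).right.hom x) = (c.ι.app i ≫ e.hom).right.hom x
    rw [← c.w f]
    rfl
  have hψ : ∀ j, ∃! τ : @AlgHom R (D.obj j).right S' _ _ _ (alg j) _,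
      ∀ x, u' (τ x) = u (ι j x) := fun j => by
    letI := alg j
    have := het j
    obtain ⟨τ, hτ, huniq⟩ := lift (D.obj j).right (u.comp (ι j))
    exact ⟨τ, fun x => AlgHom.congr_fun hτ x, fun g hg => huniq g (AlgHom.ext hg)⟩
  choose ψ hψu hψuniq using hψ
  let hom : ∀ j, D.obj j ⟶ Under.mk (CommRingCat.ofHom (algebraMap R S')) := fun j =>
    letI := alg j
    Under.homMk (CommRingCat.ofHom (ψ j).toRingHom) (CommRingCat.hom_ext (RingHom.ext (ψ j).commutes))
  let t : Cocone D :=
    { pt := Under.mk (CommRingCat.ofHom (algebraMap R S'))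
      ι :=
        { app := hom
          naturality := fun i j f => by
            refine Eq.trans ?_ (Category.comp_id _).symm
            letI := alg i
            letI := alg j
            let τ : (D.obj i).right →ₐ[R] S' :=
              { toRingHom := (ψ j).toRingHom.comp (D.map f).right.hom
                commutes' := fun r => by
                  have h1 : (D.map f).right.hom ((D.obj i).hom.hom r) = (D.obj j).hom.hom r :=
                    congr($(Under.w (D.map f)).hom r)
                  show ψ j ((D.map f).right.hom ((D.obj i).hom.hom r)) = _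
                  rw [h1]
                  exact (ψ j).commutes r }
            have hτ : τ = ψ i := hψuniq i τ fun x => (hψu j _).trans (congrArg u (hι f x))
            apply Under.UnderMorphism.ext
            apply CommRingCat.hom_ext
            exact congrArg (fun a : (D.obj i).right →ₐ[R] S' => a.toRingHom) hτ } }
  let gU := e.inv ≫ hc.desc t
  let g : S →ₐ[R] S' :=
    { toRingHom := gU.right.hom
      commutes' := fun r => congr($(Under.w gU).hom r) }
  have hgι : ∀ j x, g (ι j x) = ψ j x := by
    intro j x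
    show ((c.ι.app j ≫ e.hom) ≫ gU).right.hom x = _
    rw [show (c.ι.app j ≫ e.hom) ≫ gU = t.ι.app j by simp [gU]]
    rfl
  have hrep : ∀ s : S, ∃ j x, ι j x = s := by
    intro s
    obtain ⟨j, y, hy⟩ := HenselLib.IndEt.exists_rep_under hc (e.inv.right.hom s)
    refine ⟨j, y, ?_⟩
    show e.hom.right.hom ((c.ι.app j).right.hom y) = s
    rw [hy]
    show (e.inv ≫ e.hom).right.hom s = s
    rw [e.inv_hom_id]
    rfl
  refine ⟨g, ?_, fun g' hg' => AlgHom.ext fun s => ?_⟩
  · ext s
    obtain ⟨j, x, rfl⟩ := hrep s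
    show u' (g (ι j x)) = _
    rw [hgι, hψu]
  · obtain ⟨j, x, rfl⟩ := hrep s
    letI := alg j
    have h := hψuniq j (g'.comp (ι j)) fun y => AlgHom.congr_fun hg' _
    rw [hgι]
    exact AlgHom.congr_fun h x

theorem existsUnique_algEquiv_indEtale (R S S' K : Type u) [CommRing R] [CommRing S] [CommRing S']
    [Field K] [HenselianLocalRing S] [HenselianLocalRing S'] [Algebra R S] [Algebra R S'] [Algebra R K]
    (hS : EtPBC.IsIndEtale R S) (hS' : EtPBC.IsIndEtale R S') (u : S →ₐ[R] K) (u' : S' →ₐ[R] K)
    (hu : Function.Surjective u) (hu' : Function.Surjective u')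
    (hku : RingHom.ker u.toRingHom = IsLocalRing.maximalIdeal S)
    (hku' : RingHom.ker u'.toRingHom = IsLocalRing.maximalIdeal S') :
    ∃! e : S ≃ₐ[R] S', u'.comp (e : S →ₐ[R] S') = u := by
  obtain ⟨g, hg, hguniq⟩ := existsUnique_algHom_indEtale R S S' K hS u u' hu' hku'
  obtain ⟨g', hg', -⟩ := existsUnique_algHom_indEtale R S' S K hS' u' u hu hku
  have hgd : u'.comp g = u := hg
  have hgd' : u.comp g' = u' := hg'
  have h1 : g'.comp g = AlgHom.id R S :=
    (existsUnique_algHom_indEtale R S S K hS u u hu hku).unique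
      (by rw [← AlgHom.comp_assoc, hgd', hgd]) (AlgHom.comp_id _)
  have h2 : g.comp g' = AlgHom.id R S' :=
    (existsUnique_algHom_indEtale R S' S' K hS' u' u' hu' hku').unique
      (by rw [← AlgHom.comp_assoc, hgd, hgd']) (AlgHom.comp_id _)
  exact ⟨AlgEquiv.ofAlgHom g g' h2 h1, hg,
    fun e he => AlgEquiv.ext fun s => AlgHom.congr_fun (hguniq _ he) s⟩

end Groth.Agent.CAlgSmall
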