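import Groth.Agent.EGA43.Cons.FibreCritEss
import Groth.Agent.EGA43.InjFibre.General
import Groth.Prelude.Def_CAlgX
import Mathlib

/-! Injective modulo the maximal ideal of the base: injective with flat cokernel (essentially finitely
presented case, no Noetherian hypothesis). -/

set_option autoImplicit false
set_option backward.isDefEq.respectTransparency false

universe u

open IsLocalRing

namespace Groth.Agent.CAlgSmall.InjModMaxFP

theorem main {R S M N : Type u} [CommRing R] [CommRing S] [IsLocalRing R]
    [IsLocalRing S] [Algebra R S] [IsLocalHom (algebraMap R S)] (hS : CAlgX.IsEssFinitePresentation R S)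
    [AddCommGroup M] [Module S M] [Module R M] [IsScalarTower R S M] [Module.FinitePresentation S M]
    [AddCommGroup N] [Module S N] [Module R N] [IsScalarTower R S N] [Module.FinitePresentation S N]
    [Module.Flat R N] (u : M →ₗ[S] N)
    (hu : ∀ x : M, u x ∈ (maximalIdeal R).map (algebraMap R S) • (⊤ : Submodule S N) →
      x ∈ (maximalIdeal R).map (algebraMap R S) • (⊤ : Submodule S M)) :
    Function.Injective u ∧ Module.Flat R (N ⧸ LinearMap.range u) := by
  obtain ⟨C, _, _, _, _, L, hfp, hloc⟩ := hS
  let q : PrimeSpectrum C := ⟨(maximalIdeal S).comap (algebraMap C S), inferInstance⟩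
  have hqu : ∀ c : C, c ∉ q.asIdeal → IsUnit (algebraMap C S c) := fun c hc ↦
    not_not.mp fun h ↦ hc h
  have hLq : ∀ l ∈ L, l ∉ q.asIdeal := fun l hl hmem ↦
    (IsLocalRing.mem_maximalIdeal _).mp hmem (IsLocalization.map_units S (⟨l, hl⟩ : L))
  have hpq : q.asIdeal.comap (algebraMap R C) = maximalIdeal R := by
    show ((maximalIdeal S).comap (algebraMap C S)).comap (algebraMap R C) = _
    rw [Ideal.comap_comap, ← IsScalarTower.algebraMap_eq R C S]
    exact ((IsLocalRing.local_hom_TFAE (algebraMap R S)).out 0 4).mp (inferInstance : IsLocalHom (algebraMap R S))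
  let : Module C M := Module.compHom M (algebraMap C S)
  have : IsScalarTower C S M := IsScalarTower.of_compHom _ _ _
  let : Module C N := Module.compHom N (algebraMap C S)
  have : IsScalarTower C S N := IsScalarTower.of_compHom _ _ _
  obtain ⟨M₀, _, _, φM, hfM, hlM⟩ := EGA43.Cons.exists_fp_model_module (C := C) (S' := S) (M := M) L
  obtain ⟨N₀, _, _, φN, hfN, hlN⟩ := EGA43.Cons.exists_fp_model_module (C := C) (S' := S) (M := N) L
  let : Module R M₀ := Module.compHom M₀ (algebraMap R C)
  have : IsScalarTower R C M₀ := IsScalarTower.of_compHom _ _ _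
  let : Module R N₀ := Module.compHom N₀ (algebraMap R C)
  have : IsScalarTower R C N₀ := IsScalarTower.of_compHom _ _ _
  have : IsScalarTower R C M := IsScalarTower.of_algebraMap_smul fun a m ↦ by
    rw [← algebraMap_smul S (algebraMap R C a), ← IsScalarTower.algebraMap_apply, algebraMap_smul]
  have : IsScalarTower R C N := IsScalarTower.of_algebraMap_smul fun a m ↦ by
    rw [← algebraMap_smul S (algebraMap R C a), ← IsScalarTower.algebraMap_apply, algebraMap_smul]
  obtain ⟨h, s, hhs⟩ := Module.FinitePresentation.exists_lift_of_isLocalizedModule L φN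
    ((u.restrictScalars C).comp φM)
  have hh : ∀ m, φN (h m) = (s : C) • u (φM m) := fun m ↦ LinearMap.congr_fun hhs m
  have hs : IsUnit (algebraMap C S s) := IsLocalization.map_units S s
  -- membership in `m • ⊤`
  have hmem : ∀ (P₀ P : Type u) [AddCommGroup P₀] [Module C P₀] [Module R P₀] [IsScalarTower R C P₀]
      [AddCommGroup P] [Module S P] [Module C P] [Module R P] [IsScalarTower C S P] [IsScalarTower R S P]
      [IsScalarTower R C P] (φ : P₀ →ₗ[C] P) [IsLocalizedModule L φ] (m : P₀),
      φ m ∈ (maximalIdeal R).map (algebraMap R S) • (⊤ : Submodule S P) →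
        ∃ c ∉ q.asIdeal, c • m ∈ (maximalIdeal R) • (⊤ : Submodule R P₀) := by
    intro P₀ P _ _ _ _ _ _ _ _ _ _ _ φ _ m hm
    have key : ∀ x ∈ (maximalIdeal R) • (⊤ : Submodule R P),
        ∃ c ∈ L, ∃ y ∈ (maximalIdeal R) • (⊤ : Submodule R P₀), c • x = φ y := by
      intro x hx
      refine Submodule.smul_induction_on hx (fun a ha z _ ↦ ?_) fun x x' hx hx' ↦ ?_
      · obtain ⟨⟨z₀, l⟩, hl⟩ := IsLocalizedModule.surj L φ z
        refine ⟨l, l.2, a • z₀, Submodule.smul_mem_smul ha trivial, ?_⟩
        rw [← algebraMap_smul C a z₀, map_smul, ← hl, algebraMap_smul, Submonoid.smul_def, smul_comm]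
      · obtain ⟨c, hc, y, hy, e⟩ := hx
        obtain ⟨c', hc', y', hy', e'⟩ := hx'
        refine ⟨c * c', L.mul_mem hc hc', c' • y + c • y', Submodule.add_mem _ ?_ ?_, ?_⟩
        · exact Submodule.smul_induction_on hy (fun a ha z _ ↦ by
            rw [smul_comm]; exact Submodule.smul_mem_smul ha trivial) fun y y' hy hy' ↦ by
              rw [smul_add]; exact Submodule.add_mem _ hy hy'
        · exact Submodule.smul_induction_on hy' (fun a ha z _ ↦ by
            rw [smul_comm]; exact Submodule.smul_mem_smul ha trivial) fun y y' hy hy' ↦ by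
              rw [smul_add]; exact Submodule.add_mem _ hy hy'
        · rw [map_add, map_smul, map_smul, ← e, ← e', smul_add, smul_smul, smul_smul, mul_comm c' c]
    have hm' : φ m ∈ (maximalIdeal R) • (⊤ : Submodule R P) := by
      rw [← Submodule.restrictScalars_mem R, Ideal.smul_restrictScalars, Submodule.restrictScalars_top] at hm
      exact hm
    obtain ⟨c, hc, y, hy, e⟩ := key _ hm'
    rw [← map_smul] at e
    obtain ⟨d, hd⟩ := IsLocalizedModule.exists_of_eq (S := L) (f := φ) e
    refine ⟨d * c, hLq _ (L.mul_mem d.2 hc), ?_⟩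
    rw [mul_smul]
    rw [Submonoid.smul_def, Submonoid.smul_def] at hd
    rw [hd]
    exact Submodule.smul_induction_on hy (fun a ha z _ ↦ by
      rw [smul_comm]; exact Submodule.smul_mem_smul ha trivial) fun y y' hy hy' ↦ by
        rw [smul_add]; exact Submodule.add_mem _ hy hy'
  -- fibre injectivity
  have hfib : EGA43.InjFibre.FibInjAt R C h q := by
    rintro m ⟨c, hc, hcm⟩
    rw [hpq] at hcm ⊢
    have h1 : φN (c • h m) ∈ (maximalIdeal R).map (algebraMap R S) • (⊤ : Submodule S N) := by
      rw [← Submodule.restrictScalars_mem R, Ideal.smul_restrictScalars, Submodule.restrictScalars_top]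
      exact Submodule.smul_induction_on hcm (fun a ha z _ ↦ by
        rw [← algebraMap_smul C a z, map_smul, algebraMap_smul]
        exact Submodule.smul_mem_smul ha trivial) fun y y' hy hy' ↦ by
          rw [map_add]; exact Submodule.add_mem _ hy hy'
    rw [map_smul, hh, ← algebraMap_smul S c, ← algebraMap_smul S (s : C), smul_smul] at h1
    have h2 : u (φM m) ∈ (maximalIdeal R).map (algebraMap R S) • (⊤ : Submodule S N) :=
      (Submodule.smul_mem_iff_of_isUnit _ ((hqu c hc).mul hs)).mp h1
    exact hmem M₀ M φM m (hu _ h2)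
  have : IsLocalizedModule q.asIdeal.primeCompl φN :=
    { map_units := fun x ↦ by
        rw [← (Algebra.lsmul C (A := S) C N).commutes]
        exact (hqu _ x.2).map _
      surj := fun y ↦ by
        obtain ⟨⟨z, l⟩, e⟩ := IsLocalizedModule.surj L φN y
        exact ⟨⟨z, ⟨l, hLq _ l.2⟩⟩, e⟩
      exists_of_eq := fun {a b} e ↦ by
        obtain ⟨l, hl⟩ := IsLocalizedModule.exists_of_eq (S := L) (f := φN) e
        exact ⟨⟨l, hLq _ l.2⟩, hl⟩ }
  have hflat : Module.Flat R (LocalizedModule q.asIdeal.primeCompl N₀) :=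
    Module.Flat.of_linearEquiv ((IsLocalizedModule.iso q.asIdeal.primeCompl φN).restrictScalars R)
  have hU := EGA43.InjFibre.uInjAt_of_fibInjAt hflat hfib
  refine ⟨(injective_iff_map_eq_zero _).mpr fun x hx ↦ ?_, ?_⟩
  · obtain ⟨⟨m, l⟩, e⟩ := IsLocalizedModule.surj L φM x
    have h0 : φN (h m) = 0 := by
      rw [hh, ← e, Submonoid.smul_def, LinearMap.map_smul_of_tower, hx, smul_zero, smul_zero]
    obtain ⟨c, hc⟩ := IsLocalizedModule.exists_of_eq (S := L) (f := φN) (h0.trans (map_zero φN).symm)
    rw [smul_zero, Submonoid.smul_def, ← map_smul] at hc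
    obtain ⟨d, hd, hdm⟩ := hU.exists_smul_eq_zero hc
    have h1 : φM (d • (c : C) • m) = 0 := by rw [hdm, map_zero]
    rw [map_smul, map_smul, ← e, Submonoid.smul_def, ← algebraMap_smul S d, ← algebraMap_smul S (c : C),
      ← algebraMap_smul S (l : C), smul_smul, smul_smul] at h1
    exact (((hqu d hd).mul (IsLocalization.map_units S c)).mul (IsLocalization.map_units S l)).smul_eq_zero.mp h1
  · let Q₀ := N₀ ⧸ LinearMap.range h
    let : Module C (N ⧸ LinearMap.range u) := Module.compHom _ (algebraMap C S)
    have : IsScalarTower C S (N ⧸ LinearMap.range u) := IsScalarTower.of_compHom _ _ _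
    have : IsScalarTower R C (N ⧸ LinearMap.range u) := IsScalarTower.of_algebraMap_smul fun a m ↦ by
      rw [← algebraMap_smul S (algebraMap R C a), ← IsScalarTower.algebraMap_apply, algebraMap_smul]
    let mkN : N →ₗ[C] (N ⧸ LinearMap.range u) :=
      { toFun := fun y ↦ (LinearMap.range u).mkQ y
        map_add' := map_add _
        map_smul' := fun c y ↦ by
          rw [RingHom.id_apply, ← algebraMap_smul S c y, map_smul, algebraMap_smul] }
    let ψ : Q₀ →ₗ[C] (N ⧸ LinearMap.range u) := (LinearMap.range h).liftQ (mkN.comp φN) (by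
      rintro _ ⟨m, rfl⟩
      show (LinearMap.range u).mkQ (φN (h m)) = 0
      rw [hh, ← algebraMap_smul S (s : C), map_smul, Submodule.mkQ_apply,
        (Submodule.Quotient.mk_eq_zero _).mpr (LinearMap.mem_range_self u _), smul_zero])
    have hψ : ∀ y, ψ (Submodule.Quotient.mk y) = Submodule.Quotient.mk (φN y) := fun y ↦ rfl
    have : IsLocalizedModule q.asIdeal.primeCompl ψ :=
      { map_units := fun x ↦ by
          rw [← (Algebra.lsmul C (A := S) C (N ⧸ LinearMap.range u)).commutes]
          exact (hqu _ x.2).map _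
        surj := fun y ↦ by
          obtain ⟨y, rfl⟩ := Submodule.Quotient.mk_surjective _ y
          obtain ⟨⟨z, l⟩, e⟩ := IsLocalizedModule.surj L φN y
          refine ⟨⟨Submodule.Quotient.mk z, ⟨l, hLq _ l.2⟩⟩, ?_⟩
          rw [hψ, ← e, Submonoid.smul_def, Submonoid.smul_def, ← algebraMap_smul S (l : C),
            ← algebraMap_smul S (l : C) y, Submodule.Quotient.mk_smul]
        exists_of_eq := fun {a b} e ↦ by
          obtain ⟨a, rfl⟩ := Submodule.Quotient.mk_surjective _ a
          obtain ⟨b, rfl⟩ := Submodule.Quotient.mk_surjective _ b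
          rw [hψ, hψ, Submodule.Quotient.eq] at e
          obtain ⟨x, hx⟩ := e
          obtain ⟨⟨m, l⟩, el⟩ := IsLocalizedModule.surj L φM x
          have h3 : φN ((s : C) • (l : C) • (a - b)) = φN (h m) := by
            rw [map_smul, map_smul, map_sub, hh, ← el, ← hx, Submonoid.smul_def, LinearMap.map_smul_of_tower]
          obtain ⟨c, hc⟩ := IsLocalizedModule.exists_of_eq (S := L) (f := φN) h3
          refine ⟨⟨c * s * l, hLq _ (L.mul_mem (L.mul_mem c.2 s.2) l.2)⟩, ?_⟩
          rw [Submonoid.smul_def, Submonoid.smul_def, ← Submodule.Quotient.mk_smul, ← Submodule.Quotient.mk_smul,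
            Submodule.Quotient.eq, ← smul_sub, mul_smul, mul_smul]
          rw [Submonoid.smul_def, Submonoid.smul_def] at hc
          rw [hc]
          exact Submodule.smul_mem _ _ (LinearMap.mem_range_self h m) }
    have hfl := hU.flat_coker hflat (LinearMap.range h).mkQ (Submodule.mkQ_surjective _)
      (LinearMap.exact_map_mkQ_range h)
    exact Module.Flat.of_linearEquiv ((IsLocalizedModule.iso q.asIdeal.primeCompl ψ).restrictScalars R).symm

end Groth.Agent.CAlgSmall.InjModMaxFP
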