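import Mathlib
import Groth.Prelude.Def_KZero

/-!
# `K₀` of a local ring
-/

set_option maxSynthPendingDepth 3

universe u

open CategoryTheory CategoryTheory.Limits

namespace Groth.Agent.CAlgSmall.K0

variable {R : Type u} [CommRing R]

/-- A function on objects additive on short exact sequences descends to `K0sub`. -/
noncomputable def descHom (P : ObjectProperty (ModuleCat.{u} R)) (φ : ModuleCat.{u} R → ℤ)
    (hφ : ∀ S : ShortComplex (ModuleCat.{u} R), P S.X₁ → P S.X₂ → P S.X₃ → S.ShortExact →
      φ S.X₂ = φ S.X₁ + φ S.X₃) : KZero.K0sub P →+ ℤ :=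
  QuotientAddGroup.lift _ (FreeAbelianGroup.lift fun X : Subtype P ↦ φ X.1) <| by
    rw [KZero.relSub, AddSubgroup.closure_le]
    rintro _ ⟨S, h₁, h₂, h₃, hS, rfl⟩
    simp [hφ S h₁ h₂ h₃ hS]

theorem descHom_clSub (P : ObjectProperty (ModuleCat.{u} R)) (φ) (hφ) (M : ModuleCat.{u} R)
    (hM : P M) : descHom P φ hφ (KZero.clSub P M) = φ M := by
  simp [descHom, KZero.clSub, hM]

theorem shortExact_maps {S : ShortComplex (ModuleCat.{u} R)} (hS : S.ShortExact) :
    Function.Injective S.f.hom ∧ Function.Surjective S.g.hom ∧ Function.Exact S.f.hom S.g.hom :=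
  ⟨(ModuleCat.mono_iff_injective _).1 hS.mono_f, (ModuleCat.epi_iff_surjective _).1 hS.epi_g,
    (ShortComplex.ShortExact.moduleCat_exact_iff_function_exact _).1 hS.exact⟩

abbrev FP (R : Type u) [CommRing R] : ObjectProperty (ModuleCat.{u} R) :=
  fun M ↦ Module.Finite R M ∧ Module.Projective R M

theorem clSub_add {U V W : Type u} [AddCommGroup U] [Module R U] [AddCommGroup V] [Module R V]
    [AddCommGroup W] [Module R W] (P : ObjectProperty (ModuleCat.{u} R))
    (hU : P (ModuleCat.of R U)) (hV : P (ModuleCat.of R V)) (hW : P (ModuleCat.of R W))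
    (f : U →ₗ[R] V) (g : V →ₗ[R] W) (hf : Function.Injective f) (hg : Function.Surjective g)
    (h : Function.Exact f g) :
    KZero.clSub P (ModuleCat.of R V) =
      KZero.clSub P (ModuleCat.of R U) + KZero.clSub P (ModuleCat.of R W) := by
  have hS : (ShortComplex.mk (ModuleCat.ofHom f) (ModuleCat.ofHom g)
      (ModuleCat.hom_ext h.linearMap_comp_eq_zero)).ShortExact :=
    { exact := (ShortComplex.ShortExact.moduleCat_exact_iff_function_exact _).2 h
      mono_f := (ModuleCat.mono_iff_injective _).2 hf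
      epi_g := (ModuleCat.epi_iff_surjective _).2 hg }
  simp only [KZero.clSub, dif_pos hU, dif_pos hV, dif_pos hW]
  rw [← QuotientAddGroup.mk_add, QuotientAddGroup.eq]
  refine (KZero.relSub P).neg_mem_iff.1 ?_
  refine AddSubgroup.subset_closure ⟨_, hU, hV, hW, hS, ?_⟩
  abel

theorem FP_pi (n : ℕ) : FP R (ModuleCat.of R (Fin n → R)) :=
  ⟨(inferInstance : Module.Finite R (Fin n → R)), (inferInstance : Module.Projective R (Fin n → R))⟩

theorem clSub_pi (n : ℕ) :
    KZero.clSub (FP R) (ModuleCat.of R (Fin n → R)) =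
      (n : ℤ) • KZero.clSub (FP R) (ModuleCat.of R R) := by
  have hR : FP R (ModuleCat.of R R) :=
    ⟨(inferInstance : Module.Finite R R), (inferInstance : Module.Projective R R)⟩
  induction n with
  | zero =>
    have := clSub_add (FP R) (FP_pi 0) (FP_pi 0) (FP_pi 0) (0 : (Fin 0 → R) →ₗ[R] (Fin 0 → R)) 0
      (Function.injective_of_subsingleton _) (fun z ↦ ⟨z, Subsingleton.elim _ _⟩)
      (fun z ↦ ⟨fun _ ↦ ⟨z, Subsingleton.elim _ _⟩, fun _ ↦ Subsingleton.elim _ _⟩)
    simpa using this
  | succ n ih =>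
    rw [clSub_add (FP R) hR (FP_pi (n + 1)) (FP_pi n) (LinearMap.single R (fun _ ↦ R) (0 : Fin (n + 1)))
      (LinearMap.funLeft R R Fin.succ) (fun a b h ↦ by simpa using congrFun h (0 : Fin (n + 1)))
      (LinearMap.funLeft_surjective_of_injective R R _ (Fin.succ_injective n)) ?_, ih]
    · push_cast
      rw [add_smul, one_smul, add_comm]
    · intro v
      constructor
      · intro hv
        refine ⟨v 0, funext fun i ↦ ?_⟩
        cases i using Fin.cases with
        | zero => simp
        | succ i => simpa [LinearMap.funLeft] using (congrFun hv i).symm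
      · rintro ⟨r, rfl⟩
        ext i
        simp [LinearMap.funLeft]

theorem exists_equiv_int [IsLocalRing R] :
    ∃ e : KZero.K0sub (FP R) ≃+ ℤ, e (KZero.clSub (FP R) (ModuleCat.of R R)) = 1 := by
  have hfree : ∀ M : ModuleCat.{u} R, FP R M → Module.Free R M := fun M ⟨h1, h2⟩ ↦ by
    haveI := Module.finitePresentation_of_projective R M
    exact Module.free_of_flat_of_isLocalRing
  have hR : FP R (ModuleCat.of R R) :=
    ⟨(inferInstance : Module.Finite R R), (inferInstance : Module.Projective R R)⟩
  let φ := descHom (FP R) (fun M ↦ (Module.finrank R M : ℤ)) fun S h₁ h₂ h₃ hS ↦ by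
    obtain ⟨hf, hg, hex⟩ := shortExact_maps hS
    haveI := hfree _ h₁
    haveI := hfree _ h₃
    haveI := h₁.1
    haveI := h₃.1
    obtain ⟨l, hl⟩ := Module.projective_lifting_property S.g.hom LinearMap.id hg
    obtain ⟨e, -⟩ := ((Function.Exact.splitSurjectiveEquiv hex hf) ⟨l, hl⟩)
    rw [e.finrank_eq, Module.finrank_prod]
    push_cast
    rfl
  have h1 : φ (KZero.clSub (FP R) (ModuleCat.of R R)) = 1 := by
    rw [descHom_clSub _ _ _ _ hR]
    simp
  refine ⟨{ φ with invFun := fun z ↦ z • KZero.clSub (FP R) (ModuleCat.of R R)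
                   left_inv := ?_, right_inv := ?_ }, h1⟩
  · intro x
    show φ x • _ = x
    induction x using QuotientAddGroup.induction_on with
    | H z =>
      induction z using FreeAbelianGroup.induction_on with
      | zero => simp
      | of M =>
        have hM : (QuotientAddGroup.mk (FreeAbelianGroup.of M) : KZero.K0sub (FP R)) =
            KZero.clSub (FP R) M.1 := by simp [KZero.clSub, M.2]
        rw [hM, descHom_clSub _ _ _ _ M.2]
        haveI := hfree _ M.2
        haveI := M.2.1
        obtain ⟨e⟩ : Nonempty ((Fin (Module.finrank R M.1) → R) ≃ₗ[R] M.1) :=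
          ⟨(Module.finBasis R M.1).equivFun.symm⟩
        have h2 := clSub_add (R := R) (U := (Fin 0 → R)) (FP R) (FP_pi 0)
          (FP_pi (Module.finrank R M.1)) M.2
          0 e.toLinearMap (Function.injective_of_subsingleton _) e.surjective
          (fun v ↦ ⟨fun hv ↦ ⟨0, by simpa using (e.map_eq_zero_iff.mp hv).symm⟩, by
            rintro ⟨w, rfl⟩; simp⟩)
        rw [clSub_pi 0, Nat.cast_zero, zero_smul, zero_add, clSub_pi] at h2
        exact h2
      | neg M ih => simp [ih]
      | add a b iha ihb =>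
        rw [QuotientAddGroup.mk_add, map_add, add_smul, iha, ihb]
  · intro z
    show φ (z • _) = z
    rw [map_zsmul, h1, smul_eq_mul, mul_one]

theorem exists_hom_length [IsArtinianRing R] :
    ∃ φ : KZero.K0sub (fun M : ModuleCat.{u} R => Module.Finite R M) →+ ℤ,
      ∀ (M : ModuleCat.{u} R), Module.Finite R M →
        (φ (KZero.clSub (fun M : ModuleCat.{u} R => Module.Finite R M) M) : ℤ) =
          (Module.length R M).toNat := by
  refine ⟨descHom _ (fun M ↦ ((Module.length R M).toNat : ℤ)) fun S h₁ h₂ h₃ hS ↦ ?_,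
    fun M hM ↦ descHom_clSub _ _ _ M hM⟩
  obtain ⟨hf, hg, hex⟩ := shortExact_maps hS
  rw [Module.length_eq_add_of_exact _ _ hf hg hex]
  haveI : Module.Finite R S.X₁ := h₁
  haveI : Module.Finite R S.X₃ := h₃
  rw [ENat.toNat_add Module.length_ne_top Module.length_ne_top]
  push_cast
  rfl

end Groth.Agent.CAlgSmall.K0
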