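import Groth.Agent.HopfLib.RegularDerivations
import Groth.Agent.CAlgH3.RationalPointSmooth

/-!
# Regularity from free Kaehler differentials in characteristic zero
-/

universe u

open IsLocalRing TensorProduct

namespace Groth.Agent.CAlgSmall

theorem isRegularLocalRing_of_kaehler_free (k R : Type u) [Field k] [CharZero k]
    [CommRing R] [Algebra k R] [IsLocalRing R] [IsNoetherianRing R]
    (hres : Function.Surjective (algebraMap k (ResidueField R)))
    (n : ℕ) (e : KaehlerDifferential k R ≃ₗ[R] (Fin n → R)) :
    IsRegularLocalRing R ∧ ringKrullDim R = n := by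
  classical
  haveI : Module.Free R Ω[R⁄k] := Module.Free.of_equiv e.symm
  haveI : Module.Finite R Ω[R⁄k] := Module.Finite.equiv e.symm
  have hrk : Module.finrank R Ω[R⁄k] = n := by simpa using e.finrank_eq
  have hcot : Module.finrank (ResidueField R) (CotangentSpace R) = n := by
    rw [← CAlgH3.finrank_residueField_tensor_kaehler k R ⟨(algebraMap k _).injective, hres⟩,
      Module.finrank_baseChange, hrk]
  have hfg : (maximalIdeal R).FG := (maximalIdeal R).fg_of_isNoetherianRing
  obtain ⟨x, hx⟩ : ∃ x : Fin n → R, Ideal.span (Set.range x) = maximalIdeal R := by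
    rw [← spanFinrank_maximalIdeal_eq_finrank_cotangentSpace] at hcot
    obtain ⟨s, hs, hs'⟩ := Submodule.FG.exists_span_finset_card_eq_spanFinrank hfg
    let σ := s.equivFinOfCardEq (hs.trans hcot)
    refine ⟨fun i ↦ (σ.symm i : R), ?_⟩
    have : Set.range (fun i ↦ (σ.symm i : R)) = (s : Set R) := by
      ext r
      exact ⟨by rintro ⟨i, rfl⟩; exact (σ.symm i).2, fun hr ↦ ⟨σ ⟨r, hr⟩, by simp⟩⟩
    rw [this]
    exact hs'
  let v : Fin n → Ω[R⁄k] := fun i ↦ KaehlerDifferential.D k R (x i)
  let φ : (Fin n → R) →ₗ[R] Ω[R⁄k] := Fintype.linearCombination R v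
  have hφrange : LinearMap.range φ = Submodule.span R (Set.range v) :=
    Fintype.range_linearCombination R v
  have hsurj : Function.Surjective φ := by
    rw [← LinearMap.range_eq_top]
    refine eq_top_iff.mpr (Submodule.le_of_le_smul_of_le_jacobson_bot Module.Finite.fg_top
      (maximalIdeal_le_jacobson ⊥) ?_)
    rw [← KaehlerDifferential.span_range_derivation k R, Submodule.span_le]
    rintro _ ⟨r, rfl⟩
    obtain ⟨c, hc⟩ := hres (residue R r)
    have hm : r - algebraMap k R c ∈ Ideal.span (Set.range x) := by
      rw [hx, ← IsLocalRing.ker_residue, RingHom.mem_ker, map_sub, ← hc]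
      exact sub_eq_zero.mpr rfl
    obtain ⟨a, ha⟩ := Ideal.mem_span_range_iff_exists_fun.mp hm
    have : KaehlerDifferential.D k R r =
        ∑ i, (a i • v i + x i • KaehlerDifferential.D k R (a i)) := by
      have h2 := congrArg (KaehlerDifferential.D k R) ha
      rw [map_sub, Derivation.map_algebraMap, sub_zero, map_sum] at h2
      rw [← h2]
      exact Finset.sum_congr rfl fun i _ ↦ Derivation.leibniz _ _ _
    rw [this]
    refine Submodule.sum_mem _ fun i _ ↦ Submodule.add_mem_sup ?_ ?_
    · rw [hφrange]
      exact Submodule.smul_mem _ _ (Submodule.subset_span ⟨i, rfl⟩)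
    · refine Submodule.smul_mem_smul ?_ ?_
      · rw [← hx]; exact Ideal.subset_span ⟨i, rfl⟩
      · exact Submodule.subset_span ⟨a i, rfl⟩
  have hinj : Function.Injective φ := by
    have := OrzechProperty.injective_of_surjective_endomorphism (e.toLinearMap ∘ₗ φ)
      (e.surjective.comp hsurj)
    exact Function.Injective.of_comp (f := e) this
  let ψ := LinearEquiv.ofBijective φ ⟨hinj, hsurj⟩
  let Dr : Fin n → Derivation ℤ R R := fun i ↦
    Derivation.restrictScalars ℤ
      (((LinearMap.proj i).comp ψ.symm.toLinearMap).compDer (KaehlerDifferential.D k R))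
  have hD : ∀ i j, Dr i (x j) = if i = j then 1 else 0 := by
    intro i j
    have h1 : ψ (Pi.single j (1 : R)) = v j := by
      show φ (Pi.single j (1 : R)) = v j
      rw [Fintype.linearCombination_apply_single, one_smul]
    show (ψ.symm (v j)) i = _
    rw [← h1, LinearEquiv.symm_apply_apply, Pi.single_apply]
  have hreg : IsRegularLocalRing R := by
    refine HopfLib.isRegularLocalRing_of_derivations x hx Dr (fun i j ↦ ?_) fun d hd ↦ ?_
    · rw [hD, sub_self]; exact zero_mem _
    · have : IsUnit ((d : k)) := isUnit_iff_ne_zero.mpr (by exact_mod_cast hd.ne')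
      simpa using this.map (algebraMap k R)
  refine ⟨hreg, ?_⟩
  rw [← (IsRegularLocalRing.iff_finrank_cotangentSpace R).mp hreg, hcot]

end Groth.Agent.CAlgSmall
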