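import Mathlib
import Groth.Agent.HenselLib.WEtField
import Groth.Agent.CAlgH3.Components
import Groth.Agent.S6333

/-! The largest finite etale subalgebra of a subalgebra of an algebra of finite type over a field. -/

set_option autoImplicit false

universe u

namespace Groth.Agent.CAlgSmall.LargestEtale

open HenselLib

variable {k B : Type u} [Field k] [CommRing B] [Algebra k B] [Algebra.FiniteType k B]

theorem finite_of_weaklyEtale {W : Type u} [CommRing W] [Algebra k W] [Algebra.WeaklyEtale k W]
    (f : W →ₐ[k] B) (hf : Function.Injective f) : Module.Finite k W := by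
  have hred : IsReduced W := (WEt.vnr_of_weaklyEtale (A := k) (B := W) (WEt.vnr_field k)).isReduced
  have hint : Algebra.IsIntegral k W := WEt.isIntegral_of_weaklyEtale
  have : IsNoetherianRing B := Algebra.FiniteType.isNoetherianRing k B
  let ι := {q : Ideal B // q ∈ minimalPrimes B}
  have : Finite ι := (minimalPrimes.finite_of_isNoetherianRing B).to_subtype
  cases nonempty_fintype ι
  have hp : ∀ q : ι, q.1.IsPrime := fun q ↦ q.2.1.1
  have : ∀ q : ι, FiniteDimensional k (algebraicClosure k (FractionRing (B ⧸ q.1))) := fun q ↦ by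
    have := hp q
    have : Algebra.FiniteType k (B ⧸ q.1) :=
      Algebra.FiniteType.of_surjective (Ideal.Quotient.mkₐ k q.1) Ideal.Quotient.mk_surjective
    have : Algebra.EssFiniteType (B ⧸ q.1) (FractionRing (B ⧸ q.1)) :=
      .of_isLocalization _ (nonZeroDivisors (B ⧸ q.1))
    have : Algebra.EssFiniteType k (FractionRing (B ⧸ q.1)) :=
      Algebra.EssFiniteType.comp k (B ⧸ q.1) _
    exact Groth.Agent.S6333.result (IntermediateField.fg_top k _)
  let g (q : ι) : W →ₐ[k] FractionRing (B ⧸ q.1) :=
    ((IsScalarTower.toAlgHom k (B ⧸ q.1) (FractionRing (B ⧸ q.1))).comp (Ideal.Quotient.mkₐ k q.1)).comp f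
  have hg : ∀ q w, g q w ∈ algebraicClosure k (FractionRing (B ⧸ q.1)) := fun q w ↦ by
    have := hp q
    exact mem_algebraicClosure_iff.mpr ((hint.isIntegral w).map (g q)).isAlgebraic
  let Φ : W →ₗ[k] ((q : ι) → algebraicClosure k (FractionRing (B ⧸ q.1))) :=
    { toFun := fun w q ↦ ⟨g q w, hg q w⟩
      map_add' := fun a b ↦ funext fun q ↦ Subtype.ext (map_add (g q) a b)
      map_smul' := fun c a ↦ funext fun q ↦ Subtype.ext (map_smul (g q) c a) }
  refine Module.Finite.of_injective Φ fun a b hab ↦ ?_
  rw [← sub_eq_zero]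
  have hnil : f (a - b) ∈ nilradical B := by
    rw [nilradical, ← Ideal.sInf_minimalPrimes, Submodule.mem_sInf]
    intro q hq
    have := hp ⟨q, hq⟩
    rw [← Ideal.Quotient.eq_zero_iff_mem, map_sub, map_sub, sub_eq_zero]
    exact IsFractionRing.injective (B ⧸ q) (FractionRing (B ⧸ q))
      (congrArg Subtype.val (congrFun hab ⟨q, hq⟩))
  obtain ⟨n, hn⟩ := mem_nilradical.mp hnil
  exact IsReduced.eq_zero _ ⟨n, hf (by rw [map_pow, hn, map_zero])⟩

/-- The algebra map attached to an idempotent. -/
noncomputable def idemHom {A : Type u} [CommRing A] [Algebra k A] {e : A} (he : IsIdempotentElem e) :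
    (Fin 2 → k) →ₐ[k] A where
  toFun v := v 0 • e + v 1 • (1 - e)
  map_one' := by simp
  map_mul' v w := by
    simp only [Pi.mul_apply, mul_add, add_mul, smul_mul_smul_comm, he.eq, he.one_sub.eq, mul_sub, sub_mul, mul_one,
      one_mul, sub_self, smul_zero, add_zero, zero_add]
  map_zero' := by simp
  map_add' v w := by simp [add_smul]; abel
  commutes' r := by simp [Algebra.algebraMap_eq_smul_one, ← smul_add]

theorem idem_mem {A : Type u} [CommRing A] [Algebra k A] {e : A} (he : IsIdempotentElem e) :
    e ∈ EtAlgD.maxWeaklyEtale k A :=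
  have := WEt.weaklyEtale_range (K := k) (idemHom (k := k) he)
  WEt.le_maxWeaklyEtale (idemHom (k := k) he).range ⟨![1, 0], by simp [idemHom]⟩

theorem exists_largest (A : Subalgebra k B) :
    ∃ (E : Subalgebra k B) (hE : E ≤ A), Module.Finite k E ∧ Algebra.Etale k E ∧
      (∀ E' : Subalgebra k B, E' ≤ A → Module.Finite k E' → Algebra.Etale k E' → E' ≤ E) ∧
      Function.Surjective (PrimeSpectrum.comap (Subalgebra.inclusion hE).toRingHom) ∧
      ∀ p q : PrimeSpectrum A, PrimeSpectrum.comap (Subalgebra.inclusion hE).toRingHom p =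
          PrimeSpectrum.comap (Subalgebra.inclusion hE).toRingHom q ↔
        connectedComponent p = connectedComponent q := by
  let E₀ := EtAlgD.maxWeaklyEtale k A
  have hW₀ : Algebra.WeaklyEtale k E₀ := WEt.weaklyEtale_max
  let E : Subalgebra k B := E₀.map A.val
  have hE : E ≤ A := by
    rintro _ ⟨x, -, rfl⟩
    exact x.2
  have hW : Algebra.WeaklyEtale k E := by
    have := WEt.weaklyEtale_range (K := k) (A.val.comp E₀.val)
    rwa [AlgHom.range_comp, Subalgebra.range_val] at this
  have hfin : Module.Finite k E := finite_of_weaklyEtale E.val Subtype.val_injective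
  have het : Algebra.Etale k E := by
    have h := WEt.etFG_of_weaklyEtale (K := k) (B := E) ⊤
      (inferInstance : Algebra.FiniteType k E).out
    exact Algebra.Etale.of_equiv Subalgebra.topEquiv
  have hred : IsReduced E := (WEt.vnr_of_weaklyEtale (A := k) (B := E) (WEt.vnr_field k)).isReduced
  have : IsArtinianRing E := IsArtinianRing.of_finite k E
  have hmem : ∀ {e : A}, IsIdempotentElem e → (e : B) ∈ E := fun he ↦ ⟨_, idem_mem he, rfl⟩
  refine ⟨E, hE, hfin, het, fun E' hE' _ _ ↦ ?_, ?_, fun p q ↦ ⟨fun hpq ↦ ?_, fun hpq ↦ ?_⟩⟩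
  · let j : E' →ₐ[k] A := Subalgebra.inclusion hE'
    have := WEt.weaklyEtale_range (K := k) j
    intro x hx
    exact ⟨⟨x, hE' hx⟩, WEt.le_maxWeaklyEtale j.range ⟨⟨x, hx⟩, rfl⟩, rfl⟩
  · intro P
    have hmin : P.asIdeal ∈ minimalPrimes E := by
      have : Ring.KrullDimLE 0 E := inferInstance
      exact Ideal.mem_minimalPrimes_of_krullDimLE_zero P.asIdeal
    obtain ⟨Q, hQ, hQP⟩ := Ideal.exists_comap_eq_of_mem_minimalPrimes_of_injective
      (f := (Subalgebra.inclusion hE).toRingHom) (Subalgebra.inclusion_injective hE) P.asIdeal hmin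
    exact ⟨⟨Q, hQ⟩, PrimeSpectrum.ext hQP⟩
  · refine connectedComponent_eq ?_
    rw [CAlgH3.connectedComponent_eq_zeroLocus, PrimeSpectrum.mem_zeroLocus]
    rintro e ⟨he, hep⟩
    have hme := hmem he
    have h1 : (⟨e, hme⟩ : E) ∈ ((PrimeSpectrum.comap (Subalgebra.inclusion hE).toRingHom) p).asIdeal := hep
    rw [hpq] at h1
    exact h1
  · refine PreconnectedSpace.constant (isPreconnected_iff_preconnectedSpace.mp isPreconnected_connectedComponent) ?_ (x := (⟨p, mem_connectedComponent⟩ : connectedComponent p))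
      (y := (⟨q, hpq ▸ mem_connectedComponent⟩ : connectedComponent p))
      (f := fun x : connectedComponent p ↦ PrimeSpectrum.comap (Subalgebra.inclusion hE).toRingHom x.1)
    exact (PrimeSpectrum.continuous_comap _).comp continuous_subtype_val

end Groth.Agent.CAlgSmall.LargestEtale
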