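import Groth.Agent.Unram17Lib.LocalDim

/-!
# Local dimension of finite type algebras over a field
-/

universe u

open TopologicalSpace

namespace Groth.Agent.CAlgSmall

variable (k S : Type u) [Field k] [CommRing S] [Algebra k S] [Algebra.FiniteType k S]

include k in
theorem localDim_eq_of_isMaximal (m : Ideal S) [hm : m.IsMaximal] :
    FlatMor.localDim (PrimeSpectrum S) ⟨m, hm.isPrime⟩ =
      ringKrullDim (Localization.AtPrime m) := by
  rw [Unram17Lib.localDim_spec k]
  have : ringKrullDim (S ⧸ m) = 0 :=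
    ringKrullDim_eq_zero_of_isField ((Ideal.Quotient.maximal_ideal_iff_isField_quotient m).mp hm)
  rw [this, add_zero]

include k in
theorem localDim_eq_add_trdeg (p : Ideal S) [p.IsPrime] (r : ℕ)
    (hr : Algebra.trdeg k p.ResidueField = r) :
    FlatMor.localDim (PrimeSpectrum S) ⟨p, inferInstance⟩ =
      ringKrullDim (Localization.AtPrime p) + (r : WithBot ℕ∞) := by
  rw [Unram17Lib.localDim_spec k]
  congr 1
  show ringKrullDim (S ⧸ p) = _
  rw [DimLib.ringKrullDim_eq_trdeg (k := k) (A := S ⧸ p)]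
  have h1 : Algebra.trdeg k (S ⧸ p) = Algebra.trdeg k p.ResidueField :=
    by
      haveI : Algebra.IsAlgebraic (S ⧸ p) p.ResidueField := IsLocalization.isAlgebraic _ (nonZeroDivisors _)
      have h0 : Algebra.trdeg (S ⧸ p) p.ResidueField = 0 := trdeg_eq_zero
      have := trdeg_add_eq k (S ⧸ p) (A := p.ResidueField)
      rwa [h0, add_zero] at this
  rw [h1, hr, Cardinal.toNat_natCast]

include k in
theorem localDim_eq_iInf (p : Ideal S) [p.IsPrime] :
    FlatMor.localDim (PrimeSpectrum S) ⟨p, inferInstance⟩ =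
      ⨅ m : {m : Ideal S // m.IsMaximal ∧ p ≤ m},
        ringKrullDim (Localization.AtPrime (hp := m.2.1.isPrime') m.1) := by
  apply le_antisymm
  · refine le_iInf fun ⟨m, hm, hpm⟩ ↦ ?_
    haveI := hm
    rw [← localDim_eq_of_isMaximal k S m]
    refine le_iInf fun U ↦ ?_
    have hpU : (⟨p, inferInstance⟩ : PrimeSpectrum S) ∈ U.1 :=
      (((PrimeSpectrum.le_iff_specializes ⟨p, inferInstance⟩ ⟨m, hm.isPrime⟩).1 hpm)).mem_open U.1.2 U.2
    exact iInf_le_of_le ⟨U.1, hpU⟩ le_rfl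
  · haveI : Nonempty {U : Opens (PrimeSpectrum S) // (⟨p, inferInstance⟩ : PrimeSpectrum S) ∈ U} :=
      ⟨⟨⊤, trivial⟩⟩
    obtain ⟨⟨U, hpU⟩, hU⟩ := ciInf_mem fun U : {U : Opens (PrimeSpectrum S) //
      (⟨p, inferInstance⟩ : PrimeSpectrum S) ∈ U} ↦ topologicalKrullDim (U.1 : Set (PrimeSpectrum S))
    haveI : IsJacobsonRing S := isJacobsonRing_of_finiteType (A := k)
    obtain ⟨_, ⟨g, rfl⟩, hg, hgU⟩ := PrimeSpectrum.isTopologicalBasis_basic_opens.exists_subset_of_mem_open
      hpU U.2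
    have hgp : g ∉ p := hg
    have : g ∉ p.jacobson := by
      rwa [IsJacobsonRing.out inferInstance (Ideal.IsPrime.isRadical ‹p.IsPrime›)]
    obtain ⟨m, ⟨hpm, hm⟩, hgm⟩ : ∃ m, (p ≤ m ∧ m.IsMaximal) ∧ g ∉ m := by
      simpa [Ideal.jacobson, Submodule.mem_sInf, and_assoc] using this
    haveI := hm
    refine iInf_le_of_le ⟨m, hm, hpm⟩ ?_
    rw [← localDim_eq_of_isMaximal k S m]
    refine iInf_le_of_le ⟨U, hgU hgm⟩ ?_
    exact hU.le

end Groth.Agent.CAlgSmall
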