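import Mathlib

/-! The multiplicity of a parameter ideal is at most the colength. -/

set_option autoImplicit false

universe u

open Filter

namespace Groth.Agent.CAlgSmall.MultBound

variable {R : Type u} [CommRing R]

theorem length_quotient_le_add (I J : Ideal R) (g : R) (h : ∀ x ∈ I, g * x ∈ J) :
    Module.length R (R ⧸ J) ≤ Module.length R (R ⧸ I) + Module.length R (R ⧸ (J ⊔ Ideal.span {g})) := by
  let φ : (R ⧸ I) →ₗ[R] (R ⧸ J) := Submodule.liftQ I ((Submodule.mkQ J).comp (LinearMap.mulLeft R g))
    (fun x hx ↦ (Submodule.Quotient.mk_eq_zero J).mpr (h x hx))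
  have hex : Function.Exact (LinearMap.range φ).subtype
      (Submodule.factor (le_sup_left : J ≤ J ⊔ Ideal.span {g})) := by
    intro y
    obtain ⟨y, rfl⟩ := Submodule.Quotient.mk_surjective _ y
    simp only [Submodule.factor, Submodule.mapQ_apply, LinearMap.id_coe, id_eq, Submodule.Quotient.mk_eq_zero,
      Submodule.range_subtype, Set.mem_range]
    constructor
    · intro hy
      obtain ⟨a, ha, b, hb, rfl⟩ := Submodule.mem_sup.mp hy
      obtain ⟨c, rfl⟩ := Ideal.mem_span_singleton'.mp hb
      refine ⟨⟨_, Submodule.Quotient.mk c, rfl⟩, ?_⟩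
      show Submodule.Quotient.mk (g * c) = Submodule.Quotient.mk (a + c * g)
      rw [Submodule.Quotient.eq, show g * c - (a + c * g) = -a by ring]
      exact J.neg_mem ha
    · rintro ⟨⟨_, z, rfl⟩, hz⟩
      obtain ⟨c, rfl⟩ := Submodule.Quotient.mk_surjective _ z
      change Submodule.Quotient.mk (g * c) = Submodule.Quotient.mk y at hz
      rw [Submodule.Quotient.eq] at hz
      rw [show y = g * c - (g * c - y) by ring]
      exact Submodule.sub_mem _ (Ideal.mem_sup_right (Ideal.mem_span_singleton'.mpr ⟨c, mul_comm c g⟩))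
        (Ideal.mem_sup_left hz)
  rw [Module.length_eq_add_of_exact _ _ (Submodule.injective_subtype _) (Submodule.factor_surjective _) hex]
  gcongr
  exact Module.length_le_of_surjective φ.rangeRestrict φ.surjective_rangeRestrict

theorem length_le_choose : ∀ (d n : ℕ) (g : Fin d → R) (J : Ideal R),
    Module.length R (R ⧸ (J ⊔ Ideal.span (Set.range g) ^ n)) ≤
      ((n + d).choose d : ℕ) * Module.length R (R ⧸ (J ⊔ Ideal.span (Set.range g))) := by
  intro d
  induction d with
  | zero =>
    intro n g J
    rw [Nat.choose_zero_right, Nat.cast_one, one_mul, Set.range_eq_empty, Ideal.span_empty]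
    rcases n with _ | n
    · exact Module.length_le_of_surjective (Submodule.factor (by simp)) (Submodule.factor_surjective _)
    · rw [Ideal.bot_pow (Nat.succ_ne_zero n)]
  | succ d ih =>
    intro n
    induction n with
    | zero =>
      intro g J
      rw [pow_zero, Ideal.one_eq_top, sup_top_eq, Module.length_eq_zero]
      exact zero_le
    | succ n ihn =>
      intro g J
      let I' := Ideal.span (Set.range (Fin.tail g))
      have hle : I' ≤ Ideal.span (Set.range g) := Ideal.span_mono (Set.range_comp_subset_range Fin.succ g)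
      have hg : g 0 ∈ Ideal.span (Set.range g) := Ideal.subset_span ⟨0, rfl⟩
      have h1 := length_quotient_le_add (J ⊔ Ideal.span (Set.range g) ^ n) (J ⊔ Ideal.span (Set.range g) ^ (n + 1))
        (g 0) (fun x hx ↦ by
          obtain ⟨a, ha, b, hb, rfl⟩ := Submodule.mem_sup.mp hx
          rw [mul_add]
          exact Submodule.add_mem_sup (J.mul_mem_left _ ha) (by rw [pow_succ']; exact Ideal.mul_mem_mul hg hb))
      have h2 : Module.length R (R ⧸ ((J ⊔ Ideal.span (Set.range g) ^ (n + 1)) ⊔ Ideal.span {g 0})) ≤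
          Module.length R (R ⧸ ((J ⊔ Ideal.span {g 0}) ⊔ I' ^ (n + 1))) := by
        refine Module.length_le_of_surjective (Submodule.factor ?_) (Submodule.factor_surjective _)
        exact sup_le (sup_le (le_sup_left.trans le_sup_left) le_sup_right)
          ((Ideal.pow_right_mono hle _).trans (le_sup_right.trans le_sup_left))
      have h3 : (J ⊔ Ideal.span {g 0}) ⊔ I' = J ⊔ Ideal.span (Set.range g) := by
        rw [sup_assoc, ← Ideal.span_union, Set.singleton_union, ← Fin.range_cons, Fin.cons_self_tail]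
      have h4 := ih (n + 1) (Fin.tail g) (J ⊔ Ideal.span {g 0})
      rw [h3] at h4
      refine h1.trans ((add_le_add (ihn g J) (h2.trans h4)).trans (le_of_eq ?_))
      rw [← add_mul, ← Nat.cast_add, show n + 1 + (d + 1) = (n + (d + 1)) + 1 by ring,
        Nat.choose_succ_succ' (n + (d + 1)) d, show n + 1 + d = n + (d + 1) by ring, add_comm]

theorem main (d : ℕ) (g : Fin d → R) (e : ℕ)
    (he : Tendsto (fun n : ℕ => (d.factorial : ℝ) *
      ((Module.length R (R ⧸ Ideal.span (Set.range g) ^ n)).toNat : ℝ) / (n : ℝ) ^ d) atTop (nhds (e : ℝ))) :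
    (e : ℕ∞) ≤ Module.length R (R ⧸ Ideal.span (Set.range g)) := by
  by_cases htop : Module.length R (R ⧸ Ideal.span (Set.range g)) = ⊤
  · rw [htop]; exact le_top
  obtain ⟨L, hL⟩ := ENat.ne_top_iff_exists.mp htop
  rw [← hL]
  have hb : ∀ n : ℕ, d.factorial * (Module.length R (R ⧸ Ideal.span (Set.range g) ^ n)).toNat ≤ (n + d) ^ d * L := by
    intro n
    have h := length_le_choose d n g ⊥
    rw [bot_sup_eq, bot_sup_eq, ← hL] at h
    have h2 : (Module.length R (R ⧸ Ideal.span (Set.range g) ^ n)).toNat ≤ (n + d).choose d * L := by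
      have := ENat.toNat_le_toNat h (ENat.coe_ne_top ((n + d).choose d * L) |> fun h ↦ by exact_mod_cast h)
      simpa using this
    calc d.factorial * _ ≤ d.factorial * ((n + d).choose d * L) := Nat.mul_le_mul_left _ h2
      _ = (n + d).descFactorial d * L := by rw [Nat.descFactorial_eq_factorial_mul_choose, mul_assoc]
      _ ≤ (n + d) ^ d * L := Nat.mul_le_mul_right _ (Nat.descFactorial_le_pow _ _)
  have hlim : Tendsto (fun n : ℕ => (L : ℝ) * (1 + (d : ℝ) / (n : ℝ)) ^ d) atTop (nhds (L : ℝ)) := by
    simpa using (((tendsto_const_div_atTop_nhds_zero_nat (d : ℝ)).const_add 1).pow d).const_mul (L : ℝ)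
  have hev : ∀ᶠ n : ℕ in atTop, (d.factorial : ℝ) *
      ((Module.length R (R ⧸ Ideal.span (Set.range g) ^ n)).toNat : ℝ) / (n : ℝ) ^ d ≤
        (L : ℝ) * (1 + (d : ℝ) / (n : ℝ)) ^ d := by
    filter_upwards [Filter.eventually_ge_atTop 1] with n hn
    have hn' : (0 : ℝ) < n := by exact_mod_cast hn
    rw [div_le_iff₀ (pow_pos hn' d), mul_assoc, ← mul_pow, add_mul, one_mul, div_mul_cancel₀ _ hn'.ne']
    calc (d.factorial : ℝ) * ((Module.length R (R ⧸ Ideal.span (Set.range g) ^ n)).toNat : ℝ)
        ≤ (((n + d) ^ d * L : ℕ) : ℝ) := by exact_mod_cast hb n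
      _ = (L : ℝ) * ((n : ℝ) + d) ^ d := by push_cast; ring
  have := le_of_tendsto_of_tendsto he hlim hev
  exact_mod_cast this

end Groth.Agent.CAlgSmall.MultBound
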