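import Groth.Agent.CAlgSmall.NormNagata
import Groth.Agent.CAlgSmall.DVRCriterion
import Mathlib

/-!
# Codimension one points of the normalization outside of the image
-/

set_option autoImplicit false
set_option linter.unusedSectionVars false
set_option backward.isDefEq.respectTransparency.types false
set_option maxHeartbeats 1000000

universe u

open CategoryTheory CategoryTheory.Limits AlgebraicGeometry Opposite TopologicalSpace IsLocalRing

namespace Groth.Agent.CAlgSmall.NormCodimOne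

variable {X Y : Scheme.{u}} (f : Y ⟶ X) [LocallyOfFiniteType f] [QuasiCompact f] [QuasiSeparated f] [IsReduced Y]

/-- Some element outside of `P` is divisible, up to powers, by `t` on the preimage. -/
theorem exists_dvd {R : Type u} [CommRing R] {V : Y.Opens} (hVc : IsCompact (V : Set Y)) (ψ : R →+* Γ(Y, V))
    (P : Ideal R) [hP : P.IsPrime] (t : R)
    (hy : ∀ y ∈ V, ∀ Q : Ideal R, Q.IsPrime → Q ≤ P → (∀ r, r ∈ Q ↔ y ∉ Y.basicOpen (ψ r)) → t ∉ Q) :
    ∃ u, u ∉ P ∧ ψ t ∣ ψ u := by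
  classical
  obtain ⟨s, hs, hVs⟩ := isCompact_iff_finite_and_eq_biUnion_affineOpens.1 hVc
  haveI : Fintype s := hs.fintype
  have hle : ∀ W : s, (W.1 : Y.Opens) ≤ V := fun W => by
    rw [hVs]; exact le_iSup₂_of_le W.1 W.2 le_rfl
  let ρ : ∀ W : s, R →+* Γ(Y, W.1.1) := fun W => (Y.presheaf.map (homOfLE (hle W)).op).hom.comp ψ
  let I : s → Ideal R := fun W => ((Ideal.span {ρ W t}).radical).comap (ρ W)
  have hI : ¬ (Finset.univ : Finset s).inf I ≤ P := fun h => by
    obtain ⟨W, -, hW⟩ := (Ideal.IsPrime.inf_le' (s := Finset.univ) (f := I) hP).1 h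
    obtain ⟨Q, hQ, hQP⟩ := Ideal.exists_minimalPrimes_le hW
    obtain ⟨q, hq, hTq, hqQ⟩ := Ideal.exists_comap_eq_of_mem_minimalPrimes (ρ W) Q hQ
    haveI := hq
    let y := W.1.2.fromSpec ⟨q, hq⟩
    have hyW : y ∈ W.1.1 := W.1.2.range_fromSpec.le ⟨_, rfl⟩
    have hmem : ∀ r, r ∈ Q ↔ y ∉ Y.basicOpen (ψ r) := fun r => by
      have h1 : y ∈ Y.basicOpen (ρ W r) ↔ y ∈ Y.basicOpen (ψ r) := by
        show y ∈ Y.basicOpen ((Y.presheaf.map (homOfLE (hle W)).op) (ψ r)) ↔ _
        rw [Scheme.basicOpen_res]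
        exact ⟨fun h => h.2, fun h => ⟨hyW, h⟩⟩
      have h2 := SetLike.ext_iff.1 (W.1.2.fromSpec_preimage_basicOpen (ρ W r)) ⟨q, hq⟩
      rw [← h1, ← hqQ, Ideal.mem_comap]
      exact not_not.symm.trans (not_congr h2.symm)
    refine hy y (hle W hyW) Q hQ.isPrime hQP hmem ?_
    rw [← hqQ]
    exact hTq (Ideal.le_radical (Ideal.mem_span_singleton_self _))
  obtain ⟨u0, hu0, hu0P⟩ := SetLike.not_le_iff_exists.1 hI
  rw [Submodule.mem_finsetInf] at hu0
  have hpow : ∀ W : s, ∃ n, ρ W t ∣ ρ W u0 ^ n := fun W => by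
    obtain ⟨n, hn⟩ := hu0 W (Finset.mem_univ W)
    exact ⟨n, Ideal.mem_span_singleton.1 hn⟩
  choose n hn using hpow
  let w := u0 ^ (Finset.univ.sup n)
  have hw : ∀ W : s, ∃ c, ρ W w = ρ W t * c := fun W => by
    obtain ⟨c, hc⟩ := (hn W).trans (pow_dvd_pow _ (Finset.le_sup (Finset.mem_univ W)))
    exact ⟨c, by rw [← hc, ← map_pow]⟩
  choose c hc using hw
  refine ⟨w * w, fun h => hu0P (hP.mem_of_pow_mem _ ((hP.mem_or_mem h).elim id id)), ?_⟩
  obtain ⟨e, he, -⟩ := TopCat.Sheaf.existsUnique_gluing' Y.sheaf (fun W : s => (W.1.1 : Y.Opens)) V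
    (fun W => homOfLE (hle W)) (by rw [hVs]; exact iSup₂_le fun i hi => le_iSup (fun W : s => (W.1.1 : Y.Opens)) ⟨i, hi⟩)
    (fun W => c W * ρ W w) fun W W' => by
      let ra := (Y.presheaf.map (homOfLE (inf_le_left : W.1.1 ⊓ W'.1.1 ≤ W.1.1)).op).hom
      let rb := (Y.presheaf.map (homOfLE (inf_le_right : W.1.1 ⊓ W'.1.1 ≤ W'.1.1)).op).hom
      show ra (c W * ρ W w) = rb (c W' * ρ W' w)
      have hab : ∀ r, ra (ρ W r) = rb (ρ W' r) := fun r => by
        show (Y.presheaf.map _ ≫ Y.presheaf.map _).hom (ψ r) = (Y.presheaf.map _ ≫ Y.presheaf.map _).hom (ψ r)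
        rw [← Functor.map_comp, ← Functor.map_comp]
        rfl
      rw [map_mul, map_mul]
      have h1 : ra (ρ W w) = ra (ρ W t) * ra (c W) := by rw [hc, map_mul]
      have h2 : rb (ρ W' w) = rb (ρ W' t) * rb (c W') := by rw [hc, map_mul]
      calc ra (c W) * ra (ρ W w) = ra (c W) * rb (ρ W' w) := by rw [hab]
        _ = ra (ρ W t) * ra (c W) * rb (c W') := by rw [h2, ← hab t]; ring
        _ = rb (c W') * rb (ρ W' w) := by rw [← h1, hab w, mul_comm]
  change Γ(Y, V) at e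
  refine ⟨e, TopCat.Sheaf.eq_of_locally_eq' Y.sheaf (fun W : s => (W.1.1 : Y.Opens)) V (fun W => homOfLE (hle W))
    (by rw [hVs]; exact iSup₂_le fun i hi => le_iSup (fun W : s => (W.1.1 : Y.Opens)) ⟨i, hi⟩) _ _ fun W => ?_⟩
  show (Y.presheaf.map (homOfLE (hle W)).op).hom (ψ (w * w)) = (Y.presheaf.map (homOfLE (hle W)).op).hom (ψ t * (e : Γ(Y, V)))
  rw [map_mul _ (ψ t)]
  show ρ W (w * w) = ρ W t * (Y.presheaf.map (homOfLE (hle W)).op).hom e
  rw [show (Y.presheaf.map (homOfLE (hle W)).op).hom e = c W * ρ W w from he W, map_mul, ← mul_assoc, ← hc]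

theorem main (hX : ∀ U : X.affineOpens, CAlg.IsNagata Γ(X, U))
    (x' : ↥f.normalization) (hdim : ringKrullDim (f.normalization.presheaf.stalk x') = 1)
    (hx' : x' ∉ Set.range f.toNormalization.base) :
    ∃ _ : IsDomain (f.normalization.presheaf.stalk x'),
      IsDiscreteValuationRing (f.normalization.presheaf.stalk x') := by
  classical
  obtain ⟨U, hU, hxU, -⟩ := exists_isAffineOpen_mem_and_subset (x := f.fromNormalization x') (U := ⊤) trivial
  let V := f ⁻¹ᵁ U
  letI : Algebra Γ(X, U) Γ(Y, V) := (f.app U).hom.toAlgebra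
  let R := integralClosure Γ(X, U) Γ(Y, V)
  haveI : Module.Finite Γ(X, U) R := NormNagata.finite_ic_sections f U hU (hX ⟨U, hU⟩)
  haveI : IsNoetherianRing Γ(X, U) := (hX ⟨U, hU⟩).1
  haveI : IsNoetherianRing R := IsNoetherianRing.of_finite Γ(X, U) R
  haveI : _root_.IsReduced R := isReduced_of_injective R.val Subtype.val_injective
  let ch : Spec (CommRingCat.of R) ⟶ f.normalization := f.normalizationOpenCover.f ⟨U, hU⟩
  haveI : IsOpenImmersion ch := f.normalizationOpenCover.map_prop ⟨U, hU⟩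
  obtain ⟨P, rfl⟩ : x' ∈ Set.range ch :=
    (SetLike.ext_iff.1 (f.fromNormalization_preimage ⟨U, hU⟩) x').1 hxU
  letI k : Algebra R ((Spec (CommRingCat.of R)).presheaf.stalk P) := StructureSheaf.stalkAlgebra R P
  haveI : IsLocalization.AtPrime ((Spec (CommRingCat.of R)).presheaf.stalk P) P.asIdeal :=
    StructureSheaf.IsLocalization.to_stalk R P
  let S := (Spec (CommRingCat.of R)).presheaf.stalk P
  let e := (asIso (ch.stalkMap P)).commRingCatIsoToRingEquiv
  have hht : P.asIdeal.height = 1 := by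
    have h1 := (IsLocalization.AtPrime.ringKrullDim_eq_height P.asIdeal S).symm.trans
      ((ringKrullDim_eq_of_ringEquiv e).symm.trans hdim)
    exact_mod_cast h1
  have hmin : ∀ Q : Ideal R, Q.IsPrime → Q ≤ P.asIdeal → Q ≠ P.asIdeal → Q ∈ minimalPrimes R := fun Q hQ hle hne => by
    have h1 : Q.height < 1 := hht ▸ Ideal.height_strict_mono_of_isPrime (lt_of_le_of_ne hle hne)
    exact Ideal.height_eq_zero_iff.1 (Order.lt_one_iff.1 h1)
  have hPmin : P.asIdeal ∉ minimalPrimes R := fun h => by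
    have := Ideal.height_eq_zero_iff.2 h
    rw [hht] at this
    exact one_ne_zero this
  obtain ⟨t, htP, htQ⟩ : ∃ t ∈ P.asIdeal, ∀ Q ∈ minimalPrimes R, t ∉ Q := by
    by_contra h
    push Not at h
    have hfin : (minimalPrimes R).Finite := Ideal.finite_minimalPrimes_of_isNoetherianRing R ⊥
    have hsub : (P.asIdeal : Set R) ⊆ ⋃ Q ∈ (↑hfin.toFinset : Set (Ideal R)), (Q : Set R) := fun t ht => by
      obtain ⟨Q, hQ, htQ⟩ := h t ht
      exact Set.mem_biUnion (hfin.mem_toFinset.2 hQ) htQ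
    obtain ⟨Q, hQ, hle⟩ := (Ideal.subset_union_prime (s := hfin.toFinset) (f := id) ⊥ ⊥
      (fun Q hQ _ _ => (hfin.mem_toFinset.1 hQ).isPrime)).1 hsub
    have hQ' := hfin.mem_toFinset.1 hQ
    exact hPmin ((le_antisymm (hQ'.2 ⟨P.isPrime, bot_le⟩ hle) hle : id Q = P.asIdeal) ▸ hQ')
  have himg : ∀ y ∈ V, ∀ Q : Ideal R, Q.IsPrime → Q ≤ P.asIdeal →
      (∀ r : R, r ∈ Q ↔ y ∉ Y.basicOpen r.1) → t ∉ Q := fun y hy Q hQ hQP hQy htQ' => by
    have hQeq : Q = P.asIdeal := of_not_not fun hne => htQ Q (hmin Q hQ hQP hne) htQ'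
    let z : (f ⁻¹ᵁ U).toScheme := ⟨y, hy⟩
    have h1 : PrimeSpectrum.comap R.val.toRingHom ((f ⁻¹ᵁ U).toSpecΓ z) = P := PrimeSpectrum.ext (Ideal.ext fun r => by
      rw [← hQeq, hQy]
      exact not_not.symm.trans (not_congr (SetLike.ext_iff.1 ((f ⁻¹ᵁ U).toSpecΓ_preimage_basicOpen r.1) z)))
    refine hx' ⟨y, ?_⟩
    rw [← h1]
    exact ConcreteCategory.congr_hom (congrArg (fun k => k.base) (f.ι_toNormalization ⟨U, hU⟩)) z
  obtain ⟨u, huP, hud⟩ := exists_dvd (R := R) (f.isCompact_preimage hU.isCompact) R.val.toRingHom P.asIdeal t himg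
  have htm : algebraMap R S t ∈ maximalIdeal S := (IsLocalization.AtPrime.to_map_mem_maximal_iff S P.asIdeal t).2 htP
  have htnzd : ∀ z : S, algebraMap R S t * z = 0 → z = 0 := fun z hz => by
    obtain ⟨r, s, rfl⟩ := IsLocalization.exists_mk'_eq P.asIdeal.primeCompl z
    rw [IsLocalization.mul_mk'_eq_mk'_of_mul, IsLocalization.mk'_eq_zero_iff] at hz
    obtain ⟨⟨v, hv⟩, hvz⟩ := hz
    rw [IsLocalization.mk'_eq_zero_iff]
    refine ⟨⟨v, hv⟩, ?_⟩
    apply IsReduced.eq_zero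
    rw [← mem_nilradical, nilradical_eq_sInf, Ideal.mem_sInf]
    intro Q hQ
    haveI : Q.IsPrime := hQ
    obtain ⟨Q0, hQ0, hle⟩ := Ideal.exists_minimalPrimes_le (I := ⊥) (J := Q) bot_le
    have h0 : t * (v * r) ∈ Q0 := by rw [show t * (v * r) = v * (t * r) by ring, hvz]; exact zero_mem _
    exact hle ((hQ0.isPrime.mem_or_mem h0).resolve_left (htQ Q0 hQ0))
  have honly : ∀ Q : Ideal S, Q.IsPrime → algebraMap R S t ∈ Q → Q = maximalIdeal S := fun Q hQ ht => by
    have hle : Q.comap (algebraMap R S) ≤ P.asIdeal := fun r hr =>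
      (IsLocalization.AtPrime.to_map_mem_maximal_iff S P.asIdeal r).1 (le_maximalIdeal hQ.ne_top hr)
    by_contra hne
    refine htQ _ (hmin _ inferInstance hle fun h => hne ?_) ht
    exact ((IsLocalization.map_comap P.asIdeal.primeCompl S Q).symm.trans
      (congrArg (Ideal.map (algebraMap R S)) h)).trans (IsLocalization.AtPrime.map_eq_maximalIdeal P.asIdeal S)
  haveI : IsNoetherianRing S := IsLocalization.isNoetherianRing P.asIdeal.primeCompl S inferInstance
  obtain ⟨h1, h2⟩ := DVRCriterion.isDVR_of_integrallyClosed_at (algebraMap R S t) htm htnzd honly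
    fun a p hp he => DVRCriterion.dvd_of_localization (R := R) (B := Γ(Y, V)) Subtype.val_injective
      (fun b hb => ⟨⟨b, isIntegral_trans (R := Γ(X, U)) b hb⟩, rfl⟩) P.asIdeal t u huP hud a p hp he
  haveI : IsDomain (f.normalization.presheaf.stalk (ch P)) := e.toMulEquiv.isDomain _
  exact ⟨inferInstance, IsDiscreteValuationRing.RingEquivClass.isDiscreteValuationRing e.symm⟩

end Groth.Agent.CAlgSmall.NormCodimOne
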