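import Groth.Agent.NormalizationLib.Basic
import Mathlib

/-!
# Integral closure in a ring embedded in a finite product of fields
-/

set_option autoImplicit false
set_option linter.unusedSectionVars false
set_option maxHeartbeats 1000000

universe u v

namespace Groth.Agent.CAlgSmall.NormFamily

variable {A B : Type u} [CommRing A] [CommRing B] [Algebra A B] {ι : Type v} [Finite ι]
  (K : ι → Type u) [∀ i, Field (K i)] (g : ∀ i, B →+* K i)

/-- The data: jointly injective maps to fields along which integral elements lift separately. -/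
structure Fam : Prop where
  inj : ∀ b : B, (∀ i, g i b = 0) → b = 0
  lift : ∀ (i : ι) (x : K i), ((g i).comp (algebraMap A B)).IsIntegralElem x →
    ∃ b : B, IsIntegral A b ∧ g i b = x ∧ ∀ j, j ≠ i → g j b = 0

variable {K g}

/-- The minimal prime of a factor. -/
def ker (i : ι) : Ideal (integralClosure A B) := RingHom.ker ((g i).comp (integralClosure A B).val.toRingHom)

theorem mem_ker {i : ι} {r : integralClosure A B} : r ∈ ker (g := g) i ↔ g i r.1 = 0 := Iff.rfl

instance isPrime_ker (i : ι) : (ker (A := A) (g := g) i).IsPrime := RingHom.ker_isPrime _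

variable (h : Fam (A := A) K g)
include h

theorem exists_idem (i : ι) : ∃ e : integralClosure A B, g i e.1 = 1 ∧ ∀ j, j ≠ i → g j e.1 = 0 := by
  obtain ⟨b, hb, h1, h2⟩ := h.lift i 1 (RingHom.isIntegralElem_one _)
  exact ⟨⟨b, hb⟩, h1, h2⟩

theorem exists_ker_le (P : Ideal (integralClosure A B)) [P.IsPrime] : ∃ i, ker (g := g) i ≤ P := by
  classical
  have : Fintype ι := Fintype.ofFinite ι
  have hle : (Finset.univ : Finset ι).inf (ker (A := A) (g := g)) ≤ P := by
    intro r hr
    rw [Submodule.mem_finsetInf] at hr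
    have : r = 0 := Subtype.ext (h.inj r.1 fun i => hr i (Finset.mem_univ i))
    rw [this]
    exact zero_mem _
  obtain ⟨i, -, hi⟩ := (Ideal.IsPrime.inf_le' (s := Finset.univ) (f := ker (A := A) (g := g)) ‹P.IsPrime›).1 hle
  exact ⟨i, hi⟩

theorem ker_le_unique (P : Ideal (integralClosure A B)) [hP : P.IsPrime] {i j : ι} (hi : ker (g := g) i ≤ P)
    (hj : ker (g := g) j ≤ P) : i = j := by
  by_contra hne
  obtain ⟨e, he1, he0⟩ := exists_idem h i
  have h1 : e ∈ P := hj (mem_ker.2 (he0 j (Ne.symm hne)))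
  have h2 : 1 - e ∈ P := hi (mem_ker.2 (by show g i (1 - e.1) = 0; rw [map_sub, map_one, he1, sub_self]))
  exact hP.ne_top ((Ideal.eq_top_iff_one _).2 (by simpa using add_mem h2 h1))

theorem isMinimal_iff (P : PrimeSpectrum (integralClosure A B)) :
    IsMin P ↔ ∃ i, P.asIdeal = ker (g := g) i := by
  constructor
  · intro hP
    obtain ⟨i, hi⟩ := exists_ker_le h P.asIdeal
    exact ⟨i, le_antisymm (hP (b := ⟨_, isPrime_ker i⟩) hi) hi⟩
  · rintro ⟨i, hi⟩ Q hQ
    obtain ⟨j, hj⟩ := exists_ker_le h Q.asIdeal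
    have := ker_le_unique h P.asIdeal (hj.trans hQ) hi.ge
    subst this
    exact hi.le.trans hj

/-- Localisations at primes are normal domains. -/
theorem isNormal_localization (P : Ideal (integralClosure A B)) [P.IsPrime] (S : Type u) [CommRing S]
    [Algebra (integralClosure A B) S] [IsLocalization.AtPrime S P] : IsDomain S ∧ IsIntegrallyClosed S := by
  obtain ⟨i, hi⟩ := exists_ker_le h P
  obtain ⟨e, he1, he0⟩ := exists_idem h i
  letI : Algebra A (K i) := ((g i).comp (algebraMap A B)).toAlgebra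
  let R := integralClosure A B
  let C := integralClosure A (K i)
  let gA : B →ₐ[A] K i := { g i with commutes' := fun a => rfl }
  let φ : R →+* C := ((gA.comp R.val).codRestrict C fun r => r.2.map gA).toRingHom
  have hφ : ∀ r : R, (φ r).1 = g i r.1 := fun r => rfl
  have hsurj : Function.Surjective φ := fun x => by
    obtain ⟨b, hb, h1, -⟩ := h.lift i x.1 x.2
    exact ⟨⟨b, hb⟩, Subtype.ext h1⟩
  have he : e * e = e := by
    refine Subtype.ext (sub_eq_zero.1 (h.inj _ fun j => ?_))
    show g j (e.1 * e.1 - e.1) = 0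
    by_cases hj : j = i
    · subst hj; simp [he1]
    · simp [he0 j hj]
  have hmem : ∀ r : R, φ r = 0 → e * r = 0 := fun r hr => by
    refine Subtype.ext (h.inj _ fun j => ?_)
    show g j (e.1 * r.1) = 0
    rw [map_mul]
    by_cases hj : j = i
    · subst hj; rw [← hφ r, hr]; simp
    · rw [he0 j hj, zero_mul]
  have heP : e ∉ P := fun heP => by
    have h2 : 1 - e ∈ P := hi (mem_ker.2 (by show g i (1 - e.1) = 0; rw [map_sub, map_one, he1, sub_self]))
    exact ‹P.IsPrime›.ne_top ((Ideal.eq_top_iff_one _).2 (by simpa using add_mem h2 heP))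
  have hu : IsUnit (algebraMap R S e) := IsLocalization.map_units S (⟨e, heP⟩ : P.primeCompl)
  have hker : ∀ r : R, φ r = 0 → algebraMap R S r = 0 := fun r hr => by
    have h1 := congrArg (algebraMap R S) (hmem r hr)
    rw [map_mul, map_zero] at h1
    exact hu.mul_right_eq_zero.1 h1
  letI : Algebra C S := (φ.liftOfSurjective hsurj ⟨algebraMap R S, fun r hr => hker r hr⟩).toAlgebra
  have hC : ∀ r : R, algebraMap C S (φ r) = algebraMap R S r := fun r =>
    RingHom.liftOfRightInverse_comp_apply _ _ _ _ r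
  let Pc : Ideal C := P.map φ
  have hPc : ∀ r : R, φ r ∈ Pc ↔ r ∈ P := fun r => by
    refine ⟨fun hr => ?_, fun hr => Ideal.mem_map_of_mem φ hr⟩
    obtain ⟨p, hp, hpr⟩ := (Ideal.mem_map_iff_of_surjective φ hsurj).1 hr
    have h1 : r - p ∈ P := hi (mem_ker.2 (by
      show g i (r.1 - p.1) = 0
      rw [map_sub, ← hφ, ← hφ, hpr, sub_self]))
    simpa using add_mem h1 hp
  have hPcp : Pc.IsPrime := Ideal.map_isPrime_of_surjective hsurj (fun r hr => hi (mem_ker.2 (by
    show g i r.1 = 0
    rw [← hφ, (RingHom.mem_ker).1 hr]; rfl)))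
  have : IsLocalization Pc.primeCompl S :=
    { map_units := fun c => by
        obtain ⟨r, hr⟩ := hsurj c.1
        have hrP : r ∉ P := fun h' => c.2 (hr ▸ (hPc r).2 h')
        rw [← hr, hC]
        exact IsLocalization.map_units S (⟨r, hrP⟩ : P.primeCompl)
      surj := fun z => by
        obtain ⟨⟨a, s⟩, hz⟩ := IsLocalization.surj P.primeCompl z
        exact ⟨⟨φ a, ⟨φ s.1, fun h' => s.2 ((hPc s.1).1 h')⟩⟩, by rw [hC, hC]; exact hz⟩
      exists_of_eq := fun {x y} hxy => by
        obtain ⟨a, rfl⟩ := hsurj x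
        obtain ⟨b, rfl⟩ := hsurj y
        rw [hC, hC] at hxy
        obtain ⟨s, hs⟩ := IsLocalization.exists_of_eq (M := P.primeCompl) hxy
        exact ⟨⟨φ s.1, fun h' => s.2 ((hPc s.1).1 h')⟩, by show φ s.1 * φ a = φ s.1 * φ b; rw [← map_mul, hs, map_mul]⟩ }
  have hle := Ideal.primeCompl_le_nonZeroDivisors Pc
  have hcl := NormalizationLib.isIntegrallyClosed_integralClosure A (K i)
  exact ⟨IsLocalization.isDomain_of_le_nonZeroDivisors S hle, isIntegrallyClosed_of_isLocalization S Pc.primeCompl hle⟩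

end Groth.Agent.CAlgSmall.NormFamily
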