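import Mathlib
import Groth.Agent.VarietyLib.NormStalk
import Groth.Agent.VarietyLib.NormRedLocal
import Groth.Agent.UnivHomeo.Scheme
import Groth.Prelude.Def_CAlg2

/-! Normalization of a geometrically unibranch integral scheme. -/

set_option autoImplicit false
set_option backward.isDefEq.respectTransparency.types false

universe u

namespace Groth.Agent.CAlgSmall.NormUH

open CategoryTheory CategoryTheory.Limits AlgebraicGeometry
open Groth.Agent.VarietyLib

variable (X : Scheme.{u}) [AlgebraicGeometry.IsIntegral X]
  [QuasiCompact (X.fromSpecStalk (genericPoint X))] [QuasiSeparated (X.fromSpecStalk (genericPoint X))]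

theorem rho_theta (x' : Curv2.normalization X) (o : X.presheaf.stalk (Curv2.normalizationι X x')) :
    NormStalk.theta (Curv2.normalizationι X x') x' rfl (algebraMap _ (NormStalk.clo X _) o) =
      ((Curv2.normalizationι X).residueFieldMap x').hom (IsLocalRing.residue _ o) := by
  have h2 := ConcreteCategory.congr_hom (Scheme.residue_residueFieldMap (Curv2.normalizationι X) x') o
  refine Eq.trans ?_ h2.symm
  show (Curv2.normalization X).residue x' (NormStalk.lam _ x' rfl _) = _
  refine congrArg ((Curv2.normalization X).residue x') ?_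
  obtain ⟨W, hW, a, rfl⟩ := X.presheaf.exists_germ_eq o
  refine (NormStalk.lam_algebraMap _ x' rfl hW hW a).trans ?_
  exact (Scheme.Hom.germ_stalkMap_apply (Curv2.normalizationι X) W x' hW a).symm

theorem universallyInjective (hX : ∀ x : X, CAlg2.IsGeomUnibranch (X.presheaf.stalk x)) :
    UniversallyInjective (Curv2.normalizationι X) := by
  refine ((tfae_universallyInjective (f := Curv2.normalizationι X)).out 0 2 rfl rfl).mpr ⟨?_, fun x' ↦ ?_⟩
  · intro p q hpq
    obtain ⟨⟨-, hloc⟩, -⟩ := hX (Curv2.normalizationι X q)
    let e := normRedEquiv (X.presheaf.stalk (Curv2.normalizationι X q)) X.functionField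
    have : IsLocalRing (NormStalk.clo X (Curv2.normalizationι X q)) :=
      (show CAlg2.normRed _ ≃+* NormStalk.clo X _ from e).isLocalRing
    have h := (NormStalk.fibreToMax_bijective (Curv2.normalizationι X q)).1
      (a₁ := ⟨p, hpq⟩) (a₂ := ⟨q, rfl⟩)
      (MaximalSpectrum.ext ((IsLocalRing.eq_maximalIdeal (MaximalSpectrum.isMaximal _)).trans
        (IsLocalRing.eq_maximalIdeal (MaximalSpectrum.isMaximal _)).symm))
    exact congrArg Subtype.val h
  · obtain ⟨-, hpow⟩ := hX (Curv2.normalizationι X x')
    let ρ := ((Curv2.normalizationι X).residueFieldMap x').hom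
    let F := X.residueField (Curv2.normalizationι X x')
    let E := (Curv2.normalization X).residueField x'
    let e := normRedEquiv (X.presheaf.stalk (Curv2.normalizationι X x')) X.functionField
    let Θ : CAlg2.normRed (X.presheaf.stalk (Curv2.normalizationι X x')) →+* E :=
      (NormStalk.theta (Curv2.normalizationι X x') x' rfl).comp e.toRingHom
    have hs : Function.Surjective Θ := (NormStalk.theta_surjective _ x' rfl).comp e.surjective
    let := ρ.toAlgebra
    obtain ⟨q, hq⟩ := ExpChar.exists F
    have hE : ExpChar E q := expChar_of_injective_ringHom ρ.injective q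
    show IsPurelyInseparable F E
    rw [isPurelyInseparable_iff_pow_mem F q]
    intro r
    obtain ⟨c, rfl⟩ := hs r
    have hm : (RingHom.ker Θ).IsMaximal := RingHom.ker_isMaximal_of_surjective Θ hs
    let ε := RingHom.quotientKerEquivOfSurjective hs
    have : ExpChar (CAlg2.normRed (X.presheaf.stalk (Curv2.normalizationι X x')) ⧸ RingHom.ker Θ) q :=
      expChar_of_injective_ringHom (f := ε.symm.toRingHom) ε.symm.injective q
    obtain ⟨n, o, ho⟩ := hpow (RingHom.ker Θ) (Ideal.Quotient.mk _ c)
    rw [ringExpChar.eq _ q] at ho
    refine ⟨n, IsLocalRing.residue _ o, ?_⟩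
    have h := congrArg ε ho
    rw [map_pow] at h
    refine ((rho_theta X x' o).symm.trans ?_).trans h
    show _ = Θ _
    show _ = NormStalk.theta _ x' rfl (e _)
    exact congrArg _ (normRedEquiv_mk _ _ o).symm

theorem isUnivHomeo (hX : ∀ x : X, CAlg2.IsGeomUnibranch (X.presheaf.stalk x))
    (hs : Surjective (Curv2.normalizationι X)) : FlatMor.IsUnivHomeo (Curv2.normalizationι X) :=
  have := universallyInjective X hX
  UnivHomeo.isUnivHomeo_of_integral_univInjective_surjective _

end Groth.Agent.CAlgSmall.NormUH
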