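import Mathlib
import Groth.Agent.NormalizationLib.Basic
import Groth.Prelude.Def_Curv2

/-! Universal property of the normalization of an integral scheme. -/

set_option autoImplicit false
set_option backward.isDefEq.respectTransparency.types false

universe u

namespace Groth.Agent.CAlgSmall.NormalFactor

open CategoryTheory CategoryTheory.Limits AlgebraicGeometry Polynomial

variable {X : Scheme.{u}} [AlgebraicGeometry.IsIntegral X]

/-- Stalks of the source are normal domains and every point generizes to one over the generic point. -/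
def Good {Z : Scheme.{u}} (g : Z ⟶ X) : Prop :=
  ∀ z : Z, (IsDomain (Z.presheaf.stalk z) ∧ IsIntegrallyClosed (Z.presheaf.stalk z)) ∧
    ∃ ζ : Z, ζ ⤳ z ∧ g ζ = genericPoint X

theorem Good.comp {Z Z' : Scheme.{u}} {g : Z ⟶ X} (hg : Good g) (j : Z' ⟶ Z) [IsOpenImmersion j] :
    Good (j ≫ g) := by
  intro z
  obtain ⟨⟨hd, hi⟩, ζ, hs, hη⟩ := hg (j z)
  let e : Z.presheaf.stalk (j z) ≃+* Z'.presheaf.stalk z := (asIso (j.stalkMap z)).commRingCatIsoToRingEquiv
  refine ⟨⟨e.toMulEquiv.isDomain_iff.mp hd, IsIntegrallyClosed.of_equiv e⟩, ?_⟩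
  obtain ⟨ζ', rfl⟩ := hs.mem_open j.isOpenEmbedding.isOpen_range ⟨z, rfl⟩
  exact ⟨ζ', j.isOpenEmbedding.isInducing.specializes_iff.mp hs, hη⟩

variable {Z : Scheme.{u}} {g : Z ⟶ X}

theorem germ_ne_zero (hg : Good g) {U : X.Opens} {W : Z.Opens} (e : W ≤ g ⁻¹ᵁ U) {b : Γ(X, U)}
    (hb : b ≠ 0) {z : Z} (hz : z ∈ W) :
    Z.presheaf.germ W z hz ((g.appLE U W e).hom b) ≠ 0 := by
  intro h0
  obtain ⟨⟨-, -⟩, ζ, hs, hη⟩ := hg z
  have hζ : ζ ∈ W := hs.mem_open W.isOpen hz
  have := (hg ζ).1.1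
  have key : ∀ (w : X) (hw : w ∈ U), w = genericPoint X → IsUnit (X.presheaf.germ U w hw b) := by
    rintro w hw rfl
    have h : X.presheaf.germ U (genericPoint X) hw b ≠ 0 := fun h ↦
      hb (germ_injective_of_isIntegral X (genericPoint X) hw (h.trans (map_zero _).symm))
    exact (show (X.presheaf.germ U (genericPoint X) hw b : X.functionField) ≠ 0 from h).isUnit
  have h1 : Z.presheaf.germ W ζ hζ ((g.appLE U W e).hom b) =
      g.stalkMap ζ (X.presheaf.germ U (g ζ) (e hζ) b) := by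
    rw [Scheme.Hom.germ_stalkMap_apply]
    simp only [Scheme.Hom.appLE, CommRingCat.hom_comp, RingHom.comp_apply]
    exact Z.presheaf.germ_res_apply _ _ _ _
  have h2 : Z.presheaf.germ W ζ hζ ((g.appLE U W e).hom b) = 0 := by
    rw [← TopCat.Presheaf.germ_stalkSpecializes_apply (F := Z.presheaf) hz hs, h0, map_zero]
  exact ((key _ (e hζ) hη).map (g.stalkMap ζ).hom).ne_zero (h1.symm.trans h2)

theorem regular (hg : Good g) {U : X.Opens} {W : Z.Opens} (e : W ≤ g ⁻¹ᵁ U) {b : Γ(X, U)}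
    (hb : b ≠ 0) {c : Γ(Z, W)} (hc : c * (g.appLE U W e).hom b = 0) : c = 0 := by
  refine TopCat.Presheaf.section_ext Z.sheaf W c 0 fun z hz ↦ ?_
  have := (hg z).1.1
  have h := congrArg (Z.presheaf.germ W z hz) hc
  rw [map_mul, map_zero] at h
  exact ((mul_eq_zero.mp h).resolve_right (germ_ne_zero hg e hb hz)).trans (map_zero _).symm

theorem dvd (hg : Good g) {U : X.Opens} {W : Z.Opens} (hW : IsAffineOpen W) (e : W ≤ g ⁻¹ᵁ U)
    {a b : Γ(X, U)} (hb : b ≠ 0) {p : Polynomial Γ(X, U)} (hp : p.Monic)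
    (hpa : (p.scaleRoots b).eval a = 0) :
    ∃ c : Γ(Z, W), c * (g.appLE U W e).hom b = (g.appLE U W e).hom a := by
  let α := (g.appLE U W e).hom
  let J : Ideal Γ(Z, W) :=
    { carrier := {d | α b ∣ d * α a}
      zero_mem' := by simp
      add_mem' := fun {x y} hx hy ↦ by
        show α b ∣ (x + y) * α a
        rw [add_mul]; exact dvd_add hx hy
      smul_mem' := fun r x hx ↦ by
        show α b ∣ r • x * α a
        rw [smul_eq_mul, mul_assoc]; exact hx.mul_left r }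
  suffices (1 : Γ(Z, W)) ∈ J by
    obtain ⟨c, hc⟩ := this
    rw [one_mul] at hc
    exact ⟨c, by rw [mul_comm]; exact hc.symm⟩
  rw [← Ideal.eq_top_iff_one]
  by_contra hJ
  obtain ⟨M, hM, hJM⟩ := Ideal.exists_le_maximal J hJ
  let P : Spec Γ(Z, W) := ⟨M, hM.isPrime⟩
  let z : Z := hW.fromSpec P
  have hz : z ∈ W := hW.range_fromSpec.le ⟨P, rfl⟩
  have hP : hW.primeIdealOf ⟨z, hz⟩ = P :=
    hW.fromSpec.isOpenEmbedding.injective (hW.fromSpec_primeIdealOf ⟨z, hz⟩)
  obtain ⟨⟨hdom, hic⟩, -⟩ := hg z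
  let := (Z.presheaf.germ W z hz).hom.toAlgebra
  have := hW.isLocalization_stalk ⟨z, hz⟩
  have hPM : (hW.primeIdealOf ⟨z, hz⟩).asIdeal = M := congrArg PrimeSpectrum.asIdeal hP
  let O := Z.presheaf.stalk z
  let F := FractionRing O
  let f : Γ(X, U) →+* F := (algebraMap O F).comp ((Z.presheaf.germ W z hz).hom.comp α)
  have hfb : f b ≠ 0 := (map_ne_zero_iff _ (IsFractionRing.injective O F)).mpr (germ_ne_zero hg e hb hz)
  have hroot : Polynomial.eval₂ f (f a / f b) p = 0 := by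
    have h := Polynomial.scaleRoots_eval₂_mul (p := p) f (f a / f b) b
    rw [mul_div_cancel₀ _ hfb, Polynomial.eval₂_at_apply, hpa, map_zero] at h
    exact (mul_eq_zero.mp h.symm).resolve_left (pow_ne_zero _ hfb)
  have hint : _root_.IsIntegral O (f a / f b) := by
    refine ⟨p.map ((Z.presheaf.germ W z hz).hom.comp α), hp.map _, ?_⟩
    rw [Polynomial.eval₂_map]; exact hroot
  obtain ⟨o, ho⟩ := IsIntegrallyClosed.algebraMap_eq_of_integral hint
  obtain ⟨c', s, rfl⟩ := IsLocalization.exists_mk'_eq (hW.primeIdealOf ⟨z, hz⟩).asIdeal.primeCompl o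
  have ho' : IsLocalization.mk' O c' s * algebraMap Γ(Z, W) O (α b) = algebraMap Γ(Z, W) O (α a) := by
    apply IsFractionRing.injective O F
    rw [map_mul, ho]
    exact div_mul_cancel₀ _ hfb
  have h3 : algebraMap Γ(Z, W) O (c' * α b) = algebraMap Γ(Z, W) O (s * α a) := by
    rw [map_mul, map_mul, ← ho', ← IsLocalization.mk'_spec O c' s]
    ring
  obtain ⟨t, ht⟩ := (IsLocalization.eq_iff_exists (hW.primeIdealOf ⟨z, hz⟩).asIdeal.primeCompl O).mp h3
  have hmem : (t : Γ(Z, W)) * s ∈ J := ⟨t * c', by rw [mul_assoc, ← ht]; ring⟩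
  exact (t * s).2 (hPM.ge (hJM hmem))

variable [QuasiCompact (X.fromSpecStalk (genericPoint X))] [QuasiSeparated (X.fromSpecStalk (genericPoint X))]

local notation "ι" => Curv2.normalizationι X
local notation "N" => Curv2.normalization X

variable (U : X.Opens) (hU : IsAffineOpen U) [Nonempty U]

theorem hgen : X.fromSpecStalk (genericPoint X) =
    Spec.map (CommRingCat.ofHom (RingHom.id X.functionField)) ≫ X.fromSpecStalk (genericPoint X) := by
  simp

/-- Sections of the normalization inside the function field. -/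
noncomputable def nK : Γ(N, ι ⁻¹ᵁ U) →+* X.functionField :=
  (NormalizationLib.normToK (RingHom.id X.functionField) (X.fromSpecStalk (genericPoint X)) hgen U hU).hom

theorem nK_inj : Function.Injective (nK U hU) :=
  NormalizationLib.injective_normToK _ _ hgen U hU

theorem nK_app (a : Γ(X, U)) : nK U hU (((ι).app U).hom a) = X.germToFunctionField U a :=
  NormalizationLib.normToK_fromNormalization _ _ hgen U hU a

theorem exists_frac (y : Γ(N, ι ⁻¹ᵁ U)) : ∃ a b : Γ(X, U), b ≠ 0 ∧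
    nK U hU y * X.germToFunctionField U b = X.germToFunctionField U a := by
  have := functionField_isFractionRing_of_isAffineOpen X U hU
  obtain ⟨a, b, hb, h⟩ := IsFractionRing.div_surjective Γ(X, U) (nK U hU y)
  refine ⟨a, b, nonZeroDivisors.ne_zero hb, ?_⟩
  rw [← h]
  exact div_mul_cancel₀ _ (IsFractionRing.to_map_ne_zero_of_mem_nonZeroDivisors hb)

theorem frac_poly {y : Γ(N, ι ⁻¹ᵁ U)} {a b : Γ(X, U)}
    (h : nK U hU y * X.germToFunctionField U b = X.germToFunctionField U a) :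
    ∃ p : Polynomial Γ(X, U), p.Monic ∧ (p.scaleRoots b).eval a = 0 := by
  obtain ⟨p, hp, hp0⟩ := (NormalizationLib.mem_range_normToK (RingHom.id X.functionField)
    (X.fromSpecStalk (genericPoint X)) hgen U hU (nK U hU y)).mp ⟨y, rfl⟩
  refine ⟨p, hp, germ_injective_of_isIntegral X (genericPoint X) (U := U) ((genericPoint_specializes _).mem_open U.isOpen (Classical.arbitrary U).2) ?_⟩
  rw [map_zero]
  show (X.germToFunctionField U).hom _ = 0
  rw [← Polynomial.eval₂_at_apply, ← h, mul_comm, Polynomial.scaleRoots_eval₂_mul]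
  exact mul_eq_zero_of_right _ hp0

include hU in
theorem existsUnique_lift (hg : Good g) {W : Z.Opens} (hW : IsAffineOpen W) (e : W ≤ g ⁻¹ᵁ U) :
    ∃! φ : Γ(N, ι ⁻¹ᵁ U) →+* Γ(Z, W), φ.comp ((ι).app U).hom = (g.appLE U W e).hom := by
  let α := (g.appLE U W e).hom
  have hex : ∀ y, ∃ c : Γ(Z, W), ∀ a b, b ≠ 0 →
      nK U hU y * X.germToFunctionField U b = X.germToFunctionField U a → c * α b = α a := by
    intro y
    obtain ⟨a₀, b₀, hb₀, h₀⟩ := exists_frac U hU y
    obtain ⟨p, hp, hpa⟩ := frac_poly U hU h₀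
    obtain ⟨c, hc⟩ := dvd hg hW e hb₀ hp hpa
    refine ⟨c, fun a b hb h ↦ sub_eq_zero.mp (regular hg e hb₀ ?_)⟩
    have hab : a * b₀ = a₀ * b := germ_injective_of_isIntegral X (genericPoint X) (U := U) ((genericPoint_specializes _).mem_open U.isOpen (Classical.arbitrary U).2) (by
      show (X.germToFunctionField U).hom (a * b₀) = (X.germToFunctionField U).hom (a₀ * b)
      rw [map_mul, map_mul, ← h, ← h₀]; ring)
    have := congrArg α hab
    rw [map_mul, map_mul] at this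
    linear_combination (α b) * hc - this
  choose c hc using hex
  have heq : ∀ y d a b, b ≠ 0 → nK U hU y * X.germToFunctionField U b = X.germToFunctionField U a →
      d * α b = α a → c y = d := fun y d a b hb h hd ↦
    sub_eq_zero.mp (regular hg e hb (by rw [sub_mul, hc y a b hb h, hd, sub_self]))
  have h1 : ∀ a, c (((ι).app U).hom a) = α a := fun a ↦
    heq _ _ a 1 one_ne_zero (by rw [map_one, mul_one]; exact nK_app U hU a) (by rw [map_one, mul_one])
  let φ : Γ(N, ι ⁻¹ᵁ U) →+* Γ(Z, W) :=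
    { toFun := c
      map_one' := by
        have := h1 1
        rwa [map_one, map_one] at this
      map_zero' := by
        have := h1 0
        rwa [map_zero, map_zero] at this
      map_mul' := fun y y' ↦ by
        obtain ⟨a, b, hb, h⟩ := exists_frac U hU y
        obtain ⟨a', b', hb', h'⟩ := exists_frac U hU y'
        refine heq _ _ (a * a') (b * b') (mul_ne_zero hb hb') ?_ ?_
        · rw [map_mul, map_mul, map_mul, ← h, ← h']; ring
        · rw [map_mul, map_mul, ← hc y a b hb h, ← hc y' a' b' hb' h']; ring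
      map_add' := fun y y' ↦ by
        obtain ⟨a, b, hb, h⟩ := exists_frac U hU y
        obtain ⟨a', b', hb', h'⟩ := exists_frac U hU y'
        refine heq _ _ (a * b' + a' * b) (b * b') (mul_ne_zero hb hb') ?_ ?_
        · rw [map_add, map_add, map_mul, map_mul, map_mul, ← h, ← h']; ring
        · rw [map_add, map_mul, map_mul, map_mul, ← hc y a b hb h, ← hc y' a' b' hb' h']; ring }
  refine ⟨φ, RingHom.ext h1, fun ψ hψ ↦ RingHom.ext fun y ↦ ?_⟩
  obtain ⟨a, b, hb, h⟩ := exists_frac U hU y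
  refine (heq y (ψ y) a b hb h ?_).symm
  have hy : y * ((ι).app U).hom b = ((ι).app U).hom a := nK_inj U hU (by rw [map_mul, nK_app, nK_app]; exact h)
  rw [← show ψ (((ι).app U).hom b) = α b from RingHom.congr_fun hψ b,
    ← show ψ (((ι).app U).hom a) = α a from RingHom.congr_fun hψ a, ← map_mul, hy]

include hU in
theorem exists_local (hg : Good g) {W : Z.Opens} (hW : IsAffineOpen W) (e : W ≤ g ⁻¹ᵁ U) :
    ∃ h : (W : Scheme.{u}) ⟶ N, h ≫ ι = W.ι ≫ g := by
  obtain ⟨φ, hφ, -⟩ := existsUnique_lift U hU hg hW e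
  have hι : IsAffineHom (ι) := inferInstanceAs (IsAffineHom (X.fromSpecStalk (genericPoint X)).fromNormalization)
  have hV : IsAffineOpen (ι ⁻¹ᵁ U) := hU.preimage _
  refine ⟨hW.isoSpec.hom ≫ Spec.map (CommRingCat.ofHom φ) ≫ hV.fromSpec, ?_⟩
  have h1 : CommRingCat.ofHom φ = CommRingCat.ofHom φ := rfl
  have h2 : (ι).appLE U (ι ⁻¹ᵁ U) le_rfl ≫ CommRingCat.ofHom φ = g.appLE U W e := by
    rw [← Scheme.Hom.app_eq_appLE]; exact CommRingCat.hom_ext hφ
  simp only [Category.assoc]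
  rw [← IsAffineOpen.SpecMap_appLE_fromSpec (ι) hU hV le_rfl, ← Spec.map_comp_assoc, h2,
    IsAffineOpen.SpecMap_appLE_fromSpec g hU hW e, IsAffineOpen.isoSpec_hom_fromSpec_assoc]

theorem local_unique (hg : Good g) (h₁ h₂ : Z ⟶ N) (e₁ : h₁ ≫ ι = g) (e₂ : h₂ ≫ ι = g) : h₁ = h₂ := by
  have hι : IsAffineHom (ι) := inferInstanceAs (IsAffineHom (X.fromSpecStalk (genericPoint X)).fromNormalization)
  have hz : ∀ z : Z, ∃ (U : X.Opens) (W : Z.Opens), IsAffineOpen U ∧ IsAffineOpen W ∧ z ∈ W ∧ W ≤ g ⁻¹ᵁ U := by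
    intro z
    obtain ⟨_, ⟨U, hU, rfl⟩, hzU, -⟩ :=
      X.isBasis_affineOpens.exists_subset_of_mem_open (Set.mem_univ (g z)) isOpen_univ
    obtain ⟨_, ⟨W, hW, rfl⟩, hzW, hWU⟩ :=
      Z.isBasis_affineOpens.exists_subset_of_mem_open (a := z) (u := (g ⁻¹ᵁ U : Z.Opens)) hzU (g ⁻¹ᵁ U).isOpen
    exact ⟨U, W, hU, hW, hzW, hWU⟩
  choose U W hU hW hzW hWU using hz
  refine (Scheme.openCoverOfIsOpenCover Z W (TopologicalSpace.Opens.ext (Set.eq_univ_of_forall fun z ↦ by
    simp only [TopologicalSpace.Opens.coe_iSup, Set.mem_iUnion]; exact ⟨z, hzW z⟩))).hom_ext _ _ fun z ↦ ?_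
  show (W z).ι ≫ h₁ = (W z).ι ≫ h₂
  have : Nonempty (U z) := ⟨⟨g z, hWU z (hzW z)⟩⟩
  have hV : IsAffineOpen (ι ⁻¹ᵁ U z) := (hU z).preimage _
  have key : ∀ (h : Z ⟶ N), h ≫ ι = g → ∃ e' : W z ≤ h ⁻¹ᵁ (ι ⁻¹ᵁ U z),
      (h.appLE _ _ e').hom.comp ((ι).app (U z)).hom = (g.appLE (U z) (W z) (hWU z)).hom := by
    intro h eh
    subst eh
    refine ⟨hWU z, ?_⟩
    rw [← CommRingCat.hom_comp, Scheme.Hom.comp_appLE]
  obtain ⟨a₁, b₁⟩ := key h₁ e₁
  obtain ⟨a₂, b₂⟩ := key h₂ e₂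
  have heq : h₁.appLE _ _ a₁ = h₂.appLE _ _ a₂ :=
    CommRingCat.hom_ext ((existsUnique_lift (U z) (hU z) hg (hW z) (hWU z)).unique b₁ b₂)
  rw [← IsAffineOpen.isoSpec_hom_fromSpec (hW z), Category.assoc, Category.assoc,
    ← IsAffineOpen.SpecMap_appLE_fromSpec h₁ hV (hW z) a₁, ← IsAffineOpen.SpecMap_appLE_fromSpec h₂ hV (hW z) a₂, heq]

theorem existsUnique_fac (hg : Good g) : ∃! h : Z ⟶ N, h ≫ ι = g := by
  have hz : ∀ z : Z, ∃ (W : Z.Opens) (h : (W : Scheme.{u}) ⟶ N), z ∈ W ∧ h ≫ ι = W.ι ≫ g := by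
    intro z
    obtain ⟨_, ⟨U, hU, rfl⟩, hzU, -⟩ :=
      X.isBasis_affineOpens.exists_subset_of_mem_open (Set.mem_univ (g z)) isOpen_univ
    obtain ⟨_, ⟨W, hW, rfl⟩, hzW, hWU⟩ :=
      Z.isBasis_affineOpens.exists_subset_of_mem_open (a := z) (u := (g ⁻¹ᵁ U : Z.Opens)) hzU (g ⁻¹ᵁ U).isOpen
    have : Nonempty U := ⟨⟨_, hzU⟩⟩
    obtain ⟨h, hh⟩ := exists_local U hU hg hW hWU
    exact ⟨W, h, hzW, hh⟩
  choose W h hzW hh using hz
  let 𝒰 := Scheme.openCoverOfIsOpenCover Z W (TopologicalSpace.Opens.ext (Set.eq_univ_of_forall fun z ↦ by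
    simp only [TopologicalSpace.Opens.coe_iSup, Set.mem_iUnion]; exact ⟨z, hzW z⟩))
  have hc : ∀ x y, pullback.fst (𝒰.f x) (𝒰.f y) ≫ h x = pullback.snd (𝒰.f x) (𝒰.f y) ≫ h y := by
    intro x y
    refine local_unique (g := pullback.fst (𝒰.f x) (𝒰.f y) ≫ 𝒰.f x ≫ g) ?_ _ _ ?_ ?_
    · rw [← Category.assoc]; exact hg.comp _
    · rw [Category.assoc]; exact congrArg _ (hh x)
    · rw [Category.assoc, pullback.condition_assoc]; exact congrArg _ (hh y)
  refine ⟨𝒰.glueMorphisms h hc, 𝒰.hom_ext _ _ fun x ↦ ?_, fun h' hh' ↦ ?_⟩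
  · rw [Scheme.Cover.ι_glueMorphisms_assoc]; exact hh x
  · refine local_unique hg _ _ hh' (𝒰.hom_ext _ _ fun x ↦ ?_)
    rw [Scheme.Cover.ι_glueMorphisms_assoc]; exact hh x

theorem good_of_normal {Z : Scheme.{u}} (g : Z ⟶ X) (hZ : Pi1.IsNormalScheme Z)
    (hdom : ∀ z : Z, closure {z} ∈ irreducibleComponents ↥Z → g.base z = genericPoint ↥X) : Good g := by
  intro z
  refine ⟨hZ z, ?_⟩
  have hi := isIrreducible_irreducibleComponent (x := z)
  obtain ⟨ζ, hζ⟩ := QuasiSober.sober hi isClosed_irreducibleComponent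
  refine ⟨ζ, hζ.specializes mem_irreducibleComponent, hdom ζ ?_⟩
  rw [hζ.def]; exact irreducibleComponent_mem_irreducibleComponents z

end Groth.Agent.CAlgSmall.NormalFactor
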