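import Mathlib

/-!
# Zariski main theorem over a normal local domain
-/

universe u

open PrimeSpectrum

namespace Groth.Agent.CAlgSmall

theorem bijective_of_isolated {A B K : Type u} [CommRing A]
    [IsDomain A] [IsNoetherianRing A] [IsLocalRing A] [IsIntegrallyClosed A] [CommRing B] [IsDomain B]
    [Field K] [Algebra A B] [Algebra B K] [Algebra A K] [IsScalarTower A B K] [IsFractionRing A K]
    [IsFractionRing B K] [Algebra.FiniteType A B] (n : Ideal B) [hnmax : n.IsMaximal]
    (hn : n.comap (algebraMap A B) = IsLocalRing.maximalIdeal A)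
    (hmin : ∀ q : Ideal B, q.IsPrime → q.comap (algebraMap A B) = IsLocalRing.maximalIdeal A → q ≤ n → q = n) :
    Function.Bijective (algebraMap A B) := by
  classical
  haveI : IsNoetherianRing B := Algebra.FiniteType.isNoetherianRing A B
  set I := (IsLocalRing.maximalIdeal A).map (algebraMap A B) with hI
  let P : PrimeSpectrum B := ⟨n, hnmax.isPrime⟩
  have hfib : ∀ z : PrimeSpectrum B,
      comap (algebraMap A B) z = comap (algebraMap A B) P ↔ I ≤ z.asIdeal := by
    intro z
    constructor
    · intro h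
      rw [hI, Ideal.map_le_iff_le_comap, ← hn]
      exact (congrArg PrimeSpectrum.asIdeal h).ge
    · intro h
      refine PrimeSpectrum.ext ?_
      show z.asIdeal.comap _ = n.comap _
      rw [hn]
      exact ((IsLocalRing.maximalIdeal.isMaximal A).eq_of_le Ideal.IsPrime.ne_top'
        (Ideal.map_le_iff_le_comap.mp h)).symm
  haveI : Algebra.QuasiFiniteAt A n := by
    refine Algebra.QuasiFiniteAt.of_isOpen_singleton_fiber P ?_
    let C : Set (PrimeSpectrum B) := ⋃ q ∈ I.minimalPrimes \ {n}, zeroLocus (q : Set B)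
    have hC : IsClosed C :=
      ((Ideal.finite_minimalPrimes_of_isNoetherianRing B I).sdiff).isClosed_biUnion
        fun q _ ↦ isClosed_zeroLocus _
    have hnI : I ≤ n := (hfib P).mp rfl
    refine ⟨Cᶜ, hC.isOpen_compl, ?_⟩
    ext ⟨z, hz⟩
    have hzI : I ≤ z.asIdeal := (hfib z).mp hz
    simp only [Set.mem_preimage, Set.mem_compl_iff, Set.mem_singleton_iff, C, Set.mem_iUnion,
      mem_zeroLocus, SetLike.coe_subset_coe, exists_prop, Set.mem_sdiff, Subtype.mk.injEq]
    constructor
    · intro h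
      obtain ⟨q, hq, hqz⟩ := Ideal.exists_minimalPrimes_le (J := z.asIdeal) hzI
      have hqn : q = n := by_contra fun hne ↦ h ⟨q, ⟨hq, hne⟩, hqz⟩
      rw [hqn] at hqz
      have hzP : z = P := PrimeSpectrum.ext (hnmax.eq_of_le z.isPrime.ne_top hqz).symm
      subst hzP
      rfl
    · intro h
      cases h
      rintro ⟨q, ⟨hq, hne⟩, hqn⟩
      refine hne (hmin q hq.1.1 ?_ hqn)
      exact ((IsLocalRing.maximalIdeal.isMaximal A).eq_of_le (hq.1.1.comap _).ne_top
        (Ideal.map_le_iff_le_comap.mp hq.1.2)).symm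
  obtain ⟨r, hr, hri, H⟩ := (Algebra.zariskisMainProperty_iff (R := A) (p := n)).mp
    (Algebra.ZariskisMainProperty.of_finiteType n)
  have hint : ∀ y : B, IsIntegral A y → ∃ a : A, algebraMap A B a = y := by
    intro y hy
    obtain ⟨a, ha⟩ := IsIntegrallyClosed.isIntegral_iff.mp (hy.algebraMap (B := K))
    exact ⟨a, IsFractionRing.injective B K (by rw [← IsScalarTower.algebraMap_apply, ha])⟩
  refine ⟨fun a b hab ↦ IsFractionRing.injective A K ?_, fun x ↦ ?_⟩
  · rw [IsScalarTower.algebraMap_apply A B K, hab, ← IsScalarTower.algebraMap_apply]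
  · obtain ⟨a, rfl⟩ := hint r hri
    have ha : IsUnit a := by
      rw [← IsLocalRing.notMem_maximalIdeal, ← hn]
      exact hr
    obtain ⟨m, hm⟩ := H x
    obtain ⟨b, hb⟩ := hint _ hm
    refine ⟨((ha.pow m).unit⁻¹ : Aˣ) * b, ?_⟩
    rw [map_mul, hb, ← mul_assoc, ← map_pow, ← map_mul, IsUnit.val_inv_mul, map_one, one_mul]

end Groth.Agent.CAlgSmall
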