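import Groth.Agent.DRingLib.PCMore
import Groth.Agent.DRingLib.PCDescent
import Groth.Agent.DRingLib.PCRestrict
import Groth.Agent.DRingLib.PCGen
import Groth.Agent.DRingLib.PCRegular

/-! Pseudo-coherence: base change, top cohomology, finite projective representatives. -/

set_option autoImplicit false
set_option backward.isDefEq.respectTransparency false
set_option backward.defeqAttrib.useBackward true
set_option linter.style.haveILetI false

universe u

open CategoryTheory CategoryTheory.Limits HomologicalComplex CategoryTheory.Pretriangulated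

attribute [local instance] HasDerivedCategory.standard

namespace Groth.Agent.CAlgSmall.PCBundle

open Groth.Agent.DCat Groth.Agent.DRingLib

variable {R : Type u} [CommRing R]

theorem finitePresentation_top {K : Dual.D R} {m : ℤ} (h : DRing.IsPseudoCoherent R m K)
    [K.IsLE (m + 1)] : Module.FinitePresentation R ((HF R (m + 1)).obj K) := by
  have hfin : Module.Finite R ((HF R (m + 1)).obj K) := finite_top (pc_mono (by omega) h)
  obtain ⟨r, T, hT, h1, h2, h3⟩ := exists_cover_cone K (m + 1) hfin
  haveI := h3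
  have hC : DRing.IsPseudoCoherent R m T.obj₃ :=
    pc_cone hT (h1 ▸ pc_freeAt (m + 1) r (m + 1)) (by rw [h2]; exact h)
  haveI hC' : T.obj₃.IsLE m := by rwa [add_sub_cancel_right] at h3
  haveI := finite_top hC
  have hF := finite_free_homology (R := R) (m + 1) r
  rw [← h1] at hF
  haveI : Module.Finite R ((HF R (m + 1)).obj T.obj₁) := hF.1
  haveI : Module.Free R ((HF R (m + 1)).obj T.obj₁) := hF.2
  have hsurj : Function.Surjective ((HF R (m + 1)).map T.mor₁).hom :=
    (ModuleCat.epi_iff_surjective _).1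
      ((DerivedCategory.HomologySequence.epi_homologyMap_mor₁_iff T hT (m + 1)).2
        ((DerivedCategory.isZero_of_isLE T.obj₃ m (m + 1) (by omega)).eq_of_tgt _ _))
  have hr := LinearMap.exact_iff.1 ((ShortComplex.ShortExact.moduleCat_exact_iff_function_exact _).1
    (DerivedCategory.HomologySequence.exact₁ T hT m (m + 1) rfl))
  have := Module.finitePresentation_of_free_of_surjective _ hsurj (by
    rw [hr, LinearMap.range_eq_map]
    exact Module.Finite.fg_top.map _)
  rw [h2] at this
  exact this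

theorem pc_lbaseChange {A : Type u} [CommRing A] (φ : R →+* A) [DRing.HasLBaseChange φ]
    {K : Dual.D R} {m : ℤ} (hK : DRing.IsPseudoCoherent R m K) :
    DRing.IsPseudoCoherent A m ((DRing.LBaseChange φ).obj K) := by
  obtain ⟨b₀, hb₀⟩ := exists_isLE_of_pc hK
  obtain ⟨E, a, b, α, hE, hEf, hα⟩ := hK
  haveI := hb₀
  obtain ⟨P, hP, -, hPb, ⟨e⟩⟩ := DCat.exists_flat_rep (b := b₀) (K := K)
    fun i hi => DerivedCategory.isZero_of_isLE K b₀ i hi
  haveI := isKProjective_of_outside hE (projective_of_free hEf)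
  obtain ⟨ψ, hψ⟩ := exists_Q_map (P := E) (L := P) (α ≫ e.inv)
  have hapx : Apx m (DerivedCategory.Q.map ψ) := by
    rw [hψ]; exact Apx.comp hα (apx_of_isIso m e.inv)
  haveI : (DRing.toD (CochainComplex.mappingCone ψ)).IsLE (m - 1) :=
    (apx_iff_isLE m _ (DerivedCategory.mappingCone_triangle_distinguished ψ)).1 hapx
  let F := ModuleCat.extendScalars.{u, u, u} φ
  let G := F.mapHomologicalComplex (ComplexShape.up ℤ)
  have hEk := kflat_of_finiteFree (b := b) (fun i hi => hE i (Or.inr hi)) hEf
  haveI hLC := isLE_lbaseChange φ (K := DRing.toD (CochainComplex.mappingCone ψ)) (m - 1)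
  have h3 : DRing.IsPseudoCoherent A m (DRing.toD (CochainComplex.mappingCone (G.map ψ))) :=
    pc_iso (DCat.lbaseChangeIso φ (DCat.isKFlatFor_cone ψ hEk hP) ≪≫
        DerivedCategory.Q.mapIso (CochainComplex.mappingCone.mapHomologicalComplexIso ψ F))
      (pc_of_isLE (n := m - 1) (by omega))
  have h1 : DRing.IsPseudoCoherent A m (DRing.toD (G.obj E)) :=
    ⟨_, a, b, 𝟙 _, fun i hi => F.map_isZero (hE i hi), finiteFree_ext φ hEf, apx_of_isIso m (𝟙 _)⟩
  have h2 : DRing.IsPseudoCoherent A m (DRing.toD (G.obj P)) :=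
    pc_ext (DerivedCategory.mappingCone_triangle_distinguished (G.map ψ)) h1 h3
  exact pc_iso ((DCat.lbaseChangeIso φ hP).symm ≪≫ (DRing.LBaseChange φ).mapIso e) h2

theorem forall_pc_iff (K : Dual.D R) :
    ((∀ m : ℤ, DRing.IsPseudoCoherent R m K) ↔ DRing.IsPseudoCoherent' R K) ∧
      ((∀ m : ℤ, DRing.IsPseudoCoherent R m K) ↔ ∃ (E : DRing.Cx R) (b : ℤ), DRing.VanishesAbove E b ∧
        DRing.TermwiseFiniteProjective E ∧ Nonempty (DRing.toD E ≅ K)) := by
  refine ⟨pc'_iff.symm, fun h => ?_, ?_⟩
  · obtain ⟨E, b, hb, hf, he⟩ := pc'_iff.2 h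
    exact ⟨E, b, hb, fun i => ⟨(hf i).1, projective_of_free hf i⟩, he⟩
  · rintro ⟨E, b, hb, hf, ⟨e⟩⟩ m
    refine pc_iso e (pc_of_terms E hb fun i => ?_)
    haveI := (hf i).1
    haveI := (hf i).2
    exact pc_of_perfect (perfect_inD_projective (E.X i)) _

end Groth.Agent.CAlgSmall.PCBundle
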