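import Mathlib
import Groth.Agent.CAlgH3.ProjDim

/-! Projective dimension over a quotient of a Noetherian local ring is additive. -/

universe u

open IsLocalRing CategoryTheory Limits

namespace Groth.Agent.CAlgSmall.PdAdd

open CAlgH3

variable {R : Type u} [CommRing R]

theorem exists_pd_eq (M : Type u) [AddCommGroup M] [Module R M] [Nontrivial M] {n : ℕ}
    (h : PD R n M) : ∃ e : ℕ, PD R (e + 1) M ∧ ¬ PD R e M ∧
      projectiveDimension (ModuleCat.of R M) = e := by
  induction n with
  | zero => exact absurd (pd_zero_iff.1 h) (not_subsingleton M)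
  | succ n ih =>
    by_cases hn : PD R n M
    · exact ih hn
    · refine ⟨n, h, hn, le_antisymm ((projectiveDimension_le_iff _ n).2 h) ?_⟩
      rw [projectiveDimension_ge_iff]
      exact hn

variable [IsNoetherianRing R] [IsLocalRing R]

theorem pd_of_quotient (I : Ideal R) [IsLocalRing (R ⧸ I)] {N : ℕ} (hI : PD R N (R ⧸ I)) :
    ∀ (n : ℕ) (E : Type u) [AddCommGroup E] [Module (R ⧸ I) E] [Module R E] [IsScalarTower R (R ⧸ I) E]
      [Module.Finite (R ⧸ I) E], PD (R ⧸ I) n E → PD R (N + n) E := by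
  have hfree : ∀ r : ℕ, PD R N (Fin r → R ⧸ I) := by
    intro r
    induction r with
    | zero => exact pd_mono (Nat.zero_le N) (pd_zero_iff.2 inferInstance)
    | succ r ih =>
      let f : (R ⧸ I) →ₗ[R] (Fin (r + 1) → R ⧸ I) := LinearMap.single R (fun _ => R ⧸ I) 0
      let g : (Fin (r + 1) → R ⧸ I) →ₗ[R] (Fin r → R ⧸ I) := LinearMap.funLeft R (R ⧸ I) Fin.succ
      refine (pd_of_ses f g (Pi.single_injective (M := fun _ => R ⧸ I) 0)
        (LinearMap.funLeft_surjective_of_injective R (R ⧸ I) Fin.succ (Fin.succ_injective r)) ?_).1 hI ih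
      intro v
      refine ⟨fun hv => ⟨v 0, funext fun i => ?_⟩, ?_⟩
      · refine Fin.cases ?_ (fun j => ?_) i
        · simp [f]
        · have h1 : v j.succ = 0 := congrFun hv j
          simp [f, h1, Pi.single_eq_of_ne (Fin.succ_ne_zero j)]
      · rintro ⟨x, rfl⟩
        funext j
        simp [f, g, LinearMap.funLeft, Pi.single_eq_of_ne (Fin.succ_ne_zero j)]
  intro n
  induction n using Nat.strong_induction_on with
  | _ n ih =>
    intro E _ _ _ _ _ hE
    match n, hE with
    | 0, hE =>
      haveI := pd_zero_iff.1 hE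
      exact pd_mono (Nat.zero_le _) (pd_zero_iff.2 inferInstance)
    | 1, hE =>
      haveI := pd_one_iff.1 hE
      haveI : Module.Free (R ⧸ I) E := Module.free_of_flat_of_isLocalRing
      exact pd_mono (Nat.le_succ N)
        ((pd_congr ((Module.finBasis (R ⧸ I) E).equivFun.restrictScalars R)).2 (hfree _))
    | n + 2, hE =>
      obtain ⟨r, f, hf⟩ := Module.Finite.exists_fin' (R ⧸ I) E
      haveI : Module.Finite (R ⧸ I) (LinearMap.ker f) :=
        Module.Finite.iff_fg.2 (IsNoetherian.noetherian _)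
      have hK : PD R (N + (n + 1)) (LinearMap.ker f) :=
        ih (n + 1) (by omega) (LinearMap.ker f) ((pd_ker_iff hf n).1 hE)
      exact (pd_of_ses ((LinearMap.ker f).subtype.restrictScalars R) (f.restrictScalars R)
        Subtype.val_injective hf (LinearMap.exact_subtype_ker_map f)).2.2 hK
        (pd_mono (show N ≤ N + (n + 1) + 1 by omega) (hfree r))

theorem projectiveDimension_eq_add (I : Ideal R) (E : Type u) [AddCommGroup E] [Module (R ⧸ I) E]
    [Module R E] [IsScalarTower R (R ⧸ I) E] [Module.Finite (R ⧸ I) E] [Nontrivial E]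
    (h1 : projectiveDimension (ModuleCat.of R (R ⧸ I)) ≠ ⊤)
    (h2 : projectiveDimension (ModuleCat.of (R ⧸ I) E) ≠ ⊤) :
    projectiveDimension (ModuleCat.of R E) ≠ ⊤ ∧
      projectiveDimension (ModuleCat.of R E) =
        projectiveDimension (ModuleCat.of R (R ⧸ I)) + projectiveDimension (ModuleCat.of (R ⧸ I) E) := by
  haveI : Nontrivial (R ⧸ I) := Module.nontrivial (R ⧸ I) E
  haveI : IsLocalRing (R ⧸ I) := IsLocalRing.of_surjective' (Ideal.Quotient.mk I) Ideal.Quotient.mk_surjective
  haveI : Module.Finite R E := Module.Finite.trans (R ⧸ I) E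
  obtain ⟨a, ha⟩ := (projectiveDimension_ne_top_iff _).1 h1
  obtain ⟨b, hb⟩ := (projectiveDimension_ne_top_iff _).1 h2
  obtain ⟨p, hp, hp', hpe⟩ := exists_pd_eq (R := R) (R ⧸ I) (n := a + 1) ha
  obtain ⟨q, hq, hq', hqe⟩ := exists_pd_eq (R := R ⧸ I) E (n := b + 1) hb
  obtain ⟨e, he, he', hee⟩ := exists_pd_eq (R := R) E (pd_of_quotient I (N := a + 1) ha (b + 1) E hb)
  have d1 := depth_add_of_pd p (R ⧸ I) hp hp'
  have d2 := depth_add_of_pd q E hq hq'
  have d3 := depth_add_of_pd e E he he'
  rw [depth_of_surjective (R := R) Ideal.Quotient.mk_surjective (R ⧸ I),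
    depth_of_surjective (R := R) Ideal.Quotient.mk_surjective E] at d2
  obtain ⟨x, hx⟩ := exists_depth_eq_natCast (R := R) (M := R ⧸ I)
  obtain ⟨y, hy⟩ := exists_depth_eq_natCast (R := R) (M := E)
  rw [hx] at d1 d2
  rw [hy] at d2 d3
  rw [d1] at d3
  have d2' : x = q + y := by exact_mod_cast d2
  have d3' : p + x = e + y := by exact_mod_cast d3
  have : e = p + q := by omega
  refine ⟨by rw [hee]; exact WithBot.coe_injective.ne (ENat.coe_ne_top e), ?_⟩
  rw [hee, hpe, hqe, this]
  push_cast
  rfl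

end Groth.Agent.CAlgSmall.PdAdd
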