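import Mathlib

/-! All orderings regular iff `(f_i X_i)` is regular in the polynomial ring. -/

set_option autoImplicit false

universe u

open MvPolynomial

namespace Groth.Agent.CAlgSmall.PermRegular

variable {R : Type u} [CommRing R] {r : ℕ}

theorem ofList_take {A : Type*} [CommRing A] {r : ℕ} (g : Fin r → A) (k : Fin r) :
    Ideal.ofList ((List.ofFn g).take k) = Ideal.span (g '' Set.Iio k) := by
  refine congrArg Ideal.span (Set.ext fun x ↦ ?_)
  simp only [List.mem_take_iff_getElem, List.getElem_ofFn, Set.mem_setOf_eq, Set.mem_image, Set.mem_Iio]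
  constructor
  · rintro ⟨i, hi, rfl⟩
    exact ⟨⟨i, by have := k.2; omega⟩, by simpa [Fin.lt_def] using (lt_min_iff.mp hi).1, rfl⟩
  · rintro ⟨i, hi, rfl⟩
    exact ⟨i.1, by simp [List.length_ofFn]; exact hi, rfl⟩

theorem weaklyRegular_ofFn_iff {A : Type*} [CommRing A] {r : ℕ} (g : Fin r → A) :
    RingTheory.Sequence.IsWeaklyRegular A (List.ofFn g) ↔
      ∀ k : Fin r, ∀ x, g k * x ∈ Ideal.span (g '' Set.Iio k) → x ∈ Ideal.span (g '' Set.Iio k) := by
  rw [RingTheory.Sequence.isWeaklyRegular_iff]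
  have key : ∀ (k : Fin r), IsSMulRegular (A ⧸ (Ideal.ofList ((List.ofFn g).take k) • ⊤ : Submodule A A)) (g k) ↔
      ∀ x, g k * x ∈ Ideal.span (g '' Set.Iio k) → x ∈ Ideal.span (g '' Set.Iio k) := fun k ↦ by
    rw [ofList_take, smul_eq_mul, Ideal.mul_top, isSMulRegular_quotient_iff_mem_of_smul_mem]
    rfl
  constructor
  · intro h k
    have := h k.1 (by rw [List.length_ofFn]; exact k.2)
    rw [List.getElem_ofFn] at this
    exact (key k).mp this
  · intro h i hi
    rw [List.getElem_ofFn]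
    exact (key ⟨i, by simpa using hi⟩).mpr (h _)

/-- `f k` is a non-zero-divisor modulo the `f i`, `i ∈ S`. -/
def C' (f : Fin r → R) (k : Fin r) (S : Finset (Fin r)) : Prop :=
  ∀ x, f k * x ∈ Ideal.span (f '' (S : Set (Fin r))) → x ∈ Ideal.span (f '' (S : Set (Fin r)))

theorem all_of_lower (f : Fin r → R) (h : ∀ k, ∀ S : Finset (Fin r), (∀ i ∈ S, i < k) → C' f k S) :
    ∀ (S : Finset (Fin r)) (k : Fin r), k ∉ S → C' f k S := by
  intro S
  induction S using Finset.strongInduction with
  | H S ih =>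
    intro k hk
    by_cases hS : ∀ i ∈ S, i < k
    · exact h k S hS
    push Not at hS
    obtain ⟨i₀, hi₀, hki₀⟩ := hS
    obtain ⟨m, hmS, hmax⟩ := S.exists_max_image id ⟨i₀, hi₀⟩
    have hkm : k < m := lt_of_le_of_ne (hki₀.trans (hmax i₀ hi₀)) (fun e ↦ hk (e ▸ hmS))
    let S' := S.erase m
    have hSins : (S : Set (Fin r)) = insert m (S' : Set (Fin r)) := by
      rw [← Finset.coe_insert, Finset.insert_erase hmS]
    have hlt : ∀ i ∈ S', i < m := fun i hi ↦
      lt_of_le_of_ne (hmax i (Finset.mem_of_mem_erase hi)) (Finset.ne_of_mem_erase hi)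
    have hk' : C' f k S' := ih S' (Finset.erase_ssubset hmS) k fun hm ↦ hk (Finset.mem_of_mem_erase hm)
    have hmk : C' f m (insert k S') := h m _ fun i hi ↦ by
      rcases Finset.mem_insert.mp hi with rfl | hi
      · exact hkm
      · exact hlt i hi
    intro x hx
    rw [hSins, Set.image_insert_eq] at hx ⊢
    obtain ⟨b, z, hz, e⟩ := Submodule.mem_span_insert.mp hx
    have h1 : f m * b ∈ Ideal.span (f '' ((insert k S' : Finset (Fin r)) : Set (Fin r))) := by
      rw [Finset.coe_insert, Set.image_insert_eq]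
      exact Submodule.mem_span_insert.mpr ⟨x, -z, Submodule.neg_mem _ hz, by simp only [smul_eq_mul] at e ⊢; linear_combination -e⟩
    have hb := hmk b h1
    rw [Finset.coe_insert, Set.image_insert_eq] at hb
    obtain ⟨c, z', hz', e'⟩ := Submodule.mem_span_insert.mp hb
    have h2 : x - f m * c ∈ Ideal.span (f '' (S' : Set (Fin r))) := hk' _ (by
      rw [show f k * (x - f m * c) = z + f m * z' by
        simp only [smul_eq_mul] at e e'
        linear_combination e + f m * e']
      exact Ideal.add_mem _ hz (Ideal.mul_mem_left _ _ hz'))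
    exact Submodule.mem_span_insert.mpr ⟨c, _, h2, by rw [smul_eq_mul]; ring⟩

theorem exists_perm (k : Fin r) (S : Finset (Fin r)) (hk : k ∉ S) :
    ∃ (σ : Equiv.Perm (Fin r)) (j : Fin r), σ j = k ∧ σ '' Set.Iio j = (S : Set (Fin r)) := by
  let g : Fin r → ℕ := fun i ↦ if i ∈ S then 0 else if i = k then 1 else 2
  have hgk : g k = 1 := by simp [g, hk]
  refine ⟨Tuple.sort g, (Tuple.sort g).symm k, Equiv.apply_symm_apply _ _, Set.ext fun i ↦ ⟨?_, fun hi ↦ ?_⟩⟩
  · rintro ⟨l, hl, rfl⟩
    have h1 : g (Tuple.sort g l) ≤ g (Tuple.sort g ((Tuple.sort g).symm k)) := Tuple.monotone_sort g (le_of_lt hl)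
    rw [Equiv.apply_symm_apply, hgk] at h1
    have hne : Tuple.sort g l ≠ k := fun e ↦ (ne_of_lt hl) ((Tuple.sort g).eq_symm_apply.mpr e)
    simp only [g, if_neg hne] at h1
    by_contra h
    rw [if_neg (by simpa using h)] at h1
    omega
  · refine ⟨(Tuple.sort g).symm i, ?_, Equiv.apply_symm_apply _ _⟩
    by_contra hge
    have h1 : g (Tuple.sort g ((Tuple.sort g).symm k)) ≤ g (Tuple.sort g ((Tuple.sort g).symm i)) :=
      Tuple.monotone_sort g (not_lt.mp hge)
    rw [Equiv.apply_symm_apply, Equiv.apply_symm_apply, hgk] at h1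
    simp [g, show i ∈ S from hi] at h1

theorem span_mono_supp (f : Fin r → R) (k : Fin r) (a b : Fin r →₀ ℕ) (hab : ∀ i, i < k → a i ≠ 0 → b i ≠ 0) :
    Ideal.span (f '' {i | i < k ∧ a i ≠ 0}) ≤ Ideal.span (f '' {i | i < k ∧ b i ≠ 0}) :=
  Ideal.span_mono (Set.image_mono fun i hi ↦ ⟨hi.1, hab i hi.1 hi.2⟩)

theorem mem_span_iff_coeff (f : Fin r → R) (k : Fin r) (P : MvPolynomial (Fin r) R) :
    P ∈ Ideal.span ((fun i ↦ C (f i) * X i) '' Set.Iio k) ↔
      ∀ a, coeff a P ∈ Ideal.span (f '' {i | i < k ∧ a i ≠ 0}) := by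
  constructor
  · intro h
    induction h using Submodule.span_induction with
    | mem x hx =>
      obtain ⟨i, hi, rfl⟩ := hx
      intro a
      rw [coeff_C_mul, coeff_X]
      split_ifs with ha
      · refine Ideal.mul_mem_right _ _ (Ideal.subset_span ⟨i, ⟨hi, ?_⟩, rfl⟩)
        rw [← ha]; simp
      · rw [mul_zero]; exact zero_mem _
    | zero => intro a; rw [coeff_zero]; exact zero_mem _
    | add x y _ _ hx hy => intro a; rw [coeff_add]; exact add_mem (hx a) (hy a)
    | smul G x _ hx =>
      intro a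
      rw [smul_eq_mul, coeff_mul]
      refine Ideal.sum_mem _ fun p hp ↦ Ideal.mul_mem_left _ _ (span_mono_supp f k p.2 a (fun i _ hi ↦ ?_) (hx p.2))
      rw [← Finset.HasAntidiagonal.mem_antidiagonal.mp hp, Finsupp.add_apply]
      omega
  · intro h
    rw [P.as_sum]
    refine Ideal.sum_mem _ fun a _ ↦ ?_
    have := h a
    generalize coeff a P = c at this
    induction this using Submodule.span_induction with
    | mem x hx =>
      obtain ⟨i, ⟨hi, ha⟩, rfl⟩ := hx
      have e : monomial a (f i) = monomial (a - Finsupp.single i 1) 1 * (C (f i) * X i) := by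
        rw [mul_left_comm, X, monomial_mul, C_mul_monomial, one_mul, mul_one,
          tsub_add_cancel_of_le (Finsupp.single_le_iff.mpr (Nat.one_le_iff_ne_zero.mpr ha))]
      rw [e]
      exact Ideal.mul_mem_left _ _ (Ideal.subset_span ⟨i, hi, rfl⟩)
    | zero => rw [monomial_zero]; exact zero_mem _
    | add x y _ _ hx hy => rw [map_add]; exact add_mem hx hy
    | smul c x _ hx => rw [smul_eq_mul, ← C_mul_monomial]; exact Ideal.mul_mem_left _ _ hx

theorem main (f : Fin r → R) (hf : Ideal.span (Set.range f) ≠ ⊤) :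
    (∀ σ : Equiv.Perm (Fin r), RingTheory.Sequence.IsRegular R (List.ofFn (f ∘ σ))) ↔
      RingTheory.Sequence.IsRegular (MvPolynomial (Fin r) R) (List.ofFn fun i => C (f i) * X i) := by
  constructor
  · intro h
    have hC : ∀ k S, k ∉ S → C' f k S := by
      intro k S hk
      obtain ⟨σ, j, rfl, hS⟩ := exists_perm k S hk
      have := (weaklyRegular_ofFn_iff _).mp (h σ).1 j
      rw [Set.image_comp, hS] at this
      exact this
    refine ⟨(weaklyRegular_ofFn_iff _).mpr fun k P hP ↦ ?_, fun htop ↦ ?_⟩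
    · rw [mem_span_iff_coeff] at hP ⊢
      intro a
      let S : Finset (Fin r) := Finset.univ.filter fun i ↦ i < k ∧ a i ≠ 0
      have hS : (S : Set (Fin r)) = {i | i < k ∧ a i ≠ 0} := by ext i; simp [S]
      have h1 := hP (Finsupp.single k 1 + a)
      rw [mul_assoc, coeff_C_mul, coeff_X_mul, show {i : Fin r | i < k ∧ (Finsupp.single k 1 + a : Fin r →₀ ℕ) i ≠ 0} =
        {i | i < k ∧ a i ≠ 0} by
          ext i
          simp only [Set.mem_setOf_eq, Finsupp.add_apply]
          refine and_congr_right fun hi ↦ ?_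
          rw [Finsupp.single_eq_of_ne hi.ne, zero_add], ← hS] at h1
      rw [← hS]
      exact hC k S (by simp [S]) _ h1
    · rw [smul_eq_mul, Ideal.mul_top] at htop
      have h0 : Ideal.ofList (List.ofFn fun i => C (f i) * X i) ≤ RingHom.ker (constantCoeff : MvPolynomial (Fin r) R →+* R) := by
        refine Ideal.span_le.mpr ?_
        rintro x hx
        obtain ⟨i, rfl⟩ := List.mem_ofFn.mp hx
        simp
      have h1 : (1 : MvPolynomial (Fin r) R) ∈ RingHom.ker (constantCoeff : MvPolynomial (Fin r) R →+* R) :=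
        h0 (htop.symm ▸ Submodule.mem_top)
      rw [RingHom.mem_ker, map_one] at h1
      exact hf ((Ideal.eq_top_iff_one _).mpr (h1 ▸ zero_mem _))
  · intro h σ
    have hlow : ∀ k, ∀ S : Finset (Fin r), (∀ i ∈ S, i < k) → C' f k S := by
      intro k S hS x hx
      classical
      let a : Fin r →₀ ℕ := ∑ i ∈ S, Finsupp.single i 1
      have ha : ∀ i, a i ≠ 0 ↔ i ∈ S := fun i ↦ by
        simp [a, Finsupp.finset_sum_apply, Finsupp.single_apply]
      have hsub : (S : Set (Fin r)) = {i | i < k ∧ a i ≠ 0} := Set.ext fun i ↦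
        ⟨fun hi ↦ ⟨hS i hi, (ha i).mpr hi⟩, fun hi ↦ (ha i).mp hi.2⟩
      have := (weaklyRegular_ofFn_iff _).mp h.1 k (monomial a x) ((mem_span_iff_coeff f k _).mpr fun b ↦ ?_)
      · have h2 := (mem_span_iff_coeff f k _).mp this a
        rw [coeff_monomial, if_pos rfl, ← hsub] at h2
        exact h2
      · rw [mul_assoc, coeff_C_mul, X, monomial_mul, one_mul, coeff_monomial]
        split_ifs with hb
        · have hmem : f k * x ∈ Ideal.span (f '' {i | i < k ∧ a i ≠ 0}) := by rw [← hsub]; exact hx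
          refine span_mono_supp f k a b (fun i _ hi ↦ ?_) hmem
          rw [← hb, Finsupp.add_apply]
          omega
        · rw [mul_zero]; exact zero_mem _
    refine ⟨(weaklyRegular_ofFn_iff _).mpr fun j x hx ↦ ?_, fun htop ↦ hf ?_⟩
    · have := all_of_lower f hlow ((Finset.Iio j).map σ.toEmbedding) (σ j) (by simp)
      rw [Set.image_comp] at hx ⊢
      have e : ((Finset.Iio j).map σ.toEmbedding : Set (Fin r)) = σ '' Set.Iio j := by simp
      rw [← e] at hx ⊢
      exact this x hx
    · rw [smul_eq_mul, Ideal.mul_top] at htop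
      refine eq_top_iff.mpr (htop.le.trans (Ideal.span_le.mpr ?_))
      intro x hx
      obtain ⟨i, rfl⟩ := List.mem_ofFn.mp hx
      exact Ideal.subset_span ⟨σ i, rfl⟩

end Groth.Agent.CAlgSmall.PermRegular
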