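import Mathlib.AlgebraicGeometry.ProjectiveSpectrum.Basic
import Mathlib.AlgebraicGeometry.Morphisms.Immersion

/-!
# Finite sets of points of subschemes of Proj lie in affine opens
-/

set_option autoImplicit false
set_option backward.isDefEq.respectTransparency.types false

universe u

open AlgebraicGeometry CategoryTheory TopologicalSpace

namespace Groth.Agent.CAlgSmall.ProjAffine

variable {A : Type u} [CommRing A] {σ : Type*} [SetLike σ A] [AddSubgroupClass σ A] (𝒜 : ℕ → σ) [GradedRing 𝒜]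

theorem exists_homogeneous_notMem {I : Ideal A} (hI : I.IsHomogeneous 𝒜) {p : Ideal A} (h : ¬ I ≤ p) :
    ∃ (a : A) (d : ℕ), a ∈ 𝒜 d ∧ a ∈ I ∧ a ∉ p := by
  classical
  obtain ⟨g, hg, hgp⟩ := SetLike.not_le_iff_exists.1 h
  obtain ⟨i, hi⟩ : ∃ i, (DirectSum.decompose 𝒜 g i : A) ∉ p := by
    by_contra! hh
    exact hgp (by rw [← DirectSum.sum_support_decompose 𝒜 g]; exact p.sum_mem fun i _ => hh i)
  exact ⟨_, i, SetLike.coe_mem _, hI i hg, hi⟩

theorem exists_pos_notMem (z : ProjectiveSpectrum 𝒜) :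
    ∃ (a : A) (d : ℕ), 0 < d ∧ a ∈ 𝒜 d ∧ a ∉ z.asHomogeneousIdeal.toIdeal := by
  classical
  obtain ⟨g, hg, hgz⟩ := SetLike.not_le_iff_exists.1 z.not_irrelevant_le
  obtain ⟨i, hi⟩ : ∃ i, (DirectSum.decompose 𝒜 g i : A) ∉ z.asHomogeneousIdeal.toIdeal := by
    by_contra! hh
    exact hgz (show g ∈ z.asHomogeneousIdeal.toIdeal by
      rw [← DirectSum.sum_support_decompose 𝒜 g]; exact Ideal.sum_mem _ fun i _ => hh i)
  refine ⟨_, i, Nat.pos_of_ne_zero ?_, SetLike.coe_mem _, hi⟩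
  rintro rfl
  rw [HomogeneousIdeal.mem_irrelevant_iff, GradedRing.proj_apply] at hg
  exact hi (by rw [hg]; exact zero_mem _)

theorem le_of_specializes {x y : ProjectiveSpectrum 𝒜}
    (h : x.asHomogeneousIdeal.toIdeal ≤ y.asHomogeneousIdeal.toIdeal) : x ⤳ y := by
  rw [specializes_iff_mem_closure, ← ProjectiveSpectrum.le_iff_mem_closure]
  exact h

/-- A finite set of pairwise non-specialising points away from a closed set is avoided by a form vanishing on it. -/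
theorem exists_form_avoid (C : Set (ProjectiveSpectrum 𝒜)) (hC : IsClosed C) (T : Finset (ProjectiveSpectrum 𝒜))
    (hT : ∀ z ∈ T, z ∉ C) (hinc : ∀ z ∈ T, ∀ w ∈ T, z ≠ w → ¬ w ⤳ z) :
    ∃ (h : A) (D : ℕ), 0 < D ∧ h ∈ 𝒜 D ∧ (∀ y ∈ C, h ∈ y.asHomogeneousIdeal.toIdeal) ∧
      ∀ z ∈ T, h ∉ z.asHomogeneousIdeal.toIdeal := by
  classical
  have key : ∀ z ∈ T, ∃ (a : A) (d : ℕ), 0 < d ∧ a ∈ 𝒜 d ∧ (∀ y ∈ C, a ∈ y.asHomogeneousIdeal.toIdeal) ∧
      a ∉ z.asHomogeneousIdeal.toIdeal ∧ ∀ w ∈ T, w ≠ z → a ∈ w.asHomogeneousIdeal.toIdeal := by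
    intro z hz
    have hsep : ∀ w : {w // w ∈ T.erase z}, ∃ (a : A) (d : ℕ), a ∈ 𝒜 d ∧
        a ∈ w.1.asHomogeneousIdeal.toIdeal ∧ a ∉ z.asHomogeneousIdeal.toIdeal := fun w =>
      exists_homogeneous_notMem 𝒜 w.1.asHomogeneousIdeal.isHomogeneous fun hle =>
        hinc z hz w.1 (Finset.mem_of_mem_erase w.2) (Ne.symm (Finset.ne_of_mem_erase w.2)) (le_of_specializes 𝒜 hle)
    choose a d ha1 ha2 ha3 using hsep
    obtain ⟨b, e, hb1, hb2, hb3⟩ := exists_homogeneous_notMem 𝒜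
      (ProjectiveSpectrum.vanishingIdeal C).isHomogeneous (p := z.asHomogeneousIdeal.toIdeal) fun hle => hT z hz (by
        rw [← hC.closure_eq, ← ProjectiveSpectrum.zeroLocus_vanishingIdeal_eq_closure]
        exact hle)
    obtain ⟨c, i, hi0, hic, hc⟩ := exists_pos_notMem 𝒜 z
    refine ⟨(∏ w, a w) * b * c, (∑ w, d w) + e + i, by omega,
      SetLike.mul_mem_graded (SetLike.mul_mem_graded (SetLike.prod_mem_graded _ _ _ fun w _ => ha1 w) hb1) hic,
      fun y hy => ?_, ?_, fun w hw hne => ?_⟩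
    · exact Ideal.mul_mem_right _ _ (Ideal.mul_mem_left _ _ ((ProjectiveSpectrum.mem_vanishingIdeal C b).1 hb2 y hy))
    · refine fun hm => ((z.isPrime.mem_or_mem hm).elim (fun h => ?_) hc)
      refine ((z.isPrime.mem_or_mem h).elim (fun h => ?_) hb3)
      obtain ⟨w, -, hw⟩ := z.isPrime.prod_mem_iff.1 h
      exact ha3 w hw
    · exact Ideal.mul_mem_right _ _ (Ideal.mul_mem_right _ _
        (Ideal.mem_of_dvd _ (Finset.dvd_prod_of_mem a (Finset.mem_univ (⟨w, Finset.mem_erase.2 ⟨hne, hw⟩⟩ : {w // w ∈ T.erase z}))) (ha2 ⟨w, Finset.mem_erase.2 ⟨hne, hw⟩⟩)))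
  choose a d hd ha hC' haz haw using fun z : {z // z ∈ T} => key z.1 z.2
  let D := ∏ z, d z
  have hD : 0 < D := Finset.prod_pos fun z _ => hd z
  let c : {z // z ∈ T} → A := fun z => a z ^ (D / d z)
  have hc : ∀ z, c z ∈ 𝒜 D := fun z => by
    have := SetLike.pow_mem_graded (D / d z) (ha z)
    rwa [smul_eq_mul, Nat.div_mul_cancel (Finset.dvd_prod_of_mem d (Finset.mem_univ z))] at this
  have hpos : ∀ z, 0 < D / d z := fun z =>
    Nat.div_pos (Nat.le_of_dvd hD (Finset.dvd_prod_of_mem d (Finset.mem_univ z))) (hd z)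
  refine ⟨∑ z, c z, D, hD, sum_mem fun z _ => hc z,
    fun y hy => Ideal.sum_mem _ fun z _ => Ideal.pow_mem_of_mem _ (hC' z y hy) _ (hpos z), fun z hz hm => ?_⟩
  have hrest : ∑ w ∈ Finset.univ.erase (⟨z, hz⟩ : {z // z ∈ T}), c w ∈ z.asHomogeneousIdeal.toIdeal :=
    Ideal.sum_mem _ fun w hw => Ideal.pow_mem_of_mem _
      (haw w z hz (fun e => Finset.ne_of_mem_erase hw (Subtype.ext e.symm))) _ (hpos w)
  rw [← Finset.add_sum_erase _ _ (Finset.mem_univ (⟨z, hz⟩ : {z // z ∈ T})),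
    Ideal.add_mem_iff_left _ hrest] at hm
  exact haz ⟨z, hz⟩ (z.isPrime.mem_of_pow_mem _ hm)

/-- Finite subsets of an open of Proj lie in a principal affine inside it. -/
theorem exists_basicOpen_le (U : (Proj 𝒜).Opens) (E : Set (Proj 𝒜)) (hE : E.Finite) (hEU : E ⊆ U) :
    ∃ V : (Proj 𝒜).Opens, IsAffineOpen V ∧ E ⊆ V ∧ V ≤ U := by
  classical
  let E₀ : Set (ProjectiveSpectrum 𝒜) := {z ∈ (E : Set (ProjectiveSpectrum 𝒜)) | ∀ w ∈ (E : Set (ProjectiveSpectrum 𝒜)), z ⤳ w → w ⤳ z}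
  have hE₀ : E₀.Finite := hE.subset (Set.sep_subset _ _)
  have hmax : ∀ z ∈ (E : Set (ProjectiveSpectrum 𝒜)), ∃ w ∈ E₀, z ⤳ w := by
    intro z hz
    let : Preorder (ProjectiveSpectrum 𝒜) := specializationPreorder _
    obtain ⟨w, hw, hmin⟩ := (hE.subset (Set.sep_subset E (fun w : ProjectiveSpectrum 𝒜 => z ⤳ w))).exists_minimal
      ⟨z, hz, specializes_rfl⟩
    exact ⟨w, ⟨hw.1, fun v hv hwv => hmin ⟨hv, hw.2.trans hwv⟩ hwv⟩, hw.2⟩
  obtain ⟨h, D, hD, hh, hCh, hTh⟩ := exists_form_avoid 𝒜 (show Set (ProjectiveSpectrum 𝒜) from (U : Set (Proj 𝒜))ᶜ) U.2.isClosed_compl hE₀.toFinset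
    (fun z hz hzC => hzC (hEU (hE₀.mem_toFinset.1 hz).1))
    fun z hz w hw hne hwz => hne ((hE₀.mem_toFinset.1 hw).2 z (hE₀.mem_toFinset.1 hz).1 hwz |>.antisymm hwz).eq
  refine ⟨Proj.basicOpen 𝒜 h, Proj.isAffineOpen_basicOpen 𝒜 h hh hD, fun z hz => ?_, fun z hz => ?_⟩
  · obtain ⟨w, hw, hzw⟩ := hmax z hz
    exact hzw.mem_open (Proj.basicOpen 𝒜 h).2 ((ProjectiveSpectrum.mem_basicOpen _ _ _).2 (hTh w (hE₀.mem_toFinset.2 hw)))
  · by_contra hzU
    exact (ProjectiveSpectrum.mem_basicOpen _ _ _).1 hz (hCh z hzU)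

/-- Finite sets of points of a subscheme of Proj lie in an affine open. -/
theorem exists_affineOpen_of_isImmersion {X : Scheme.{u}} (r : X ⟶ Proj 𝒜) [IsImmersion r] (E : Set X)
    (hE : E.Finite) : ∃ U : X.Opens, IsAffineOpen U ∧ E ⊆ U := by
  obtain ⟨V, hV, hEV, hVU⟩ := exists_basicOpen_le 𝒜 r.coborderRange (r '' E) (hE.image _)
    (Set.image_subset_iff.2 fun x _ => subset_coborder ⟨x, rfl⟩)
  let V' : r.coborderRange.toScheme.Opens := r.coborderRange.ι ⁻¹ᵁ V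
  have hVle : V ≤ r.coborderRange.ι.opensRange := (Scheme.Opens.opensRange_ι _).symm ▸ hVU
  have hV' : IsAffineOpen V' := hV.preimage_of_isOpenImmersion _ hVle
  have hVV : r.coborderRange.ι ''ᵁ V' = V := by
    rw [Scheme.Hom.image_preimage_eq_opensRange_inf, inf_eq_right.2 hVle]
  have haff := hV'.preimage r.liftCoborder
  rw [Scheme.Hom.liftCoborder_preimage, hVV] at haff
  exact ⟨r ⁻¹ᵁ V, haff, fun x hx => hEV ⟨x, hx, rfl⟩⟩

end Groth.Agent.CAlgSmall.ProjAffine
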