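import Groth.Agent.CAlgSmall.QBridge
import Groth.Agent.ProjLib.RelProjBasics
import Mathlib.AlgebraicGeometry.Morphisms.IsIso
import Mathlib.AlgebraicGeometry.Morphisms.SchemeTheoreticallyDominant

/-!
# Ampleness and the morphism to the homogeneous spectrum of the sections of all powers
-/

set_option linter.unusedSectionVars false
set_option autoImplicit false
set_option backward.isDefEq.respectTransparency.types false
set_option maxHeartbeats 1000000

universe u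

open CategoryTheory CategoryTheory.Limits AlgebraicGeometry TopologicalSpace Opposite HomogeneousLocalization
open scoped HomogeneousIdeal
open Groth.Agent.Coherent Groth.Agent.PicLib Groth.Agent.AmpleLib Groth.Agent.QProj

namespace Groth.Agent.CAlgSmall.QAmple
open QBridge

variable {Y X P PL : Scheme.{u}} {q : X ⟶ Y} {L : X.Modules} {𝒮 : RelProj.QCGrAlg Y} {𝒮L : RelProj.QCGrAlg X}
  {j : L ⟶ 𝒮L.toModule} [Coh.IsQCoh L] (hj : RelProj.IsGrSymAlg L 𝒮L j) (hL : PicF.IsInvertible L)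
  (u : RelProj.QGrHom q 𝒮 𝒮L) {p : P ⟶ Y}
  {chart : ∀ (U : Y.Opens) (hU : IsAffineOpen U), (((p ⁻¹ᵁ U : P.Opens) : Scheme.{u}) ≅ Proj (𝒮.deg U hU))}
  (hP : RelProj.IsRelProj 𝒮 p chart) {pL : PL ⟶ X}
  {chartL : ∀ (U : X.Opens) (hU : IsAffineOpen U), (((pL ⁻¹ᵁ U : PL.Opens) : Scheme.{u}) ≅ Proj (𝒮L.deg U hU))}
  (hPL : RelProj.IsRelProj 𝒮L pL chartL)
  {r : (RelProj.domQ u pL chartL).toScheme ⟶ P}
  (hr : RelProj.IsProjQMapOn u p chart pL chartL (RelProj.domQ u pL chartL) r)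
  {U : Y.Opens} (hU : IsAffineOpen U) {n : ℕ} {s : 𝒮.presheaf.obj (op U)}

theorem isHomog_app (hs : s ∈ 𝒮.deg U hU n) : IsHomog n ((u.app U).hom s) :=
  fun V hV hVW => GradedFunLike.map_mem (u.gradedAt U hU V hV hVW) hs

theorem deg_of_app (hu : Function.Injective (u.app U).hom) (hs : IsHomog n ((u.app U).hom s)) :
    s ∈ 𝒮.deg U hU n := by
  classical
  have h : (DirectSum.decompose (𝒮.deg U hU) s n : 𝒮.presheaf.obj (op U)) = s := by
    refine hu (ext_local fun x hx => ?_)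
    obtain ⟨V, hV, hxV, hle⟩ := exists_isAffineOpen_mem_and_subset (x := x) (U := q ⁻¹ᵁ U) hx
    refine ⟨V, hle, hxV, ?_⟩
    show u.gradedAt U hU V hV hle _ = u.gradedAt U hU V hV hle s
    rw [GradedRingHom.map_directSumDecompose (𝒜 := 𝒮.deg U hU) (ℬ := 𝒮L.deg V hV) (u.gradedAt U hU V hV hle)
      (x := s) (i := n)]
    exact DirectSum.decompose_of_mem_same _ (hs V hV hle)
  rw [← h]
  exact SetLike.coe_mem _

variable [IsIso pL]

include hj hPL in
theorem inf_eq_basicOpen {XT : X.Opens} (h : IsSOpen u chartL U hU s XT) (V : X.Opens) (hV : IsAffineOpen V)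
    (hVW : V ≤ q ⁻¹ᵁ U) (g : Γ(L, V)) (hg : IsGen L V g) (c : Γ(X, V))
    (hc : (𝒮L.str.app (op V)).hom c * gn j g ^ n = rs 𝒮L hVW ((u.app U).hom s)) : XT ⊓ V = X.basicOpen c := by
  refine Opens.ext (Set.ext fun x => ?_)
  have main : ∀ hx : x ∈ V, (x ∈ XT ↔ x ∈ X.basicOpen c) := by
    intro hx
    have hz : pL ((inv pL) x) ∈ V := by rw [pL_inv_apply]; exact hx
    have h1 := h.mem_iff V hV hVW _ hz
    have h2 : u.gradedAt U hU V hV hVW s = (𝒮L.str.app (op V)).hom c * gn j g ^ n := hc.symm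
    have hT : (inv pL) x ∈ nz chartL V hV (gn j g ^ n) := by
      refine mem_nz_of_span hj hPL V hV n (fun y hy => ?_) hz
      obtain ⟨r, hr'⟩ := exists_eq_mul_pow hj hV hg n hy
      rw [← hr']
      exact Ideal.mem_span_singleton'.2 ⟨_, rfl⟩
    have hstr := mem_nz_str_iff hPL V hV c hz
    rw [pL_inv_apply] at h1 hstr
    rw [h1, h2, ← hstr]
    simp only [nz, Proj.basicOpen_mul]
    constructor
    · rintro ⟨y, hy, hyx⟩
      exact ⟨y, hy.1, hyx⟩
    · rintro ⟨y, hy, hyx⟩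
      obtain ⟨y', hy', hy'x⟩ := hT
      obtain rfl := (RelProj.emb pL chartL V hV).isOpenEmbedding.injective (hy'x.trans hyx.symm)
      exact ⟨_, ⟨hy, hy'⟩, hyx⟩
  exact ⟨fun hx => (main hx.2).1 hx.1, fun hx => ⟨(main (X.basicOpen_le c hx)).2 hx, X.basicOpen_le c hx⟩⟩

include hj hL hPL in
/-- Loci of homogeneous sections are non-vanishing loci of sections of powers. -/
theorem exists_glocus_eq {XT : X.Opens} (h : IsSOpen u chartL U hU s XT) (hs : s ∈ 𝒮.deg U hU n) :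
    ∃ b' : Γ(CohB1.tensorPow ((Scheme.Modules.pullback (q ⁻¹ᵁ U).ι).obj L) n, ⊤),
      glocus _ b' = (q ⁻¹ᵁ U).ι ⁻¹ᵁ XT := by
  obtain ⟨μ, hμ, -, hsur⟩ := exists_powEquiv hj hL n
  obtain ⟨b, hb⟩ := hsur (q ⁻¹ᵁ U) _ (isHomog_app u hU hs)
  obtain ⟨e, -⟩ := exists_pullPowIso (q ⁻¹ᵁ U).ι hL n
  refine ⟨e.hom.app ⊤ (resM _ (Scheme.Opens.ι_preimage_self _).ge (pullSec (q ⁻¹ᵁ U).ι b)), ?_⟩
  rw [glocus_map_iso]
  refine glocus_pullSec_eq (isInvertible_tensorPow hL n) b _ XT fun x hx => ?_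
  obtain ⟨V, hV, hxV, hVW, g, hg⟩ := exists_gen_nhd hL hx
  refine ⟨V, hVW, _, isGen_powSec hg n, hxV, inf_eq_basicOpen (n := n) hj u hPL hU h V hV hVW g hg _ ?_⟩
  rw [← hμ, ← hb]
  have h1 := (isGen_powSec hg n).coef_spec le_rfl (resM _ hVW b)
  rw [resM_self] at h1
  rw [h1]
  exact app_resM μ hVW b

variable [QuasiCompact q]

include hU in
theorem isCompact_preimage : IsCompact ((q ⁻¹ᵁ U : X.Opens) : Set X) :=
  QuasiCompact.isCompact_preimage (f := q) _ U.2 hU.isCompact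

include hj hL hP hPL hr in
/-- An everywhere defined topological embedding makes the module relatively ample. -/
theorem isRelAmple_of_isEmbedding (htop : RelProj.domQ u pL chartL = ⊤) (hemb : Topology.IsEmbedding r.base) :
    RelAmple.IsRelAmple q L := by
  refine (isRelAmple_iff q).2 ⟨inferInstance, fun ⟨U, hU⟩ => isAmple_iff_affGlocus.2
    ⟨PicLoc.isInvertible_pullback _ hL, isCompact_iff_compactSpace.1 (isCompact_preimage hU), fun z => ?_⟩⟩
  obtain ⟨V, hV, hxV, hVW, g, hg⟩ := exists_gen_nhd hL (W := q ⁻¹ᵁ U) z.2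
  let at' : X → (RelProj.domQ u pL chartL).toScheme := fun y => ⟨(inv pL) y, htop.ge (Set.mem_univ _)⟩
  have hat : ∀ y, pL (at' y).1 = y := fun y => pL_inv_apply (pL := pL) y
  obtain ⟨O, hO, hOS⟩ := hemb.isInducing.isOpen_iff.1
    ((V.2.preimage (pL.continuous.comp continuous_subtype_val) : IsOpen {a : (RelProj.domQ u pL chartL).toScheme | pL a.1 ∈ V}))
  have hmem : ∀ a, r a ∈ O ↔ pL a.1 ∈ V := fun a => Set.ext_iff.1 hOS a
  have hxO : r (at' z.1) ∈ O := (hmem _).2 (by rw [hat]; exact hxV)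
  have hxU : p (r (at' z.1)) ∈ U := by
    rw [apply_qMap u hP hPL hr, hat]
    exact z.2
  obtain ⟨n, hn, s, hs, hxs, hsub⟩ := exists_nz_subset (chart := chart) hO hxO U hU hxU
  obtain ⟨XT, hXT⟩ := exists_isSOpen u hPL hU (s := s) (chartL := chartL)
  have hxT : z.1 ∈ XT := hat z.1 ▸ (mem_preimage_iff u hP hPL hr hU hn hs hXT _).1 hxs
  have hTV : XT ≤ V := fun y hy => hat y ▸ (hmem _).1
    (hsub ((mem_preimage_iff u hP hPL hr hU hn hs hXT (at' y)).2 ((hat y).symm ▸ hy)))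
  obtain ⟨c, hc⟩ := exists_coef hj (isHomog_app u hU hs) hV hVW hg
  have haff : IsAffineOpen XT := by
    rw [← inf_eq_left.2 hTV, inf_eq_basicOpen hj u hPL hU hXT V hV hVW g hg c hc]
    exact hV.basicOpen c
  obtain ⟨b', hb'⟩ := exists_glocus_eq hj hL u hPL hU hXT hs
  refine ⟨n, hn, b', hb'.ge hxT, le_top, ?_⟩
  rw [hb']
  exact haff.preimage_of_isOpenImmersion _ (by rw [Scheme.Opens.opensRange_ι]; exact hXT.le)

include hj hL hPL in
/-- Ampleness gives affine loci of homogeneous sections. -/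
theorem exists_affine_sOpen (hamp : CohB1.IsAmple ((Scheme.Modules.pullback (q ⁻¹ᵁ U).ι).obj L))
    (hu : Function.Bijective (u.app U).hom) {x : X} (hx : x ∈ q ⁻¹ᵁ U) :
    ∃ (n : ℕ) (_ : 0 < n) (s : 𝒮.presheaf.obj (op U)) (_ : s ∈ 𝒮.deg U hU n) (XT : X.Opens),
      IsSOpen u chartL U hU s XT ∧ x ∈ XT ∧ IsAffineOpen XT := by
  obtain ⟨n, hn, b', hxb, -, haff⟩ := (isAmple_iff_affGlocus.1 hamp).2.2 ⟨x, hx⟩
  obtain ⟨e, -⟩ := exists_pullPowIso (q ⁻¹ᵁ U).ι hL n
  obtain ⟨μ, hμ, hhom, -⟩ := exists_powEquiv hj hL n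
  obtain ⟨b, hb⟩ := (bijective_pullSec_of_le (q ⁻¹ᵁ U).ι (CohB1.tensorPow L n) (V := q ⁻¹ᵁ U)
    (Scheme.Opens.opensRange_ι _).ge).2 (resM _ le_top (e.inv.app ⊤ b'))
  obtain ⟨s, hs'⟩ := hu.2 (show 𝒮L.presheaf.obj (op (q ⁻¹ᵁ U)) from μ.app _ b)
  have hs := deg_of_app u hU hu.1 (n := n) (hs' ▸ hhom _ b)
  obtain ⟨XT, hXT⟩ := exists_isSOpen u hPL hU (s := s) (chartL := chartL)
  have h1 : glocus _ (resM _ (Scheme.Opens.ι_preimage_self _).ge (pullSec (q ⁻¹ᵁ U).ι b)) = (q ⁻¹ᵁ U).ι ⁻¹ᵁ XT := by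
    refine glocus_pullSec_eq (isInvertible_tensorPow hL n) b _ XT fun y hy => ?_
    obtain ⟨V, hV, hyV, hVW, g, hg⟩ := exists_gen_nhd hL hy
    refine ⟨V, hVW, _, isGen_powSec hg n, hyV, inf_eq_basicOpen (n := n) hj u hPL hU hXT V hV hVW g hg _ ?_⟩
    rw [← hμ, hs']
    have h1 := (isGen_powSec hg n).coef_spec le_rfl (resM _ hVW b)
    rw [resM_self] at h1
    rw [h1]
    exact app_resM μ hVW b
  have h2 : glocus _ b' = (q ⁻¹ᵁ U).ι ⁻¹ᵁ XT := by
    rw [← h1, hb, resM_resM, resM_self, ← glocus_map_iso e]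
    congr 1
    show b' = (e.inv ≫ e.hom).app ⊤ b'
    rw [e.inv_hom_id]
    rfl
  refine ⟨n, hn, s, hs, XT, hXT, h2.le hxb, ?_⟩
  rw [h2] at haff
  have := haff.image_of_isOpenImmersion (q ⁻¹ᵁ U).ι
  rwa [Scheme.Hom.image_preimage_eq_opensRange_inf, Scheme.Opens.opensRange_ι, inf_eq_right.2 hXT.le] at this

section theta

variable (hn : 0 < n) (hs : s ∈ 𝒮.deg U hU n) {XT : X.Opens} (h : IsSOpen u chartL U hU s XT)

include hj hL in
theorem injective_theta (hu : Function.Injective (u.app U).hom) :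
    Function.Injective (theta u hP hPL hr hU hn hs h).hom := by
  refine (injective_theta_iff hj hL u hP hPL hr hU hn hs h).2 fun m hm s' hs' h0 => ?_
  obtain ⟨k, hk, hk'⟩ := exists_pow_mul_eq_zero hj (isCompact_preimage hU) (isHomog_app u hU hs)
    (isHomog_app u hU hs') hL h.le (inf_eq_basicOpen hj u hPL hU h) h0
  exact ⟨k, hk, hu (by rw [map_mul, map_pow, hk', map_zero])⟩

include hj hL in
theorem surjective_theta (hu : Function.Bijective (u.app U).hom)
    (hqs : IsQuasiSeparated ((q ⁻¹ᵁ U : X.Opens) : Set X)) :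
    Function.Surjective (theta u hP hPL hr hU hn hs h).hom := by
  refine (surjective_theta_iff hj hL u hP hPL hr hU hn hs h).2 fun t => ?_
  obtain ⟨m, e, he, het⟩ := exists_extend hj (isCompact_preimage hU) hqs (isHomog_app u hU hs) hL h.le
    (inf_eq_basicOpen hj u hPL hU h) t
  have he' : IsHomog ((m + 1) * n) (e * (u.app U).hom s) := by
    rw [add_mul, one_mul]; exact he.mul (isHomog_app u hU hs)
  obtain ⟨s', hs'⟩ := hu.2 (e * (u.app U).hom s)
  refine ⟨m + 1, m.succ_pos, s', deg_of_app u hU hu.1 (hs' ▸ he'), ?_⟩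
  show _ * (rs 𝒮L h.le ((u.app U).hom s)) ^ (m + 1) = rs 𝒮L h.le ((u.app U).hom s')
  rw [hs', map_mul, het, pow_succ, mul_assoc]

end theta

theorem isQuasiSeparated_of_isAmple {W : X.Opens} {M : W.toScheme.Modules} (hM : CohB1.IsAmple M) :
    IsQuasiSeparated (W : Set X) := by
  obtain ⟨hinv, hc, h⟩ := isAmple_iff_affGlocus.1 hM
  have := quasiSeparatedSpace_of_affGlocus hinv h
  have h1 := (isQuasiSeparated_univ (α := W.toScheme)).image_of_isEmbedding W.ι.isOpenEmbedding.isEmbedding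
  rwa [Set.image_univ, Scheme.Opens.range_ι] at h1

include hj hL hP hPL hr in
/-- Ampleness over affines covering the base and bijectivity there give an open immersion. -/
theorem isOpenImmersion_of_isAmple
    (H : ∀ x : X, ∃ (U : Y.Opens) (_ : IsAffineOpen U), x ∈ q ⁻¹ᵁ U ∧ Function.Bijective (u.app U).hom ∧
      CohB1.IsAmple ((Scheme.Modules.pullback (q ⁻¹ᵁ U).ι).obj L)) :
    RelProj.domQ u pL chartL = ⊤ ∧ IsOpenImmersion r := by
  choose U hU hxU hbij hamp using H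
  choose n hn s hs XT hXT hxT haff using fun x : X => exists_affine_sOpen hj hL u hPL (hU x) (hamp x) (hbij x) (hxU x)
  refine ⟨eq_top_iff.2 fun z _ => mem_domQ_of_mem u hPL (hU _) (hn _) (hs _) (hXT (pL z)) (hxT (pL z)), ?_⟩
  refine IsZariskiLocalAtTarget.of_range_subset_iSup (P := @IsOpenImmersion)
    (fun x : X => nz chart (U x) (hU x) (s x)) ?_ fun x => ?_
  · rintro _ ⟨a, rfl⟩
    exact Opens.mem_iSup.2 ⟨pL a.1, (mem_preimage_iff u hP hPL hr (hU _) (hn _) (hs _) (hXT _) a).2 (hxT _)⟩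
  · have := (isIso_restrict_iff u hP hPL hr (hU x) (hn x) (hs x) (hXT x)).2 ⟨haff x,
      injective_theta hj hL u hP hPL hr (hU x) (hn x) (hs x) (hXT x) (hbij x).1,
      surjective_theta hj hL u hP hPL hr (hU x) (hn x) (hs x) (hXT x) (hbij x) (isQuasiSeparated_of_isAmple (hamp x))⟩
    exact inferInstanceAs (IsOpenImmersion (r ∣_ _))

include hj hL hP hPL hr in
/-- Injectivity on affines covering the base gives dense image. -/
theorem isDominant_of_injective (hu : ∀ (U : Y.Opens), IsAffineOpen U → Function.Injective (u.app U).hom) :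
    IsDominant r := by
  refine ⟨fun x => mem_closure_iff.2 fun O hO hxO => ?_⟩
  obtain ⟨U, hU, hxU, -⟩ := exists_isAffineOpen_mem_and_subset (x := p x) (U := ⊤) trivial
  obtain ⟨n, hn, s, hs, hxs, hsub⟩ := exists_nz_subset (chart := chart) hO hxO U hU hxU
  obtain ⟨XT, hXT⟩ := exists_isSOpen u hPL hU (s := s) (chartL := chartL)
  by_contra hne
  have hbot : ∀ y, y ∉ XT := by
    intro y hy
    have hd : (inv pL) y ∈ RelProj.domQ u pL chartL :=
      mem_domQ_of_mem u hPL hU hn hs hXT (by rw [pL_inv_apply]; exact hy)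
    refine hne ⟨r ⟨_, hd⟩, hsub ((mem_preimage_iff u hP hPL hr hU hn hs hXT ⟨_, hd⟩).2 ?_), ⟨_, hd⟩, rfl⟩
    show pL ((inv pL) y) ∈ XT
    rw [pL_inv_apply]
    exact hy
  obtain ⟨k, hk, hk'⟩ := exists_pow_mul_eq_zero hj (isCompact_preimage hU) (isHomog_app u hU hs)
    (isHomog_one _) hL hXT.le (inf_eq_basicOpen hj u hPL hU hXT) (ext_local fun y hy => (hbot y hy).elim)
  rw [mul_one, ← map_pow] at hk'
  obtain ⟨y, hy, -⟩ := hxs
  refine hy (y.isPrime.mem_of_pow_mem k ?_)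
  rw [hu U hU (hk'.trans (map_zero _).symm)]
  exact zero_mem _

include hj hL hP hPL hr in
theorem isIso_of_universallyClosed [UniversallyClosed q]
    (H : ∀ x : X, ∃ (U : Y.Opens) (_ : IsAffineOpen U), x ∈ q ⁻¹ᵁ U ∧ Function.Bijective (u.app U).hom ∧
      CohB1.IsAmple ((Scheme.Modules.pullback (q ⁻¹ᵁ U).ι).obj L))
    (hu : ∀ (U : Y.Opens), IsAffineOpen U → Function.Injective (u.app U).hom) :
    RelProj.domQ u pL chartL = ⊤ ∧ IsIso r := by
  obtain ⟨htop, hopen⟩ := isOpenImmersion_of_isAmple hj hL u hP hPL hr H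
  have hdom := isDominant_of_injective hj hL u hP hPL hr hu
  have hsurjι : Surjective (RelProj.domQ u pL chartL).ι :=
    ⟨fun z => ⟨⟨z, htop.ge (Set.mem_univ z)⟩, rfl⟩⟩
  have : IsIso (RelProj.domQ u pL chartL).ι := (isIso_iff_isOpenImmersion_and_surjective _).2 ⟨inferInstance, hsurjι⟩
  have : IsSeparated p := ProjLib.isSeparated_relProj hP
  have : UniversallyClosed (r ≫ p) := by rw [qMap_comp u hP hPL hr]; infer_instance
  have : UniversallyClosed r :=
    MorphismProperty.of_postcomp (W := @UniversallyClosed) (W' := @IsSeparated) r p ‹_› ‹_›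
  refine ⟨htop, (isIso_iff_isOpenImmersion_and_surjective r).2 ⟨hopen, ⟨?_⟩⟩⟩
  rw [← Set.range_eq_univ, ← r.isClosedMap.isClosed_range.closure_eq]
  exact hdom.denseRange.closure_range

include hj hL hP hPL hr in
/-- On an affine base injectivity on global sections gives scheme theoretic density. -/
theorem isSchemeTheoreticallyDominant_of_injective [QuasiCompact r] (hY : IsAffineOpen (⊤ : Y.Opens))
    (hu : Function.Injective (u.app ⊤).hom) : IsSchemeTheoreticallyDominant r := by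
  rw [isSchemeTheoreticallyDominant_iff]
  have hcov : ∀ x : P, ∃ (n : ℕ) (_ : 0 < n) (s : 𝒮.presheaf.obj (op ⊤)), s ∈ 𝒮.deg ⊤ hY n ∧ x ∈ nz chart ⊤ hY s :=
    fun x => exists_nz_mem ⊤ hY (Set.mem_univ _)
  choose n hn s hs hxs using hcov
  refine Scheme.IdealSheafData.ext_of_iSup_eq_top (fun x => ⟨nz chart ⊤ hY (s x),
    (Proj.isAffineOpen_basicOpen (𝒮.deg ⊤ hY) (s x) (hs x) (hn x)).image_of_isOpenImmersion _⟩)
    (eq_top_iff.2 fun x _ => Opens.mem_iSup.2 ⟨x, hxs x⟩) fun x => ?_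
  obtain ⟨XT, hXT⟩ := exists_isSOpen u hPL hY (s := s x) (chartL := chartL)
  have hinj := injective_theta hj hL u hP hPL hr hY (hn x) (hs x) hXT hu
  have htc : Function.Injective (toChart u hP hPL hr hY (hn x) (hs x) hXT).appTop := by
    intro a b hab
    have h1 := hinj (a₁ := (Scheme.ΓSpecIso _).hom a) (a₂ := (Scheme.ΓSpecIso _).hom b) (by
      simp only [theta, CommRingCat.hom_comp, RingHom.comp_apply]
      simp only [← ConcreteCategory.comp_apply, Iso.hom_inv_id_assoc]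
      simp [hab])
    exact (ConcreteCategory.bijective_of_isIso (Scheme.ΓSpecIso _).hom).1 h1
  simp only [Scheme.Hom.ker_apply, Scheme.IdealSheafData.ideal_bot, Pi.bot_apply, ← RingHom.injective_iff_ker_eq_bot]
  rw [injective_iff_map_eq_zero]
  intro v hv
  let D := nz chart ⊤ hY (s x)
  let φ := nzMap chart ⊤ hY (hn x) (hs x)
  have hφ : φ.opensRange = D := opensRange_nzMap ⊤ hY (hn x) (hs x)
  have hpre : φ ⁻¹ᵁ D = ⊤ := by rw [← hφ, Scheme.Hom.preimage_opensRange]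
  have hle : (⊤ : (Spec (CommRingCat.of (Away (𝒮.deg ⊤ hY) (s x)))).Opens) ≤ φ ⁻¹ᵁ D := hpre.ge
  have hinjφ : Function.Injective (φ.appLE D ⊤ hle) := by
    have := φ.isIso_app D hφ.ge
    rw [Scheme.Hom.appLE, show homOfLE hle = eqToHom hpre.symm from Subsingleton.elim _ _]
    exact (ConcreteCategory.bijective_of_isIso (φ.app D ≫ _)).1
  let sm := sMap u hPL hY (hn x) (hs x) hXT
  let tc := toChart u hP hPL hr hY (hn x) (hs x) hXT
  have hfac : tc ≫ φ = sm ≫ r := toChart_fac u hP hPL hr hY (hn x) (hs x) hXT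
  have hle' : (⊤ : XT.toScheme.Opens) ≤ sm ⁻¹ᵁ (r ⁻¹ᵁ D) := by
    rw [← Scheme.Hom.comp_preimage, ← hfac, Scheme.Hom.comp_preimage, hpre]
    exact le_of_eq (Scheme.Hom.preimage_top tc).symm
  refine hinjφ ((htc (?_ : tc.appTop (φ.appLE D ⊤ hle v) = tc.appTop 0)).trans (map_zero _).symm)
  rw [map_zero, Scheme.Hom.appTop, Scheme.Hom.app_eq_appLE, ← ConcreteCategory.comp_apply]
  erw [Scheme.Hom.appLE_comp_appLE]
  simp only [hfac]
  have h1 : ((sm ≫ r).appLE D ⊤ (by rwa [Scheme.Hom.comp_preimage])) v = sm.appLE (r ⁻¹ᵁ D) ⊤ hle' (r.app D v) := by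
    rw [Scheme.Hom.app_eq_appLE, ← ConcreteCategory.comp_apply, Scheme.Hom.appLE_comp_appLE]
  exact h1.trans ((congrArg _ hv).trans (map_zero _))

end Groth.Agent.CAlgSmall.QAmple
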