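import Groth.Agent.CAlgSmall.QAmple
import Groth.Agent.ProjLib.QImm
import Groth.Agent.RelVALib.FTBundle
import Groth.Agent.PnEmb.Criterion

/-!
# An immersion by sections of degree one gives very ampleness
-/

set_option linter.unusedSectionVars false
set_option autoImplicit false
set_option linter.deprecated false
set_option backward.isDefEq.respectTransparency.types false
set_option maxHeartbeats 1000000

universe u

open CategoryTheory CategoryTheory.Limits AlgebraicGeometry TopologicalSpace Opposite HomogeneousLocalization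
open scoped HomogeneousIdeal
open Groth.Agent.Coherent Groth.Agent.PicLib Groth.Agent.AmpleLib Groth.Agent.QProj

namespace Groth.Agent.CAlgSmall.QVery
open QBridge QAmple

variable {Y X : Scheme.{u}} {q : X ⟶ Y} {L : X.Modules} {𝒮L : RelProj.QCGrAlg X} {j : L ⟶ 𝒮L.toModule}
  [Coh.IsQCoh L] (hj : RelProj.IsGrSymAlg L 𝒮L j) (hL : PicF.IsInvertible L)

theorem gn_smul {V : X.Opens} (c : Γ(X, V)) (g : Γ(L, V)) :
    gn j (c • g) = (𝒮L.str.app (op V)).hom c * gn j g :=
  Scheme.Modules.Hom.app_smul j c g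

theorem exists_smul_eq {V : X.Opens} {g : Γ(L, V)} (hg : IsGen L V g) (l : Γ(L, V)) : ∃ c : Γ(X, V), c • g = l := by
  obtain ⟨c, hc⟩ := (hg V le_rfl).2 l
  exact ⟨c, by simpa only [resM_self] using hc⟩

include hj hL in
theorem gn_injective {W : X.Opens} {l l' : Γ(L, W)} (h : gn j l = gn j l') : l = l' := by
  refine AmpleLib.sec_ext _ _ _ fun x hx => ?_
  obtain ⟨V, hV, hxV, hVW, g, hg⟩ := exists_gen_nhd hL hx
  refine ⟨V, hVW, hxV, ?_⟩
  obtain ⟨c, hc⟩ := exists_smul_eq hg (resM L hVW l)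
  obtain ⟨c', hc'⟩ := exists_smul_eq hg (resM L hVW l')
  have h1 := congrArg (rs 𝒮L hVW) h
  rw [rs_gn, rs_gn, ← hc, ← hc', gn_smul, gn_smul, ← pow_one (gn j g)] at h1
  rw [← hc, ← hc', coef_inj hj hV hg h1]

include hj hL in
/-- Sections of degree one are sections of the module. -/
theorem exists_degOne {W : X.Opens} {a : 𝒮L.presheaf.obj (op W)} (ha : IsHomog 1 a) :
    ∃ l : Γ(L, W), gn j l = a := by
  choose V hV hxV hVW g hg using fun x : W => exists_gen_nhd hL x.2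
  choose c hc using fun x : W => exists_coef hj ha (hV x) (hVW x) (hg x)
  obtain ⟨b, hb, -⟩ := TopCat.Sheaf.existsUnique_gluing' (X := X.toTopCat) (Coh.toAb L)
    V W (fun x => homOfLE (hVW x)) (fun x hx => Opens.mem_iSup.2 ⟨⟨x, hx⟩, hxV ⟨x, hx⟩⟩)
    (fun x => c x • g x) fun x y => by
      show resM L (inf_le_left : V x ⊓ V y ≤ V x) _ = resM L (inf_le_right : V x ⊓ V y ≤ V y) _
      refine gn_injective hj hL ?_
      rw [← rs_gn, ← rs_gn, gn_smul, gn_smul, ← pow_one (gn j (g x)), ← pow_one (gn j (g y)), hc, hc, rs_rs, rs_rs]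
  refine ⟨b, ext_local fun x hx => ⟨V ⟨x, hx⟩, hVW _, hxV _, ?_⟩⟩
  rw [rs_gn, show resM L (hVW ⟨x, hx⟩) b = c ⟨x, hx⟩ • g ⟨x, hx⟩ from hb ⟨x, hx⟩, gn_smul, ← pow_one (gn j _), hc]

include hj hL in
/-- Two functions with the same product with a power of a generator are equal. -/
theorem coef_unique {W : X.Opens} {l : Γ(L, W)} (hl : IsGen L W l) (n : ℕ) {a b : Γ(X, W)}
    (h : (𝒮L.str.app (op W)).hom a * gn j l ^ n = (𝒮L.str.app (op W)).hom b * gn j l ^ n) : a = b := by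
  choose V hV hxV hVW g hg using fun x : W => exists_gen_nhd hL x.2
  refine TopCat.Sheaf.eq_of_locally_eq' X.sheaf V W (fun x => homOfLE (hVW x))
    (fun x hx => Opens.mem_iSup.mpr ⟨⟨x, hx⟩, hxV ⟨x, hx⟩⟩) a b fun x => ?_
  have h1 := congrArg (rs 𝒮L (hVW x)) h
  rw [rs_term, rs_term] at h1
  exact coef_inj hj (hV x) (hl.restrict (hVW x)) h1

variable {P PL : Scheme.{u}} {𝒮 : RelProj.QCGrAlg Y} (u : RelProj.QGrHom q 𝒮 𝒮L) {p : P ⟶ Y}
  {chart : ∀ (U : Y.Opens) (hU : IsAffineOpen U), (((p ⁻¹ᵁ U : P.Opens) : Scheme.{u}) ≅ Proj (𝒮.deg U hU))}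
  (hP : RelProj.IsRelProj 𝒮 p chart) {pL : PL ⟶ X}
  {chartL : ∀ (U : X.Opens) (hU : IsAffineOpen U), (((pL ⁻¹ᵁ U : PL.Opens) : Scheme.{u}) ≅ Proj (𝒮L.deg U hU))}
  (hPL : RelProj.IsRelProj 𝒮L pL chartL)
  {r : (RelProj.domQ u pL chartL).toScheme ⟶ P}
  (hr : RelProj.IsProjQMapOn u p chart pL chartL (RelProj.domQ u pL chartL) r)
  {U : Y.Opens} (hU : IsAffineOpen U) [IsIso pL]

include hj hL hPL in
/-- A section of degree one generates the module on its locus. -/
theorem isGen_sOpen {e : 𝒮.presheaf.obj (op U)} (he : e ∈ 𝒮.deg U hU 1) {XT : X.Opens}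
    (h : IsSOpen u chartL U hU e XT) {l : Γ(L, q ⁻¹ᵁ U)} (hl : gn j l = (u.app U).hom e) :
    IsGen L XT (resM L h.le l) ∧
      ∀ O : X.Opens, ∀ hO : O ≤ q ⁻¹ᵁ U, IsGen L O (resM L hO l) → O ≤ XT := by
  have key : ∀ (V : X.Opens) (hVW : V ≤ q ⁻¹ᵁ U) (g : Γ(L, V)) (_ : IsGen L V g) (c : Γ(X, V)),
      IsAffineOpen V → c • g = resM L hVW l → XT ⊓ V = X.basicOpen c := fun V hVW g hg c hV hc => by
    refine inf_eq_basicOpen (n := 1) hj u hPL hU h V hV hVW g hg c ?_
    rw [pow_one, ← gn_smul, hc, ← hl, rs_gn]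
  refine ⟨?_, fun O hO hgen x hx => ?_⟩
  · choose V hV hxV hVW g hg using fun x : XT => exists_gen_nhd hL x.2
    refine isGen_of_cover V hVW (fun x hx => Opens.mem_iSup.2 ⟨⟨x, hx⟩, hxV ⟨x, hx⟩⟩) fun x => ?_
    obtain ⟨c, hc⟩ := exists_smul_eq (hg x) (resM L ((hVW x).trans h.le) l)
    have h1 := key (V x) ((hVW x).trans h.le) (g x) (hg x) c (hV x) hc
    rw [inf_eq_right.2 (hVW x)] at h1
    have hu : IsUnit c := by
      refine X.toRingedSpace.isUnit_of_isUnit_germ (V x) c fun y hy => ?_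
      exact (Scheme.mem_basicOpen X c y hy).mp (h1.le hy)
    rw [resM_resM, ← hc]
    exact (hg x).smul_unit hu.unit
  · obtain ⟨V, hV, hxV, hle, g, hg⟩ := exists_gen_nhd hL hx
    obtain ⟨c, hc⟩ := exists_smul_eq hg (resM L (hle.trans hO) l)
    have h1 := key V (hle.trans hO) g hg c hV hc
    have h2 : IsGen L V (c • g) := by
      rw [hc, ← resM_resM L hO hle]
      exact hgen.restrict hle
    obtain ⟨d, hd⟩ := exists_smul_eq h2 g
    have hu : IsUnit c := by
      refine IsUnit.of_mul_eq_one_right d ((hg V le_rfl).1 ?_)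
      show (d * c) • resM L le_rfl g = (1 : Γ(X, V)) • resM L le_rfl g
      rw [resM_self, mul_smul, hd, one_smul]
    have h3 : X.basicOpen c = V := X.toRingedSpace.basicOpen_of_isUnit hu
    exact (h1.trans h3).ge hxV |>.1

variable [QuasiCompact q]

include hj hL hP hPL hr in
/-- An immersion by an algebra generated in degree one, whose degree one part generates the module, gives very
ampleness. -/
theorem isRelVeryAmple_of_immersion (h1 : 𝒮.IsGenDegOne)
    (h0 : ∀ (U : Y.Opens) (hU : IsAffineOpen U),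
      ((𝒮.deg U hU 0 : AddSubgroup (𝒮.presheaf.obj (op U))) : Set (𝒮.presheaf.obj (op U))) =
        Set.range (𝒮.str.app (op U)).hom)
    (hcovx : ∀ x : X, ∃ (U : Y.Opens) (hU : IsAffineOpen U) (e : 𝒮.presheaf.obj (op U))
      (_ : e ∈ 𝒮.deg U hU 1) (XT : X.Opens), IsSOpen u chartL U hU e XT ∧ x ∈ XT)
    [IsImmersion r] : RelProj.IsRelVeryAmple q L := by
  choose U hU e he XT hXT hxT using hcovx
  choose l hl using fun x => exists_degOne hj hL (isHomog_app u (hU x) (he x))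
  have htop : RelProj.domQ u pL chartL = ⊤ :=
    eq_top_iff.2 fun z _ => mem_domQ_of_mem u hPL (hU _) one_pos (he _) (hXT (pL z)) (hxT (pL z))
  have : IsSeparated p := ProjLib.isSeparated_relProj hP
  have hsι : Surjective (RelProj.domQ u pL chartL).ι := ⟨fun z => ⟨⟨z, htop.ge (Set.mem_univ z)⟩, rfl⟩⟩
  have : IsIso (RelProj.domQ u pL chartL).ι := (isIso_iff_isOpenImmersion_and_surjective _).2 ⟨inferInstance, hsι⟩
  have : IsSeparated q := by
    have h2 := qMap_comp u hP hPL hr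
    have hq : q = inv ((RelProj.domQ u pL chartL).ι ≫ pL) ≫ r ≫ p := by
      rw [IsIso.eq_inv_comp, h2, Category.assoc]
    rw [hq]; infer_instance
  have hE := Coherent.isQCoh_push q L
  refine RelVALib.isRelVeryAmple_of_classifies q L _ hE (𝟙 _)
    (fun x => ⟨U x, hU x, l x, XT x, (hXT x).le, hxT x, (isGen_sOpen hj hL u hPL (hU x) (he x) (hXT x) (hl x)).1⟩)
    fun 𝒯 jT Q pQ chartQ OQ lamQ φ D r₂ hr₂ τ hτ => ?_
  have hpiece : ∀ x : X, ∃ V : Q.Opens, IsAffineOpen V ∧ IsAffineOpen (r₂ ⁻¹ᵁ V) ∧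
      Function.Surjective (r₂.app V) ∧ r₂ x ∈ V := by
    intro x
    let O := RelVALib.opn jT pQ chartQ (hU x) (l x)
    obtain ⟨hgen, hmax⟩ := isGen_sOpen hj hL u hPL (hU x) (he x) (hXT x) (hl x)
    have hge : XT x ≤ r₂ ⁻¹ᵁ O :=
      (RelVALib.range_le_iff r₂ _).1 (RelVALib.good_of_classifies D hτ (hU x) (l x) (hXT x).le hgen).range
    have hW' : r₂ ⁻¹ᵁ O ≤ q ⁻¹ᵁ U x := (r₂.preimage_mono (D.opn_le _ _)).trans (RelVALib.le_of_over hr₂ _)
    have hle : r₂ ⁻¹ᵁ O ≤ XT x := hmax _ hW' (RelVALib.isGen_classified D hτ (hU x) (l x) hW')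
    let T : 𝒮L.presheaf.obj (op (XT x)) := gn j (resM L (hXT x).le (l x))
    have hT : (u.appLE (U x) (XT x) (hXT x).le).hom (e x) = T := by
      show rs 𝒮L (hXT x).le ((u.app (U x)).hom (e x)) = _
      rw [← hl x, rs_gn]
    let F : Γ(Q, O) →+* Γ(X, XT x) := (r₂.appLE O (XT x) hge).hom
    let θ := (theta u hP hPL hr (hU x) one_pos (he x) (hXT x)).hom
    have hFbase : ∀ a : Γ(Y, U x), F (pQ.appLE (U x) O (D.opn_le _ _) a) = (q.appLE (U x) (XT x) (hXT x).le).hom a := fun a => by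
      show (pQ.appLE (U x) O _ ≫ r₂.appLE O (XT x) hge) a = _
      rw [Scheme.Hom.appLE_comp_appLE]
      simp only [hr₂]
    have hrange : F.range.comap θ = ⊤ := by
      refine RelVALib.away_closure_eq_top (RelVALib.adjoin_degOne_eq_top h1 (hU x)) (he x) _
        (fun a ha => ?_) fun a ha => ?_
      · obtain ⟨a₀, rfl⟩ : ∃ a₀, (𝒮.str.app (op (U x))).hom a₀ = a := by
          have : a ∈ (𝒮.deg (U x) (hU x) 0 : Set (𝒮.presheaf.obj (op (U x)))) := by simpa using ha
          rwa [h0] at this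
        exact ⟨_, (hFbase a₀).trans (theta_mk_zero hj hL u hP hPL hr (hU x) one_pos (he x) (hXT x) a₀ ha).symm⟩
      · obtain ⟨la, hla⟩ := exists_degOne hj hL (isHomog_app u (hU x) (n := 1) (s := a) (by simpa using ha))
        obtain ⟨d, hd⟩ := (D.isGen_phi (hU x) (l x) _ le_rfl).2 (resM OQ (D.opn_le (hU x) (l x)) (φ.app (U x) la))
        change d • resM OQ le_rfl _ = _ at hd
        rw [resM_self] at hd
        refine ⟨d, ((theta_mk_eq_iff hj hL u hP hPL hr (hU x) one_pos (he x) (hXT x) 1 a ha (F d)).2 ?_).symm⟩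
        have h2 : F d • resM L (hXT x).le (l x) = resM L (hXT x).le la :=
          RelVALib.appLE_smul_classified D hτ (hU x) hd hge (hXT x).le
        rw [hT, pow_one, show (u.appLE (U x) (XT x) (hXT x).le).hom a = gn j (resM L (hXT x).le la) by
          show rs 𝒮L (hXT x).le ((u.app (U x)).hom a) = _
          rw [← hla, rs_gn], ← h2, gn_smul]
    let a : (RelProj.domQ u pL chartL).toScheme := ⟨(inv pL) x, htop.ge (Set.mem_univ _)⟩
    have hax : pL a.1 = x := pL_inv_apply (pL := pL) x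
    obtain ⟨n, hn, s, hs, hxs, hsub⟩ := exists_nz_subset (chart := chart)
      (r.coborderRange.isOpen.inter (nz chart (U x) (hU x) (e x)).isOpen)
      (show r a ∈ (r.coborderRange : Set P) ∩ (nz chart (U x) (hU x) (e x) : Set P) from ⟨subset_coborder ⟨a, rfl⟩,
        (mem_preimage_iff u hP hPL hr (hU x) one_pos (he x) (hXT x) a).2 (hax.symm ▸ hxT x)⟩) (U x) (hU x)
      (by rw [apply_qMap u hP hPL hr, hax]; exact (hXT x).le (hxT x))
    obtain ⟨S, hS⟩ := exists_isSOpen u hPL (hU x) (s := s) (chartL := chartL)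
    have hxS : x ∈ S := hax ▸ (mem_preimage_iff u hP hPL hr (hU x) hn hs hS a).1 hxs
    have hSX : S ≤ XT x := fun y hy => by
      let b : (RelProj.domQ u pL chartL).toScheme := ⟨(inv pL) y, htop.ge (Set.mem_univ _)⟩
      have hby : pL b.1 = y := pL_inv_apply (pL := pL) y
      exact hby ▸ (mem_preimage_iff u hP hPL hr (hU x) one_pos (he x) (hXT x) b).1
        (hsub ((mem_preimage_iff u hP hPL hr (hU x) hn hs hS b).2 (hby.symm ▸ hy))).2
    obtain ⟨haff, hsurj⟩ := (isClosedImmersion_restrict_iff u hP hPL hr (hU x) hn hs hS).1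
      (isClosedImmersion_restrict_of_le r fun y hy => (hsub hy).1)
    have hlift : ∀ (m : ℕ) (t : 𝒮.presheaf.obj (op (U x))), t ∈ 𝒮.deg (U x) (hU x) m →
        ∃ d : Γ(Q, O), (𝒮L.str.app (op (XT x))).hom (F d) * T ^ m = (u.appLE (U x) (XT x) (hXT x).le).hom t := fun m t ht => by
      obtain ⟨d, hd⟩ := hrange.ge (Subring.mem_top (Away.mk (𝒮.deg (U x) (hU x)) (he x) m t (by simpa using ht)))
      refine ⟨d, ?_⟩
      rw [← hT]
      exact (theta_mk_eq_iff hj hL u hP hPL hr (hU x) one_pos (he x) (hXT x) m t _ (F d)).1 hd.symm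
    obtain ⟨cc, hcc⟩ := hlift n s hs
    have hSc : X.basicOpen (F cc) = S := by
      have hiff : ∀ y, y ∈ XT x → (y ∈ S ↔ y ∈ X.basicOpen (F cc)) := fun y hy => by
        obtain ⟨V, hV, hyV, hVX, g, hg⟩ := exists_gen_nhd hL hy
        have h2 := inf_eq_basicOpen (n := n) hj u hPL (hU x) hS V hV (hVX.trans (hXT x).le) _ (hgen.restrict hVX)
          (res hVX (F cc)) (by
            rw [← rs_term, hcc]
            exact rs_rs (hXT x).le hVX _)
        have h3 := SetLike.ext_iff.1 h2 y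
        rw [Scheme.basicOpen_res] at h3
        exact ⟨fun hS => (h3.1 ⟨hS, hyV⟩).2, fun hB => (h3.2 ⟨hyV, hB⟩).1⟩
      refine Opens.ext (Set.ext fun y => ⟨fun hy => (hiff y (X.basicOpen_le _ hy)).2 hy, fun hy => (hiff y (hSX hy)).1 hy⟩)
    have hpre : r₂ ⁻¹ᵁ Q.basicOpen cc = S := by
      rw [← hSc]
      show _ = X.basicOpen (r₂.appLE O (XT x) hge cc)
      rw [Scheme.Hom.appLE, CommRingCat.comp_apply, Scheme.basicOpen_res, ← Scheme.preimage_basicOpen,
        inf_eq_right.2 ((r₂.preimage_mono (Q.basicOpen_le cc)).trans hle)]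
    refine ⟨Q.basicOpen cc, (D.isAffineOpen_opn _ _).basicOpen cc, hpre ▸ haff, ?_, hpre.ge hxS⟩
    have hSc' : S ≤ r₂ ⁻¹ᵁ Q.basicOpen cc := hpre.ge
    let G : Γ(Q, Q.basicOpen cc) →+* Γ(X, S) := (r₂.appLE (Q.basicOpen cc) S hSc').hom
    have hGF : ∀ d : Γ(Q, O), G (res (Q.basicOpen_le cc) d) = res hSX (F d) := fun d => by
      show (Q.presheaf.map (homOfLE (Q.basicOpen_le cc)).op ≫ r₂.appLE (Q.basicOpen cc) S hSc') d =
        (r₂.appLE O (XT x) hge ≫ X.presheaf.map (homOfLE hSX).op) d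
      rw [Scheme.Hom.map_appLE, Scheme.Hom.appLE_map]
    have hunit : IsUnit (res (Q.basicOpen_le cc) cc) := Q.toRingedSpace.isUnit_res_basicOpen cc
    suffices hG : Function.Surjective G by
      intro t
      obtain ⟨z, hz⟩ := hG (res hSc' t)
      refine ⟨z, ?_⟩
      have h2 : Function.Injective (res (X := X) hSc') := by
        intro a b hab
        have := congrArg (res (hpre.le : r₂ ⁻¹ᵁ Q.basicOpen cc ≤ S)) hab
        rw [PicLib.res_res, PicLib.res_res] at this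
        have h0 : ∀ c : Γ(X, r₂ ⁻¹ᵁ Q.basicOpen cc), res (le_refl _) c = c :=
          fun c => ConcreteCategory.congr_hom (X.presheaf.map_id (op _)) c
        exact (h0 a).symm.trans (this.trans (h0 b))
      exact h2 hz
    intro t
    obtain ⟨m, -, s', hs', ht⟩ := (surjective_theta_iff hj hL u hP hPL hr (hU x) hn hs hS).1 hsurj t
    obtain ⟨d, hd⟩ := hlift (m * n) s' hs'
    have hC : G (res (Q.basicOpen_le cc) cc) ^ m * t = G (res (Q.basicOpen_le cc) d) := by
      refine coef_unique hj hL (hgen.restrict hSX) (m * n) ?_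
      rw [hGF, hGF, map_mul, map_pow, ← rs_str, ← rs_str, resM_resM]
      have h3 := congrArg (rs 𝒮L hSX) hd
      have h4 := congrArg (rs 𝒮L hSX) hcc
      rw [map_mul, map_pow, rs_gn, resM_resM] at h3 h4
      have hus : ∀ v, rs 𝒮L hSX ((u.appLE (U x) (XT x) (hXT x).le).hom v) = (u.appLE (U x) S hS.le).hom v :=
        fun v => rs_rs (hXT x).le hSX _
      rw [hus] at h3 h4
      rw [h3, ← ht, ← h4]
      ring
    refine ⟨↑(hunit.unit⁻¹) ^ m * res (Q.basicOpen_le cc) d, ?_⟩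
    rw [map_mul, map_pow, ← hC, ← mul_assoc, ← mul_pow, ← map_mul]
    rw [hunit.val_inv_mul, map_one, one_pow, one_mul]
  choose V hV hpre hsur hxV using hpiece
  exact PnEmb.isImmersion_of_charts r₂ V hV hpre hsur fun x => ⟨x, hxV x⟩

end Groth.Agent.CAlgSmall.QVery
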