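import Groth.Agent.CAlgSmall.QVery

/-!
# Very ampleness makes the canonical morphism into the bundle of the direct image an immersion
-/

set_option linter.unusedSectionVars false
set_option autoImplicit false
set_option linter.deprecated false
set_option backward.isDefEq.respectTransparency.types false
set_option maxHeartbeats 1000000

universe u

open CategoryTheory CategoryTheory.Limits AlgebraicGeometry TopologicalSpace Opposite HomogeneousLocalization
open scoped HomogeneousIdeal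
open Groth.Agent.Coherent Groth.Agent.PicLib Groth.Agent.AmpleLib Groth.Agent.QProj

namespace Groth.Agent.CAlgSmall.QVery2
open QBridge QAmple QVery

variable {Y X P PL : Scheme.{u}} {q : X ⟶ Y} {L : X.Modules} {𝒮 : RelProj.QCGrAlg Y} {𝒮L : RelProj.QCGrAlg X}
  {j : L ⟶ 𝒮L.toModule} [Coh.IsQCoh L] (hj : RelProj.IsGrSymAlg L 𝒮L j) (hL : PicF.IsInvertible L)
  (u : RelProj.QGrHom q 𝒮 𝒮L) {p : P ⟶ Y}
  {chart : ∀ (U : Y.Opens) (hU : IsAffineOpen U), (((p ⁻¹ᵁ U : P.Opens) : Scheme.{u}) ≅ Proj (𝒮.deg U hU))}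
  (hP : RelProj.IsRelProj 𝒮 p chart) {pL : PL ⟶ X}
  {chartL : ∀ (U : X.Opens) (hU : IsAffineOpen U), (((pL ⁻¹ᵁ U : PL.Opens) : Scheme.{u}) ≅ Proj (𝒮L.deg U hU))}
  (hPL : RelProj.IsRelProj 𝒮L pL chartL)
  {r : (RelProj.domQ u pL chartL).toScheme ⟶ P}
  (hr : RelProj.IsProjQMapOn u p chart pL chartL (RelProj.domQ u pL chartL) r)
  [IsIso pL] [QuasiCompact q]
  {jE : (Scheme.Modules.pushforward q).obj L ⟶ 𝒮.toModule}

include hj hL hP hPL hr in
theorem isImmersion_of_isRelVeryAmple [Coh.IsQCoh ((Scheme.Modules.pushforward q).obj L)]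
    (h𝒮 : RelProj.IsGrSymAlg ((Scheme.Modules.pushforward q).obj L) 𝒮 jE)
    (hu : ∀ (U : Y.Opens) (x : Γ((Scheme.Modules.pushforward q).obj L, U)),
      (u.app U).hom (jE.app U x) = j.app (q ⁻¹ᵁ U) x)
    (hva : RelProj.IsRelVeryAmple q L) :
    RelProj.domQ u pL chartL = ⊤ ∧ IsImmersion r := by
  obtain ⟨O1, lam, hO1⟩ := TwistLib.G.exists_isRelTwist (n := (1 : ℤ)) hP
  obtain ⟨φ, D⟩ := RelVALib.exists_pBundle ‹Coh.IsQCoh ((Scheme.Modules.pushforward q).obj L)› h𝒮 hP hO1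
  have hcov : ∀ x : X, ∃ (U : Y.Opens) (_ : IsAffineOpen U) (e : Γ((Scheme.Modules.pushforward q).obj L, U))
      (W : X.Opens) (hW : W ≤ q ⁻¹ᵁ U), x ∈ W ∧ IsGen L W (resM L hW ((𝟙 ((Scheme.Modules.pushforward q).obj L) :
        (Scheme.Modules.pushforward q).obj L ⟶ _).app U e)) := fun x => by
    obtain ⟨A, hA, hxA, -⟩ : ∃ A : Y.Opens, IsAffineOpen A ∧ q x ∈ A ∧ A ≤ ⊤ :=
      Opens.isBasis_iff_nbhd.1 Y.isBasis_affineOpens (show q x ∈ (⊤ : Y.Opens) from trivial)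
    have : IsAffine A.toScheme := hA
    exact RelVALib.exists_gen_of_chart A.ι (q ⁻¹ᵁ A).ι (q ∣_ A) (morphismRestrict_ι q A)
      (by rw [Scheme.Opens.opensRange_ι, Scheme.Opens.opensRange_ι]) hL (RelVALib.isRelVeryAmple_morphismRestrict hva A) ⟨x, hxA⟩
  obtain ⟨r₂, hr₂, τ, hτ⟩ := RelVALib.exists_classifies D hcov
  have himm : IsImmersion r₂ := by
    refine RelVALib.isImmersion_of_cover r₂ (fun A : Y.affineOpens => p ⁻¹ᵁ A.1) (fun x => ?_) fun A => ?_
    · obtain ⟨A, hA, hxA, -⟩ := Opens.isBasis_iff_nbhd.1 Y.isBasis_affineOpens (show q x ∈ (⊤ : Y.Opens) from trivial)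
      exact ⟨⟨A, hA⟩, RelVALib.ge_of_over hr₂ A hxA⟩
    · have : IsAffine A.1.toScheme := A.2
      have h1 := RelVALib.isImmersion_of_chart A.1.ι (q ⁻¹ᵁ A.1).ι (q ∣_ A.1) (morphismRestrict_ι q A.1)
        (by rw [Scheme.Opens.opensRange_ι, Scheme.Opens.opensRange_ι]) D hτ hL (RelVALib.isRelVeryAmple_morphismRestrict hva A.1)
      have he : r₂ ⁻¹ᵁ (p ⁻¹ᵁ A.1) = q ⁻¹ᵁ A.1 :=
        le_antisymm (RelVALib.le_of_over hr₂ _) (RelVALib.ge_of_over hr₂ _)
      rw [← Scheme.isoOfEq_hom_ι X he, Category.assoc]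
      infer_instance
  choose U hU e W hW hxW hgenW using hcov
  have hs1 : ∀ x, RelVALib.gen1 jE (U x) (e x) ∈ 𝒮.deg (U x) (hU x) 1 := fun x => D.gen1_mem (hU x) (e x)
  choose XT hXT using fun x => exists_isSOpen u hPL (hU x) (s := RelVALib.gen1 jE (U x) (e x)) (chartL := chartL)
  have hl : ∀ x, gn j (show Γ(L, q ⁻¹ᵁ U x) from e x) = (u.app (U x)).hom (RelVALib.gen1 jE (U x) (e x)) :=
    fun x => (hu (U x) (e x)).symm
  have hsO := fun x => isGen_sOpen hj hL u hPL (hU x) (hs1 x) (hXT x) (hl x)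
  have hxT : ∀ x, x ∈ XT x := fun x => (hsO x).2 (W x) (hW x) (hgenW x) (hxW x)
  have htop : RelProj.domQ u pL chartL = ⊤ :=
    eq_top_iff.2 fun z _ => mem_domQ_of_mem u hPL (hU _) one_pos (hs1 _) (hXT (pL z)) (hxT (pL z))
  have hpiece : ∀ x : X, ∃ (n : ℕ) (hn : 0 < n) (s : 𝒮.presheaf.obj (op (U x))) (_ : s ∈ 𝒮.deg (U x) (hU x) n)
      (S : X.Opens), IsSOpen u chartL (U x) (hU x) s S ∧ x ∈ S ∧
        IsClosedImmersion (r ∣_ nz chart (U x) (hU x) s) := by
    intro x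
    obtain ⟨hgen, hmax⟩ := hsO x
    let T : 𝒮L.presheaf.obj (op (XT x)) := gn j (resM L (hXT x).le (show Γ(L, q ⁻¹ᵁ U x) from e x))
    let O := RelVALib.opn jE p chart (hU x) (e x)
    have hge : XT x ≤ r₂ ⁻¹ᵁ O :=
      (RelVALib.range_le_iff r₂ _).1 (RelVALib.good_of_classifies D hτ (hU x) (e x) (hXT x).le hgen).range
    have hW' : r₂ ⁻¹ᵁ O ≤ q ⁻¹ᵁ U x := (r₂.preimage_mono (D.opn_le _ _)).trans (RelVALib.le_of_over hr₂ _)
    have hle : r₂ ⁻¹ᵁ O ≤ XT x := hmax _ hW' (RelVALib.isGen_classified D hτ (hU x) (e x) hW')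
    have hus : ∀ v, (u.appLE (U x) (XT x) (hXT x).le).hom v = rs 𝒮L (hXT x).le ((u.app (U x)).hom v) := fun v => rfl
    have hT : (u.appLE (U x) (XT x) (hXT x).le).hom (RelVALib.gen1 jE (U x) (e x)) = T := by
      rw [hus, ← hl x, rs_gn]
    let F : Γ(P, O) →+* Γ(X, XT x) := (r₂.appLE O (XT x) hge).hom
    let θ := (theta u hP hPL hr (hU x) one_pos (hs1 x) (hXT x)).hom
    let Θ := RelVALib.PBundle.theta (p := p) (chart := chart) h𝒮 (hU x) (e x)
    have hFbase : ∀ a : Γ(Y, U x), F (p.appLE (U x) O (D.opn_le _ _) a) = (q.appLE (U x) (XT x) (hXT x).le).hom a := fun a => by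
      show (p.appLE (U x) O _ ≫ r₂.appLE O (XT x) hge) a = _
      rw [Scheme.Hom.appLE_comp_appLE]
      simp only [hr₂]
    have hθ : ∀ z, θ z = F (Θ z) := by
      refine fun z => SetLike.ext_iff.1 (RelVALib.away_closure_eq_top (RelVALib.adjoin_degOne_eq_top D.hgen (hU x))
        (hs1 x) (RingHom.eqLocus θ (F.comp Θ)) (fun a ha => ?_) fun a ha => ?_) z |>.2 (Subring.mem_top z)
      · obtain ⟨a₀, rfl⟩ := (SymAlgLib.deg_zero_one h𝒮 (hU x) a).1 (by simpa using ha)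
        show θ _ = F (Θ _)
        rw [D.theta_zero (hU x) (e x) a₀ ha, hFbase]
        exact theta_mk_zero hj hL u hP hPL hr (hU x) one_pos (hs1 x) (hXT x) a₀ ha
      · obtain ⟨la, rfl⟩ := (SymAlgLib.deg_zero_one h𝒮 (hU x) a).2 (by simpa using ha)
        have hd := D.theta_one (hU x) (e x) la ha
        refine (theta_mk_eq_iff hj hL u hP hPL hr (hU x) one_pos (hs1 x) (hXT x) 1 _ ha (F (Θ _))).2 ?_
        have h2 := RelVALib.appLE_smul_classified D hτ (hU x) hd hge (hXT x).le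
        rw [hT, pow_one]
        refine (gn_smul _ _).symm.trans ((congrArg (gn j) h2).trans ?_)
        rw [hus]
        refine (rs_gn (hXT x).le (show Γ(L, q ⁻¹ᵁ U x) from la)).symm.trans (congrArg _ ?_)
        exact (hu (U x) la).symm
    have hF : ∀ d : Γ(P, O), ∃ (l : ℕ) (t : 𝒮.presheaf.obj (op (U x))) (_ : t ∈ 𝒮.deg (U x) (hU x) l),
        (𝒮L.str.app (op (XT x))).hom (F d) * T ^ l = (u.appLE (U x) (XT x) (hXT x).le).hom t := fun d => by
      obtain ⟨z, rfl⟩ := (D.theta_bijective (hU x) (e x)).2 d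
      obtain ⟨l, t, ht, rfl⟩ := Away.mk_surjective (𝒮.deg (U x) (hU x)) (hs1 x) z
      refine ⟨l, t, by simpa using ht, ?_⟩
      rw [← hT]
      exact (theta_mk_eq_iff hj hL u hP hPL hr (hU x) one_pos (hs1 x) (hXT x) l t ht _).1 (hθ _)
    obtain ⟨cc, hccV, hxc⟩ := (D.isAffineOpen_opn (hU x) (e x)).exists_basicOpen_le
      (V := O ⊓ r₂.coborderRange) ⟨r₂ x, hge (hxT x), subset_coborder ⟨x, rfl⟩⟩ (hge (hxT x))
    obtain ⟨m, s, hs, hcc⟩ := hF cc
    obtain ⟨haffB, hsurB⟩ := RelVALib.surjective_app_of_le_coborderRange r₂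
      ((D.isAffineOpen_opn (hU x) (e x)).basicOpen cc) fun y hy => (hccV hy).2
    let s' := s * RelVALib.gen1 jE (U x) (e x)
    have hs' : s' ∈ 𝒮.deg (U x) (hU x) (m + 1) := SetLike.mul_mem_graded hs (hs1 x)
    obtain ⟨S, hS⟩ := exists_isSOpen u hPL (hU x) (s := s') (chartL := chartL)
    have hSX : S ≤ XT x := fun y hy => by
      obtain ⟨V, hV, hyV, hVW, g, hg⟩ := exists_gen_nhd hL (hS.le hy)
      have hz : pL ((inv pL) y) ∈ V := by rw [pL_inv_apply]; exact hyV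
      have h1 := (hS.mem_iff V hV hVW _ hz).1 (by rw [pL_inv_apply]; exact hy)
      have h2 := (hXT x).mem_iff V hV hVW _ hz
      rw [pL_inv_apply] at h2
      obtain ⟨w, hw, hwy⟩ := h1
      refine h2.2 ⟨w, fun hc => hw ?_, hwy⟩
      show u.gradedAt (U x) (hU x) V hV hVW (s * RelVALib.gen1 jE (U x) (e x)) ∈ w.asHomogeneousIdeal.toIdeal
      rw [map_mul]
      exact Ideal.mul_mem_left _ _ hc
    have hs's : (u.appLE (U x) (XT x) (hXT x).le).hom s' = (𝒮L.str.app (op (XT x))).hom (F cc) * T ^ (m + 1) := by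
      rw [map_mul, ← hcc, hT, pow_succ, mul_assoc]
    have hSc : X.basicOpen (F cc) = S := by
      have hiff : ∀ y, y ∈ XT x → (y ∈ S ↔ y ∈ X.basicOpen (F cc)) := fun y hy => by
        obtain ⟨V, hV, hyV, hVX, g, hg⟩ := exists_gen_nhd hL hy
        have h2 := inf_eq_basicOpen (n := m + 1) hj u hPL (hU x) hS V hV (hVX.trans (hXT x).le) _ (hgen.restrict hVX)
          (res hVX (F cc)) (by rw [← rs_term, ← hs's, hus, rs_rs])
        have h3 := SetLike.ext_iff.1 h2 y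
        rw [Scheme.basicOpen_res] at h3
        exact ⟨fun hS => (h3.1 ⟨hS, hyV⟩).2, fun hB => (h3.2 ⟨hyV, hB⟩).1⟩
      refine Opens.ext (Set.ext fun y => ⟨fun hy => (hiff y (X.basicOpen_le _ hy)).2 hy, fun hy => (hiff y (hSX hy)).1 hy⟩)
    have hpre : r₂ ⁻¹ᵁ P.basicOpen cc = S := by
      rw [← hSc]
      show _ = X.basicOpen (r₂.appLE O (XT x) hge cc)
      rw [Scheme.Hom.appLE, CommRingCat.comp_apply, Scheme.basicOpen_res, ← Scheme.preimage_basicOpen,
        inf_eq_right.2 ((r₂.preimage_mono (P.basicOpen_le cc)).trans hle)]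
    refine ⟨m + 1, m.succ_pos, s', hs', S, hS, hpre.le hxc, ?_⟩
    refine (isClosedImmersion_restrict_iff u hP hPL hr (hU x) m.succ_pos hs' hS).2 ⟨hpre ▸ haffB,
      (surjective_theta_iff hj hL u hP hPL hr (hU x) m.succ_pos hs' hS).2 fun t => ?_⟩
    obtain ⟨z, hz⟩ := hsurB (res hpre.le t)
    have := (D.isAffineOpen_opn (hU x) (e x)).isLocalization_basicOpen cc
    obtain ⟨⟨d, ⟨_, k, rfl⟩⟩, hzd⟩ := IsLocalization.surj (Submonoid.powers cc) z
    obtain ⟨l, td, htd, hd⟩ := hF d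
    have htz : t * res hSX (F cc) ^ k = res hSX (F d) := by
      let G : Γ(P, P.basicOpen cc) →+* Γ(X, S) := (r₂.appLE (P.basicOpen cc) S hpre.ge).hom
      have hGF : ∀ d : Γ(P, O), G (algebraMap Γ(P, O) Γ(P, P.basicOpen cc) d) = res hSX (F d) := fun d => by
        show (P.presheaf.map (homOfLE (P.basicOpen_le cc)).op ≫ r₂.appLE (P.basicOpen cc) S hpre.ge) d =
          (r₂.appLE O (XT x) hge ≫ X.presheaf.map (homOfLE hSX).op) d
        rw [Scheme.Hom.map_appLE, Scheme.Hom.appLE_map]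
      have hGz : G z = t := by
        show r₂.appLE (P.basicOpen cc) S hpre.ge z = t
        rw [Scheme.Hom.appLE, CommRingCat.comp_apply, hz]
        show res hpre.ge (res hpre.le t) = t
        rw [PicLib.res_res]
        exact ConcreteCategory.congr_hom (X.presheaf.map_id (op S)) t
      have h1 := congrArg G hzd
      rw [map_mul, map_pow, map_pow, hGF, hGF, hGz] at h1
      exact h1
    refine ⟨k + l + 1, Nat.succ_pos _, td * s ^ (l + 1) * RelVALib.gen1 jE (U x) (e x) ^ (k + 1 + m * k), ?_, ?_⟩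
    · have h1 := SetLike.mul_mem_graded (SetLike.mul_mem_graded htd (SetLike.pow_mem_graded (l + 1) hs))
        (SetLike.pow_mem_graded (k + 1 + m * k) (hs1 x))
      rwa [show l + (l + 1) • m + (k + 1 + m * k) • 1 = (k + l + 1) * (m + 1) by simp only [smul_eq_mul]; ring] at h1
    · have hres : ∀ v, (u.appLE (U x) S hS.le).hom v = rs 𝒮L hSX ((u.appLE (U x) (XT x) (hXT x).le).hom v) := fun v => by
        rw [hus, rs_rs]
        rfl
      rw [hres, hres, hs's, map_mul (u.appLE (U x) (XT x) (hXT x).le).hom,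
        map_mul (u.appLE (U x) (XT x) (hXT x).le).hom, map_pow (u.appLE (U x) (XT x) (hXT x).le).hom,
        map_pow (u.appLE (U x) (XT x) (hXT x).le).hom, ← hd, ← hcc, hT]
      simp only [map_mul, map_pow, rs_str]
      rw [← htz, map_mul, map_pow]
      ring
  choose n hn s hs S hS hxS hcl using hpiece
  refine ⟨htop, QProj.isImmersion_of_cover r (fun x : X => nz chart (U x) (hU x) (s x))
    (eq_top_iff.2 fun a _ => Opens.mem_iSup.2 ⟨pL a.1,
      (mem_preimage_iff u hP hPL hr (hU _) (hn _) (hs _) (hS _) a).2 (hxS _)⟩) fun x => hcl x⟩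

end Groth.Agent.CAlgSmall.QVery2
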