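import Groth.Agent.CAlgSmall.QVery2
import Groth.Agent.RelVALib.ClosedSub
import Groth.Agent.RelVALib.FTBundle
import Groth.Agent.ProjLib.QImm
import Groth.Agent.ProjLib.QComp
import Groth.Agent.ProjLib.RelProjExist

/-!
# Submodules of finite type whose bundle already carries the immersion
-/

set_option linter.unusedSectionVars false
set_option autoImplicit false
set_option linter.deprecated false
set_option backward.isDefEq.respectTransparency.types false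
set_option maxHeartbeats 1000000

universe u

open CategoryTheory CategoryTheory.Limits AlgebraicGeometry TopologicalSpace Opposite HomogeneousLocalization
open scoped HomogeneousIdeal
open Groth.Agent.Coherent Groth.Agent.PicLib Groth.Agent.AmpleLib Groth.Agent.QProj

namespace Groth.Agent.CAlgSmall.QVery3

open QBridge

section hom

variable {X Y : Scheme.{u}} {q : X ⟶ Y}

theorem rs_mk {𝒜 : RelProj.QCGrAlg Y} {ℬ : RelProj.QCGrAlg X} (u : RelProj.QGrHom q 𝒜 ℬ) {U V : Y.Opens}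
    (h : V ≤ U) (a : 𝒜.presheaf.obj (op U)) :
    rs ℬ (q.preimage_mono h) ((u.app U).hom a) = (u.app V).hom (rs 𝒜 h a) :=
  ConcreteCategory.congr_hom (u.naturality h) a

/-- Graded homomorphisms out of a symmetric algebra agree once they agree on generators. -/
theorem qHom_ext {F : Y.Modules} [Coh.IsQCoh F] {𝒜 : RelProj.QCGrAlg Y} {jF : F ⟶ 𝒜.toModule}
    (h : RelProj.IsGrSymAlg F 𝒜 jF) {ℬ : RelProj.QCGrAlg X} (u v : RelProj.QGrHom q 𝒜 ℬ)
    (he : ∀ (U : Y.Opens) (x : Γ(F, U)), (u.app U).hom (jF.app U x) = (v.app U).hom (jF.app U x)) (U : Y.Opens) :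
    u.app U = v.app U := by
  refine CommRingCat.hom_ext (RingHom.ext fun a => ext_local fun x hx => ?_)
  obtain ⟨V, hV, hxV, hle⟩ := exists_isAffineOpen_mem_and_subset (x := q x) (U := U) hx
  refine ⟨q ⁻¹ᵁ V, q.preimage_mono hle, hxV, ?_⟩
  rw [rs_mk u hle, rs_mk v hle]
  exact RingHom.congr_fun (SymAlgLib.sectionsHom_ext h.1 hV
    (fun r => (ConcreteCategory.congr_hom (u.str_app V) r).trans (ConcreteCategory.congr_hom (v.str_app V) r).symm)
    fun e => he V e) _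

/-- Composition with a graded homomorphism downstairs. -/
noncomputable def comp {𝒯 𝒜 : RelProj.QCGrAlg Y} {ℬ : RelProj.QCGrAlg X} (w : 𝒯.toQCAlg ⟶ 𝒜.toQCAlg)
    (hw : RelProj.IsGradedHom w) (u : RelProj.QGrHom q 𝒜 ℬ) : RelProj.QGrHom q 𝒯 ℬ where
  app U := w.hom.app (op U) ≫ u.app U
  naturality {U V} i := by
    rw [Category.assoc, u.naturality i, ← Category.assoc, ← w.hom.naturality, Category.assoc]
  str_app U := by
    rw [← Category.assoc, show 𝒯.str.app (op U) ≫ w.hom.app (op U) = 𝒜.str.app (op U) from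
      NatTrans.congr_app w.comm (op U), u.str_app U]
  map_mem U hU U' hU' hle _ x hx := u.map_mem U hU U' hU' hle (hw U hU _ x hx)

/-- The homomorphism of symmetric algebras of a homomorphism of modules. -/
theorem exists_gradedHom {E F : Y.Modules} [Coh.IsQCoh E] [Coh.IsQCoh F] {𝒯 𝒜 : RelProj.QCGrAlg Y}
    {jE : E ⟶ 𝒯.toModule} {jF : F ⟶ 𝒜.toModule} (hE : RelProj.IsGrSymAlg E 𝒯 jE)
    (hF : RelProj.IsGrSymAlg F 𝒜 jF) (ι : E ⟶ F) :
    ∃ w : 𝒯.toQCAlg ⟶ 𝒜.toQCAlg, RelProj.IsGradedHom w ∧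
      ∀ (U : Y.Opens) (x : Γ(E, U)), (w.hom.app (op U)).hom (jE.app U x) = jF.app U (ι.app U x) := by
  obtain ⟨w, hw, -⟩ := hE.1 𝒜.toQCAlg (ι ≫ jF)
  have hgen : ∀ (U : Y.Opens) (x : Γ(E, U)), (w.hom.app (op U)).hom (jE.app U x) = jF.app U (ι.app U x) :=
    fun U x => ConcreteCategory.congr_hom (congrArg (fun φ => Scheme.Modules.Hom.app φ U) hw) x
  refine ⟨w, fun U hU d x hx => ?_, hgen⟩
  refine UPLib.deg_induction (RelVALib.adjoin_degOne_eq_top (SymAlgLib.isGenDegOne_of_isGrSymAlg hE) hU)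
    (P := fun n a => (w.hom.app (op U)).hom a ∈ 𝒜.deg U hU n) ?_ ?_ (fun k => by rw [map_zero]; exact zero_mem _)
    (fun k a b _ _ iha ihb => by rw [map_add]; exact add_mem iha ihb) hx
  · intro a ha
    obtain ⟨r, rfl⟩ := (SymAlgLib.deg_zero_one hE hU a).1 ha
    have h0 : (w.hom.app (op U)).hom ((𝒯.str.app (op U)).hom r) = (𝒜.str.app (op U)).hom r :=
      ConcreteCategory.congr_hom (NatTrans.congr_app w.comm (op U)) r
    rw [h0]
    exact 𝒜.str_mem U hU r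
  · intro k a b _ hb ih
    obtain ⟨e, rfl⟩ := (SymAlgLib.deg_zero_one hE hU b).2 hb
    rw [map_mul]
    exact SetLike.mul_mem_graded ih ((hgen U e).symm ▸ hF.2 U hU _)

/-- The graded homomorphism of a homomorphism into the direct image of a module. -/
theorem exists_qGrHom {E : Y.Modules} [Coh.IsQCoh E] {𝒮 : RelProj.QCGrAlg Y} {j : E ⟶ 𝒮.toModule}
    (hj : RelProj.IsGrSymAlg E 𝒮 j) {L : X.Modules} [Coh.IsQCoh L] (t : E ⟶ (Scheme.Modules.pushforward q).obj L)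
    {𝒮L : RelProj.QCGrAlg X} {jL : L ⟶ 𝒮L.toModule} (hjL : RelProj.IsGrSymAlg L 𝒮L jL) :
    ∃ u : RelProj.QGrHom q 𝒮 𝒮L,
      ∀ (U : Y.Opens) (x : Γ(E, U)), (u.app U).hom (j.app U x) = jL.app (q ⁻¹ᵁ U) (t.app U x) := by
  choose F hF using fun V : Y.affineOpens =>
    RelVALib.exists_isEval (jL := jL) hj t V.2 (q ⁻¹ᵁ V.1) le_rfl
  have hres : ∀ (V V' : Y.affineOpens) (h : V'.1 ≤ V.1) (a : 𝒮.presheaf.obj (op V.1)),
      F V' (rs 𝒮 h a) = rs 𝒮L (q.preimage_mono h) (F V a) := fun V V' h a =>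
    (hF V).res hj h (q.preimage_mono h) (hF V') a
  have huniq : ∀ (U : Y.Opens) (b b' : 𝒮L.presheaf.obj (op (q ⁻¹ᵁ U))),
      (∀ (V : Y.affineOpens) (h : V.1 ≤ U), rs 𝒮L (q.preimage_mono h) b = rs 𝒮L (q.preimage_mono h) b') → b = b' :=
    fun U b b' h => ext_local fun x hx => by
      obtain ⟨V, hV, hxV, hle⟩ := exists_isAffineOpen_mem_and_subset (x := q x) (U := U) hx
      exact ⟨q ⁻¹ᵁ V, q.preimage_mono hle, hxV, h ⟨V, hV⟩ hle⟩
  have hex : ∀ (U : Y.Opens) (a : 𝒮.presheaf.obj (op U)), ∃ b : 𝒮L.presheaf.obj (op (q ⁻¹ᵁ U)),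
      ∀ (V : Y.affineOpens) (h : V.1 ≤ U), rs 𝒮L (q.preimage_mono h) b = F V (rs 𝒮 h a) := by
    intro U a
    obtain ⟨b, hb⟩ := exists_glue (𝒮L := 𝒮L) (W := q ⁻¹ᵁ U) (fun V : {V : Y.affineOpens // V.1 ≤ U} => q ⁻¹ᵁ V.1.1)
      (fun V => q.preimage_mono V.2) (fun x hx => by
        obtain ⟨V, hV, hxV, hle⟩ := exists_isAffineOpen_mem_and_subset (x := q x) (U := U) hx
        exact Opens.mem_iSup.2 ⟨⟨⟨V, hV⟩, hle⟩, hxV⟩)
      (fun V => F V.1 (rs 𝒮 V.2 a)) (fun V V' => ext_local fun x hx => by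
        obtain ⟨O, hO, hxO, hle⟩ := exists_isAffineOpen_mem_and_subset (x := q x) (U := V.1.1 ⊓ V'.1.1) hx
        have h1 : O ≤ V.1.1 := fun y hy => (hle hy).1
        have h2 : O ≤ V'.1.1 := fun y hy => (hle hy).2
        refine ⟨q ⁻¹ᵁ O, fun y hy => hle hy, hxO, ?_⟩
        rw [rs_rs, rs_rs, ← hres V.1 ⟨O, hO⟩ h1, ← hres V'.1 ⟨O, hO⟩ h2, rs_rs, rs_rs])
    exact ⟨b, fun V h => hb ⟨V, h⟩⟩
  choose app happ using hex
  have hres' : ∀ {U U' : Y.Opens} (i : U' ≤ U) (a : 𝒮.presheaf.obj (op U)),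
      rs 𝒮L (q.preimage_mono i) (app U a) = app U' (rs 𝒮 i a) := fun {U U'} i a => huniq U' _ _ fun V h => by
    rw [rs_rs, happ U a V (h.trans i), happ U' _ V h, rs_rs]
  have hV : ∀ (V : Y.affineOpens) (a : 𝒮.presheaf.obj (op V.1)), app V.1 a = F V a := fun V a => by
    simpa only [rs_self] using happ V.1 a V le_rfl
  let appHom : ∀ U, 𝒮.presheaf.obj (op U) →+* 𝒮L.presheaf.obj (op (q ⁻¹ᵁ U)) := fun U =>
    { toFun := app U
      map_one' := huniq U _ _ fun V h => by rw [happ U 1 V h, map_one, map_one, map_one]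
      map_mul' := fun a b => huniq U _ _ fun V h => by
        rw [happ U _ V h, map_mul, map_mul, map_mul, happ U a V h, happ U b V h]
      map_zero' := huniq U _ _ fun V h => by rw [happ U 0 V h, map_zero, map_zero, map_zero]
      map_add' := fun a b => huniq U _ _ fun V h => by
        rw [happ U _ V h, map_add, map_add, map_add, happ U a V h, happ U b V h] }
  refine ⟨⟨⟨fun U => CommRingCat.ofHom (appHom U), fun {U V} i => CommRingCat.hom_ext (RingHom.ext fun a => hres' i a),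
    fun U => CommRingCat.hom_ext (RingHom.ext fun r => huniq U _ _ fun V h => ?_)⟩,
    fun U hU U' hU' hle {d} x hx => ?_⟩, fun U x => huniq U _ _ fun V h => ?_⟩
  · show rs 𝒮L _ (app U ((𝒮.str.app (op U)).hom r)) = rs 𝒮L _ ((𝒮L.str.app (op (q ⁻¹ᵁ U))).hom ((q.app U).hom r))
    rw [happ U _ V h, rs_str, rs_str, (hF V).1]
    refine congrArg (𝒮L.str.app (op (q ⁻¹ᵁ V.1))).hom ?_
    show q.appLE V.1 _ le_rfl ((Y.presheaf.map (homOfLE h).op).hom r) = (q.app U ≫ X.presheaf.map (homOfLE (q.preimage_mono h)).op).hom r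
    show (Y.presheaf.map (homOfLE h).op ≫ q.appLE V.1 _ le_rfl).hom r = _
    rw [Scheme.Hom.map_appLE]
    rfl
  · show rs 𝒮L hle (app U x) ∈ _
    rw [hV ⟨U, hU⟩]
    obtain ⟨G, hG⟩ := RelVALib.exists_isEval (jL := jL) hj t hU U' hle
    have h1 := (hF ⟨U, hU⟩).res hj le_rfl hle hG x
    rw [show rs 𝒮L hle (F ⟨U, hU⟩ x) = G (rs 𝒮 le_rfl x) from h1.symm, rs_self]
    exact hG.map_mem hj hjL hU' hx
  · show rs 𝒮L _ (app U (j.app U x)) = rs 𝒮L _ (gn jL (show Γ(L, q ⁻¹ᵁ U) from t.app U x))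
    rw [happ U _ V h, rs_gn]
    refine ((hF V).2 _).trans ?_
    rw [resM_self, app_resM t h x]
    exact (rs_gn (q.preimage_mono h) (show Γ(L, q ⁻¹ᵁ U) from t.app U x)).symm

/-- A section of the symmetric algebra over an affine open involves finitely many sections of the module. -/
theorem exists_finite_support {F : Y.Modules} [Coh.IsQCoh F] {𝒜 : RelProj.QCGrAlg Y} {jF : F ⟶ 𝒜.toModule}
    (hF : RelProj.IsGrSymAlg F 𝒜 jF) {U : Y.Opens} (hU : IsAffineOpen U) (a : 𝒜.presheaf.obj (op U)) :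
    ∃ S : Finset Γ(F, U), a ∈ Subring.closure
      (Set.range (𝒜.str.app (op U)).hom ∪ (fun x : Γ(F, U) => (jF.app U x : 𝒜.presheaf.obj (op U))) '' (S : Set _)) := by
  classical
  have ha := (SymAlgLib.closure_eq_top hF.1 hU).ge (Subring.mem_top a)
  induction ha using Subring.closure_induction with
  | mem x hx =>
    rcases hx with ⟨r, rfl⟩ | ⟨e, rfl⟩
    · exact ⟨∅, Subring.subset_closure (Or.inl ⟨r, rfl⟩)⟩
    · exact ⟨{e}, Subring.subset_closure (Or.inr ⟨e, by simp, rfl⟩)⟩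
  | zero => exact ⟨∅, zero_mem _⟩
  | one => exact ⟨∅, one_mem _⟩
  | add x y _ _ hx hy =>
    obtain ⟨S, hS⟩ := hx
    obtain ⟨T, hT⟩ := hy
    exact ⟨S ∪ T, add_mem
      (Subring.closure_mono (Set.union_subset_union_right _ (Set.image_mono (by simp))) hS)
      (Subring.closure_mono (Set.union_subset_union_right _ (Set.image_mono (by simp))) hT)⟩
  | neg x _ hx =>
    obtain ⟨S, hS⟩ := hx
    exact ⟨S, neg_mem hS⟩
  | mul x y _ _ hx hy =>
    obtain ⟨S, hS⟩ := hx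
    obtain ⟨T, hT⟩ := hy
    exact ⟨S ∪ T, mul_mem
      (Subring.closure_mono (Set.union_subset_union_right _ (Set.image_mono (by simp))) hS)
      (Subring.closure_mono (Set.union_subset_union_right _ (Set.image_mono (by simp))) hT)⟩

end hom

variable {Y X P PL : Scheme.{u}} {q : X ⟶ Y} {L : X.Modules} {𝒮L : RelProj.QCGrAlg X}
  {jL : L ⟶ 𝒮L.toModule} [Coh.IsQCoh L] (hjL : RelProj.IsGrSymAlg L 𝒮L jL) (hL : PicF.IsInvertible L)
  {F : Y.Modules} [Coh.IsQCoh F] {𝒯 : RelProj.QCGrAlg Y} {jF : F ⟶ 𝒯.toModule}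
  (h𝒯 : RelProj.IsGrSymAlg F 𝒯 jF) (u : RelProj.QGrHom q 𝒯 𝒮L) {p : P ⟶ Y}
  {chart : ∀ (U : Y.Opens) (hU : IsAffineOpen U), (((p ⁻¹ᵁ U : P.Opens) : Scheme.{u}) ≅ Proj (𝒯.deg U hU))}
  (hP : RelProj.IsRelProj 𝒯 p chart) {pL : PL ⟶ X}
  {chartL : ∀ (U : X.Opens) (hU : IsAffineOpen U), (((pL ⁻¹ᵁ U : PL.Opens) : Scheme.{u}) ≅ Proj (𝒮L.deg U hU))}
  (hPL : RelProj.IsRelProj 𝒮L pL chartL)
  {r : (RelProj.domQ u pL chartL).toScheme ⟶ P}
  (hr : RelProj.IsProjQMapOn u p chart pL chartL (RelProj.domQ u pL chartL) r)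

include hjL hPL h𝒯 in
theorem domQ_eq_top
    (hsurj : ∀ x : X, ∃ (U : Y.Opens) (hU : IsAffineOpen U) (e : Γ(F, U)) (V : X.Opens) (hV : IsAffineOpen V)
      (hVU : V ≤ q ⁻¹ᵁ U), x ∈ V ∧
        ((𝒮L.deg V hV 1 : AddSubgroup (𝒮L.presheaf.obj (op V))) : Set (𝒮L.presheaf.obj (op V))) ⊆
          (Ideal.span {(u.appLE U V hVU).hom (jF.app U e)} : Set (𝒮L.presheaf.obj (op V)))) :
    RelProj.domQ u pL chartL = ⊤ := by
  refine eq_top_iff.2 fun z _ => ?_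
  obtain ⟨U, hU, e, V, hV, hVU, hxV, hspan⟩ := hsurj (pL z)
  exact (mem_domQ_iff u hPL U hU V hV hVU hxV).mpr
    ⟨1, one_pos, _, h𝒯.2 U hU e, mem_nz_of_span hjL hPL V hV 1 hspan hxV⟩

variable [QuasiCompact q] [LocallyOfFiniteType q]

include hjL hL hP hPL hr h𝒯 in
/-- The immersion is already defined by a submodule of finite type. -/
theorem exists_ft_sub (hY : (CompactSpace Y ∧ QuasiSeparatedSpace Y) ∨ NoetherianSpace Y)
    (hsurj : ∀ x : X, ∃ (U : Y.Opens) (hU : IsAffineOpen U) (e : Γ(F, U)) (V : X.Opens) (hV : IsAffineOpen V)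
      (hVU : V ≤ q ⁻¹ᵁ U), x ∈ V ∧
        ((𝒮L.deg V hV 1 : AddSubgroup (𝒮L.presheaf.obj (op V))) : Set (𝒮L.presheaf.obj (op V))) ⊆
          (Ideal.span {(u.appLE U V hVU).hom (jF.app U e)} : Set (𝒮L.presheaf.obj (op V))))
    (himm : IsImmersion r) :
    ∃ (E : Y.Modules) (_ : Coh.IsQCoh E) (_ : CohB1.IsFT E) (ι : E ⟶ F) (_ : ∀ U : Y.Opens, Function.Injective (ι.app U))
      (𝒯' : RelProj.QCGrAlg Y) (jE : E ⟶ 𝒯'.toModule) (_ : RelProj.IsGrSymAlg E 𝒯' jE)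
      (u' : RelProj.QGrHom q 𝒯' 𝒮L)
      (_ : ∀ (U : Y.Opens) (x : Γ(E, U)), (u'.app U).hom ((jE.app U) x) = (u.app U).hom ((jF.app U) ((ι.app U) x))),
      (∀ x : X, ∃ (U : Y.Opens) (hU : IsAffineOpen U) (e : Γ(E, U)) (V : X.Opens) (hV : IsAffineOpen V)
          (hVU : V ≤ q ⁻¹ᵁ U), x ∈ V ∧
            ((𝒮L.deg V hV 1 : AddSubgroup (𝒮L.presheaf.obj (op V))) : Set (𝒮L.presheaf.obj (op V))) ⊆
              (Ideal.span {(u'.appLE U V hVU).hom ((jE.app U) e)} : Set (𝒮L.presheaf.obj (op V)))) ∧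
      ∀ (P' : Scheme.{u}) (p' : P' ⟶ Y)
          (chart' : ∀ (U : Y.Opens) (hU : IsAffineOpen U), (((p' ⁻¹ᵁ U : P'.Opens) : Scheme.{u}) ≅ Proj (𝒯'.deg U hU)))
          (_ : RelProj.IsRelProj 𝒯' p' chart')
          (r' : ((RelProj.domQ u' pL chartL : PL.Opens) : Scheme.{u}) ⟶ P')
          (_ : RelProj.IsProjQMapOn u' p' chart' pL chartL (RelProj.domQ u' pL chartL) r'),
        RelProj.domQ u' pL chartL = ⊤ ∧ IsImmersion r' := by
  classical
  have := isIso_line hjL hPL hL (inferInstance : Coh.IsQCoh L)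
  have : CompactSpace Y := by
    rcases hY with ⟨h, -⟩ | h
    · exact h
    · exact inferInstance
  have : CompactSpace X := QuasiCompact.compactSpace_of_compactSpace q
  have htop := domQ_eq_top hjL h𝒯 u hPL hsurj
  have := himm
  obtain ⟨κ, hκ, Uc, N, f, hN, hfN, -, hwit⟩ := exists_finite_witness hjL hL u hP hPL hr htop
  choose S hS using fun c => exists_finite_support h𝒯 (Uc c).2 (f c)
  choose Ux hUx ex Vx hVx hVUx hxV hspan using hsurj
  obtain ⟨T, hT⟩ := isCompact_univ.elim_finite_subcover (fun x : X => (Vx x : Set X)) (fun x => (Vx x).2)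
    fun x _ => Set.mem_iUnion.2 ⟨x, hxV x⟩
  have hgood : ∀ (U : Y.Opens) (_ : IsAffineOpen U) (s : Finset Γ(F, U)),
      ∃ Q : SubM F, Q.Good ⊤ ∧ ∀ a ∈ s, a ∈ Q.carrier U := by
    intro U hU s
    obtain ⟨Q, hQ, hQm⟩ : ∃ Q : SubM F, Q.Good ⊤ ∧ ∀ i : {a // a ∈ s}, i.1 ∈ Q.carrier U := by
      rcases hY with ⟨-, hsep⟩ | hnoe
      · exact exists_good_containing_qcqs hU.isCompact fun i : {a // a ∈ s} => i.1
      · exact exists_good_containing_locallyNoetherian (fun y => ⟨⊤, trivial, inferInstance⟩)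
          fun i : {a // a ∈ s} => i.1
    exact ⟨Q, hQ, fun a ha => hQm ⟨a, ha⟩⟩
  choose Qc hQc hQcm using fun c => hgood _ (Uc c).2 (S c)
  choose Qx hQx hQxm using fun x : {x // x ∈ T} => hgood _ (hUx x.1) {ex x.1}
  let Q : κ ⊕ {x // x ∈ T} → SubM F := Sum.elim Qc Qx
  let G := SubM.sum Q
  have hG : G.Good ⊤ := SubM.good_sum Q (by rintro (c | x); exacts [hQc c, hQx x])
  have hE : Coh.IsQCoh G.toMod := SubM.isQCoh hG
  let 𝒯' := SymAlgLib.symGrAlg G.toMod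
  let jE := SymAlgLib.gen G.toMod
  have h𝒯' : RelProj.IsGrSymAlg G.toMod 𝒯' jE := SymAlgLib.isGrSymAlg_symGrAlg G.toMod
  obtain ⟨w, hw, hwgen⟩ := exists_gradedHom h𝒯' h𝒯 G.toι
  refine ⟨G.toMod, hE, SubM.isFT hG, G.toι, G.toι_injective, 𝒯', jE, h𝒯', comp w hw u,
    fun U x => congrArg (u.app U).hom (hwgen U x), fun y => ?_, fun P' p' chart' hP' r' hr' => ?_⟩
  · obtain ⟨x, hx, hyx⟩ := Set.mem_iUnion₂.1 (hT (Set.mem_univ y))
    obtain ⟨e₂, he₂⟩ := G.mem_range_toι.2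
      (SubM.le_sum Q (Sum.inr ⟨x, hx⟩) _ (hQxm ⟨x, hx⟩ _ (Finset.mem_singleton_self _)))
    refine ⟨Ux x, hUx x, e₂, Vx x, hVx x, hVUx x, hyx, ?_⟩
    have he : ((comp w hw u).appLE (Ux x) (Vx x) (hVUx x)).hom (jE.app (Ux x) e₂) =
        (u.appLE (Ux x) (Vx x) (hVUx x)).hom (jF.app (Ux x) (ex x)) := by
      show rs 𝒮L _ ((u.app (Ux x)).hom ((w.hom.app (op (Ux x))).hom (jE.app (Ux x) e₂))) = _
      exact congrArg (fun z => rs 𝒮L (hVUx x) ((u.app (Ux x)).hom z))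
        ((hwgen (Ux x) e₂).trans (congrArg (jF.app (Ux x)) he₂))
    exact (hspan x).trans (congrArg (fun z => ((Ideal.span {z} : Ideal _) : Set (𝒮L.presheaf.obj (op (Vx x))))) he).ge
  · refine hwit w (comp w hw u) (fun U => rfl) hP' hr' fun c => ?_
    have hrange : f c ∈ (w.hom.app (op (Uc c).1)).hom.range := by
      refine (Subring.closure_le.2 ?_) (hS c)
      rintro _ (⟨a, rfl⟩ | ⟨a, ha, rfl⟩)
      · exact ⟨(𝒯'.str.app (op (Uc c).1)).hom a, ConcreteCategory.congr_hom (NatTrans.congr_app w.comm _) a⟩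
      · obtain ⟨e₂, he₂⟩ := G.mem_range_toι.2 (SubM.le_sum Q (Sum.inl c) _ (hQcm c a ha))
        exact ⟨jE.app _ e₂, (hwgen _ e₂).trans (congrArg (jF.app _) he₂)⟩
    obtain ⟨y, hy⟩ := hrange
    exact exists_deg_lift w hw _ _ (hfN c) hy

include h𝒯 hP hPL hr in
/-- A submodule already giving an immersion forces one. -/
theorem isImmersion_of_sub {E : Y.Modules} [Coh.IsQCoh E] (ι : E ⟶ F) {𝒯' : RelProj.QCGrAlg Y}
    {jE : E ⟶ 𝒯'.toModule} (h𝒯' : RelProj.IsGrSymAlg E 𝒯' jE) (u' : RelProj.QGrHom q 𝒯' 𝒮L)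
    (hu' : ∀ (U : Y.Opens) (x : Γ(E, U)), (u'.app U).hom ((jE.app U) x) = (u.app U).hom ((jF.app U) ((ι.app U) x)))
    (h : ∀ (P' : Scheme.{u}) (p' : P' ⟶ Y)
        (chart' : ∀ (U : Y.Opens) (hU : IsAffineOpen U), (((p' ⁻¹ᵁ U : P'.Opens) : Scheme.{u}) ≅ Proj (𝒯'.deg U hU)))
        (_ : RelProj.IsRelProj 𝒯' p' chart')
        (r' : ((RelProj.domQ u' pL chartL : PL.Opens) : Scheme.{u}) ⟶ P')
        (_ : RelProj.IsProjQMapOn u' p' chart' pL chartL (RelProj.domQ u' pL chartL) r'),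
      RelProj.domQ u' pL chartL = ⊤ ∧ IsImmersion r') : IsImmersion r := by
  obtain ⟨w, hw, hwgen⟩ := exists_gradedHom h𝒯' h𝒯 ι
  have hcomp : ∀ U, u'.app U = w.hom.app (op U) ≫ u.app U :=
    qHom_ext h𝒯' u' (comp w hw u) fun U x => (hu' U x).trans (congrArg (u.app U).hom (hwgen U x)).symm
  obtain ⟨P', p', chart', hP'⟩ := ProjLib.exists_isRelProj 𝒯'
  obtain ⟨r', hr', -⟩ := existsUnique_qMap u' hP' hPL
  obtain ⟨htop, himm⟩ := h P' p' chart' hP' r' hr'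
  exact (Groth.Agent.QProj.isImmersion_of_comp u w hw u' hcomp hP hP' hPL hr hr' htop).2

omit [LocallyOfFiniteType q] in
include hjL hL in
/-- A generating section has image generating the degree one part. -/
theorem span_of_isGen (u : RelProj.QGrHom q 𝒯 𝒮L) {t : F ⟶ (Scheme.Modules.pushforward q).obj L}
    (hu : ∀ (U : Y.Opens) (x : Γ(F, U)), (u.app U).hom (jF.app U x) = jL.app (q ⁻¹ᵁ U) (t.app U x))
    {U : Y.Opens} {e : Γ(F, U)} {V : X.Opens} (hV : IsAffineOpen V) (hVU : V ≤ q ⁻¹ᵁ U)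
    (hgen : IsGen L V (resM L hVU (t.app U e))) :
    ((𝒮L.deg V hV 1 : AddSubgroup (𝒮L.presheaf.obj (op V))) : Set (𝒮L.presheaf.obj (op V))) ⊆
      (Ideal.span {(u.appLE U V hVU).hom (jF.app U e)} : Set (𝒮L.presheaf.obj (op V))) := by
  intro a ha
  obtain ⟨c, hc⟩ := RelVALib.exists_eq_str_mul_pow hV hgen hjL ha
  refine Ideal.mem_span_singleton.2 ⟨(𝒮L.str.app (op V)).hom c, ?_⟩
  rw [hc, pow_one, mul_comm]
  refine congrArg (· * (𝒮L.str.app (op V)).hom c) ?_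
  show gn jL (resM L hVU (t.app U e)) = rs 𝒮L hVU ((u.app U).hom (jF.app U e))
  rw [hu]
  exact (rs_gn hVU (show Γ(L, q ⁻¹ᵁ U) from t.app U e)).symm

include hjL hL hPL in
/-- A very ample module embeds into the bundle of a submodule of finite type of its direct image. -/
theorem exists_ft_sub_pushforward (hY : (CompactSpace Y ∧ QuasiSeparatedSpace Y) ∨ NoetherianSpace Y)
    (hva : RelProj.IsRelVeryAmple q L) :
    ∃ (E : Y.Modules) (_ : Coh.IsQCoh E) (_ : CohB1.IsFT E) (ι : E ⟶ (Scheme.Modules.pushforward q).obj L)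
      (_ : ∀ U : Y.Opens, Function.Injective (ι.app U))
      (𝒯' : RelProj.QCGrAlg Y) (jE : E ⟶ 𝒯'.toModule) (_ : RelProj.IsGrSymAlg E 𝒯' jE)
      (u' : RelProj.QGrHom q 𝒯' 𝒮L)
      (_ : ∀ (U : Y.Opens) (x : Γ(E, U)), (u'.app U).hom ((jE.app U) x) = (jL.app (q ⁻¹ᵁ U)) ((ι.app U) x)),
      (∀ x : X, ∃ (U : Y.Opens) (hU : IsAffineOpen U) (e : Γ(E, U)) (V : X.Opens) (hV : IsAffineOpen V)
          (hVU : V ≤ q ⁻¹ᵁ U), x ∈ V ∧
            ((𝒮L.deg V hV 1 : AddSubgroup (𝒮L.presheaf.obj (op V))) : Set (𝒮L.presheaf.obj (op V))) ⊆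
              (Ideal.span {(u'.appLE U V hVU).hom ((jE.app U) e)} : Set (𝒮L.presheaf.obj (op V)))) ∧
      ∀ (P' : Scheme.{u}) (p' : P' ⟶ Y)
          (chart' : ∀ (U : Y.Opens) (hU : IsAffineOpen U), (((p' ⁻¹ᵁ U : P'.Opens) : Scheme.{u}) ≅ Proj (𝒯'.deg U hU)))
          (_ : RelProj.IsRelProj 𝒯' p' chart')
          (r' : ((RelProj.domQ u' pL chartL : PL.Opens) : Scheme.{u}) ⟶ P')
          (_ : RelProj.IsProjQMapOn u' p' chart' pL chartL (RelProj.domQ u' pL chartL) r'),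
        RelProj.domQ u' pL chartL = ⊤ ∧ IsImmersion r' := by
  have := isIso_line hjL hPL hL (inferInstance : Coh.IsQCoh L)
  have hF : Coh.IsQCoh ((Scheme.Modules.pushforward q).obj L) := (RelVALib.exists_canonical_immersion q L hL hva).1
  have := hF
  let 𝒜 := SymAlgLib.symGrAlg ((Scheme.Modules.pushforward q).obj L)
  let jA := SymAlgLib.gen ((Scheme.Modules.pushforward q).obj L)
  have h𝒜 : RelProj.IsGrSymAlg _ 𝒜 jA := SymAlgLib.isGrSymAlg_symGrAlg ((Scheme.Modules.pushforward q).obj L)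
  obtain ⟨v, hv⟩ := exists_qGrHom h𝒜 (𝟙 ((Scheme.Modules.pushforward q).obj L)) hjL
  obtain ⟨PA, pA, chartA, hPA⟩ := ProjLib.exists_isRelProj 𝒜
  obtain ⟨rA, hrA, -⟩ := existsUnique_qMap v hPA hPL
  obtain ⟨-, himm⟩ := QVery2.isImmersion_of_isRelVeryAmple hjL hL v hPA hPL hrA h𝒜 hv hva
  have hsurj : ∀ x : X, ∃ (U : Y.Opens) (hU : IsAffineOpen U) (e : Γ((Scheme.Modules.pushforward q).obj L, U))
      (V : X.Opens) (hV : IsAffineOpen V) (hVU : V ≤ q ⁻¹ᵁ U), x ∈ V ∧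
        ((𝒮L.deg V hV 1 : AddSubgroup (𝒮L.presheaf.obj (op V))) : Set (𝒮L.presheaf.obj (op V))) ⊆
          (Ideal.span {(v.appLE U V hVU).hom (jA.app U e)} : Set (𝒮L.presheaf.obj (op V))) := fun x => by
    obtain ⟨A, hA, hxA, -⟩ : ∃ A : Y.Opens, IsAffineOpen A ∧ q x ∈ A ∧ A ≤ ⊤ :=
      Opens.isBasis_iff_nbhd.1 Y.isBasis_affineOpens (show q x ∈ (⊤ : Y.Opens) from trivial)
    have : IsAffine A.toScheme := hA
    obtain ⟨U, hU, e, W, hW, hxW, hgen⟩ := RelVALib.exists_gen_of_chart A.ι (q ⁻¹ᵁ A).ι (q ∣_ A) (morphismRestrict_ι q A)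
      (by rw [Scheme.Opens.opensRange_ι, Scheme.Opens.opensRange_ι]) hL (RelVALib.isRelVeryAmple_morphismRestrict hva A) ⟨x, hxA⟩
    obtain ⟨V, hV, hxV, hle⟩ := exists_isAffineOpen_mem_and_subset (x := x) (U := W) hxW
    refine ⟨U, hU, e, V, hV, fun y hy => hW (hle hy), hxV, span_of_isGen hjL hL v hv hV _ ?_⟩
    have := hgen.restrict (V := V) hle
    rwa [resM_resM] at this
  obtain ⟨E, hE, hft, ι, hι, 𝒯', jE, h𝒯', u', hu', hrest⟩ := exists_ft_sub hjL hL h𝒜 v hPA hPL hrA hY hsurj himm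
  exact ⟨E, hE, hft, ι, hι, 𝒯', jE, h𝒯', u', fun U x => (hu' U x).trans (hv U (ι.app U x)), hrest⟩

end Groth.Agent.CAlgSmall.QVery3
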