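import Mathlib
import Groth.Agent.CAlgSmall.DegBound
import Groth.Agent.FlatMorGeomRed.Descent
import Groth.Agent.FlatMorGeomRed.Constr
import Groth.Agent.AbVarLib.PerfectReduced

/-!
# A uniform degree bound for generators of radicals of polynomial ideals
-/

universe u

open MvPolynomial CategoryTheory CategoryTheory.Limits AlgebraicGeometry
open scoped TensorProduct

namespace Groth.Agent.CAlgSmall.RadBound

set_option backward.isDefEq.respectTransparency false

variable {N : ℕ}

/-- The base change of `A[X]/(g)` to a field is reduced iff the specialised ideal is radical. -/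
theorem isReduced_tensor_iff {A F : Type u} [CommRing A] [Field F] [Algebra A F] {s : ℕ}
    (g : Fin s → MvPolynomial (Fin N) A) :
    _root_.IsReduced ((MvPolynomial (Fin N) A ⧸ Ideal.span (Set.range g)) ⊗[A] F) ↔
      (Ideal.span (Set.range fun i => MvPolynomial.map (algebraMap A F) (g i))).IsRadical := by
  let e₁ := Algebra.TensorProduct.comm A (MvPolynomial (Fin N) A ⧸ Ideal.span (Set.range g)) F
  let e₂ := Algebra.TensorProduct.tensorQuotientEquiv (R := A) A (MvPolynomial (Fin N) A) F
    (Ideal.span (Set.range g))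
  let e₃ : (F ⊗[A] MvPolynomial (Fin N) A) ≃+* MvPolynomial (Fin N) F :=
    (MvPolynomial.algebraTensorAlgEquiv A F).toRingEquiv
  have hmap : (Ideal.span (Set.range fun i => MvPolynomial.map (algebraMap A F) (g i))) =
      ((Ideal.span (Set.range g)).map
        (Algebra.TensorProduct.includeRight (A := F) (R := A))).map e₃.toRingHom := by
    rw [Ideal.map_span, Ideal.map_span, ← Set.range_comp, ← Set.range_comp]
    congr 1
    congr 1
    funext i
    simp [e₃]
  let e₄ := Ideal.quotientEquiv _ _ e₃ hmap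
  have e : ((MvPolynomial (Fin N) A ⧸ Ideal.span (Set.range g)) ⊗[A] F) ≃+*
      MvPolynomial (Fin N) F ⧸
        Ideal.span (Set.range fun i => MvPolynomial.map (algebraMap A F) (g i)) :=
    (e₁.toRingEquiv.trans e₂.toRingEquiv).trans e₄
  rw [Ideal.isRadical_iff_quotient_reduced]
  exact ⟨fun _ => isReduced_of_injective e.symm e.symm.injective,
    fun _ => isReduced_of_injective e e.injective⟩

/-- Radicality of a geometric generic specialisation spreads out. -/
theorem exists_ne_zero_forall_isRadical {A : Type u} [CommRing A] [IsDomain A] [IsNoetherianRing A]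
    {L : Type u} [Field L] [IsAlgClosed L] (i : A →+* L) (hi : Function.Injective i) {s : ℕ}
    (g : Fin s → MvPolynomial (Fin N) A)
    (hrad : (Ideal.span (Set.range fun j => MvPolynomial.map i (g j))).IsRadical) :
    ∃ f : A, f ≠ 0 ∧ ∀ (F : Type u) [Field F] (φ : A →+* F), φ f ≠ 0 →
      (Ideal.span (Set.range fun j => MvPolynomial.map φ (g j))).IsRadical := by
  let B := MvPolynomial (Fin N) A ⧸ Ideal.span (Set.range g)
  let π : Spec (CommRingCat.of B) ⟶ Spec (CommRingCat.of A) :=
    Spec.map (CommRingCat.ofHom (algebraMap A B))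
  haveI : LocallyOfFiniteType π :=
    HasRingHomProperty.Spec_iff.mpr (RingHom.finiteType_algebraMap.mpr inferInstance)
  haveI : LocallyOfFinitePresentation π := inferInstance
  have hgen : GeometricallyReduced
      (π.fiberToSpecResidueField (genericPoint (Spec (CommRingCat.of A)))) := by
    letI := i.toAlgebra
    let σ : Spec (CommRingCat.of L) ⟶ Spec (CommRingCat.of A) :=
      Spec.map (CommRingCat.ofHom (algebraMap A L))
    haveI : _root_.IsReduced (B ⊗[A] L) := (isReduced_tensor_iff g).2 hrad
    haveI : AlgebraicGeometry.IsReduced (pullback π σ) :=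
      isReduced_of_isOpenImmersion (pullbackSpecIso A B L).hom
    haveI := AbVarLib.geometricallyReduced_of_perfectField (pullback.snd π σ)
    let y : Spec (CommRingCat.of L) := (⊥ : PrimeSpectrum L)
    have hy : σ y = genericPoint (Spec (CommRingCat.of A)) := by
      rw [genericPoint_eq_bot_of_affine]
      apply PrimeSpectrum.ext
      change Ideal.comap (algebraMap A L) ⊥ = ⊥
      exact Ideal.comap_bot_of_injective _ hi
    have h := (FlatMorGeomRed.geometrically_fiber_iff_baseChange
      (P := fun X => AlgebraicGeometry.IsReduced X)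
      (fun π hs hf hA => @FlatMorGeomRed.isReduced_descends _ _ π hs hf hA)
      (IsPullback.of_hasPullback π σ) y).1
      (inferInstance : GeometricallyReduced
        ((pullback.snd π σ).fiberToSpecResidueField y)).geometrically_isReduced
    rw [hy] at h
    exact ⟨h⟩
  haveI : MorphismProperty.RespectsIso @GeometricallyReduced.{u} :=
    MorphismProperty.IsStableUnderBaseChange.respectsIso
  obtain ⟨V, hV, hV'⟩ := FlatMorGeneric.exists_opens_forall_iff @GeometricallyReduced.{u}
    (fun g => FlatMorGeomRed.isLocallyConstructible_setOf_geometricallyReduced g) π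
  obtain ⟨v, hv⟩ := hV
  obtain ⟨_, ⟨f, rfl⟩, hfv, hfV⟩ :=
    PrimeSpectrum.isTopologicalBasis_basic_opens.exists_subset_of_mem_open hv V.isOpen
  refine ⟨f, fun h0 => ?_, fun F _ φ hφ => ?_⟩
  · subst h0
    exact hfv (Submodule.zero_mem _)
  letI := φ.toAlgebra
  let σ : Spec (CommRingCat.of F) ⟶ Spec (CommRingCat.of A) :=
    Spec.map (CommRingCat.ofHom (algebraMap A F))
  let y : Spec (CommRingCat.of F) := (⊥ : PrimeSpectrum F)
  have hyV : σ y ∈ V := hfV (show algebraMap A F f ∉ (⊥ : Ideal F) from fun h => hφ ((Submodule.mem_bot F).1 h))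
  have h1 := (hV' _ hyV).2 hgen
  have hred : AlgebraicGeometry.IsReduced (pullback π σ) := by
    have h2 : GeometricallyReduced (pullback.snd π σ) := by
      refine ⟨geometrically_iff_forall_fiberToSpecResidueField.2 fun z => ?_⟩
      have hz : z = y := Subsingleton.elim (α := PrimeSpectrum F) _ _
      subst hz
      exact (FlatMorGeomRed.geometrically_fiber_iff_baseChange
        (P := fun X => AlgebraicGeometry.IsReduced X)
        (fun π hs hf hA => @FlatMorGeomRed.isReduced_descends _ _ π hs hf hA)
        (IsPullback.of_hasPullback π σ) y).2 h1.geometrically_isReduced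
    exact h2.geometrically_isReduced (𝟙 _) (𝟙 _) (pullback.snd π σ)
      (IsPullback.of_horiz_isIso ⟨by simp⟩)
  have : _root_.IsReduced (B ⊗[A] F) := by
    haveI := hred
    haveI : AlgebraicGeometry.IsReduced (Spec (CommRingCat.of (B ⊗[A] F))) :=
      isReduced_of_isOpenImmersion (pullbackSpecIso A B F).inv
    exact (affine_isReduced_iff (CommRingCat.of (B ⊗[A] F))).1 inferInstance
  exact (isReduced_tensor_iff g).1 this

/-- A homomorphism on `A[y • S]` inverting `y` extends to `A[S]`. -/
theorem exists_extend_of_scaled {A L : Type u} [CommRing A] [IsDomain A] [Field L] [Algebra A L]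
    (hi : Function.Injective (algebraMap A L)) [DecidableEq L] (S : Finset L) (y : A) (hy0 : y ≠ 0)
    {K' : Type u} [CommRing K']
    (ψ₀ : Algebra.adjoin A ((S.image fun z => y • z : Finset L) : Set L) →+* K')
    (hu : IsUnit (ψ₀ (algebraMap A _ y))) :
    ∃ ψ : Algebra.adjoin A (S : Set L) →+* K', ∀ a : A,
      ψ (algebraMap A _ a) = ψ₀ (algebraMap A _ a) := by
  let T₀ := Algebra.adjoin A ((S.image fun z => y • z : Finset L) : Set L)
  let y₀ : T₀ := algebraMap A T₀ y
  let T₁ := Localization.Away y₀
  have hyL : IsUnit (T₀.val.toRingHom y₀) := isUnit_iff_ne_zero.2 (show algebraMap A L y ≠ 0 from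
      fun h => hy0 (hi (by rw [h, map_zero])))
  let ι : T₁ →+* L := IsLocalization.Away.lift y₀ hyL
  have hι : ∀ x : T₀, ι (algebraMap T₀ T₁ x) = (x : L) :=
    fun x => IsLocalization.Away.lift_eq _ _ x
  have hιinj : Function.Injective ι := by
    show Function.Injective (IsLocalization.lift (M := Submonoid.powers y₀) (S := T₁) _)
    refine (IsLocalization.lift_injective_iff _).2 fun a b => ?_
    constructor
    · intro h
      have h1 := congrArg ι h
      rw [hι, hι] at h1
      exact h1
    · intro h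
      rw [Subtype.val_injective h]
  have hrange : ∀ x ∈ Algebra.adjoin A (S : Set L), x ∈ ι.range := by
    intro x hx
    induction hx using Algebra.adjoin_induction with
    | mem z hz =>
      refine ⟨algebraMap T₀ T₁ ⟨y • z, Algebra.subset_adjoin (Finset.mem_image_of_mem _ hz)⟩ *
          IsLocalization.Away.invSelf y₀, ?_⟩
      have h1 : ι (algebraMap T₀ T₁ y₀) * ι (IsLocalization.Away.invSelf y₀) = 1 := by
        rw [← map_mul, IsLocalization.Away.mul_invSelf, map_one]
      rw [hι] at h1
      rw [map_mul, hι]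
      change (y • z) * _ = z
      rw [Algebra.smul_def, mul_comm (algebraMap A L y) z, mul_assoc]
      exact (congrArg (z * ·) h1).trans (mul_one z)
    | algebraMap a => exact ⟨algebraMap T₀ T₁ (algebraMap A T₀ a), hι _⟩
    | add a b _ _ ha hb => exact ι.range.add_mem ha hb
    | mul a b _ _ ha hb => exact ι.range.mul_mem ha hb
  let e : T₁ ≃+* ι.range := RingEquiv.ofBijective ι.rangeRestrict
    ⟨fun a b h => hιinj (congrArg Subtype.val h), ι.rangeRestrict_surjective⟩
  let toT₁ : Algebra.adjoin A (S : Set L) →+* T₁ := e.symm.toRingHom.comp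
    ((Algebra.adjoin A (S : Set L)).val.toRingHom.codRestrict ι.range fun x => hrange x x.2)
  refine ⟨(IsLocalization.Away.lift (S := T₁) y₀ hu).comp toT₁, fun a => ?_⟩
  have h1 : toT₁ (algebraMap A _ a) = algebraMap T₀ T₁ (algebraMap A T₀ a) := by
    apply e.injective
    refine (e.apply_symm_apply _).trans (Subtype.ext ?_)
    change algebraMap A L a = ι (algebraMap T₀ T₁ (algebraMap A T₀ a))
    rw [hι]
    rfl
  rw [RingHom.comp_apply, h1, IsLocalization.Away.lift_eq]

set_option maxHeartbeats 800000 in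
/-- Homomorphisms extend to finitely generated algebraic extensions, with bounded degree. -/
theorem exists_bounded_extension {A L : Type u} [CommRing A] [IsDomain A] [Field L] [Algebra A L]
    [Algebra.IsAlgebraic A L] (hi : Function.Injective (algebraMap A L)) (S : Finset L)
    (f' : Algebra.adjoin A (S : Set L)) (hf' : f' ≠ 0) :
    ∃ (f : A) (d : ℕ), f ≠ 0 ∧ ∀ (k : Type u) [Field k] (φ : A →+* k), φ f ≠ 0 →
      ∃ (K' : Type u) (_ : Field K') (_ : Algebra k K'),
        Module.Finite k K' ∧ Module.finrank k K' ≤ d ∧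
        ∃ ψ : Algebra.adjoin A (S : Set L) →+* K',
          ψ.comp (algebraMap A _) = (algebraMap k K').comp φ ∧ ψ f' ≠ 0 := by
  classical
  obtain ⟨y, hy0, hy⟩ := Algebra.IsAlgebraic.exists_integral_multiples A S
  obtain ⟨r, hr0, hr⟩ := IsAlgebraic.exists_nonzero_dvd
    (show IsAlgebraic A f' from (isAlgebraic_algHom_iff (Algebra.adjoin A (S : Set L)).val
      Subtype.val_injective).1 (Algebra.IsAlgebraic.isAlgebraic (R := A) (f' : L)))
    (mem_nonZeroDivisors_of_ne_zero hf')
  let T₀ := Algebra.adjoin A ((S.image fun z => y • z : Finset L) : Set L)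
  haveI : Algebra.IsIntegral A T₀ := Algebra.IsIntegral.adjoin (by
    intro z hz
    obtain ⟨w, hw, rfl⟩ := Finset.mem_image.1 hz
    exact hy w hw)
  have hfg : T₀.toSubmodule.FG := fg_adjoin_of_finite (Finset.finite_toSet _) (by
    intro z hz
    obtain ⟨w, hw, rfl⟩ := Finset.mem_image.1 hz
    exact hy w hw)
  haveI : Module.Finite A T₀ := Module.Finite.iff_fg.2 hfg
  obtain ⟨t, ht⟩ := (Module.Finite.fg_top : (⊤ : Submodule A T₀).FG)
  refine ⟨y * r, t.card, mul_ne_zero hy0 hr0, fun k _ φ hφ => ?_⟩
  rw [map_mul] at hφ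
  obtain ⟨hφy, hφr⟩ := mul_ne_zero_iff.1 hφ
  letI := φ.toAlgebra
  -- `k ⊗[A] T₀` is nonzero
  haveI : Nontrivial (k ⊗[A] T₀) := by
    let P := RingHom.ker φ
    haveI : P.IsPrime := RingHom.ker_isPrime φ
    have hP : P ∈ Set.range (fun Q : PrimeSpectrum T₀ => Q.asIdeal.comap (algebraMap A T₀)) := by
      obtain ⟨Q, -, hQ, hQP⟩ := Ideal.exists_ideal_over_prime_of_isIntegral P (⊥ : Ideal T₀) (by
        rw [Ideal.comap_bot_of_injective _ fun a b h => hi (congrArg Subtype.val h)]
        exact bot_le)
      exact ⟨⟨Q, hQ⟩, hQP⟩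
    obtain ⟨⟨Q, hQ⟩, hQP⟩ := hP
    haveI : Nontrivial (P.ResidueField ⊗[A] T₀) :=
      (PrimeSpectrum.nontrivial_iff_mem_rangeComap (S := T₀) ⟨P, inferInstance⟩).2
        ⟨⟨Q, hQ⟩, PrimeSpectrum.ext hQP⟩
    let j : P.ResidueField →+* k := Ideal.ResidueField.lift P φ le_rfl (by
      intro a ha
      exact isUnit_iff_ne_zero.2 ha)
    letI := j.toAlgebra
    haveI : IsScalarTower A P.ResidueField k := .of_algebraMap_eq fun a =>
      (Ideal.ResidueField.lift_algebraMap _ _ _ _ a).symm
    haveI : Module.Free P.ResidueField (P.ResidueField ⊗[A] T₀) := Module.Free.of_divisionRing _ _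
    haveI : Module.Flat P.ResidueField (P.ResidueField ⊗[A] T₀) := Module.Flat.of_free
    haveI : Nontrivial (k ⊗[P.ResidueField] (P.ResidueField ⊗[A] T₀)) :=
      (Algebra.TensorProduct.includeRight_injective
        (A := k) (B := P.ResidueField ⊗[A] T₀) j.injective).nontrivial
    exact (Algebra.TensorProduct.cancelBaseChange A P.ResidueField k k T₀).injective.nontrivial
  obtain ⟨M, hM⟩ := Ideal.exists_maximal (k ⊗[A] T₀)
  let K' := (k ⊗[A] T₀) ⧸ M
  letI : Field K' := Ideal.Quotient.field M
  have hspan : (⊤ : Submodule k (k ⊗[A] T₀)) =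
      Submodule.span k ((t.image fun x => (1 : k) ⊗ₜ[A] x : Finset (k ⊗[A] T₀)) : Set (k ⊗[A] T₀)) := by
    rw [← Submodule.baseChange_top (R := A) (A := k) (M := T₀), ← ht, Submodule.baseChange_span,
      Finset.coe_image]
    rfl
  haveI : Module.Finite k (k ⊗[A] T₀) := Module.Finite.base_change A k T₀
  haveI : Module.Finite k K' :=
    Module.Finite.of_surjective (Ideal.Quotient.mkₐ k M).toLinearMap Ideal.Quotient.mk_surjective
  refine ⟨K', inferInstance, inferInstance, inferInstance, ?_, ?_⟩
  · refine le_trans (LinearMap.finrank_le_finrank_of_surjective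
      (f := (Ideal.Quotient.mkₐ k M).toLinearMap) Ideal.Quotient.mk_surjective) ?_
    rw [← finrank_top k (k ⊗[A] T₀), hspan]
    exact (finrank_span_finset_le_card _).trans Finset.card_image_le
  let ψ₀ : T₀ →+* K' := (Ideal.Quotient.mk M).comp
    (Algebra.TensorProduct.includeRight : T₀ →ₐ[A] k ⊗[A] T₀).toRingHom
  have hψ₀ : ∀ a : A, ψ₀ (algebraMap A T₀ a) = algebraMap k K' (φ a) := by
    intro a
    have h1 : (Algebra.TensorProduct.includeRight : T₀ →ₐ[A] k ⊗[A] T₀) (algebraMap A T₀ a) =
        algebraMap k (k ⊗[A] T₀) (φ a) := by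
      rw [AlgHom.commutes, IsScalarTower.algebraMap_apply A k (k ⊗[A] T₀)]
      rfl
    exact congrArg (Ideal.Quotient.mk M) h1
  obtain ⟨ψ, hψ⟩ := exists_extend_of_scaled hi S y hy0 ψ₀
    (isUnit_iff_ne_zero.2 (by rw [hψ₀]; simpa using hφy))
  have hψ' : ∀ a : A, ψ (algebraMap A _ a) = algebraMap k K' (φ a) := fun a => by rw [hψ, hψ₀]
  refine ⟨ψ, RingHom.ext hψ', fun h0 => hφr ?_⟩
  obtain ⟨q, hq⟩ := hr
  have h2 := hψ' r
  rw [hq, map_mul, h0, zero_mul] at h2
  exact (algebraMap k K').injective (by rw [← h2, map_zero])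

/-- Coefficientwise application of a linear functional. -/
noncomputable def cw {k K : Type*} [CommRing k] [CommRing K] [Algebra k K] (l : K →ₗ[k] k)
    (p : MvPolynomial (Fin N) K) : MvPolynomial (Fin N) k :=
  ∑ d ∈ p.support, monomial d (l (coeff d p))

theorem coeff_cw {k K : Type*} [CommRing k] [CommRing K] [Algebra k K] (l : K →ₗ[k] k)
    (p : MvPolynomial (Fin N) K) (d : Fin N →₀ ℕ) : coeff d (cw l p) = l (coeff d p) := by
  classical
  simp only [cw, coeff_sum, coeff_monomial, Finset.sum_ite_eq']
  split_ifs with h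
  · rfl
  · rw [MvPolynomial.notMem_support_iff.1 h, map_zero]

theorem totalDegree_cw_le {k K : Type*} [CommRing k] [CommRing K] [Algebra k K] (l : K →ₗ[k] k)
    (p : MvPolynomial (Fin N) K) : (cw l p).totalDegree ≤ p.totalDegree :=
  Finset.sup_mono fun d hd => by
    rw [mem_support_iff, coeff_cw] at hd
    exact mem_support_iff.2 fun h => hd (by rw [h, map_zero])

theorem cw_add {k K : Type*} [CommRing k] [CommRing K] [Algebra k K] (l : K →ₗ[k] k)
    (p q : MvPolynomial (Fin N) K) : cw l (p + q) = cw l p + cw l q := by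
  ext d; simp [coeff_cw]

theorem cw_sum {k K : Type*} [CommRing k] [CommRing K] [Algebra k K] (l : K →ₗ[k] k) {ι : Type*}
    (S : Finset ι) (p : ι → MvPolynomial (Fin N) K) :
    cw l (∑ i ∈ S, p i) = ∑ i ∈ S, cw l (p i) := by
  ext d; simp [coeff_cw, coeff_sum]

theorem cw_map_mul {k K : Type*} [CommRing k] [CommRing K] [Algebra k K] (l : K →ₗ[k] k)
    (a : MvPolynomial (Fin N) k) (p : MvPolynomial (Fin N) K) :
    cw l (MvPolynomial.map (algebraMap k K) a * p) = a * cw l p := by
  classical
  ext d
  simp only [coeff_cw, coeff_mul, map_sum, coeff_map, ← Algebra.smul_def, map_smul, smul_eq_mul]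

theorem cw_map {k K : Type*} [CommRing k] [CommRing K] [Algebra k K] (l : K →ₗ[k] k)
    (a : MvPolynomial (Fin N) k) :
    cw l (MvPolynomial.map (algebraMap k K) a) = a * C (l 1) := by
  have h := cw_map_mul l a 1
  rw [mul_one] at h
  rw [h]
  congr 1
  classical
  ext d
  simp only [coeff_cw, coeff_one, coeff_C]
  split_ifs <;> simp

theorem map_sum_cw {k K : Type*} [CommRing k] [CommRing K] [Algebra k K] {ι : Type*} [Fintype ι]
    (b : Module.Basis ι k K) (p : MvPolynomial (Fin N) K) :
    p = ∑ l, C (b l) * MvPolynomial.map (algebraMap k K) (cw (b.coord l) p) := by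
  ext d
  simp only [coeff_sum, coeff_C_mul, coeff_map, coeff_cw, Module.Basis.coord_apply]
  conv_lhs => rw [← b.sum_repr (coeff d p)]
  exact Finset.sum_congr rfl fun l _ => by rw [Algebra.smul_def, mul_comm]

/-- Contraction along a field extension of bounded degree of an ideal generated in bounded degree
is generated in bounded degree. -/
theorem exists_contraction_bound (N e s d : ℕ) : ∃ R : ℕ, ∀ (k : Type u) [Field k] (K : Type u)
    [Field K] [Algebra k K], Module.Finite k K → Module.finrank k K ≤ d →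
    ∀ g : Fin s → MvPolynomial (Fin N) K, (∀ i, (g i).totalDegree ≤ e) →
    (Ideal.span (Set.range g)).comap (MvPolynomial.map (algebraMap k K)) ≤
      Ideal.span {p | MvPolynomial.map (algebraMap k K) p ∈ Ideal.span (Set.range g) ∧
        p.totalDegree ≤ R} := by
  classical
  choose R hR using fun δ : ℕ =>
    DegBound.exists_ker_bound.{u} N e (Fin δ) (Option (Fin s × Fin δ))
  refine ⟨(Finset.range (d + 1)).sup R, fun k _ K _ _ _ hd g hg p hp => ?_⟩
  let δ := Module.finrank k K
  let b := Module.finBasis k K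
  let M : Matrix (Fin δ) (Option (Fin s × Fin δ)) (MvPolynomial (Fin N) k) := fun t x =>
    match x with
    | some il => cw (b.coord t) (C (b il.2) * g il.1)
    | none => -C (b.coord t 1)
  have hM : ∀ t x, (M t x).totalDegree ≤ e := by
    rintro t (_ | ⟨i, l⟩)
    · simp [M, totalDegree_neg]
    · refine (totalDegree_cw_le _ _).trans ((totalDegree_mul _ _).trans ?_)
      simpa using hg i
  have hrow : ∀ (v : Option (Fin s × Fin δ) → MvPolynomial (Fin N) k) (t : Fin δ),
      M.mulVec v t = cw (b.coord t) (∑ il, MvPolynomial.map (algebraMap k K) (v (some il)) *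
        (C (b il.2) * g il.1)) - v none * C (b.coord t 1) := by
    intro v t
    simp only [Matrix.mulVec, dotProduct, Fintype.sum_option, cw_sum, cw_map_mul, M]
    rw [neg_mul, add_comm, ← sub_eq_add_neg, mul_comm (C _)]
    congr 1
    exact Finset.sum_congr rfl fun il _ => mul_comm _ _
  obtain ⟨H, hH⟩ := (Submodule.mem_span_range_iff_exists_fun _).1 (Ideal.mem_comap.1 hp)
  simp only [smul_eq_mul] at hH
  let w : Option (Fin s × Fin δ) → MvPolynomial (Fin N) k := fun x =>
    match x with
    | some il => cw (b.coord il.2) (H il.1)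
    | none => p
  have hsum : ∑ il : Fin s × Fin δ, MvPolynomial.map (algebraMap k K) (w (some il)) *
      (C (b il.2) * g il.1) = MvPolynomial.map (algebraMap k K) p := by
    rw [← hH, Fintype.sum_prod_type]
    refine Finset.sum_congr rfl fun i _ => ?_
    conv_rhs => rw [map_sum_cw b (H i), Finset.sum_mul]
    exact Finset.sum_congr rfl fun l _ => by simp only [w]; ring
  have hw : M.mulVec w = 0 := funext fun t => by
    rw [hrow, hsum, cw_map]
    exact sub_self _
  have := hR δ k M hM w hw
  have h2 : (LinearMap.proj (R := MvPolynomial (Fin N) k)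
      (φ := fun _ : Option (Fin s × Fin δ) => MvPolynomial (Fin N) k) none) w ∈ _ :=
    Submodule.mem_map_of_mem this
  rw [Submodule.map_span] at h2
  refine Submodule.span_le.2 ?_ h2
  rintro _ ⟨v, ⟨hv, hvd⟩, rfl⟩
  refine Ideal.subset_span ⟨?_, (hvd none).trans (Finset.le_sup (Finset.mem_range.2
    (Nat.lt_succ_of_le hd)))⟩
  have h3 : MvPolynomial.map (algebraMap k K) (v none) =
      ∑ il : Fin s × Fin δ, MvPolynomial.map (algebraMap k K) (v (some il)) *
        (C (b il.2) * g il.1) := by
    rw [map_sum_cw b (∑ il : Fin s × Fin δ, _), map_sum_cw b (MvPolynomial.map _ _)]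
    refine Finset.sum_congr rfl fun t _ => ?_
    congr 2
    rw [cw_map]
    have h4 := congrFun hv t
    rw [hrow, Pi.zero_apply, sub_eq_zero] at h4
    exact h4.symm
  change MvPolynomial.map (algebraMap k K) (v none) ∈ _
  rw [h3]
  refine Ideal.sum_mem _ fun il _ => Ideal.mul_mem_left _ _ (Ideal.mul_mem_left _ _ ?_)
  exact Ideal.subset_span ⟨il.1, rfl⟩

theorem exists_lift_adjoin {A L : Type u} [CommRing A] [CommRing L] [Algebra A L] {T : Set L}
    (p : MvPolynomial (Fin N) L) (h : ∀ d ∈ p.support, coeff d p ∈ T) :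
    ∃ q : MvPolynomial (Fin N) (Algebra.adjoin A T),
      MvPolynomial.map (Algebra.adjoin A T).val.toRingHom q = p := by
  classical
  refine ⟨∑ d ∈ p.support.attach, monomial d.1 ⟨coeff d.1 p, Algebra.subset_adjoin (h d.1 d.2)⟩, ?_⟩
  rw [map_sum]
  conv_rhs => rw [p.as_sum, ← Finset.sum_attach]
  exact Finset.sum_congr rfl fun d _ => by rw [map_monomial]; rfl

/-- The generic step. -/
theorem exists_generic_bound {A : Type u} [CommRing A] [IsDomain A] [IsNoetherianRing A] {D : ℕ}
    (F : Fin D → MvPolynomial (Fin N) A) :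
    ∃ (f : A) (R : ℕ), f ≠ 0 ∧ ∀ (k : Type u) [Field k] (φ : A →+* k), φ f ≠ 0 →
      (Ideal.span (Set.range fun j => MvPolynomial.map φ (F j))).radical ≤
        Ideal.span {p | p ∈ (Ideal.span (Set.range fun j => MvPolynomial.map φ (F j))).radical ∧
          p.totalDegree ≤ R} := by
  classical
  let L := AlgebraicClosure (FractionRing A)
  haveI : Algebra.IsAlgebraic A L :=
    (IsFractionRing.comap_isAlgebraic_iff (A := A) (K := FractionRing A) (C := L)).2 inferInstance
  have hiA : Function.Injective (algebraMap A L) := by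
    rw [IsScalarTower.algebraMap_eq A (FractionRing A) L]
    exact (algebraMap (FractionRing A) L).injective.comp (IsFractionRing.injective A _)
  let FL : Fin D → MvPolynomial (Fin N) L := fun j => MvPolynomial.map (algebraMap A L) (F j)
  obtain ⟨s, gL, hgL⟩ := Submodule.fg_iff_exists_fin_generating_family.1
    (IsNoetherian.noetherian (Ideal.span (Set.range FL)).radical)
  have hgmem : ∀ i, gL i ∈ (Ideal.span (Set.range FL)).radical := fun i => by
    rw [← hgL]; exact Submodule.subset_span ⟨i, rfl⟩
  choose e he using fun i => (show ∃ n, gL i ^ n ∈ Ideal.span (Set.range FL) from hgmem i)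
  choose h hh using fun i => (Submodule.mem_span_range_iff_exists_fun _).1 (he i)
  choose q hq using fun j => (Submodule.mem_span_range_iff_exists_fun _).1
    (show FL j ∈ Submodule.span _ (Set.range gL) by
      rw [hgL]; exact Ideal.le_radical (Ideal.subset_span ⟨j, rfl⟩))
  let co : MvPolynomial (Fin N) L → Finset L := fun p => p.support.image fun d => coeff d p
  let S : Finset L := (Finset.univ.biUnion fun i => co (gL i)) ∪
    (Finset.univ.biUnion fun ij : Fin s × Fin D => co (h ij.1 ij.2) ∪ co (q ij.2 ij.1))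
  let T := Algebra.adjoin A (S : Set L)
  have hgS : ∀ i, ∀ d ∈ (gL i).support, coeff d (gL i) ∈ (S : Set L) := fun i d hd =>
    Finset.mem_union_left _ (Finset.mem_biUnion.2
      ⟨i, Finset.mem_univ _, Finset.mem_image.2 ⟨d, hd, rfl⟩⟩)
  have hhS : ∀ i j, ∀ d ∈ (h i j).support, coeff d (h i j) ∈ (S : Set L) := fun i j d hd =>
    Finset.mem_union_right _ (Finset.mem_biUnion.2 ⟨(i, j), Finset.mem_univ _,
      Finset.mem_union_left _ (Finset.mem_image.2 ⟨d, hd, rfl⟩)⟩)
  have hqS : ∀ j i, ∀ d ∈ (q j i).support, coeff d (q j i) ∈ (S : Set L) := fun j i d hd =>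
    Finset.mem_union_right _ (Finset.mem_biUnion.2 ⟨(i, j), Finset.mem_univ _,
      Finset.mem_union_right _ (Finset.mem_image.2 ⟨d, hd, rfl⟩)⟩)
  choose g hg using fun i => exists_lift_adjoin (A := A) (gL i) (hgS i)
  choose h' hh' using fun i j => exists_lift_adjoin (A := A) (h i j) (hhS i j)
  choose q' hq' using fun j i => exists_lift_adjoin (A := A) (q j i) (hqS j i)
  let val := MvPolynomial.map (σ := Fin N) T.val.toRingHom
  have hval : Function.Injective val := MvPolynomial.map_injective _ Subtype.val_injective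
  let FT : Fin D → MvPolynomial (Fin N) T := fun j => MvPolynomial.map (algebraMap A T) (F j)
  have hFT : ∀ j, val (FT j) = FL j := fun j => by
    simp only [val, FT, FL, MvPolynomial.map_map]; rfl
  have id1 : ∀ i, g i ^ e i = ∑ j, h' i j * FT j := fun i => hval (by
    have := hh i
    simp only [smul_eq_mul] at this
    simp only [map_pow, map_sum, map_mul, hFT]
    simp only [val, T, hg, hh', this])
  have id2 : ∀ j, FT j = ∑ i, q' j i * g i := fun j => hval (by
    have := hq j
    simp only [smul_eq_mul] at this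
    simp only [map_sum, map_mul, hFT]
    simp only [val, T, hg, hq', this])
  haveI : Algebra.FiniteType A T := (Subalgebra.fg_iff_finiteType T).1 (Subalgebra.fg_adjoin_finset S)
  haveI : IsNoetherianRing T := Algebra.FiniteType.isNoetherianRing A T
  have hrad : (Ideal.span (Set.range fun i => MvPolynomial.map T.val.toRingHom (g i))).IsRadical := by
    simp only [T, hg]
    rw [show Ideal.span (Set.range fun i => gL i) = (Ideal.span (Set.range FL)).radical from hgL]
    exact Ideal.radical_isRadical _
  obtain ⟨f', hf', hf'r⟩ := exists_ne_zero_forall_isRadical (A := T) T.val.toRingHom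
    Subtype.val_injective g hrad
  obtain ⟨f, d, hf, hext⟩ := exists_bounded_extension hiA S f' hf'
  obtain ⟨R, hR⟩ := exists_contraction_bound.{u} N
    (Finset.univ.sup fun i => (g i).totalDegree) s d
  refine ⟨f, R, hf, fun k _ φ hφ => ?_⟩
  obtain ⟨K', _, _, hfin, hrank, ψ, hψ, hψf⟩ := hext k φ hφ
  let μ := MvPolynomial.map (σ := Fin N) (algebraMap k K')
  let Fk : Fin D → MvPolynomial (Fin N) k := fun j => MvPolynomial.map φ (F j)
  let g' : Fin s → MvPolynomial (Fin N) K' := fun i => MvPolynomial.map ψ (g i)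
  have hFK : ∀ j, μ (Fk j) = MvPolynomial.map ψ (FT j) := fun j => by
    simp only [μ, Fk, FT, MvPolynomial.map_map]
    rw [← hψ]
    exact (MvPolynomial.map_map _ _ _).symm
  have hg'rad : (Ideal.span (Set.range g')).IsRadical := hf'r K' ψ hψf
  have hle1 : Ideal.span (Set.range fun j => μ (Fk j)) ≤ Ideal.span (Set.range g') := by
    refine Ideal.span_le.2 ?_
    rintro _ ⟨j, rfl⟩
    simp only [SetLike.mem_coe, hFK, id2, map_sum, map_mul]
    exact Ideal.sum_mem _ fun i _ => Ideal.mul_mem_left _ _ (Ideal.subset_span ⟨i, rfl⟩)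
  have hle2 : Ideal.span (Set.range g') ≤ (Ideal.span (Set.range fun j => μ (Fk j))).radical := by
    refine Ideal.span_le.2 ?_
    rintro _ ⟨i, rfl⟩
    refine ⟨e i, ?_⟩
    simp only [g', ← map_pow, id1, map_sum, map_mul, ← hFK]
    exact Ideal.sum_mem _ fun j _ => Ideal.mul_mem_left _ _ (Ideal.subset_span ⟨j, rfl⟩)
  obtain ⟨l, hl⟩ := (Algebra.linearMap k K').exists_leftInverse_of_injective
    (LinearMap.ker_eq_bot.2 (algebraMap k K').injective)
  have hl1 : l 1 = 1 := by simpa using LinearMap.congr_fun hl 1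
  have hcontr : ∀ p, μ p ∈ Ideal.span (Set.range fun j => μ (Fk j)) →
      p ∈ Ideal.span (Set.range Fk) := fun p hp => by
    obtain ⟨H, hH⟩ := (Submodule.mem_span_range_iff_exists_fun _).1 hp
    have h1 := congrArg (cw l) hH
    simp only [smul_eq_mul, cw_sum, μ, cw_map, hl1, map_one, mul_one] at h1
    rw [← h1]
    refine Ideal.sum_mem _ fun j _ => ?_
    rw [mul_comm, cw_map_mul]
    exact Ideal.mul_mem_right _ _ (Ideal.subset_span ⟨j, rfl⟩)
  have hJ : (Ideal.span (Set.range Fk)).radical = (Ideal.span (Set.range g')).comap μ := by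
    apply le_antisymm
    · rintro p ⟨n, hn⟩
      refine hg'rad ⟨n, hle1 ?_⟩
      have := Ideal.mem_map_of_mem μ hn
      rw [Ideal.map_span, ← Set.range_comp, map_pow] at this
      exact this
    · intro p hp
      obtain ⟨n, hn⟩ := hle2 hp
      exact ⟨n, hcontr _ (by rwa [map_pow])⟩
  have hdeg : ∀ i, (g' i).totalDegree ≤ Finset.univ.sup fun i => (g i).totalDegree := fun i =>
    (Finset.sup_mono (MvPolynomial.support_map_subset _ _)).trans
      (Finset.le_sup (f := fun i => (g i).totalDegree) (Finset.mem_univ i))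
  intro p hp
  rw [hJ] at hp
  refine Ideal.span_mono ?_ (hR k K' hfin hrank g' hdeg hp)
  rintro x ⟨hx1, hx2⟩
  exact ⟨hJ.symm.le (Ideal.mem_comap.2 hx1), hx2⟩

theorem exists_radical_totalDegree_bound (N : ℕ) :
    ∃ R : ℕ → ℕ, ∀ (k₀ : Type u) [Field k₀] (m : ℕ) (S : Set (MvPolynomial (Fin N) k₀)),
      (∀ p ∈ S, p.totalDegree ≤ m) →
        ∃ S' : Set (MvPolynomial (Fin N) k₀), (∀ q ∈ S', q.totalDegree ≤ R m) ∧
          Ideal.span S' = (Ideal.span S).radical := by
  classical
  suffices h : ∀ m, ∃ R : ℕ, ∀ (k₀ : Type u) [Field k₀] (S : Set (MvPolynomial (Fin N) k₀)),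
      (∀ p ∈ S, p.totalDegree ≤ m) → (Ideal.span S).radical ≤
        Ideal.span {p | p ∈ (Ideal.span S).radical ∧ p.totalDegree ≤ R} by
    choose R hR using h
    exact ⟨R, fun k₀ _ m S hS => ⟨{p | p ∈ (Ideal.span S).radical ∧ p.totalDegree ≤ R m},
      fun q hq => hq.2, le_antisymm (Ideal.span_le.2 fun q hq => hq.1) (hR m k₀ S hS)⟩⟩
  intro m
  let ι := Fin N → Fin (m + 1)
  let D := Fintype.card ι
  let A₀ := MvPolynomial (Fin D × ι) (ULift.{u} ℤ)
  haveI : IsNoetherianRing (ULift.{u} ℤ) :=
    isNoetherianRing_of_ringEquiv ℤ ULift.ringEquiv.symm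
  let U : Fin D → MvPolynomial (Fin N) A₀ := fun j =>
    ∑ s : ι, monomial (DegBound.expo s) (X (j, s))
  obtain ⟨R, hR⟩ := DegBound.exists_bound_of_generic (A := A₀)
    (fun k _ φ R => (Ideal.span (Set.range fun j => MvPolynomial.map φ (U j))).radical ≤
      Ideal.span {p | p ∈ (Ideal.span (Set.range fun j => MvPolynomial.map φ (U j))).radical ∧
        p.totalDegree ≤ R})
    (by
      intro k _ φ R R' hRR h
      refine h.trans (Ideal.span_mono ?_)
      exact fun p hp => ⟨hp.1, hp.2.trans hRR⟩)
    (fun P hP => by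
      haveI := hP
      obtain ⟨f, R, hf, hfR⟩ := exists_generic_bound
        fun j => MvPolynomial.map (Ideal.Quotient.mk P) (U j)
      obtain ⟨f₀, rfl⟩ := Ideal.Quotient.mk_surjective f
      refine ⟨f₀, fun hm => hf (Ideal.Quotient.eq_zero_iff_mem.2 hm), R, fun k _ φ hPφ hf₀ => ?_⟩
      have h := hfR k (Ideal.Quotient.lift P φ hPφ) (by simpa using hf₀)
      simp only [MvPolynomial.map_map] at h
      rwa [show (Ideal.Quotient.lift P φ hPφ).comp (Ideal.Quotient.mk P) = φ from
        Ideal.Quotient.lift_comp_mk _ _ _] at h)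
  refine ⟨R, fun k _ S hS => ?_⟩
  let W := Submodule.span k S
  let mons : ι → MvPolynomial (Fin N) k := fun s => monomial (DegBound.expo s) 1
  have hW : W ≤ Submodule.span k (Set.range mons) := Submodule.span_le.2 fun p hp => by
    rw [DegBound.eq_sum_expo p (hS p hp)]
    refine Submodule.sum_mem _ fun s _ => ?_
    rw [show monomial (DegBound.expo s) (coeff (DegBound.expo s) p) =
      coeff (DegBound.expo s) p • mons s by simp [mons, smul_monomial]]
    exact Submodule.smul_mem _ _ (Submodule.subset_span ⟨s, rfl⟩)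
  haveI : Module.Finite k (Submodule.span k (Set.range mons)) := Module.Finite.span_of_finite k (Set.finite_range _)
  haveI : Module.Finite k W := Submodule.finiteDimensional_of_le hW
  have hr : Module.finrank k W ≤ D := (Submodule.finrank_mono hW).trans (finrank_range_le_card mons)
  let bW := Module.finBasis k W
  let F : Fin D → MvPolynomial (Fin N) k := fun j =>
    if hj : (j : ℕ) < Module.finrank k W then (bW ⟨j, hj⟩ : MvPolynomial (Fin N) k) else 0
  have hFW : ∀ j, F j ∈ W := fun j => by
    simp only [F]; split_ifs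
    · exact Submodule.coe_mem _
    · exact W.zero_mem
  have hspan : Ideal.span (Set.range F) = Ideal.span S := by
    have hWI : ∀ x ∈ W, x ∈ Ideal.span S := fun x hx =>
      Submodule.span_le_restrictScalars k (MvPolynomial (Fin N) k) S hx
    refine le_antisymm (Ideal.span_le.2 ?_) (Ideal.span_le.2 fun p hp => ?_)
    · rintro _ ⟨j, rfl⟩
      exact hWI _ (hFW j)
    · have hp' : p ∈ W := Submodule.subset_span hp
      rw [show p = ((⟨p, hp'⟩ : W) : MvPolynomial (Fin N) k) from rfl, ← bW.sum_repr ⟨p, hp'⟩,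
        SetLike.mem_coe, Submodule.coe_sum]
      refine Ideal.sum_mem _ fun l _ => ?_
      rw [Submodule.coe_smul, MvPolynomial.smul_eq_C_mul]
      refine Ideal.mul_mem_left _ _ (Ideal.subset_span ⟨⟨l, lt_of_lt_of_le l.2 hr⟩, ?_⟩)
      simp [F, l.2]
  let φ : A₀ →+* k := eval₂Hom ((Int.castRingHom k).comp ULift.ringEquiv.toRingHom)
    fun x => coeff (DegBound.expo x.2) (F x.1)
  have hU : ∀ j, MvPolynomial.map φ (U j) = F j := fun j => by
    have hdeg : (F j).totalDegree ≤ m := by
      have hle : W ≤ (restrictTotalDegree (Fin N) k m) := Submodule.span_le.2 fun p hp =>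
        (mem_restrictTotalDegree _ _ _).2 (hS p hp)
      exact (mem_restrictTotalDegree _ _ _).1 (hle (hFW j))
    conv_rhs => rw [DegBound.eq_sum_expo (F j) hdeg]
    simp only [U, map_sum, map_monomial]
    refine Finset.sum_congr rfl fun s _ => ?_
    congr 1
    exact eval₂Hom_X' _ _ _
  have := hR k φ
  simp only [hU] at this
  rwa [hspan] at this

end Groth.Agent.CAlgSmall.RadBound
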