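import Groth.Agent.CAlgMisc2.Normal
import Mathlib.RingTheory.Ideal.KrullsHeightTheorem
import Mathlib.RingTheory.DiscreteValuationRing.TFAE
import Mathlib.RingTheory.Ideal.Quotient.Nilpotent
import Mathlib.RingTheory.Length
import Mathlib.RingTheory.Ideal.Operations

/-!
# Reduced hypersurface sections through given height one primes (normal, dimension two)

If `(c, h)` is primary to the maximal ideal, then `(c)` has at most `length R/(c, h)` minimal
primes.  Taking `c` in a given ideal with `(c, h)` fixed and with the most minimal primes forces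
`(c)` to be radical.
-/

universe u

set_option autoImplicit false

open IsLocalRing Submodule

namespace Groth.Agent.CAlgSmall.ReducedHyperplane

variable {R : Type u} [CommRing R] [IsDomain R]

theorem eq_of_le_of_height_le_one {P q : Ideal R} [P.IsPrime] [q.IsPrime] (hle : P ≤ q)
    (hq : q.height ≤ 1) (hP : P ≠ ⊥) : P = q := by
  by_contra hne
  have h1 := Ideal.height_add_one_le_of_lt_of_isPrime (lt_of_le_of_ne hle hne)
  have h2 : (1 : ℕ∞) ≤ P.height := by
    rw [Order.one_le_iff_pos, pos_iff_ne_zero]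
    exact fun h => hP (Ideal.height_eq_zero_iff_eq_bot.1 h)
  have h3 : (1 : ℕ∞) + 1 ≤ 1 := ((add_le_add_left h2 1).trans h1).trans hq
  exact absurd h3 (by decide)

variable [IsNoetherianRing R]

theorem height_le_one_of_mem_minimalPrimes {c : R} {q : Ideal R}
    (hq : q ∈ (Ideal.span {c}).minimalPrimes) : q.height ≤ 1 :=
  Ideal.height_le_one_of_isPrincipal_of_mem_minimalPrimes (Ideal.span {c}) q hq

/-- `q²` saturated. -/
noncomputable def sq (q : Ideal R) [q.IsPrime] : Ideal R :=
  ((maximalIdeal (Localization.AtPrime q)) ^ 2).comap (algebraMap R (Localization.AtPrime q))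

theorem sq_le (q : Ideal R) [q.IsPrime] : sq q ≤ q := by
  intro x hx
  have h : algebraMap R (Localization.AtPrime q) x ∈ maximalIdeal (Localization.AtPrime q) :=
    Ideal.pow_le_self two_ne_zero hx
  exact (IsLocalization.AtPrime.to_map_mem_maximal_iff _ q x).1 h

theorem pow_two_le_sq (q : Ideal R) [q.IsPrime] : q ^ 2 ≤ sq q := by
  refine Ideal.le_comap_of_map_le ?_
  rw [Ideal.map_pow, Localization.AtPrime.map_eq_maximalIdeal]

theorem exists_mem_notMem_sq (q : Ideal R) [q.IsPrime] (hq : q ≠ ⊥) : ∃ u ∈ q, u ∉ sq q := by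
  by_contra h
  push Not at h
  have hle : maximalIdeal (Localization.AtPrime q) ≤
      maximalIdeal (Localization.AtPrime q) ^ 2 := by
    conv_lhs => rw [← Localization.AtPrime.map_eq_maximalIdeal]
    exact Ideal.map_le_iff_le_comap.2 h
  have hbot : maximalIdeal (Localization.AtPrime q) = ⊥ := by
    refine Submodule.eq_bot_of_le_smul_of_le_jacobson_bot (maximalIdeal (Localization.AtPrime q))
      (maximalIdeal (Localization.AtPrime q)) (IsNoetherian.noetherian _) ?_
      (maximalIdeal_le_jacobson _)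
    rwa [smul_eq_mul, ← pow_two]
  obtain ⟨x, hxq, hx0⟩ := Submodule.exists_mem_ne_zero_of_ne_bot hq
  refine hx0 (IsLocalization.injective (Localization.AtPrime q) q.primeCompl_le_nonZeroDivisors ?_)
  rw [map_zero, ← Ideal.mem_bot, ← hbot, IsLocalization.AtPrime.to_map_mem_maximal_iff _ q]
  exact hxq

theorem mul_notMem_sq {q : Ideal R} [q.IsPrime] {u t : R} (hu : u ∉ sq q) (ht : t ∉ q) :
    u * t ∉ sq q := by
  intro h
  refine hu ?_
  have hunit : IsUnit (algebraMap R (Localization.AtPrime q) t) :=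
    IsLocalization.map_units (Localization.AtPrime q) (⟨t, ht⟩ : q.primeCompl)
  rw [sq, Ideal.mem_comap, map_mul] at h
  exact Ideal.mem_comap.2 ((Ideal.mul_unit_mem_iff_mem _ hunit).1 h)

/-- In a normal Noetherian domain, a height one prime is locally generated by any element
outside its saturated square. -/
theorem exists_mul_eq_of_height_one [IsIntegrallyClosed R] (q : Ideal R) [q.IsPrime]
    (hq : q.height ≤ 1) {y : R} (hy : y ∈ q) (hy2 : y ∉ sq q) {x : R} (hx : x ∈ q) :
    ∃ a s : R, s ∉ q ∧ x * s = a * y := by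
  let A := Localization.AtPrime q
  have : IsDomain A := IsLocalization.isDomain_localization q.primeCompl_le_nonZeroDivisors
  have : IsIntegrallyClosed A :=
    isIntegrallyClosed_of_isLocalization A q.primeCompl q.primeCompl_le_nonZeroDivisors
  have hprimes : ∀ P : Ideal A, P ≠ ⊥ → P.IsPrime → P = maximalIdeal A := by
    intro P hP hPp
    have hle : P.comap (algebraMap R A) ≤ q := by
      intro z hz
      exact (IsLocalization.AtPrime.to_map_mem_maximal_iff A q z).1
        (le_maximalIdeal hPp.ne_top hz)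
    have hne : P.comap (algebraMap R A) ≠ ⊥ := by
      intro h
      refine hP ?_
      rw [← IsLocalization.map_comap q.primeCompl A P]
      change Ideal.map _ (P.comap (algebraMap R A)) = ⊥
      rw [h, Ideal.map_bot]
    have heq := eq_of_le_of_height_le_one hle hq hne
    rw [← IsLocalization.map_comap q.primeCompl A P]
    change Ideal.map _ (P.comap (algebraMap R A)) = maximalIdeal A
    rw [heq, Localization.AtPrime.map_eq_maximalIdeal]
  have hprinc : (maximalIdeal A).IsPrincipal :=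
    ((tfae_of_isNoetherianRing_of_isLocalRing_of_isDomain A).out 3 4).1
      (show IsIntegrallyClosed A ∧ ∀ P : Ideal A, P ≠ ⊥ → P.IsPrime → P = maximalIdeal A from
        ⟨inferInstance, hprimes⟩)
  obtain ⟨π, hπ⟩ := hprinc.principal
  have hym : algebraMap R A y ∈ maximalIdeal A :=
    (IsLocalization.AtPrime.to_map_mem_maximal_iff A q y).2 hy
  have hxm : algebraMap R A x ∈ maximalIdeal A :=
    (IsLocalization.AtPrime.to_map_mem_maximal_iff A q x).2 hx
  have hπm : π ∈ maximalIdeal A := by rw [hπ]; exact Submodule.mem_span_singleton_self π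
  rw [hπ] at hym hxm
  obtain ⟨a, ha⟩ := Submodule.mem_span_singleton.1 hym
  obtain ⟨b, hb⟩ := Submodule.mem_span_singleton.1 hxm
  rw [smul_eq_mul] at ha hb
  have hau : IsUnit a := by
    by_contra hau
    refine hy2 (Ideal.mem_comap.2 ?_)
    show algebraMap R A y ∈ _
    rw [← ha, pow_two]
    exact Ideal.mul_mem_mul hau hπm
  obtain ⟨a', ha'⟩ := hau.exists_left_inv
  obtain ⟨e, s, hes⟩ := IsLocalization.exists_mk'_eq q.primeCompl (b * a')
  refine ⟨e, s, s.2, IsLocalization.injective A q.primeCompl_le_nonZeroDivisors ?_⟩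
  rw [map_mul, map_mul, ← IsLocalization.mk'_spec A e s, hes, ← ha, ← hb]
  calc b * π * algebraMap R A s = b * (a' * a) * π * algebraMap R A s := by rw [ha', mul_one]
    _ = _ := by ring

variable [IsLocalRing R]

theorem mem_of_mul_mem_inf {T : Finset (Ideal R)} {h z : R} (hT : ∀ q ∈ T, q.IsPrime ∧ h ∉ q)
    (hz : h * z ∈ T.inf id) : z ∈ T.inf id := by
  rw [Submodule.mem_finsetInf] at hz ⊢
  intro q hq
  exact ((hT q hq).1.mem_or_mem (hz q hq)).resolve_left (hT q hq).2

/-- Nakayama step: `I ≤ N + (h)` with `h` regular modulo `I` gives `I ≤ N`. -/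
theorem le_of_le_sup_span {T : Finset (Ideal R)} {h : R} (hh : h ∈ maximalIdeal R)
    (hT : ∀ q ∈ T, q.IsPrime ∧ h ∉ q) {N : Ideal R} (hN : N ≤ T.inf id)
    (hle : T.inf id ≤ N ⊔ Ideal.span {h}) : T.inf id ≤ N := by
  refine Submodule.le_of_le_smul_of_le_jacobson_bot (I := Ideal.span {h})
    (IsNoetherian.noetherian _) ?_ fun x hx => ?_
  · exact ((Ideal.span_singleton_le_iff_mem _).2 hh).trans (maximalIdeal_le_jacobson _)
  obtain ⟨y, hy, w, hw, rfl⟩ := Submodule.mem_sup.1 (hle hx)
  obtain ⟨z, rfl⟩ := Ideal.mem_span_singleton'.1 hw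
  have hz : h * z ∈ T.inf id := by
    have := Ideal.sub_mem _ hx (hN hy)
    rwa [add_sub_cancel_left, mul_comm] at this
  refine Submodule.add_mem _ (Submodule.mem_sup_left hy) (Submodule.mem_sup_right ?_)
  rw [mul_comm, ← smul_eq_mul]
  exact Submodule.smul_mem_smul (Ideal.mem_span_singleton_self h) (mem_of_mul_mem_inf hT hz)

theorem card_le_coheight {c h : R} (hh : h ∈ maximalIdeal R) (T : Finset (Ideal R))
    (hT : ∀ q ∈ T, q ∈ (Ideal.span {c}).minimalPrimes ∧ h ∉ q) :
    (T.card : ℕ∞) ≤ Order.coheight (T.inf id ⊔ Ideal.span {h}) := by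
  classical
  induction T using Finset.induction with
  | empty => simp
  | @insert q T hq ih =>
    have hT' := fun x hx => hT x (Finset.mem_insert_of_mem hx)
    have hqT := hT q (Finset.mem_insert_self q T)
    rw [Finset.card_insert_of_notMem hq, Finset.inf_insert, id_eq, Nat.cast_add, Nat.cast_one]
    refine (add_le_add_left (ih hT') 1).trans (Order.coheight_add_one_le ?_)
    refine lt_of_le_of_ne (sup_le_sup_right inf_le_right _) fun heq => ?_
    have hle : T.inf id ≤ q ⊓ T.inf id :=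
      le_of_le_sup_span hh (fun x hx => ⟨(hT' x hx).1.1.1, (hT' x hx).2⟩) inf_le_right
        (heq ▸ le_sup_left)
    obtain ⟨q', hq', hq'le⟩ := (Ideal.IsPrime.inf_le' hqT.1.1.1).1 (hle.trans inf_le_left)
    exact hq ((le_antisymm (hqT.1.2 (hT' q' hq').1.1 hq'le) hq'le) ▸ hq')

theorem exists_isReduced_quotient [IsIntegrallyClosed R] (hdim : ringKrullDim R = 2) (I₀ : Ideal R)
    (hI₀ : I₀.radical = I₀) (c₀ : R) (hc₀ : c₀ ≠ 0) (hc₀m : c₀ ∈ maximalIdeal R) (hc₀I : c₀ ∈ I₀) :
    ∃ f : R, f ≠ 0 ∧ f ∈ I₀ ∧ IsReduced (R ⧸ Ideal.span {f}) := by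
  classical
  have hmh : (maximalIdeal R).height = 2 := by
    have := IsLocalRing.maximalIdeal_height_eq_ringKrullDim (R := R)
    rw [hdim] at this
    exact WithBot.coe_injective this
  have hmin_ne : ∀ c : R, ∀ q ∈ (Ideal.span {c}).minimalPrimes, q ≠ maximalIdeal R := by
    intro c q hq heq
    have := height_le_one_of_mem_minimalPrimes hq
    rw [heq, hmh] at this
    exact absurd this (by decide)
  obtain ⟨h, hhm, hh⟩ : ∃ h ∈ maximalIdeal R, ∀ q ∈ (Ideal.span {c₀}).minimalPrimes, h ∉ q := by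
    have hfin : (Ideal.span {c₀}).minimalPrimes.Finite :=
      Ideal.finite_minimalPrimes_of_isNoetherianRing R _
    by_contra hcon
    push Not at hcon
    have hsub : (maximalIdeal R : Set R) ⊆ ⋃ q ∈ (hfin.toFinset : Set (Ideal R)), (q : Set R) := by
      intro x hx
      obtain ⟨q, hq, hxq⟩ := hcon x hx
      exact Set.mem_biUnion (hfin.mem_toFinset.2 hq) hxq
    obtain ⟨q, hq, hle⟩ := (Ideal.subset_union_prime (s := hfin.toFinset) (f := id) ⊥ ⊥
      fun q hq _ _ => (hfin.mem_toFinset.1 hq).1.1).1 hsub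
    rw [Set.Finite.mem_toFinset] at hq
    exact hmin_ne c₀ q hq (le_antisymm (le_maximalIdeal hq.1.1.ne_top) hle)
  set J : Ideal R := Ideal.span {c₀} ⊔ Ideal.span {h} with hJ
  have hJm : maximalIdeal R ∈ J.minimalPrimes := by
    refine ⟨⟨(maximalIdeal.isMaximal R).isPrime, sup_le
      ((Ideal.span_singleton_le_iff_mem _).2 hc₀m) ((Ideal.span_singleton_le_iff_mem _).2 hhm)⟩, ?_⟩
    rintro P ⟨hP, hJP⟩ hPm
    obtain ⟨q, hq, hqP⟩ := Ideal.exists_minimalPrimes_le (le_sup_left.trans hJP)
    by_contra hne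
    have hlt : P < maximalIdeal R := lt_of_le_of_ne hPm fun e => hne e.ge
    have hqlt : q < P := lt_of_le_of_ne hqP fun e => hh q hq
      (e ▸ hJP (Submodule.mem_sup_right (Ideal.mem_span_singleton_self h)))
    have := hq.1.1
    have h1 : (1 : ℕ∞) ≤ q.height := by
      rw [Order.one_le_iff_pos, pos_iff_ne_zero]
      intro h0
      rw [Ideal.height_eq_zero_iff_eq_bot] at h0
      exact hc₀ (by simpa [h0] using hq.1.2 (Ideal.mem_span_singleton_self c₀))
    have h2 := (add_le_add_left h1 1).trans (Ideal.height_add_one_le_of_lt_of_isPrime hqlt)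
    have h3 := (add_le_add_left h2 1).trans (Ideal.height_add_one_le_of_lt_of_isPrime hlt)
    rw [hmh] at h3
    exact absurd h3 (by decide)
  have hL : Order.coheight J ≠ ⊤ := by
    have := IsLocalRing.quotient_artinian_of_mem_minimalPrimes_of_isLocalRing J hJm
    have : IsArtinian R (R ⧸ J) :=
      isArtinian_of_surjective_algebraMap (S := R) (R := R ⧸ J) (M := R ⧸ J) Ideal.Quotient.mk_surjective
    rw [← Module.length_quotient]
    exact Module.length_ne_top
  -- the candidates
  let C : Set R := {c | c ≠ 0 ∧ c ∈ I₀ ∧ Ideal.span {c} ⊔ Ideal.span {h} = J}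
  have hCm : ∀ c ∈ C, c ∈ maximalIdeal R := fun c hc => by
    have : c ∈ J := hc.2.2 ▸ Submodule.mem_sup_left (Ideal.mem_span_singleton_self c)
    exact hJm.1.2 this
  have hCh : ∀ c ∈ C, ∀ q ∈ (Ideal.span {c}).minimalPrimes, h ∉ q := by
    intro c hc q hq hhq
    have hle : J ≤ q := hc.2.2 ▸ sup_le hq.1.2 ((Ideal.span_singleton_le_iff_mem _).2 hhq)
    exact hmin_ne c q hq (le_antisymm (le_maximalIdeal hq.1.1.ne_top)
      (hJm.2 ⟨hq.1.1, hle⟩ (le_maximalIdeal hq.1.1.ne_top)))
  let T : R → Finset (Ideal R) := fun c =>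
    (Ideal.finite_minimalPrimes_of_isNoetherianRing R (Ideal.span {c})).toFinset
  have hmemT : ∀ c q, q ∈ T c ↔ q ∈ (Ideal.span {c}).minimalPrimes := fun c q =>
    Set.Finite.mem_toFinset _
  have hbound : ∀ c ∈ C, (T c).card ≤ (Order.coheight J).toNat := by
    intro c hc
    rw [← ENat.coe_le_coe, ENat.coe_toNat hL]
    refine (card_le_coheight hhm (T c) fun q hq =>
      ⟨(hmemT c q).1 hq, hCh c hc q ((hmemT c q).1 hq)⟩).trans (Order.coheight_anti ?_)
    rw [← hc.2.2]
    exact sup_le_sup_right (Finset.le_inf fun q hq => ((hmemT c q).1 hq).1.2) _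
  have hne : {n | ∃ c ∈ C, (T c).card = n}.Nonempty := ⟨_, c₀, ⟨hc₀, hc₀I, rfl⟩, rfl⟩
  have hbdd : BddAbove {n | ∃ c ∈ C, (T c).card = n} :=
    ⟨_, by rintro n ⟨c, hc, rfl⟩; exact hbound c hc⟩
  obtain ⟨c, hcC, hcmax⟩ := Nat.sSup_mem hne hbdd
  have hmax : ∀ c' ∈ C, (T c').card ≤ (T c).card := fun c' hc' => by
    rw [hcmax]; exact le_csSup hbdd ⟨c', hc', rfl⟩
  have hrad : (Ideal.span {c}).radical = (T c).inf id := by
    rw [← Ideal.sInf_minimalPrimes, Finset.inf_id_eq_sInf]
    congr 1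
    ext q
    exact (hmemT c q).symm
  have hpr : ∀ q ∈ T c, q.IsPrime := fun q hq => ((hmemT c q).1 hq).1.1
  have hcq : ∀ q ∈ T c, c ∈ q := fun q hq => ((hmemT c q).1 hq).1.2 (Ideal.mem_span_singleton_self c)
  have hTne : (T c).Nonempty := by
    obtain ⟨q, hq⟩ := Ideal.nonempty_minimalPrimes (I := Ideal.span {c})
      (fun e => (hCm c hcC) |> fun hm => (maximalIdeal.isMaximal R).ne_top
        (top_le_iff.1 (e ▸ (Ideal.span_singleton_le_iff_mem _).2 hm)))
    exact ⟨q, (hmemT c q).2 hq⟩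
  -- an element with simple zeros along `T c`, congruent to `c` modulo `m * J`
  have hg : ∀ q ∈ T c, ∃ g, g ∈ (T c).inf id ∧ g ∈ maximalIdeal R * J ∧
      (∀ [q.IsPrime], g ∉ sq q) ∧ ∀ q' ∈ T c, q' ≠ q → ∀ [q'.IsPrime], g ∈ sq q' := by
    intro q hq
    have := hpr q hq
    obtain ⟨u, huq, hu⟩ := exists_mem_notMem_sq q fun e => hcC.1 (by simpa [e] using hcq q hq)
    obtain ⟨t, ht, htq⟩ : ∃ t ∈ (maximalIdeal R * J) * ((T c).erase q).prod (fun q' => q' ^ 2),
        t ∉ q := by
      by_contra hcon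
      push Not at hcon
      rcases (Ideal.IsPrime.mul_le inferInstance).1 (show _ ≤ q from hcon) with h1 | h1
      · have hlast : h ∈ q := by
          rcases (Ideal.IsPrime.mul_le inferInstance).1 h1 with h2 | h2
          · exact h2 hhm
          · exact h2 (Submodule.mem_sup_right (Ideal.mem_span_singleton_self h))
        exact hCh c hcC q ((hmemT c q).1 hq) hlast
      · obtain ⟨q', hq', hle⟩ := (Ideal.IsPrime.prod_le inferInstance).1 h1
        obtain ⟨hne', hq'T⟩ := Finset.mem_erase.1 hq'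
        have hle' : q' ≤ q := (Ideal.IsPrime.pow_le_iff two_ne_zero).1 hle
        exact hne' (le_antisymm hle' (((hmemT c q).1 hq).2 ((hmemT c q').1 hq'T).1 hle'))
    have hsq : ∀ q' ∈ T c, q' ≠ q → t ∈ q' ^ 2 := fun q' hq' hne' =>
      (Ideal.mul_le_right.trans (Ideal.prod_le_inf.trans
        (Finset.inf_le (Finset.mem_erase.2 ⟨hne', hq'⟩)))) ht
    refine ⟨u * t, ?_, Ideal.mul_mem_left _ _ (Ideal.mul_le_left ht), fun {_} => mul_notMem_sq hu htq,
      fun q' hq' hne' {_} => Ideal.mul_mem_left _ _ (pow_two_le_sq q' (hsq q' hq' hne'))⟩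
    rw [Submodule.mem_finsetInf]
    intro q' hq'
    by_cases hqq : q' = q
    · subst hqq
      exact Ideal.mul_mem_right _ _ huq
    · exact Ideal.mul_mem_left _ _ (Ideal.pow_le_self two_ne_zero (hsq q' hq' hqq))
  choose! g hgI hgJ hgsq hgsq' using hg
  let P : Ideal R → Prop := fun q => ∀ [q.IsPrime], c ∈ sq q
  let c' := c + ∑ q ∈ (T c).filter P, g q
  have hc'sq : ∀ q ∈ T c, ∀ [q.IsPrime], c' ∉ sq q := by
    intro q hq _ hmem
    by_cases hcs : c ∈ sq q
    · have hqf : q ∈ (T c).filter P := Finset.mem_filter.2 ⟨hq, fun {_} => hcs⟩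
      have hrest : ∑ q' ∈ ((T c).filter P).erase q, g q' ∈ sq q :=
        Ideal.sum_mem _ fun q' hq' => hgsq' q' (Finset.mem_filter.1 (Finset.mem_erase.1 hq').2).1
          q hq (Finset.mem_erase.1 hq').1.symm
      refine hgsq q hq ?_
      have : g q = c' - c - ∑ q' ∈ ((T c).filter P).erase q, g q' := by
        simp only [c', ← Finset.add_sum_erase _ _ hqf]; ring
      rw [this]
      exact Ideal.sub_mem _ (Ideal.sub_mem _ hmem hcs) hrest
    · refine hcs ?_
      have hsum : ∑ q' ∈ (T c).filter P, g q' ∈ sq q := by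
        refine Ideal.sum_mem _ fun q' hq' => ?_
        obtain ⟨hq'T, hP'⟩ := Finset.mem_filter.1 hq'
        refine hgsq' q' hq'T q hq fun e => hcs ?_
        subst e
        exact hP'
      have : c = c' - ∑ q' ∈ (T c).filter P, g q' := by simp [c']
      rw [this]
      exact Ideal.sub_mem _ hmem hsum
  have hdiffI : c' - c ∈ (T c).inf id := by
    simp only [c', add_sub_cancel_left]
    exact Ideal.sum_mem _ fun q hq => hgI q (Finset.mem_filter.1 hq).1
  have hdiffJ : c' - c ∈ maximalIdeal R * J := by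
    simp only [c', add_sub_cancel_left]
    exact Ideal.sum_mem _ fun q hq => hgJ q (Finset.mem_filter.1 hq).1
  have hc'I : c' ∈ (T c).inf id := by
    have h1 : c ∈ (T c).inf id := hrad ▸ Ideal.le_radical (Ideal.mem_span_singleton_self c)
    simpa using Ideal.add_mem _ hdiffI h1
  have hc'J : Ideal.span {c'} ⊔ Ideal.span {h} = J := by
    have hcJ : c ∈ J := hcC.2.2 ▸ Submodule.mem_sup_left (Ideal.mem_span_singleton_self c)
    have hc'J : c' ∈ J := by
      simpa using Ideal.add_mem _ (Ideal.mul_le_right hdiffJ) hcJ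
    refine le_antisymm (sup_le ((Ideal.span_singleton_le_iff_mem _).2 hc'J) le_sup_right) ?_
    refine Submodule.le_of_le_smul_of_le_jacobson_bot (I := maximalIdeal R)
      (IsNoetherian.noetherian _) (maximalIdeal_le_jacobson _) ?_
    conv_lhs => rw [← hcC.2.2]
    refine sup_le ((Ideal.span_singleton_le_iff_mem _).2 ?_) (le_sup_right.trans le_sup_left)
    have : c = c' - (c' - c) := by ring
    rw [this]
    exact Ideal.sub_mem _ (Submodule.mem_sup_left (Submodule.mem_sup_left
      (Ideal.mem_span_singleton_self c'))) (Submodule.mem_sup_right (by rwa [smul_eq_mul]))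
  have hc'0 : c' ≠ 0 := by
    obtain ⟨q, hq⟩ := hTne
    have := hpr q hq
    exact fun e => hc'sq q hq (e ▸ zero_mem _)
  have hc'I₀ : c' ∈ I₀ := by
    have hle : (Ideal.span {c}).radical ≤ I₀ :=
      (Ideal.radical_mono ((Ideal.span_singleton_le_iff_mem _).2 hcC.2.1)).trans hI₀.le
    exact hle (hrad ▸ hc'I)
  have hsub : T c ⊆ T c' := by
    intro q hq
    have := hpr q hq
    have hc'q : c' ∈ q := (Submodule.mem_finsetInf.1 hc'I) q hq
    obtain ⟨q', hq', hle⟩ := Ideal.exists_minimalPrimes_le ((Ideal.span_singleton_le_iff_mem q).2 hc'q)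
    have := hq'.1.1
    have hq'ne : q' ≠ ⊥ := fun e => hc'0 (by simpa [e] using hq'.1.2 (Ideal.mem_span_singleton_self c'))
    rw [hmemT, ← eq_of_le_of_height_le_one hle
      (height_le_one_of_mem_minimalPrimes ((hmemT c q).1 hq)) hq'ne]
    exact hq'
  have hTeq : T c = T c' := Finset.eq_of_subset_of_card_le hsub (hmax c' ⟨hc'0, hc'I₀, hc'J⟩)
  -- `c'` generates the radical of `(c)`
  have hgen : (T c).inf id ≤ Ideal.span {c'} := by
    intro x hx
    rw [Ideal.mem_span_singleton]
    have hmem := CAlgMisc2.mem_range_of_forall_height_one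
      (algebraMap R (FractionRing R) x / algebraMap R (FractionRing R) c') fun p _ hp => by
      have hc'K : algebraMap R (FractionRing R) c' ≠ 0 :=
        (map_ne_zero_iff _ (IsFractionRing.injective R _)).2 hc'0
      by_cases hc'p : c' ∈ p
      · have hpT : p ∈ T c := by
          rw [hTeq, hmemT]
          obtain ⟨q', hq', hle⟩ := Ideal.exists_minimalPrimes_le
            ((Ideal.span_singleton_le_iff_mem p).2 hc'p)
          have := hq'.1.1
          have hq'ne : q' ≠ ⊥ :=
            fun e => hc'0 (by simpa [e] using hq'.1.2 (Ideal.mem_span_singleton_self c'))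
          rw [← eq_of_le_of_height_le_one hle hp.le hq'ne]
          exact hq'
        obtain ⟨a, s, hs, he⟩ := exists_mul_eq_of_height_one p hp.le hc'p (hc'sq p hpT)
          ((Submodule.mem_finsetInf.1 hx) p hpT)
        refine ⟨a, s, hs, ?_⟩
        rw [div_mul_eq_mul_div, div_eq_iff hc'K, ← map_mul, ← map_mul, he]
      · exact ⟨x, c', hc'p, div_mul_cancel₀ _ hc'K⟩
    obtain ⟨r, hr⟩ := hmem
    refine ⟨r, IsFractionRing.injective R (FractionRing R) ?_⟩
    rw [map_mul, hr, mul_div_cancel₀]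
    exact (map_ne_zero_iff _ (IsFractionRing.injective R _)).2 hc'0
  -- hence `(c)` is radical
  refine ⟨c, hcC.1, hcC.2.1, (Ideal.isRadical_iff_quotient_reduced _).1 ?_⟩
  show (Ideal.span {c}).radical ≤ Ideal.span {c}
  rw [hrad]
  refine le_of_le_sup_span hhm (fun q hq => ⟨hpr q hq, hCh c hcC q ((hmemT c q).1 hq)⟩)
    (hrad ▸ Ideal.le_radical) ?_
  rw [hcC.2.2, ← hc'J]
  exact hgen.trans le_sup_left

theorem exists_reduced_through [IsIntegrallyClosed R] (hdim : ringKrullDim R = 2)
    (s : Finset (Ideal R)) (hs : ∀ p ∈ s, p.IsPrime ∧ p.height = 1) :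
    ∃ f : R, f ≠ 0 ∧ (∀ p ∈ s, f ∈ p) ∧ IsReduced (R ⧸ Ideal.span {f}) := by
  classical
  have hm : maximalIdeal R ≠ ⊥ := fun e => by
    have := IsLocalRing.maximalIdeal_height_eq_ringKrullDim (R := R)
    rw [e, Ideal.height_bot, hdim] at this
    exact absurd this (by decide)
  have hne : maximalIdeal R * s.prod id ≠ ⊥ := by
    rw [← Ideal.zero_eq_bot] at hm ⊢
    exact mul_ne_zero hm (Finset.prod_ne_zero_iff.2 fun p hp => by
      rw [Ideal.zero_eq_bot]; exact Ideal.ne_bot_of_height_eq_one (hs p hp).2)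
  obtain ⟨c₀, hc₀, hc₀0⟩ := Submodule.exists_mem_ne_zero_of_ne_bot hne
  have hradical : (s.inf id).IsRadical := by
    rintro x ⟨n, hn⟩
    rw [Submodule.mem_finsetInf] at hn ⊢
    exact fun p hp => (hs p hp).1.mem_of_pow_mem n (hn p hp)
  obtain ⟨f, hf0, hfI, hred⟩ := exists_isReduced_quotient hdim (s.inf id)
    hradical.radical c₀ hc₀0 (Ideal.mul_le_left hc₀)
    ((Ideal.mul_le_right.trans Ideal.prod_le_inf) hc₀)
  exact ⟨f, hf0, Submodule.mem_finsetInf.1 hfI, hred⟩

theorem exists_reduced_dvd_pow [IsIntegrallyClosed R] (hdim : ringKrullDim R = 2) (a : R)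
    (ha : a ∈ maximalIdeal R) (ha0 : a ≠ 0) :
    ∃ c : R, c ≠ 0 ∧ IsReduced (R ⧸ Ideal.span {c}) ∧ ∃ n : ℕ, a ∣ c ^ n := by
  obtain ⟨f, hf0, hfI, hred⟩ := exists_isReduced_quotient hdim (Ideal.span {a}).radical
    (Ideal.radical_idem _) a ha0 ha (Ideal.le_radical (Ideal.mem_span_singleton_self a))
  obtain ⟨n, hn⟩ := hfI
  exact ⟨f, hf0, hred, n, Ideal.mem_span_singleton.1 hn⟩

end Groth.Agent.CAlgSmall.ReducedHyperplane
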