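import Mathlib
import Groth.Agent.Misc15.MonoLift
import Groth.Agent.DVRDom.Basic

/-! Reflection of specializations after arbitrary base change. -/

set_option autoImplicit false
set_option backward.isDefEq.respectTransparency.types false

universe u

open CategoryTheory CategoryTheory.Limits AlgebraicGeometry TensorProduct

namespace Groth.Agent.CAlgSmall.ReflSpec

variable {X Y : Scheme.{u}} (f : Y ⟶ X)

/-- The projection from `Y ×_X X'` reflects specializations. -/
def RS {X' : Scheme.{u}} (g : X' ⟶ X) : Prop :=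
  ∀ y₀ y₁ : ↥(pullback f g), (pullback.snd f g).base y₁ ⤳ (pullback.snd f g).base y₀ → y₁ ⤳ y₀

theorem rs_iff_of_iso {P X' : Scheme.{u}} {g : X' ⟶ X} (s : P ⟶ X') (e : P ≅ pullback f g)
    (he : e.hom ≫ pullback.snd f g = s) :
    RS f g ↔ ∀ y₀ y₁ : P, s y₁ ⤳ s y₀ → y₁ ⤳ y₀ := by
  subst he
  constructor
  · intro h y₀ y₁ hy
    refine e.hom.isOpenEmbedding.isInducing.specializes_iff.mp (h _ _ ?_)
    simpa using hy
  · intro h y₀ y₁ hy
    have := h (e.inv y₀) (e.inv y₁) (by simpa [← Scheme.Hom.comp_apply] using hy)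
    simpa [← Scheme.Hom.comp_apply] using this.map e.hom.continuous

theorem exists_stage {A B C : Type u} [CommRing A] [CommRing B] [CommRing C] [Algebra A B] [Algebra A C]
    (h : C ⊗[A] B) : ∃ S : Subalgebra A B, S.FG ∧ ∃ w : C ⊗[A] S,
      Algebra.TensorProduct.map (AlgHom.id A C) S.val w = h := by
  classical
  induction h using TensorProduct.induction_on with
  | zero => exact ⟨⊥, Subalgebra.fg_bot, 0, map_zero _⟩
  | tmul c b => exact ⟨Algebra.adjoin A (({b} : Finset B) : Set B), Subalgebra.fg_adjoin_finset _,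
      c ⊗ₜ ⟨b, Algebra.subset_adjoin (by simp)⟩, rfl⟩
  | add a b iha ihb =>
    obtain ⟨S, hS, w, rfl⟩ := iha
    obtain ⟨T, hT, v, rfl⟩ := ihb
    refine ⟨S ⊔ T, hS.sup hT, Algebra.TensorProduct.map (AlgHom.id A C) (Subalgebra.inclusion le_sup_left) w +
      Algebra.TensorProduct.map (AlgHom.id A C) (Subalgebra.inclusion le_sup_right) v, ?_⟩
    rw [map_add, ← AlgHom.comp_apply, ← AlgHom.comp_apply, ← Algebra.TensorProduct.map_comp,
      ← Algebra.TensorProduct.map_comp]
    rfl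

theorem key {A B : Type u} [CommRing A] [CommRing B] [Algebra A B] {Z : Scheme.{u}}
    (q : Z ⟶ Spec (CommRingCat.of A))
    (hq : ∀ (B₀ : Type u) [CommRing B₀] [Algebra A B₀] [Algebra.FiniteType A B₀],
      RS q (Spec.map (CommRingCat.ofHom (algebraMap A B₀)))) :
    RS q (Spec.map (CommRingCat.ofHom (algebraMap A B))) := by
  intro y₀ y₁ hy
  let z₀ := pullback.fst q (Spec.map (CommRingCat.ofHom (algebraMap A B))) y₀
  let z₁ := pullback.fst q (Spec.map (CommRingCat.ofHom (algebraMap A B))) y₁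
  -- specialization in `Z`
  have hz : z₁ ⤳ z₀ := by
    have h1 := hq A
    have hiso : IsIso (Spec.map (CommRingCat.ofHom (algebraMap A A))) := by
      have : CommRingCat.ofHom (algebraMap A A) = 𝟙 _ := rfl
      rw [this]; infer_instance
    let t : Spec (CommRingCat.of B) ⟶ Spec (CommRingCat.of A) := Spec.map (CommRingCat.ofHom (algebraMap A B))
    let m := pullback.map q (Spec.map (CommRingCat.ofHom (algebraMap A B))) q
      (Spec.map (CommRingCat.ofHom (algebraMap A A))) (𝟙 Z) t (𝟙 _) (by simp)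
      (by rw [Category.comp_id]; simp only [t, ← Spec.map_comp, ← CommRingCat.ofHom_comp, Algebra.algebraMap_self, RingHom.comp_id])
    have h2 := h1 (m y₀) (m y₁) (by
      rw [← Scheme.Hom.comp_apply, ← Scheme.Hom.comp_apply, pullback.lift_snd]
      simp only [Scheme.Hom.comp_apply]
      exact hy.map t.continuous)
    have h3 := h2.map (pullback.fst q (Spec.map (CommRingCat.ofHom (algebraMap A A)))).continuous
    rw [← Scheme.Hom.comp_apply, ← Scheme.Hom.comp_apply, pullback.lift_fst, Category.comp_id] at h3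
    exact h3
  obtain ⟨_, ⟨V, hV, rfl⟩, hzV, -⟩ :=
    Z.isBasis_affineOpens.exists_subset_of_mem_open (Set.mem_univ z₀) isOpen_univ
  have hz₁V : z₁ ∈ V := hz.mem_open V.isOpen hzV
  let C := Γ(Z, V)
  let ρ : CommRingCat.of A ⟶ C := Spec.preimage (hV.fromSpec ≫ q)
  let : Algebra A C := ρ.hom.toAlgebra
  have hρ : Spec.map (CommRingCat.ofHom (algebraMap A C)) = hV.fromSpec ≫ q := Spec.map_preimage _
  let ψ (B₀ : Type u) [CommRing B₀] [Algebra A B₀] : Spec (CommRingCat.of (C ⊗[A] B₀)) ⟶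
      pullback q (Spec.map (CommRingCat.ofHom (algebraMap A B₀))) :=
    (pullbackSpecIso A C B₀).inv ≫ pullback.map _ _ _ _ hV.fromSpec (𝟙 _) (𝟙 _)
      (by rw [Category.comp_id, hρ]) (by simp)
  have hmem : ∀ y, pullback.fst q (Spec.map (CommRingCat.ofHom (algebraMap A B))) y ∈ V →
      y ∈ Set.range (ψ B) := fun y hy ↦ by
    rw [Scheme.Hom.comp_base, TopCat.coe_comp, (pullbackSpecIso A C B).inv.surjective.range_comp,
      Scheme.Pullback.range_map]
    refine ⟨?_, ?_⟩
    · show _ ∈ Set.range hV.fromSpec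
      rw [hV.range_fromSpec]; exact hy
    · exact ⟨_, rfl⟩
  obtain ⟨P₀, hP₀⟩ := hmem y₀ hzV
  obtain ⟨P₁, hP₁⟩ := hmem y₁ hz₁V
  rw [← hP₀, ← hP₁]
  refine Specializes.map ?_ (ψ B).continuous
  refine (PrimeSpectrum.le_iff_specializes _ _).mp fun h hh ↦ ?_
  -- descend the element to a finitely generated subalgebra
  obtain ⟨S, hS, w, rfl⟩ := exists_stage (A := A) (C := C) (B := B) h
  have : Algebra.FiniteType A S := (Subalgebra.fg_iff_finiteType S).mp hS
  let M : Spec (CommRingCat.of (C ⊗[A] B)) ⟶ Spec (CommRingCat.of (C ⊗[A] S)) :=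
    Spec.map (CommRingCat.ofHom (Algebra.TensorProduct.map (AlgHom.id A C) S.val).toRingHom)
  let t : Spec (CommRingCat.of B) ⟶ Spec (CommRingCat.of S) := Spec.map (CommRingCat.ofHom S.val.toRingHom)
  let m := pullback.map q (Spec.map (CommRingCat.ofHom (algebraMap A B))) q
    (Spec.map (CommRingCat.ofHom (algebraMap A S))) (𝟙 Z) t (𝟙 _) (by simp)
    (by rw [Category.comp_id]; simp only [t, ← Spec.map_comp, ← CommRingCat.ofHom_comp]; rfl)
  have hnat : ψ B ≫ m = M ≫ ψ S := by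
    apply pullback.hom_ext
    · simp only [ψ, m, M, Category.assoc, pullback.lift_fst, pullback.lift_fst_assoc, Category.comp_id,
        pullbackSpecIso_inv_fst_assoc, ← Spec.map_comp_assoc, ← CommRingCat.ofHom_comp]
      congr 2
    · simp only [ψ, m, M, t, Category.assoc, pullback.lift_snd, pullback.lift_snd_assoc, Category.comp_id,
        pullbackSpecIso_inv_snd, pullbackSpecIso_inv_snd_assoc, ← Spec.map_comp, ← CommRingCat.ofHom_comp]
      congr 2
  have h2 := hq S (m y₀) (m y₁) (by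
    rw [← Scheme.Hom.comp_apply, ← Scheme.Hom.comp_apply, pullback.lift_snd]
    simp only [Scheme.Hom.comp_apply]
    exact hy.map t.continuous)
  have : IsOpenImmersion (ψ S) := inferInstance
  have h3 : M P₁ ⤳ M P₀ := by
    refine (ψ S).isOpenEmbedding.isInducing.specializes_iff.mp ?_
    show ψ S (M P₁) ⤳ ψ S (M P₀)
    have e : ∀ P, ψ S (M P) = m (ψ B P) := fun P ↦ by
      rw [← Scheme.Hom.comp_apply, ← Scheme.Hom.comp_apply, hnat]
    rw [show ψ S (M P₁) = m y₁ from (e P₁).trans (congrArg m hP₁),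
      show ψ S (M P₀) = m y₀ from (e P₀).trans (congrArg m hP₀)]
    exact h2
  exact (PrimeSpectrum.le_iff_specializes _ _).mpr h3 hh

theorem rs_of_finiteType (h : ∀ (X' : Scheme.{u}) (g : X' ⟶ X) [LocallyOfFiniteType g], RS f g)
    (X' : Scheme.{u}) (g : X' ⟶ X) : RS f g := by
  intro y₀ y₁ hy
  obtain ⟨_, ⟨U, hU, rfl⟩, hxU, -⟩ :=
    X.isBasis_affineOpens.exists_subset_of_mem_open (Set.mem_univ (g (pullback.snd f g y₀))) isOpen_univ
  obtain ⟨_, ⟨W, hW, rfl⟩, hxW, hWU⟩ := X'.isBasis_affineOpens.exists_subset_of_mem_open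
    (a := pullback.snd f g y₀) (u := (g ⁻¹ᵁ U : X'.Opens)) hxU (g ⁻¹ᵁ U).isOpen
  let : Algebra Γ(X, U) Γ(X', W) := (g.appLE U W hWU).hom.toAlgebra
  have hcomp : Spec.map (CommRingCat.ofHom (algebraMap Γ(X, U) Γ(X', W))) ≫ hU.fromSpec = hW.fromSpec ≫ g :=
    IsAffineOpen.SpecMap_appLE_fromSpec g hU hW hWU
  let φ (B : Type u) [CommRing B] [Algebra Γ(X, U) B] : Spec (CommRingCat.of B) ⟶ Spec Γ(X, U) :=
    Spec.map (CommRingCat.ofHom (algebraMap Γ(X, U) B))
  have hk : RS (pullback.snd f hU.fromSpec) (φ Γ(X', W)) := by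
    refine key (A := Γ(X, U)) (B := Γ(X', W)) _ fun B₀ _ _ _ ↦ ?_
    have : LocallyOfFiniteType (φ B₀) :=
      (HasRingHomProperty.Spec_iff (P := @LocallyOfFiniteType)).mpr (RingHom.finiteType_algebraMap.mpr ‹_›)
    exact ((rs_iff_of_iso f _ (pullbackLeftPullbackSndIso f hU.fromSpec (φ B₀))
      (pullbackLeftPullbackSndIso_hom_snd _ _ _)).mp (h _ (φ B₀ ≫ hU.fromSpec)))
  have hk' : RS f (φ Γ(X', W) ≫ hU.fromSpec) := (rs_iff_of_iso f _
    (pullbackLeftPullbackSndIso f hU.fromSpec (φ Γ(X', W))) (pullbackLeftPullbackSndIso_hom_snd _ _ _)).mpr hk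
  let j : pullback f (φ Γ(X', W) ≫ hU.fromSpec) ⟶ pullback f g :=
    pullback.map _ _ _ _ (𝟙 Y) hW.fromSpec (𝟙 X) (by simp) (by rw [Category.comp_id]; exact hcomp)
  have hr : ∀ y, pullback.snd f g y ∈ W → y ∈ Set.range j := fun y hyW ↦ by
    rw [Scheme.Pullback.range_map]
    refine ⟨⟨_, rfl⟩, ?_⟩
    show _ ∈ Set.range hW.fromSpec
    rw [hW.range_fromSpec]; exact hyW
  obtain ⟨p₀, rfl⟩ := hr y₀ hxW
  obtain ⟨p₁, rfl⟩ := hr y₁ (hy.mem_open W.isOpen hxW)
  refine (hk' p₀ p₁ ?_).map j.continuous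
  refine hW.fromSpec.isOpenEmbedding.isInducing.specializes_iff.mp ?_
  rw [← Scheme.Hom.comp_apply j, ← Scheme.Hom.comp_apply j, pullback.lift_snd] at hy
  simpa [Scheme.Hom.comp_apply] using hy

end Groth.Agent.CAlgSmall.ReflSpec

namespace Groth.Agent.CAlgSmall.ReflSpec

theorem rs_of_dvr {X Y : Scheme.{u}} [IsLocallyNoetherian X] (f : Y ⟶ X) [Mono f]
    (h : ∀ S : ValuativeCommSq f, IsDiscreteValuationRing S.R →
        (∃ l₀ : Spec (CommRingCat.of (IsLocalRing.ResidueField S.R)) ⟶ Y,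
            l₀ ≫ f = Spec.map (CommRingCat.ofHom (IsLocalRing.residue S.R)) ≫ S.i₂) →
          S.commSq.HasLift)
    (X' : Scheme.{u}) (g : X' ⟶ X) [LocallyOfFiniteType g] : RS f g := by
  intro y₀ y₁ hy
  have : IsLocallyNoetherian X' := LocallyOfFiniteType.isLocallyNoetherian g
  let s := pullback.snd f g
  by_cases hne : s y₁ = s y₀
  · rw [s.injective hne]
  let π : X'.presheaf.stalk (s y₀) →+* X'.residueField (s y₁) :=
    (X'.presheaf.stalkSpecializes hy ≫ X'.residue (s y₁)).hom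
  let T := π.range
  have hπ : Function.Surjective π.rangeRestrict := π.rangeRestrict_surjective
  have : IsNoetherianRing T := isNoetherianRing_of_surjective _ _ _ hπ
  have : IsLocalRing T := IsLocalRing.of_surjective' _ hπ
  have hloc : IsLocalHom π.rangeRestrict := IsLocalHom.of_surjective _ hπ
  obtain ⟨_, ⟨W, hW, rfl⟩, hxW, -⟩ :=
    X'.isBasis_affineOpens.exists_subset_of_mem_open (Set.mem_univ (s y₀)) isOpen_univ
  have hx₁W : s y₁ ∈ W := hy.mem_open W.isOpen hxW
  have hfr : IsFractionRing T (X'.residueField (s y₁)) := by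
    refine IsFractionRing.of_field _ _ fun z ↦ ?_
    obtain ⟨t, rfl⟩ := X'.residue_surjective (s y₁) z
    let := (X'.presheaf.germ W (s y₁) hx₁W).hom.toAlgebra
    have := hW.isLocalization_stalk ⟨s y₁, hx₁W⟩
    obtain ⟨a, b, rfl⟩ := IsLocalization.exists_mk'_eq (hW.primeIdealOf ⟨s y₁, hx₁W⟩).asIdeal.primeCompl t
    have hb := (IsLocalization.map_units (X'.presheaf.stalk (s y₁)) b).map (X'.residue (s y₁)).hom
    have key : ∀ c, π (X'.presheaf.germ W (s y₀) hxW c) = X'.residue (s y₁) (X'.presheaf.germ W (s y₁) hx₁W c) :=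
      fun c ↦ congrArg (X'.residue (s y₁)) (TopCat.Presheaf.germ_stalkSpecializes_apply (F := X'.presheaf) hxW hy c)
    refine ⟨⟨_, _, key a⟩, ⟨_, _, key b.1⟩, ?_⟩
    refine ((div_eq_iff hb.ne_zero).mpr ?_).symm
    exact (congrArg (X'.residue (s y₁)) (IsLocalization.mk'_spec (X'.presheaf.stalk (s y₁)) a b)).symm.trans
      (map_mul (X'.residue (s y₁)).hom _ _)
  have hnf : ¬ IsField T := by
    intro hF
    refine hne ?_
    suffices h2 : hW.primeIdealOf ⟨s y₁, hx₁W⟩ = hW.primeIdealOf ⟨s y₀, hxW⟩ by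
      exact ((hW.fromSpec_primeIdealOf ⟨s y₁, hx₁W⟩).symm.trans (congrArg hW.fromSpec h2)).trans (hW.fromSpec_primeIdealOf ⟨s y₀, hxW⟩)
    have hmem : ∀ (x : X') (hx : x ∈ W) (c : Γ(X', W)),
        c ∉ (hW.primeIdealOf ⟨x, hx⟩).asIdeal ↔ IsUnit (X'.presheaf.germ W x hx c) := fun x hx c ↦ by
      let := (X'.presheaf.germ W x hx).hom.toAlgebra
      have := hW.isLocalization_stalk ⟨x, hx⟩
      exact (IsLocalization.AtPrime.isUnit_to_map_iff (X'.presheaf.stalk x) _ c).symm
    refine PrimeSpectrum.ext (Ideal.ext fun c ↦ not_iff_not.mp ?_)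
    rw [hmem, hmem]
    have key : X'.presheaf.stalkSpecializes hy (X'.presheaf.germ W (s y₀) hxW c) =
        X'.presheaf.germ W (s y₁) hx₁W c :=
      TopCat.Presheaf.germ_stalkSpecializes_apply (F := X'.presheaf) hxW hy c
    constructor
    · intro hu
      refine (isUnit_map_iff π.rangeRestrict _).mp ?_
      have h0 : π.rangeRestrict (X'.presheaf.germ W (s y₀) hxW c) ≠ 0 := fun h0 ↦ by
        have h1 : X'.residue (s y₁) (X'.presheaf.germ W (s y₁) hx₁W c) = 0 :=
          (congrArg (X'.residue (s y₁)) key).symm.trans (congrArg Subtype.val h0)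
        exact (hu.map (X'.residue (s y₁)).hom).ne_zero h1
      obtain ⟨b, hb⟩ := hF.mul_inv_cancel h0
      exact IsUnit.of_mul_eq_one b hb
    · intro hu
      rw [← key]
      exact hu.map (X'.presheaf.stalkSpecializes hy).hom
  obtain ⟨R, _, _, _, j, hj, hjloc⟩ := Groth.Agent.DVRDom.exists_dvr T hnf
  let K := FractionRing R
  let jK : X'.residueField (s y₁) →+* K :=
    IsFractionRing.lift (g := (algebraMap R K).comp j) ((IsFractionRing.injective R K).comp hj)
  have hjK : ∀ o, jK (π o) = algebraMap R K (j (π.rangeRestrict o)) := fun o ↦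
    IsFractionRing.lift_algebraMap (g := (algebraMap R K).comp j) ((IsFractionRing.injective R K).comp hj)
      (π.rangeRestrict o)
  let σ : X'.presheaf.stalk (s y₀) →+* R := j.comp π.rangeRestrict
  have hσ : IsLocalHom σ := RingHom.isLocalHom_comp _ _
  let i₂ : Spec (CommRingCat.of R) ⟶ X' := Spec.map (CommRingCat.ofHom σ) ≫ X'.fromSpecStalk (s y₀)
  obtain ⟨l₁, hl₁⟩ := Groth.Agent.Misc15.exists_lift_fromSpecResidueField s y₁
  obtain ⟨l₀, hl₀⟩ := Groth.Agent.Misc15.exists_lift_fromSpecResidueField s y₀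
  let i₁ : Spec (CommRingCat.of K) ⟶ pullback f g := Spec.map (CommRingCat.ofHom jK) ≫ l₁
  have hw : i₁ ≫ s = Spec.map (CommRingCat.ofHom (algebraMap R K)) ≫ i₂ := by
    rw [Category.assoc, hl₁]
    show Spec.map (CommRingCat.ofHom jK) ≫ Spec.map (X'.residue (s y₁)) ≫ X'.fromSpecStalk (s y₁) =
      Spec.map (CommRingCat.ofHom (algebraMap R K)) ≫ Spec.map (CommRingCat.ofHom σ) ≫ X'.fromSpecStalk (s y₀)
    have e : X'.presheaf.stalkSpecializes hy ≫ X'.residue (s y₁) ≫ CommRingCat.ofHom jK =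
        CommRingCat.ofHom σ ≫ CommRingCat.ofHom (algebraMap R K) := CommRingCat.hom_ext (RingHom.ext hjK)
    rw [← Scheme.SpecMap_stalkSpecializes_fromSpecStalk hy, ← Spec.map_comp_assoc, ← Spec.map_comp_assoc,
      ← Spec.map_comp_assoc, ← e]
    simp only [Category.assoc]
    rfl
  have e0 : Spec.map (CommRingCat.ofHom (IsLocalRing.ResidueField.map σ)) ≫ X'.fromSpecResidueField (s y₀) =
      Spec.map (CommRingCat.ofHom (IsLocalRing.residue R)) ≫ i₂ := by
    show Spec.map _ ≫ Spec.map (X'.residue (s y₀)) ≫ X'.fromSpecStalk (s y₀) =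
      Spec.map _ ≫ Spec.map (CommRingCat.ofHom σ) ≫ X'.fromSpecStalk (s y₀)
    rw [← Spec.map_comp_assoc, ← Spec.map_comp_assoc]
    rfl
  let S : ValuativeCommSq f :=
    { R := R, K := K, i₁ := i₁ ≫ pullback.fst f g, i₂ := i₂ ≫ g
      commSq := ⟨by rw [Category.assoc, pullback.condition, ← Category.assoc, hw, Category.assoc]⟩ }
  have hS := h S ‹_› ⟨Spec.map (CommRingCat.ofHom (IsLocalRing.ResidueField.map σ)) ≫ l₀ ≫ pullback.fst f g, by
    refine Eq.trans ?_ ((congrArg (· ≫ g) e0).trans (Category.assoc _ _ _))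
    rw [← hl₀]
    simp only [Category.assoc, pullback.condition]
    rfl⟩
  obtain ⟨L⟩ := hS.exists_lift
  let L' : Spec (CommRingCat.of R) ⟶ pullback f g := pullback.lift L.l i₂ L.fac_right
  have hcl : L' (IsLocalRing.closedPoint R) = y₀ := by
    apply s.injective
    rw [← Scheme.Hom.comp_apply, pullback.lift_snd]
    show X'.fromSpecStalk (s y₀) (Spec.map (CommRingCat.ofHom σ) (IsLocalRing.closedPoint R)) = s y₀
    have : IsLocalHom (CommRingCat.ofHom σ).hom := hσ
    rw [Spec_closedPoint, Scheme.fromSpecStalk_closedPoint]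
  let η : Spec (CommRingCat.of K) := IsLocalRing.closedPoint K
  have hgen : L' (Spec.map (CommRingCat.ofHom (algebraMap R K)) η) = y₁ := by
    apply s.injective
    rw [← Scheme.Hom.comp_apply, pullback.lift_snd, ← Scheme.Hom.comp_apply, ← hw]
    simp only [i₁, Category.assoc, hl₁, Scheme.Hom.comp_apply]
    exact Scheme.fromSpecResidueField_apply _ _
  rw [← hcl, ← hgen]
  exact (IsLocalRing.specializes_closedPoint _).map L'.continuous

theorem rs_dvr_all {X Y : Scheme.{u}} [IsLocallyNoetherian X] (f : Y ⟶ X) [Mono f]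
    (h : ∀ S : ValuativeCommSq f, IsDiscreteValuationRing S.R →
        (∃ l₀ : Spec (CommRingCat.of (IsLocalRing.ResidueField S.R)) ⟶ Y,
            l₀ ≫ f = Spec.map (CommRingCat.ofHom (IsLocalRing.residue S.R)) ≫ S.i₂) →
          S.commSq.HasLift) (X' : Scheme.{u}) (g : X' ⟶ X) : RS f g :=
  rs_of_finiteType f (fun X' g _ ↦ rs_of_dvr f h X' g) X' g

end Groth.Agent.CAlgSmall.ReflSpec
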