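import Mathlib
import Groth.Prelude.Def_CotT

/-! A rigid singular algebra has no smoothing over a smooth curve. -/

set_option autoImplicit false

universe u

open TensorProduct

namespace Groth.Agent.CAlgSmall.RigidSmoothing

/-! ### Compatible sections over the truncations -/

section Sections

variable {k : Type u} [Field k] {B₀ B : Type u} [CommRing B₀] [Algebra k B₀] [CommRing B] [Algebra k B]
  (π : B →ₐ[k] B₀) (τ : B)

/-- The reduction `B ⧸ (τ^(n+1)) → B₀`. -/
noncomputable def red (hτ : π τ = 0) (n : ℕ) : (B ⧸ Ideal.span {τ ^ (n + 1)}) →ₐ[k] B₀ :=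
  Ideal.Quotient.liftₐ _ π (fun b hb ↦ by
    obtain ⟨c, rfl⟩ := Ideal.mem_span_singleton'.mp hb
    rw [map_mul, map_pow, hτ, zero_pow (Nat.succ_ne_zero n), mul_zero])

@[simp] theorem red_mk (hτ : π τ = 0) (n : ℕ) (b : B) : red π τ hτ n (Ideal.Quotient.mk _ b) = π b := rfl

theorem exists_section (hπ : Function.Surjective π) (hker : ∀ b, π b = 0 → b ∈ Ideal.span {τ})
    (hτ : π τ = 0) (hreg : ∀ b, τ * b = 0 → b = 0)
    (hrigid : Subsingleton (CotT.T1 (CotT.canon k B₀) B₀)) (n : ℕ) :
    ∃ s : B₀ →ₐ[k] (B ⧸ Ideal.span {τ ^ (n + 1)}), ∀ b, red π τ hτ n (s b) = b := by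
  induction n with
  | zero =>
    have hinj : Function.Injective (red π τ hτ 0) := by
      refine (injective_iff_map_eq_zero _).mpr fun x hx ↦ ?_
      obtain ⟨b, rfl⟩ := Ideal.Quotient.mk_surjective x
      rw [Ideal.Quotient.eq_zero_iff_mem, zero_add, pow_one]
      exact hker b hx
    have hsurj : Function.Surjective (red π τ hτ 0) := fun b ↦
      ⟨Ideal.Quotient.mk _ (hπ b).choose, (hπ b).choose_spec⟩
    exact ⟨(AlgEquiv.ofBijective _ ⟨hinj, hsurj⟩).symm.toAlgHom, fun b ↦
      (AlgEquiv.ofBijective _ ⟨hinj, hsurj⟩).apply_symm_apply b⟩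
  | succ n ih =>
    obtain ⟨s, hs⟩ := ih
    let P := CotT.canon k B₀
    have hτm : ∀ m : ℕ, ∀ b, τ ^ m * b = 0 → b = 0 := by
      intro m
      induction m with
      | zero => intro b hb; simpa using hb
      | succ m ihm => intro b hb; rw [pow_succ', mul_assoc] at hb; exact ihm b (hreg _ hb)
    choose x hx using fun b : B₀ ↦ Ideal.Quotient.mk_surjective (s b)
    let ψ : P.toExtension.Ring →ₐ[k] B := MvPolynomial.aeval x
    have hal : ∀ F : P.toExtension.Ring,
        algebraMap P.toExtension.Ring B₀ F = MvPolynomial.aeval (fun b : B₀ ↦ b) F := fun F ↦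
      CotT.algebraMap_toExtension P F
    have hψ : ∀ F : P.toExtension.Ring,
        Ideal.Quotient.mk (Ideal.span {τ ^ (n + 1)}) (ψ F) = s (algebraMap P.toExtension.Ring B₀ F) := by
      intro F
      rw [hal]
      have h : (Ideal.Quotient.mkₐ k (Ideal.span {τ ^ (n + 1)})).comp (MvPolynomial.aeval x) =
          s.comp (MvPolynomial.aeval (fun b : B₀ ↦ b)) :=
        MvPolynomial.algHom_ext fun b ↦ by simp [hx]
      exact DFunLike.congr_fun h F
    have hπψ : ∀ F : P.toExtension.Ring, π (ψ F) = algebraMap P.toExtension.Ring B₀ F := fun F ↦ by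
      rw [← red_mk π τ hτ n, hψ F, hs]
    have hdiv : ∀ F : P.toExtension.ker, ∃ c : B, ψ F.1 = τ ^ (n + 1) * c := fun F ↦ by
      have := hψ F.1
      rw [show algebraMap P.toExtension.Ring B₀ F.1 = 0 from F.2, map_zero,
        Ideal.Quotient.eq_zero_iff_mem, Ideal.mem_span_singleton] at this
      exact this
    choose c hc using hdiv
    have hcancel : ∀ b b' : B, τ ^ (n + 1) * b = τ ^ (n + 1) * b' → b = b' := fun b b' h ↦
      sub_eq_zero.mp (hτm _ _ (by rw [mul_sub, h, sub_self]))
    let h : P.toExtension.ker →ₗ[P.toExtension.Ring] B₀ :=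
      { toFun := fun F ↦ π (c F)
        map_add' := fun F G ↦ by
          rw [← map_add]
          refine congrArg π (hcancel _ _ ?_)
          rw [← hc, mul_add, ← hc, ← hc, ← map_add]
          rfl
        map_smul' := fun r F ↦ by
          rw [RingHom.id_apply, Algebra.smul_def, ← hπψ r, ← map_mul]
          refine congrArg π (hcancel _ _ ?_)
          rw [← hc, mul_left_comm, ← hc, ← map_mul]
          rfl }
    let φ : CotT.L1 P →ₗ[B₀] B₀ := LinearMap.liftBaseChange B₀ (h.comp (CotT.jker P))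
    have hφ : φ ∈ CotT.cocycles1 P B₀ := by
      rw [LinearMap.mem_ker, CotT.d2Star_apply]
      refine Submodule.linearMap_qext _ ?_
      rw [LinearMap.comp_assoc, CotT.d2_comp_mkQ, LinearMap.zero_comp]
      refine TensorProduct.AlgebraTensorModule.ext fun b q ↦ ?_
      have hq : CotT.jker P (q : CotT.relMod P) = 0 := Subtype.ext q.2
      simp only [φ, LinearMap.coe_comp, Function.comp_apply, LinearMap.baseChange_tmul, Submodule.coe_subtype,
        LinearMap.liftBaseChange_tmul, hq, map_zero, smul_zero, LinearMap.zero_apply]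
    obtain ⟨χ, hχ⟩ : ∃ χ : CotT.L0 P →ₗ[B₀] B₀, χ.comp (CotT.d1 P) = φ := by
      have h0 : (Submodule.Quotient.mk ⟨φ, hφ⟩ : CotT.T1 P B₀) = 0 := hrigid.elim _ _
      rw [Submodule.Quotient.mk_eq_zero] at h0
      obtain ⟨χ, hχ⟩ := h0
      exact ⟨χ, hχ⟩
    let dd : P.toExtension.Ring → B₀ := fun F ↦ χ ((1 : B₀) ⊗ₜ KaehlerDifferential.D k P.toExtension.Ring F)
    have hdadd : ∀ F G, dd (F + G) = dd F + dd G := fun F G ↦ by simp [dd, TensorProduct.tmul_add]
    have hdC : ∀ a : k, dd (algebraMap k P.toExtension.Ring a) = 0 := fun a ↦ by simp [dd]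
    have hdmul : ∀ F G, dd (F * G) =
        algebraMap P.toExtension.Ring B₀ F * dd G + algebraMap P.toExtension.Ring B₀ G * dd F := by
      intro F G
      simp only [dd, Derivation.leibniz, TensorProduct.tmul_add, map_add, TensorProduct.tmul_smul,
        ← algebraMap_smul (R := P.toExtension.Ring) B₀, map_smul, smul_eq_mul]
    have hdker : ∀ F : P.toExtension.ker, dd F.1 = π (c F) := by
      intro F
      have e := LinearMap.congr_fun hχ ((1 : B₀) ⊗ₜ Finsupp.single (⟨F.1, F.2⟩ : CotT.CanonRels k B₀) 1)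
      have hj : CotT.jker P (Finsupp.single (⟨F.1, F.2⟩ : CotT.CanonRels k B₀) 1) = F := by
        refine Subtype.ext ?_
        rw [CotT.jker_apply]
        simp only [CotT.jmap_single, one_mul]
        rfl
      simp only [φ, LinearMap.coe_comp, Function.comp_apply, LinearMap.liftBaseChange_tmul, one_smul, hj,
        CotT.d1_tmul] at e
      rw [CotT.jmap_single, one_mul] at e
      exact e
    let mk' := Ideal.Quotient.mkₐ k (Ideal.span {τ ^ (n + 1 + 1)})
    have hwd : ∀ b b' : B, π b = π b' → mk' (τ ^ (n + 1) * b) = mk' (τ ^ (n + 1) * b') := by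
      intro b b' hbb
      obtain ⟨d, hd⟩ := Ideal.mem_span_singleton'.mp (hker (b - b') (by rw [map_sub, hbb, sub_self]))
      refine (Ideal.Quotient.mk_eq_mk_iff_sub_mem _ _).mpr ?_
      rw [← mul_sub, ← hd]
      exact Ideal.mem_span_singleton'.mpr ⟨d, by ring⟩
    let w : B₀ → B := fun b ↦ (hπ b).choose
    have hw : ∀ b, π (w b) = b := fun b ↦ (hπ b).choose_spec
    let u : P.toExtension.Ring →ₐ[k] (B ⧸ Ideal.span {τ ^ (n + 1 + 1)}) :=
      { toFun := fun F ↦ mk' (ψ F) - mk' (τ ^ (n + 1) * w (dd F))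
        map_one' := by
          rw [hwd (w (dd 1)) 0 (by rw [hw, map_zero, ← map_one (algebraMap k P.toExtension.Ring), hdC])]
          simp
        map_zero' := by
          rw [hwd (w (dd 0)) 0 (by rw [hw, map_zero, ← map_zero (algebraMap k P.toExtension.Ring), hdC])]
          simp
        map_add' := fun F G ↦ by
          rw [hwd (w (dd (F + G))) (w (dd F) + w (dd G)) (by rw [map_add, hw, hw, hw, hdadd]),
            map_add ψ, map_add mk', mul_add, map_add mk']
          abel
        commutes' := fun a ↦ by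
          rw [hwd (w (dd (algebraMap k P.toExtension.Ring a))) 0 (by rw [hw, map_zero, hdC]), ψ.commutes,
            mk'.commutes]
          simp
        map_mul' := fun F G ↦ by
          rw [hwd (w (dd (F * G))) (ψ F * w (dd G) + ψ G * w (dd F))
            (by rw [map_add, map_mul, map_mul, hw, hw, hw, hπψ, hπψ, hdmul])]
          have h2 : mk' (τ ^ (n + 1)) * mk' (τ ^ (n + 1)) = 0 := by
            rw [← map_mul, ← pow_add]
            exact Ideal.Quotient.eq_zero_iff_mem.mpr (Ideal.mem_span_singleton.mpr (pow_dvd_pow τ (by omega)))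
          simp only [map_mul, map_add]
          linear_combination (-(mk' (w (dd F)) * mk' (w (dd G)))) * h2 }
    have hu : ∀ F, u F = mk' (ψ F) - mk' (τ ^ (n + 1) * w (dd F)) := fun F ↦ rfl
    have hker' : ∀ F ∈ RingHom.ker (MvPolynomial.aeval (R := k) (fun b : B₀ ↦ b)), u F = 0 := by
      intro F hF
      have hF' : F ∈ P.toExtension.ker := (hal F).trans hF
      rw [hu, hwd (w (dd F)) (c ⟨F, hF'⟩) (by rw [hw]; exact hdker ⟨F, hF'⟩), ← hc ⟨F, hF'⟩, sub_self]
    have hsurj : Function.Surjective (MvPolynomial.aeval (R := k) (fun b : B₀ ↦ b)) := fun b ↦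
      ⟨MvPolynomial.X b, MvPolynomial.aeval_X _ b⟩
    refine ⟨(Ideal.Quotient.liftₐ _ u hker').comp (Ideal.quotientKerAlgEquivOfSurjective hsurj).symm.toAlgHom,
      fun b ↦ ?_⟩
    have e : (Ideal.quotientKerAlgEquivOfSurjective hsurj).symm b = Ideal.Quotient.mk _ (MvPolynomial.X b) := by
      rw [AlgEquiv.symm_apply_eq]
      exact (MvPolynomial.aeval_X (R := k) (fun b : B₀ ↦ b) b).symm
    rw [AlgHom.comp_apply]
    change red π τ hτ (n + 1) ((Ideal.Quotient.liftₐ _ u hker')
      ((Ideal.quotientKerAlgEquivOfSurjective hsurj).symm b)) = b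
    rw [e]
    change red π τ hτ (n + 1) (u (MvPolynomial.X b)) = b
    rw [hu, map_sub]
    change π (ψ (MvPolynomial.X b)) - π (τ ^ (n + 1) * w (dd (MvPolynomial.X b))) = b
    rw [hπψ, hal, MvPolynomial.aeval_X, map_mul, map_pow, hτ]
    simp

end Sections

/-! ### Smoothness away from `t` gives a derivation inverting `t^N` on `I/I²` -/

section Der

variable {A B : Type u} [CommRing A] [IsNoetherianRing A] [CommRing B] [Algebra A B] {m : ℕ}

theorem exists_der (f : MvPolynomial (Fin m) A →ₐ[A] B) (hf : Function.Surjective f) (t : A)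
    (hsm : Algebra.FormallySmooth A (Localization.Away (algebraMap A B t))) :
    ∃ (N : ℕ) (D : Derivation A (MvPolynomial (Fin m) A) (MvPolynomial (Fin m) A ⧸ RingHom.ker f.toRingHom ^ 2)),
      (∀ G, f.kerSquareLift (D G) = 0) ∧
      ∀ F ∈ RingHom.ker f, D F = t ^ N • Ideal.Quotient.mk (RingHom.ker f.toRingHom ^ 2) F := by
  classical
  let P := MvPolynomial (Fin m) A
  let Q := P ⧸ RingHom.ker f.toRingHom ^ 2
  let mk : P →ₐ[A] Q := Ideal.Quotient.mkₐ A _
  let tQ : Q := algebraMap A Q t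
  let τ : B := algebraMap A B t
  let L := Localization.Away tQ
  let Bt := Localization.Away τ
  let g : L →ₐ[A] Bt := IsLocalization.liftAlgHom (M := Submonoid.powers tQ) (S := L)
    (f := ((Algebra.ofId B Bt).restrictScalars A).comp f.kerSquareLift) (fun y ↦ by
      obtain ⟨_, j, rfl⟩ := y
      simp only [map_pow, AlgHom.comp_apply, tQ, AlgHom.commutes]
      refine IsUnit.pow _ ?_
      rw [IsScalarTower.algebraMap_apply A B Bt]
      exact IsLocalization.Away.algebraMap_isUnit τ)
  have hg : ∀ z : Q, g (algebraMap Q L z) = algebraMap B Bt (f.kerSquareLift z) := fun z ↦ by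
    simp [g]
    exact IsLocalization.lift_eq _ z
  have hfc : ∀ a : A, f.kerSquareLift (algebraMap A Q a) = algebraMap A B a := fun a ↦ f.kerSquareLift.commutes a
  have hfp : ∀ i : ℕ, f.kerSquareLift (tQ ^ i) = τ ^ i := fun i ↦ (map_pow f.kerSquareLift _ i).trans
    (congrArg (· ^ i) (hfc t))
  have hfQ : Function.Surjective f.kerSquareLift := fun b ↦ ⟨mk (hf b).choose, (hf b).choose_spec⟩
  have hsq : ∀ z z' : Q, f.kerSquareLift z = 0 → f.kerSquareLift z' = 0 → z * z' = 0 := by
    intro z z' hz hz'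
    obtain ⟨a, rfl⟩ := Ideal.Quotient.mk_surjective z
    obtain ⟨a', rfl⟩ := Ideal.Quotient.mk_surjective z'
    rw [← map_mul, Ideal.Quotient.eq_zero_iff_mem, pow_two]
    exact Ideal.mul_mem_mul hz hz'
  have hgker : ∀ y : L, g y = 0 → ∃ (j : ℕ) (z : Q), f.kerSquareLift z = 0 ∧
      algebraMap A L (t ^ j) * y = algebraMap Q L z := by
    intro y hy
    obtain ⟨⟨z, _, i, rfl⟩, hz⟩ := IsLocalization.surj (Submonoid.powers tQ) y
    have h0 : algebraMap B Bt (f.kerSquareLift z) = 0 := by
      rw [← hg, ← hz, map_mul, hy, zero_mul]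
    obtain ⟨⟨_, l, rfl⟩, hl⟩ := (IsLocalization.map_eq_zero_iff (Submonoid.powers τ) Bt _).mp h0
    refine ⟨i + l, tQ ^ l * z, ?_, ?_⟩
    · refine (map_mul f.kerSquareLift _ _).trans ?_
      rw [hfp]
      exact hl
    · rw [map_mul, ← hz, map_pow, IsScalarTower.algebraMap_apply A Q L]
      simp only [map_pow]
      ring
  have hgsurj : Function.Surjective g := by
    intro y
    obtain ⟨⟨b, _, i, rfl⟩, hb⟩ := IsLocalization.surj (Submonoid.powers τ) y
    obtain ⟨z, rfl⟩ := hfQ b
    refine ⟨IsLocalization.mk' L z (⟨tQ ^ i, i, rfl⟩ : Submonoid.powers tQ), ?_⟩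
    have hu : IsUnit (algebraMap B Bt (τ ^ i)) := by
      rw [map_pow]; exact (IsLocalization.Away.algebraMap_isUnit τ).pow i
    refine hu.mul_left_injective ?_
    show g _ * algebraMap B Bt (τ ^ i) = y * algebraMap B Bt (τ ^ i)
    rw [hb, show τ ^ i = f.kerSquareLift (tQ ^ i) from (hfp i).symm, ← hg, ← map_mul]
    rw [show IsLocalization.mk' L z (⟨tQ ^ i, i, rfl⟩ : Submonoid.powers tQ) * algebraMap Q L (tQ ^ i) =
      algebraMap Q L z from IsLocalization.mk'_spec L z _, hg]
  have hgsq : ∀ y y' : L, g y = 0 → g y' = 0 → y * y' = 0 := by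
    intro y y' hy hy'
    obtain ⟨j, z, hz, e⟩ := hgker y hy
    obtain ⟨j', z', hz', e'⟩ := hgker y' hy'
    have hu : IsUnit (algebraMap A L (t ^ (j + j'))) := by
      rw [map_pow, IsScalarTower.algebraMap_apply A Q L]
      exact (IsLocalization.Away.algebraMap_isUnit tQ).pow _
    refine hu.mul_right_eq_zero.mp ?_
    rw [pow_add, map_mul, show ∀ a b : L, a * b * (y * y') = (a * y) * (b * y') from fun a b ↦ by ring, e, e',
      ← map_mul, hsq z z' hz hz', map_zero]
  have hnil : IsNilpotent (RingHom.ker (g : L →+* Bt)) := by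
    refine ⟨2, ?_⟩
    show RingHom.ker (g : L →+* Bt) ^ 2 = ⊥
    refine eq_bot_iff.mpr ((pow_two _).trans_le (Ideal.mul_le.mpr ?_))
    exact fun a ha b hb ↦ hgsq a b ha hb
  let σ : B →ₐ[A] L := (Algebra.FormallySmooth.liftOfSurjective (AlgHom.id A Bt) g hgsurj hnil).comp
    ((Algebra.ofId B Bt).restrictScalars A)
  have hgσ : ∀ b, g (σ b) = algebraMap B Bt b := fun b ↦ by
    simp [σ]
  let ι : P →ₐ[A] L := (IsScalarTower.toAlgHom A Q L).comp mk
  have hι : ∀ G, g (ι G - σ (f G)) = 0 := fun G ↦ by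
    rw [map_sub, hgσ]
    show g (algebraMap Q L (mk G)) - _ = 0
    rw [hg]
    exact sub_self _
  choose j z hz hjz using fun i : Fin m ↦ hgker _ (hι (MvPolynomial.X i))
  let N₀ := Finset.univ.sup j
  let D₀ : Derivation A P Q := MvPolynomial.mkDerivation A (fun i ↦ t ^ (N₀ - j i) • z i)
  have hD₀X : ∀ i, D₀ (MvPolynomial.X i) = t ^ (N₀ - j i) • z i := fun i ↦ MvPolynomial.mkDerivation_X A _ i
  have hsm' : ∀ (G : P) (y : Q), G • y = mk G * y := fun G y ↦ rfl
  have hD₀ker : ∀ G, f.kerSquareLift (D₀ G) = 0 := by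
    intro G
    induction G using MvPolynomial.induction_on with
    | C a =>
      simp [P]
      exact map_zero f.kerSquareLift
    | add p q hp hq => rw [map_add, map_add, hp, hq, add_zero]
    | mul_X p i hp =>
      rw [Derivation.leibniz, map_add, hsm', hsm', map_mul, map_mul, hp, hD₀X, map_smul, hz]
      simp
  have hD₀eq : ∀ G, algebraMap Q L (D₀ G) = algebraMap A L (t ^ N₀) * (ι G - σ (f G)) := by
    intro G
    induction G using MvPolynomial.induction_on with
    | C a =>
      rw [← MvPolynomial.algebraMap_eq, Derivation.map_algebraMap, map_zero, AlgHom.commutes, AlgHom.commutes,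
        AlgHom.commutes, sub_self, mul_zero]
    | add p q hp hq => rw [map_add, map_add, hp, hq, map_add, map_add, map_add]; ring
    | mul_X p i hp =>
      have hX : algebraMap Q L (D₀ (MvPolynomial.X i)) =
          algebraMap A L (t ^ N₀) * (ι (MvPolynomial.X i) - σ (f (MvPolynomial.X i))) := by
        rw [hD₀X, Algebra.smul_def, map_mul, ← hjz, ← IsScalarTower.algebraMap_apply, ← mul_assoc, ← map_mul,
          ← pow_add, Nat.sub_add_cancel (Finset.le_sup (f := j) (Finset.mem_univ i))]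
      have h2 := hgsq _ _ (hι p) (hι (MvPolynomial.X i))
      rw [Derivation.leibniz, map_add, hsm', hsm', map_mul, map_mul, hp, hX, map_mul ι, map_mul f, map_mul σ]
      change ι p * _ + ι (MvPolynomial.X i) * _ = _
      linear_combination algebraMap A L (t ^ N₀) * h2
  obtain ⟨S, hS⟩ : (RingHom.ker f).FG := IsNoetherian.noetherian _
  have hgen : ∀ F : S, ∃ l : ℕ, t ^ l • (D₀ F.1 - t ^ N₀ • mk F.1) = 0 := by
    rintro ⟨F, hF⟩
    have hF0 : f F = 0 := (RingHom.mem_ker).mp (hS ▸ Ideal.subset_span hF)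
    have : algebraMap Q L (D₀ F - t ^ N₀ • mk F) = 0 := by
      rw [map_sub, hD₀eq, hF0, map_zero, sub_zero, Algebra.smul_def, map_mul,
        ← IsScalarTower.algebraMap_apply]
      exact sub_self _
    obtain ⟨⟨_, l, rfl⟩, hl⟩ := (IsLocalization.map_eq_zero_iff (Submonoid.powers tQ) L _).mp this
    exact ⟨l, by rw [Algebra.smul_def, map_pow]; exact hl⟩
  choose l hl using hgen
  let l₀ := Finset.univ.sup l
  refine ⟨l₀ + N₀, t ^ l₀ • D₀, fun G ↦ by rw [Derivation.smul_apply, map_smul, hD₀ker, smul_zero], ?_⟩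
  intro F hF
  rw [← hS] at hF
  induction hF using Submodule.span_induction with
  | mem F hF =>
    have h1 := hl ⟨F, hF⟩
    have : t ^ l₀ • (D₀ F - t ^ N₀ • mk F) = 0 := by
      show t ^ Finset.univ.sup l • _ = _
      rw [← Nat.sub_add_cancel (Finset.le_sup (f := l) (Finset.mem_univ (⟨F, hF⟩ : S))), pow_add, mul_smul, h1,
        smul_zero]
    rw [Derivation.smul_apply, pow_add, mul_smul, ← sub_eq_zero, ← smul_sub]
    exact this
  | zero => rw [map_zero, map_zero, smul_zero]
  | add x y _ _ hx hy => rw [map_add, hx, hy, map_add, smul_add]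
  | smul G x hx ih =>
    have hx0 : f x = 0 := (RingHom.mem_ker).mp (hS ▸ hx)
    have h2 : mk x * D₀ G = 0 := hsq _ _ hx0 (hD₀ker G)
    rw [smul_eq_mul, Derivation.leibniz, ih, Derivation.smul_apply, hsm', hsm', mul_smul_comm, mul_smul_comm,
      h2, smul_zero, add_zero, map_mul]
    rfl

end Der

/-! ### The main argument -/

theorem main {k : Type u} [Field k] [IsAlgClosed k] {B₀ : Type u} [CommRing B₀] [Algebra k B₀]
    [Algebra.FiniteType k B₀] (hsing : ¬ Algebra.Smooth k B₀)
    (hrigid : Subsingleton (CotT.T1 (CotT.canon k B₀) B₀))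
    {A B : Type u} [CommRing A] [CommRing B] [IsDomain A] [Algebra k A] [Algebra.FiniteType k A]
    (t : A) (ht : (Ideal.span {t}).IsMaximal) (ht0 : t ≠ 0)
    [Algebra A B] [Algebra.FiniteType A B] [Module.Flat A B] [Algebra k B] [IsScalarTower k A B]
    (e : (B ⧸ Ideal.span {algebraMap A B t}) ≃ₐ[k] B₀) :
    ∃ q : PrimeSpectrum B, algebraMap A B t ∉ q.asIdeal ∧ q ∉ Algebra.smoothLocus A B := by
  by_contra hcon
  push Not at hcon
  refine hsing ?_
  have : IsNoetherianRing A := Algebra.FiniteType.isNoetherianRing k A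
  have : Algebra.FinitePresentation A B := Algebra.FinitePresentation.of_finiteType.mp inferInstance
  let τ := algebraMap A B t
  have hsm : Algebra.FormallySmooth A (Localization.Away τ) :=
    (Algebra.basicOpen_subset_smoothLocus_iff).mp fun q hq ↦ hcon q hq
  obtain ⟨m, f, hf⟩ := Algebra.FiniteType.iff_quotient_mvPolynomial''.mp ‹Algebra.FiniteType A B›
  obtain ⟨N, D, hDker, hD⟩ := exists_der f hf t hsm
  -- the reduction and its sections
  let π : B →ₐ[k] B₀ := e.toAlgHom.comp (Ideal.Quotient.mkₐ k _)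
  have hπ : Function.Surjective π := e.surjective.comp Ideal.Quotient.mk_surjective
  have hker : ∀ b, π b = 0 → b ∈ Ideal.span {τ} := fun b hb ↦
    Ideal.Quotient.eq_zero_iff_mem.mp (e.map_eq_zero_iff.mp hb)
  have hτ : π τ = 0 := by
    show e (Ideal.Quotient.mk _ τ) = 0
    rw [Ideal.Quotient.eq_zero_iff_mem.mpr (Ideal.mem_span_singleton_self _), map_zero]
  have hreg : ∀ b : B, τ * b = 0 → b = 0 := fun b hb ↦ by
    have hr : IsSMulRegular B t := Module.Flat.isSMulRegular_of_nonZeroDivisors (mem_nonZeroDivisors_of_ne_zero ht0)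
    refine hr ?_
    show t • b = t • (0 : B)
    rw [smul_zero, Algebra.smul_def, hb]
  obtain ⟨s, hs⟩ := exists_section π τ hπ hker hτ hreg hrigid N
  let Bn := B ⧸ Ideal.span {τ ^ (N + 1)}
  let C := A ⧸ Ideal.span {t ^ (N + 1)}
  -- residue field of `A` at `t`
  have hres : ∀ a : A, ∃ (l : k) (a' : A), a = algebraMap k A l + t * a' := by
    intro a
    let : Field (A ⧸ Ideal.span {t}) := Ideal.Quotient.field _
    have : Module.Finite k (A ⧸ Ideal.span {t}) := finite_of_finite_type_of_isJacobsonRing k _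
    obtain ⟨l, hl⟩ := (IsAlgClosed.algebraMap_bijective_of_isIntegral (k := k)
      (K := A ⧸ Ideal.span {t})).2 (Ideal.Quotient.mk _ a)
    rw [← Ideal.Quotient.mk_algebraMap, eq_comm, Ideal.Quotient.mk_eq_mk_iff_sub_mem,
      Ideal.mem_span_singleton'] at hl
    obtain ⟨a', ha'⟩ := hl
    exact ⟨l, a', by linear_combination -ha'⟩
  have hresC : ∀ c : C, ∃ (l : k) (c' : C), c = algebraMap k C l + t • c' := by
    intro c
    obtain ⟨a, rfl⟩ := Ideal.Quotient.mk_surjective c
    obtain ⟨l, a', rfl⟩ := hres a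
    exact ⟨l, Ideal.Quotient.mk _ a', by rw [map_add, Algebra.smul_def, Ideal.Quotient.mk_algebraMap, map_mul]; rfl⟩
  have htC : ∀ {M : Type u} [AddCommGroup M] [Module C M] [Module A M] [IsScalarTower A C M] (x : M),
      t ^ (N + 1) • x = 0 := by
    intro M _ _ _ _ x
    rw [← algebraMap_smul C (t ^ (N + 1)) x]
    show Ideal.Quotient.mk _ (t ^ (N + 1)) • x = 0
    rw [Ideal.Quotient.eq_zero_iff_mem.mpr (Ideal.mem_span_singleton_self _), zero_smul]
  -- `C ⊗ B₀ ≅ Bn`
  let ν : C →ₐ[A] Bn := Ideal.Quotient.liftₐ _ (Algebra.ofId A Bn) (fun a ha ↦ by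
    obtain ⟨a', rfl⟩ := Ideal.mem_span_singleton'.mp ha
    show algebraMap A Bn _ = 0
    rw [IsScalarTower.algebraMap_apply A B Bn]
    exact Ideal.Quotient.eq_zero_iff_mem.mpr
      (Ideal.mem_span_singleton'.mpr ⟨algebraMap A B a', by simp [τ]⟩))
  let Φ : C ⊗[k] B₀ →ₐ[A] Bn := Algebra.TensorProduct.lift ν s (fun _ _ ↦ Commute.all _ _)
  have hΦ : ∀ (c : C) (b : B₀), Φ (c ⊗ₜ b) = ν c * s b := fun c b ↦ by simp [Φ]
  let ρ : C ⊗[k] B₀ →ₐ[k] B₀ := (red π τ hτ N).comp (Φ.restrictScalars k)
  have hρ1 : ∀ b, ρ ((1 : C) ⊗ₜ b) = b := fun b ↦ by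
    show red π τ hτ N (Φ ((1 : C) ⊗ₜ b)) = b
    rw [hΦ, map_one, one_mul, hs]
  have hρt : ∀ y : C ⊗[k] B₀, ρ (t • y) = 0 := fun y ↦ by
    show red π τ hτ N (Φ (t • y)) = 0
    rw [map_smul, Algebra.smul_def, map_mul, IsScalarTower.algebraMap_apply A B Bn,
      Ideal.Quotient.algebraMap_eq, red_mk, hτ, zero_mul]
  have hdec : ∀ y : C ⊗[k] B₀, ∃ y', y = (1 : C) ⊗ₜ ρ y + t • y' := by
    intro y
    induction y with
    | zero => exact ⟨0, by simp⟩
    | add x y hx hy =>
      obtain ⟨x', hx⟩ := hx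
      obtain ⟨y', hy⟩ := hy
      exact ⟨x' + y', by rw [map_add, TensorProduct.tmul_add, smul_add]; nth_rw 1 [hx, hy]; abel⟩
    | tmul c b =>
      obtain ⟨l, c', rfl⟩ := hresC c
      refine ⟨c' ⊗ₜ b, ?_⟩
      rw [TensorProduct.add_tmul, ← TensorProduct.smul_tmul', map_add, hρt, add_zero, Algebra.algebraMap_eq_smul_one,
        TensorProduct.smul_tmul, hρ1]
  have hΦinj : Function.Injective Φ := by
    refine (injective_iff_map_eq_zero _).mpr fun y hy ↦ ?_
    have : ∀ i ≤ N + 1, ∃ y', y = t ^ i • y' := by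
      intro i hi
      induction i with
      | zero => exact ⟨y, by simp⟩
      | succ i ih =>
        obtain ⟨y', hy'⟩ := ih (by omega)
        obtain ⟨b, hb⟩ := Ideal.Quotient.mk_surjective (Φ y')
        have h0 : Ideal.Quotient.mk (Ideal.span {τ ^ (N + 1)}) (τ ^ i * b) = 0 := by
          have h1 := hy
          rw [hy', map_smul, Algebra.smul_def, IsScalarTower.algebraMap_apply A B Bn, map_pow (algebraMap A B)] at h1
          rw [map_mul, hb]
          exact h1
        rw [Ideal.Quotient.eq_zero_iff_mem, Ideal.mem_span_singleton'] at h0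
        obtain ⟨d, hd⟩ := h0
        have hbd : b = τ ^ (N + 1 - i) * d := by
          have hτm : ∀ j : ℕ, ∀ b, τ ^ j * b = 0 → b = 0 := by
            intro j
            induction j with
            | zero => intro b hb; simpa using hb
            | succ j ihj => intro b hb; rw [pow_succ', mul_assoc] at hb; exact ihj b (hreg _ hb)
          refine sub_eq_zero.mp (hτm i _ ?_)
          rw [mul_sub, ← mul_assoc, ← pow_add, Nat.add_sub_cancel' (by omega), ← hd]
          ring
        have hρy : ρ y' = 0 := by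
          show red π τ hτ N (Φ y') = 0
          rw [← hb, red_mk, hbd, map_mul, map_pow, hτ, zero_pow (by omega), zero_mul]
        obtain ⟨y'', hy''⟩ := hdec y'
        rw [hρy, TensorProduct.tmul_zero, zero_add] at hy''
        exact ⟨y'', by rw [hy', hy'', ← mul_smul, ← pow_succ]⟩
    obtain ⟨y', rfl⟩ := this (N + 1) le_rfl
    exact htC y'
  have hΦsurj : Function.Surjective Φ := by
    intro x
    have : ∀ i : ℕ, ∃ (y : C ⊗[k] B₀) (x' : Bn), x = Φ y + t ^ i • x' := by
      intro i
      induction i with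
      | zero => exact ⟨0, x, by simp⟩
      | succ i ih =>
        obtain ⟨y, x', rfl⟩ := ih
        obtain ⟨b, hb⟩ := Ideal.Quotient.mk_surjective x'
        obtain ⟨b₁, hb₁⟩ := Ideal.Quotient.mk_surjective (s (π b))
        obtain ⟨d, hd⟩ := Ideal.mem_span_singleton'.mp (hker (b - b₁) (by
          rw [map_sub, ← red_mk π τ hτ N b₁, hb₁, hs, sub_self]))
        refine ⟨y + t ^ i • ((1 : C) ⊗ₜ π b), Ideal.Quotient.mk _ d, ?_⟩
        have hbd : (Ideal.Quotient.mk (Ideal.span {τ ^ (N + 1)}) b : Bn) = s (π b) + t • Ideal.Quotient.mk _ d := by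
          rw [← hb₁, Algebra.smul_def, IsScalarTower.algebraMap_apply A B Bn, Ideal.Quotient.algebraMap_eq, ← map_mul,
            ← map_add]
          congr 1
          linear_combination -hd
        rw [map_add, map_smul, hΦ, map_one, one_mul, ← hb, hbd, smul_add, ← add_assoc, ← mul_smul (t ^ i) t, ← pow_succ]
    obtain ⟨y, x', rfl⟩ := this (N + 1)
    refine ⟨y, ?_⟩
    rw [← algebraMap_smul B (t ^ (N + 1)) x', map_pow]
    obtain ⟨b, rfl⟩ := Ideal.Quotient.mk_surjective x'
    rw [show τ ^ (N + 1) • Ideal.Quotient.mk (Ideal.span {τ ^ (N + 1)}) b = Ideal.Quotient.mk _ (τ ^ (N + 1) * b) from rfl,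
      Ideal.Quotient.eq_zero_iff_mem.mpr (Ideal.mem_span_singleton'.mpr ⟨b, mul_comm _ _⟩), add_zero]
  let Ψ := (AlgEquiv.ofBijective Φ ⟨hΦinj, hΦsurj⟩).symm
  have hΨ : ∀ x, Φ (Ψ x) = x := fun x ↦ (AlgEquiv.ofBijective Φ ⟨hΦinj, hΦsurj⟩).apply_symm_apply x
  -- the square-zero extension of `B₀`
  let aev : MvPolynomial B₀ k →ₐ[k] B₀ := MvPolynomial.aeval (fun b : B₀ ↦ b)
  have haev : Function.Surjective aev := fun b ↦ ⟨MvPolynomial.X b, MvPolynomial.aeval_X _ b⟩
  have : Algebra.FormallySmooth k B₀ := by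
    refine (Algebra.FormallySmooth.iff_split_surjection aev haev).mpr ?_
    let R := MvPolynomial B₀ k ⧸ RingHom.ker aev.toRingHom ^ 2
    let q : R →ₐ[k] B₀ := aev.kerSquareLift
    have hq : Function.Surjective q := fun b ↦ ⟨Ideal.Quotient.mk _ (haev b).choose, (haev b).choose_spec⟩
    have hqsq : RingHom.ker q * RingHom.ker q = ⊥ := by
      rw [eq_bot_iff, Ideal.mul_le]
      intro a ha a' ha'
      obtain ⟨a, rfl⟩ := Ideal.Quotient.mk_surjective a
      obtain ⟨a', rfl⟩ := Ideal.Quotient.mk_surjective a'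
      rw [← map_mul, Ideal.mem_bot, Ideal.Quotient.eq_zero_iff_mem, pow_two]
      exact Ideal.mul_mem_mul ha ha'
    let μ : C ⊗[k] R →ₐ[A] C ⊗[k] B₀ := Algebra.TensorProduct.map (AlgHom.id A C) q
    let ir : R →+* C ⊗[k] R := (Algebra.TensorProduct.includeRight : R →ₐ[k] C ⊗[k] R).toRingHom
    have hμk : ∀ z, μ z = 0 → z ∈ (RingHom.ker q).map ir := fun z hz ↦ by
      show z ∈ (RingHom.ker q).map (Algebra.TensorProduct.includeRight : R →ₐ[k] C ⊗[k] R)
      rw [← Algebra.TensorProduct.lTensor_ker _ hq]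
      exact hz
    have hspan : ∀ z ∈ Ideal.span (ir '' (RingHom.ker q : Set R)),
        ∀ z' ∈ Ideal.span (ir '' (RingHom.ker q : Set R)), z * z' = 0 := fun z h1 ↦ by
      induction h1 using Submodule.span_induction with
      | mem x hx =>
        intro z' h2
        induction h2 using Submodule.span_induction with
        | mem y hy =>
          obtain ⟨a, ha, rfl⟩ := hx
          obtain ⟨b, hb, rfl⟩ := hy
          have hab : a * b = 0 := by
            have := Ideal.mul_mem_mul ha hb
            rwa [hqsq, Ideal.mem_bot] at this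
          rw [← map_mul, hab, map_zero]
        | zero => exact mul_zero x
        | add y w _ _ hy hw => rw [mul_add, hy, hw, add_zero]
        | smul c y _ hy =>
          refine Eq.trans (mul_left_comm x c y) ?_
          rw [hy, mul_zero]
      | zero => exact fun z' _ ↦ zero_mul z'
      | add y w _ _ hy hw => exact fun z' hz' ↦ by rw [add_mul, hy z' hz', hw z' hz', add_zero]
      | smul c y _ hy =>
        intro z' hz'
        refine Eq.trans (mul_assoc c y z') ?_
        rw [hy z' hz', mul_zero]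
    have hμsq : ∀ z z', μ z = 0 → μ z' = 0 → z * z' = 0 := fun z z' hz hz' ↦
      hspan z (hμk z hz) z' (hμk z' hz')
    have hμsurj : Function.Surjective μ := fun y ↦ by
      induction y with
      | zero => exact ⟨0, map_zero _⟩
      | add x y hx hy => obtain ⟨x', rfl⟩ := hx; obtain ⟨y', rfl⟩ := hy; exact ⟨x' + y', map_add _ _ _⟩
      | tmul c b => obtain ⟨r, rfl⟩ := hq b; exact ⟨c ⊗ₜ r, rfl⟩
    choose ev hev using fun i : Fin m ↦ hμsurj (Ψ (Ideal.Quotient.mk _ (f (MvPolynomial.X i))))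
    let φ : MvPolynomial (Fin m) A →ₐ[A] C ⊗[k] R := MvPolynomial.aeval ev
    have hμφ : ∀ G, μ (φ G) = Ψ (Ideal.Quotient.mk _ (f G)) := fun G ↦ by
      have h : μ.comp φ = (Ψ.toAlgHom.comp (Ideal.Quotient.mkₐ A _)).comp f :=
        MvPolynomial.algHom_ext fun i ↦ by simp [φ, hev]; rfl
      exact DFunLike.congr_fun h G
    let φ' : (MvPolynomial (Fin m) A ⧸ RingHom.ker f.toRingHom ^ 2) →ₐ[A] C ⊗[k] R :=
      Ideal.Quotient.liftₐ _ φ (fun G hG ↦ by
        have hle : RingHom.ker f.toRingHom ^ 2 ≤ RingHom.ker φ := by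
          rw [pow_two, Ideal.mul_le]
          intro a ha b hb
          rw [RingHom.mem_ker, map_mul]
          refine hμsq _ _ ?_ ?_
          · rw [hμφ, show f a = 0 from ha, map_zero, map_zero]
          · rw [hμφ, show f b = 0 from hb, map_zero, map_zero]
        exact hle hG)
    have hφ' : ∀ G, φ' (Ideal.Quotient.mk _ G) = φ G := fun G ↦ rfl
    choose y hy using fun b : B₀ ↦ (Ideal.Quotient.mk_surjective.comp hf) (s b)
    let θ : MvPolynomial B₀ k →ₐ[k] MvPolynomial (Fin m) A := MvPolynomial.aeval y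
    have hθ : ∀ F, Ideal.Quotient.mk (Ideal.span {τ ^ (N + 1)}) (f (θ F)) = s (aev F) := fun F ↦ by
      have h : ((Ideal.Quotient.mkₐ k (Ideal.span {τ ^ (N + 1)})).comp (f.restrictScalars k)).comp θ = s.comp aev :=
        MvPolynomial.algHom_ext fun b ↦ by simpa [θ, aev] using hy b
      exact DFunLike.congr_fun h F
    let U : MvPolynomial B₀ k →ₐ[k] C ⊗[k] R := (φ.restrictScalars k).comp θ
    let W : MvPolynomial B₀ k →ₗ[k] C ⊗[k] R :=
      (φ'.toLinearMap.comp D.toLinearMap).restrictScalars k ∘ₗ θ.toLinearMap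
    have hWdef : ∀ F, W F = φ' (D (θ F)) := fun F ↦ rfl
    have hμW : ∀ F, μ (W F) = 0 := fun F ↦ by
      obtain ⟨G, hG⟩ := Ideal.Quotient.mk_surjective (D (θ F))
      have h0 : f G = 0 := by
        have := hDker (θ F)
        rw [← hG] at this
        exact this
      rw [hWdef, ← hG, hφ', hμφ, h0, map_zero, map_zero]
    have hWker : ∀ F, aev F = 0 → W F = t ^ N • U F := fun F hF ↦ by
      have h0 := hθ F
      rw [hF, map_zero, Ideal.Quotient.eq_zero_iff_mem, Ideal.mem_span_singleton'] at h0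
      obtain ⟨b, hb⟩ := h0
      obtain ⟨H, rfl⟩ := hf b
      have hG : θ F - t ^ (N + 1) • H ∈ RingHom.ker f := by
        rw [RingHom.mem_ker, map_sub, ← hb, map_smul, Algebra.smul_def, map_pow, mul_comm, sub_self]
      rw [hWdef, ← sub_add_cancel (θ F) (t ^ (N + 1) • H), map_add, map_add, hD _ hG, map_smul, hφ',
        Derivation.map_smul, map_smul, map_sub, map_smul φ, htC (M := C ⊗[k] R), htC (M := C ⊗[k] R), add_zero,
        sub_zero]
      rfl
    -- retractions
    obtain ⟨el, hel⟩ : ∃ el : C →ₗ[k] k, el (Ideal.Quotient.mk _ (t ^ N)) = 1 := by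
      refine Module.Projective.exists_dual_eq_one k ?_
      rw [Ne, Ideal.Quotient.eq_zero_iff_mem, Ideal.mem_span_singleton']
      rintro ⟨a, ha⟩
      rw [pow_succ'] at ha
      have : (a * t - 1) * t ^ N = 0 := by linear_combination ha
      rcases mul_eq_zero.mp this with h | h
      · exact ht.ne_top (Ideal.span_singleton_eq_top.mpr (IsUnit.of_mul_eq_one_right a (sub_eq_zero.mp h)))
      · exact ht0 (pow_eq_zero_iff'.mp h).1
    let χ : C →ₗ[k] k := el.comp (LinearMap.mulLeft k (Ideal.Quotient.mk _ (t ^ N)))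
    have hχ : ∀ (l : k) (c : C), χ (algebraMap k C l + t • c) = l := fun l c ↦ by
      have h2 : Ideal.Quotient.mk (Ideal.span {t ^ (N + 1)}) (t ^ N) * (t • c) = 0 := by
        rw [mul_smul_comm, ← smul_eq_mul, ← Ideal.Quotient.algebraMap_eq, algebraMap_smul, ← mul_smul, ← pow_succ']
        exact htC c
      simp only [χ, LinearMap.comp_apply, LinearMap.mulLeft_apply, mul_add, h2, add_zero]
      rw [Algebra.algebraMap_eq_smul_one, mul_smul_comm, mul_one, map_smul, hel, smul_eq_mul, mul_one]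
    let χa : C →ₐ[k] k := AlgHom.ofLinearMap χ (by simpa using hχ 1 0) (fun c c' ↦ by
      obtain ⟨l, d, rfl⟩ := hresC c
      obtain ⟨l', d', rfl⟩ := hresC c'
      rw [hχ, hχ, show (algebraMap k C l + t • d) * (algebraMap k C l' + t • d') = algebraMap k C (l * l') +
        t • (algebraMap k C l * d' + algebraMap k C l' * d + t • (d * d')) by
          rw [map_mul]; simp only [Algebra.smul_def]; ring, hχ])
    let κ : C ⊗[k] R →ₐ[k] R :=
      Algebra.TensorProduct.lift ((Algebra.ofId k R).comp χa) (AlgHom.id k R) (fun _ _ ↦ Commute.all _ _)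
    have hκ : ∀ (c : C) (r : R), κ (c ⊗ₜ r) = algebraMap k R (χ c) * r := fun c r ↦
      Algebra.TensorProduct.lift_tmul _ _ _ _ _
    let ℓ : C ⊗[k] R →ₗ[k] R := (TensorProduct.lid k R).toLinearMap.comp (el.rTensor R)
    have hℓ : ∀ (c : C) (r : R), ℓ (c ⊗ₜ r) = el c • r := fun c r ↦ TensorProduct.lid_tmul r (el c)
    have hℓt : ∀ z, ℓ (t ^ N • z) = κ z := fun z ↦ by
      induction z with
      | zero => simp
      | add x y hx hy => rw [smul_add, map_add, map_add, hx, hy]
      | tmul c r =>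
        have hel' : el (t ^ N • c) = χ c := by rw [Algebra.smul_def]; rfl
        rw [TensorProduct.smul_tmul', hℓ, hel']
        rw [hκ, Algebra.smul_def]
    have hℓmul : ∀ (r : R) z, ℓ ((1 : C) ⊗ₜ r * z) = r * ℓ z := fun r z ↦ by
      induction z with
      | zero => simp
      | add x y hx hy => rw [mul_add, map_add, map_add, hx, hy, mul_add]
      | tmul c x => rw [Algebra.TensorProduct.tmul_mul_tmul, one_mul, hℓ, hℓ, mul_smul_comm]
    have hqℓ : ∀ z, μ z = 0 → q (ℓ z) = 0 := fun z hz ↦ by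
      have : q.toLinearMap.comp ℓ = ((TensorProduct.lid k B₀).toLinearMap.comp (el.rTensor B₀)).comp
          (μ.toLinearMap.restrictScalars k) := TensorProduct.ext' fun c r ↦ by simp [hℓ, μ]
      have h := LinearMap.congr_fun this z
      simp only [LinearMap.comp_apply, LinearMap.restrictScalars_apply, AlgHom.toLinearMap_apply, hz, map_zero] at h
      exact h
    have hqκ : ∀ z, q (κ z) = ρ (μ z) := fun z ↦ by
      induction z with
      | zero => simp
      | add x y hx hy => simp only [map_add, hx, hy]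
      | tmul c r =>
        obtain ⟨l, c', rfl⟩ := hresC c
        have e1 : κ ((algebraMap k C l + t • c') ⊗ₜ r) = l • r := by
          rw [hκ, hχ, Algebra.smul_def]
        rw [e1, map_smul, TensorProduct.add_tmul, map_add, map_add, ← TensorProduct.smul_tmul', map_smul, hρt,
          add_zero]
        show _ = ρ (algebraMap k C l ⊗ₜ q r)
        rw [Algebra.algebraMap_eq_smul_one, TensorProduct.smul_tmul, hρ1]
    have hμU : ∀ F, μ (U F) = (1 : C) ⊗ₜ aev F := fun F ↦ by
      apply hΦinj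
      rw [show U F = φ (θ F) from rfl, hμφ, hΨ, hθ, hΦ, map_one, one_mul]
    have hr : ∀ F, q (κ (U F)) = aev F := fun F ↦ by rw [hqκ, hμU, hρ1]
    have hmulW : ∀ F z, μ z = 0 → ℓ (U F * z) = κ (U F) * ℓ z := fun F z hz ↦ by
      rw [← hℓmul, ← sub_eq_zero, ← map_sub, ← sub_mul, hμsq _ z ?_ hz, map_zero]
      rw [map_sub, hμU]
      show _ - (1 : C) ⊗ₜ q (κ (U F)) = 0
      rw [hr, sub_self]
    have hW'sq : ∀ F G, ℓ (W F) * ℓ (W G) = 0 := fun F G ↦ by
      have := Ideal.mul_mem_mul (RingHom.mem_ker.mpr (hqℓ _ (hμW F))) (RingHom.mem_ker.mpr (hqℓ _ (hμW G)))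
      rwa [hqsq, Ideal.mem_bot] at this
    have hW1 : W 1 = 0 := by rw [hWdef, map_one, Derivation.map_one_eq_zero, map_zero]
    let v : MvPolynomial B₀ k →ₐ[k] R := AlgHom.ofLinearMap
      ((κ.comp U).toLinearMap - ℓ.comp W)
      (by show κ (U 1) - ℓ (W 1) = 1; rw [map_one, map_one, hW1, map_zero, sub_zero])
      (fun F G ↦ by
        have hW : W (F * G) = U F * W G + U G * W F := by
          rw [hWdef, map_mul θ, Derivation.leibniz, map_add]
          show φ' (Ideal.Quotient.mk _ (θ F) * D (θ G)) + φ' (Ideal.Quotient.mk _ (θ G) * D (θ F)) = _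
          rw [map_mul, map_mul]
          rfl
        simp only [LinearMap.sub_apply, AlgHom.toLinearMap_apply, AlgHom.comp_apply, LinearMap.comp_apply, hW,
          map_add, map_mul, hmulW _ _ (hμW _)]
        linear_combination -(hW'sq F G))
    have hv : ∀ F ∈ RingHom.ker aev, v F = 0 := fun F hF ↦ by
      show κ (U F) - ℓ (W F) = 0
      rw [hWker F hF, hℓt, sub_self]
    refine ⟨(Ideal.Quotient.liftₐ _ v hv).comp (Ideal.quotientKerAlgEquivOfSurjective haev).symm.toAlgHom, ?_⟩
    refine AlgHom.ext fun b ↦ ?_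
    have e' : (Ideal.quotientKerAlgEquivOfSurjective haev).symm b = Ideal.Quotient.mk _ (MvPolynomial.X b) := by
      rw [AlgEquiv.symm_apply_eq]
      exact (MvPolynomial.aeval_X (R := k) (fun b : B₀ ↦ b) b).symm
    show q ((Ideal.Quotient.liftₐ _ v hv) ((Ideal.quotientKerAlgEquivOfSurjective haev).symm b)) = b
    rw [e']
    show q (κ (U (MvPolynomial.X b)) - ℓ (W (MvPolynomial.X b))) = b
    rw [map_sub, hr, hqℓ _ (hμW _), sub_zero]
    exact MvPolynomial.aeval_X _ b
  exact ⟨this, Algebra.FinitePresentation.of_finiteType.mp inferInstance⟩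

end Groth.Agent.CAlgSmall.RigidSmoothing
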