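import Groth.Agent.CAlgMisc2.Normal
import Mathlib.RingTheory.Flat.FaithfullyFlat.Algebra
import Mathlib.RingTheory.DiscreteValuationRing.TFAE
import Mathlib.RingTheory.Localization.FractionRing
import Mathlib.RingTheory.Localization.AtPrime.Basic

/-!
# Descent of being an `n`-th power up to a unit along flat local maps of normal domains
-/

universe u

open TensorProduct

namespace Groth.Agent.CAlgSmall

/-- In an integrally closed domain, `f ^ n ∣ a ^ n` implies `f ∣ a`. -/
theorem dvd_of_pow_dvd_pow' {A : Type u} [CommRing A] [IsDomain A] [IsIntegrallyClosed A] {f a : A}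
    {n : ℕ} (hn : 0 < n) (h : f ^ n ∣ a ^ n) : f ∣ a := by
  by_cases hf : f = 0
  · subst hf
    rw [zero_pow hn.ne', zero_dvd_iff] at h
    rw [pow_eq_zero_iff hn.ne'] at h
    rw [h]
  obtain ⟨c, hc⟩ := h
  let φ := algebraMap A (FractionRing A)
  have hφf : φ f ≠ 0 := fun h0 => hf (IsFractionRing.injective A (FractionRing A) (h0.trans (map_zero φ).symm))
  have hint : IsIntegral A (φ a / φ f) := by
    refine IsIntegral.of_pow hn ?_
    rw [div_pow, ← map_pow, ← map_pow, hc, map_mul, mul_div_cancel_left₀]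
    · exact isIntegral_algebraMap
    · rw [map_pow]; exact pow_ne_zero _ hφf
  obtain ⟨d, hd⟩ := IsIntegrallyClosed.isIntegral_iff.mp hint
  refine ⟨d, IsFractionRing.injective A (FractionRing A) ?_⟩
  rw [map_mul, show algebraMap A (FractionRing A) d = φ a / φ f from hd]
  exact (mul_div_cancel₀ _ hφf).symm

/-- The set of `a` with `f ∣ a ^ n`, as an ideal. -/
def rootIdeal {A : Type u} [CommRing A] [IsDomain A] [IsIntegrallyClosed A] (f : A) {n : ℕ}
    (hn : 0 < n) : Ideal A where
  carrier := {a | f ∣ a ^ n}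
  zero_mem' := by simp [zero_pow hn.ne']
  smul_mem' c a (ha : f ∣ a ^ n) := by
    show f ∣ (c • a) ^ n
    rw [smul_eq_mul, mul_pow]
    exact dvd_mul_of_dvd_right ha _
  add_mem' {a b} (ha : f ∣ a ^ n) (hb : f ∣ b ^ n) := by
    show f ∣ (a + b) ^ n
    rw [add_pow]
    refine Finset.dvd_sum fun i hi => dvd_mul_of_dvd_left ?_ _
    have hi' : i ≤ n := Nat.lt_succ_iff.mp (Finset.mem_range.mp hi)
    apply dvd_of_pow_dvd_pow' hn
    rw [mul_pow, ← pow_mul, ← pow_mul, mul_comm i n, mul_comm (n - i) n, pow_mul, pow_mul]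
    have : f ^ n = f ^ i * f ^ (n - i) := by rw [← pow_add, Nat.add_sub_cancel' hi']
    rw [this]
    exact mul_dvd_mul (pow_dvd_pow_of_dvd ha i) (pow_dvd_pow_of_dvd hb (n - i))

theorem mem_rootIdeal {A : Type u} [CommRing A] [IsDomain A] [IsIntegrallyClosed A] {f : A} {n : ℕ}
    (hn : 0 < n) {a : A} : a ∈ rootIdeal f hn ↔ f ∣ a ^ n := Iff.rfl

theorem dvd_prod_of_mem_rootIdeal {A : Type u} [CommRing A] [IsDomain A] [IsIntegrallyClosed A] {f : A}
    {n : ℕ} (hn : 0 < n) (a : Fin n → A) (ha : ∀ i, a i ∈ rootIdeal f hn) : f ∣ ∏ i, a i := by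
  apply dvd_of_pow_dvd_pow' hn
  rw [← Finset.prod_pow, show f ^ n = ∏ _i : Fin n, f by simp]
  exact Finset.prod_dvd_prod_of_dvd _ _ fun i _ => ha i

variable {A B : Type u} [CommRing A] [IsDomain A] [IsNoetherianRing A] [IsLocalRing A]
  [IsIntegrallyClosed A] [CommRing B] [IsDomain B] [IsNoetherianRing B] [IsLocalRing B]
  [IsIntegrallyClosed B] [Algebra A B] [IsLocalHom (algebraMap A B)] [Module.Flat A B]

omit [IsLocalRing B] [IsIntegrallyClosed B] [IsLocalHom (algebraMap A B)] [Module.Flat A B] in
/-- At a height one prime with an unramified height one prime above it, `f` is an `n`-th power up to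
a unit. -/
theorem local_root {f : A} (hf0 : f ≠ 0) {h : B} {n : ℕ} {w : Bˣ}
    (hf : algebraMap A B f = (w : B) * h ^ n) (hn : 0 < n) [IsIntegrallyClosed B]
    (hinj : Function.Injective (algebraMap A B))
    (p : Ideal A) [p.IsPrime] (hp : p.height = 1) (q : Ideal B) [q.IsPrime] (hq : q.height = 1)
    (hcomap : q.comap (algebraMap A B) = p)
    (hram : Ideal.map (algebraMap B (Localization.AtPrime q)) (Ideal.map (algebraMap A B) p) =
          IsLocalRing.maximalIdeal (Localization.AtPrime q)) :
    ∃ (x : Localization.AtPrime p) (v : (Localization.AtPrime p)ˣ),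
      algebraMap A (Localization.AtPrime p) f = (v : Localization.AtPrime p) * x ^ n := by
  let Ap := Localization.AtPrime p
  let Bq := Localization.AtPrime q
  have hd : ∀ (R : Type u) [CommRing R] [IsDomain R] [IsNoetherianRing R] [IsIntegrallyClosed R]
      (P : Ideal R) [P.IsPrime], P.height = 1 → IsDiscreteValuationRing (Localization.AtPrime P) := by
    intro R _ _ _ _ P _ hP
    have : IsIntegrallyClosed (Localization.AtPrime P) :=
      isIntegrallyClosed_of_isLocalization _ P.primeCompl P.primeCompl_le_nonZeroDivisors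
    have hdim : ringKrullDim (Localization.AtPrime P) = 1 := by
      rw [IsLocalization.AtPrime.ringKrullDim_eq_height P, hP]; rfl
    have hnf : ¬ IsField (Localization.AtPrime P) := fun hF => by
      rw [ringKrullDim_eq_zero_of_isField hF] at hdim
      exact zero_ne_one hdim
    have : Ring.DimensionLEOne (Localization.AtPrime P) := by
      have : Ring.KrullDimLE 1 (Localization.AtPrime P) := (Ring.krullDimLE_iff).mpr hdim.le
      exact ⟨fun {_} hne hP => hP.isMaximal_of_ne_bot hne⟩
    have : IsDedekindDomain (Localization.AtPrime P) := {}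
    exact ((IsDiscreteValuationRing.TFAE _ hnf).out 0 2).mpr this
  have := hd A p hp
  have := hd B q hq
  let φ : Ap →+* Bq := Localization.localRingHom p q (algebraMap A B) hcomap.symm
  obtain ⟨π, hπ⟩ := IsDiscreteValuationRing.exists_irreducible Ap
  have hfA : algebraMap A Ap f ≠ 0 := fun h0 => hf0 (IsLocalization.injective _
    p.primeCompl_le_nonZeroDivisors (h0.trans (map_zero _).symm))
  obtain ⟨m, v, hv⟩ := IsDiscreteValuationRing.eq_unit_mul_pow_irreducible hfA hπ
  have hπ' : Irreducible (φ π) := by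
    rw [IsDiscreteValuationRing.irreducible_iff_uniformizer] at hπ ⊢
    rw [← hram, Ideal.map_map, show (algebraMap B Bq).comp (algebraMap A B) = φ.comp (algebraMap A Ap)
      from RingHom.ext fun a => (Localization.localRingHom_to_map p q _ hcomap.symm a).symm,
      ← Ideal.map_map, Localization.AtPrime.map_eq_maximalIdeal, hπ, Ideal.map_span,
      Set.image_singleton]
  have hfB : φ (algebraMap A Ap f) = algebraMap B Bq (w : B) * algebraMap B Bq h ^ n := by
    rw [Localization.localRingHom_to_map, hf, map_mul, map_pow]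
  have hh : algebraMap B Bq h ≠ 0 := fun h0 => by
    have hB0 : algebraMap A B f = 0 := by
      have : h = 0 := IsLocalization.injective Bq q.primeCompl_le_nonZeroDivisors
        (h0.trans (map_zero _).symm)
      rw [hf, this, zero_pow hn.ne', mul_zero]
    exact hf0 (hinj (hB0.trans (map_zero _).symm))
  obtain ⟨k, v', hv'⟩ := IsDiscreteValuationRing.eq_unit_mul_pow_irreducible hh hπ'
  have hmk : m = k * n := by
    rw [hv, map_mul, map_pow, hv', mul_pow, ← pow_mul, ← mul_assoc] at hfB
    exact IsDiscreteValuationRing.unit_mul_pow_congr_pow hπ' hπ'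
      (Units.map φ.toMonoidHom v) (Units.map (algebraMap B Bq).toMonoidHom w * v' ^ n) m (k * n)
      (by simpa using hfB)
  exact ⟨π ^ k, v, by rw [hv, hmk, pow_mul]⟩

theorem exists_root_descent (f : A) (h : B) (n : ℕ) (hn : 1 < n) (w : Bˣ)
    (hf : algebraMap A B f = (w : B) * h ^ n)
    (hram : ∀ (p : Ideal A) [p.IsPrime], p.height = 1 →
      ∃ (q : Ideal B) (_ : q.IsPrime), q.height = 1 ∧ q.comap (algebraMap A B) = p ∧
        Ideal.map (algebraMap B (Localization.AtPrime q)) (Ideal.map (algebraMap A B) p) =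
          IsLocalRing.maximalIdeal (Localization.AtPrime q)) :
    ∃ (g : A) (u : Aˣ), f = (u : A) * g ^ n := by
  classical
  have hn0 : 0 < n := by omega
  by_cases hf0 : f = 0
  · exact ⟨0, 1, by rw [hf0, zero_pow hn0.ne', mul_zero]⟩
  have : Module.FaithfullyFlat A B := Module.FaithfullyFlat.of_flat_of_isLocalHom
  have hinj : Function.Injective (algebraMap A B) := by
    rw [injective_iff_map_eq_zero]
    intro a ha
    have := Ideal.comap_map_eq_self_of_faithfullyFlat (B := B) (⊥ : Ideal A)
    rw [Ideal.map_bot] at this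
    exact (Ideal.mem_bot).mp (this ▸ (show a ∈ (⊥ : Ideal B).comap (algebraMap A B) from ha))
  let I := rootIdeal f hn0
  let K := I ^ (n - 1)
  -- `K` is generated by products
  obtain ⟨s, hs⟩ := (IsNoetherian.noetherian K : K.FG)
  -- (1) `a * K ⊆ fA` implies `a ∈ I`
  have hcol : ∀ a : A, (∀ k ∈ K, f ∣ a * k) → a ∈ I := by
    intro a ha
    rw [mem_rootIdeal]
    let φ := algebraMap A (FractionRing A)
    obtain ⟨c, hc⟩ := CAlgMisc2.mem_range_of_forall_height_one (φ (a ^ n) / φ f) (fun p _ hp => by
      obtain ⟨q, _, hq, hcomap, hram'⟩ := hram p hp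
      obtain ⟨x, v, hx⟩ := local_root hf0 hf hn0 hinj p hp q hq hcomap hram'
      let Ap := Localization.AtPrime p
      obtain ⟨b, s, rfl⟩ := IsLocalization.exists_mk'_eq p.primeCompl x
      -- `b * t ∈ I` for some `t ∉ p`
      have hb : algebraMap A Ap f ∣ algebraMap A Ap (b ^ n) := by
        refine ⟨(v⁻¹ : Apˣ) * algebraMap A Ap (s : A) ^ n, ?_⟩
        rw [hx, map_pow, ← IsLocalization.mk'_spec Ap b s, mul_pow]
        linear_combination (-(IsLocalization.mk' Ap b s ^ n * algebraMap A Ap (s : A) ^ n)) * v.mul_inv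
      obtain ⟨r, hr⟩ := hb
      obtain ⟨r', t, rfl⟩ := IsLocalization.exists_mk'_eq p.primeCompl r
      rw [← mul_comm (IsLocalization.mk' Ap r' t)] at hr
      have hr' : algebraMap A Ap (b ^ n * (t : A)) = algebraMap A Ap (r' * f) := by
        rw [map_mul, map_mul, hr, mul_right_comm, IsLocalization.mk'_spec]
      have hbt := IsLocalization.injective Ap p.primeCompl_le_nonZeroDivisors hr'
      have hI : b * (t : A) ∈ I := ⟨r' * (t : A) ^ (n - 1), by
        rw [mul_pow, show (t : A) ^ n = t * t ^ (n - 1) by rw [← pow_succ', Nat.sub_add_cancel hn0],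
          ← mul_assoc, hbt]
        ring⟩
      obtain ⟨e, he⟩ := ha _ (Ideal.pow_mem_pow hI (n - 1))
      -- so `x ∣ a` in `A_p`
      have hxa : IsLocalization.mk' Ap b s ∣ algebraMap A Ap a := by
        have h1 := congrArg (algebraMap A Ap) he
        rw [map_mul, map_mul, map_pow, map_mul, hx, ← IsLocalization.mk'_spec Ap b s] at h1
        set X := IsLocalization.mk' Ap b s
        set S := algebraMap A Ap (s : A)
        set T := algebraMap A Ap (t : A)
        have hX : X ≠ 0 := fun h0 => hf0 (IsLocalization.injective Ap p.primeCompl_le_nonZeroDivisors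
          (by rw [hx, h0, zero_pow hn0.ne', mul_zero, map_zero]))
        have h2 : algebraMap A Ap a * (S * T) ^ (n - 1) = v * X * algebraMap A Ap e := by
          apply mul_left_cancel₀ (pow_ne_zero (n - 1) hX)
          calc X ^ (n - 1) * (algebraMap A Ap a * (S * T) ^ (n - 1))
              = algebraMap A Ap a * (X * S * T) ^ (n - 1) := by ring
            _ = (v : Ap) * X ^ n * algebraMap A Ap e := h1
            _ = X ^ (n - 1) * (v * X * algebraMap A Ap e) := by
              have hXn : X ^ n = X ^ (n - 1) * X := by rw [← pow_succ, Nat.sub_add_cancel hn0]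
              rw [hXn]
              ring
        have hu : IsUnit ((S * T) ^ (n - 1)) :=
          ((IsLocalization.map_units Ap s).mul (IsLocalization.map_units Ap t)).pow _
        refine (hu.dvd_mul_right).mp (h2 ▸ ?_)
        exact dvd_mul_of_dvd_left (dvd_mul_left _ _) _
      obtain ⟨d, hd⟩ := hxa
      have h3 : algebraMap A Ap f ∣ algebraMap A Ap (a ^ n) := by
        refine ⟨(v⁻¹ : Apˣ) * d ^ n, ?_⟩
        rw [hx, map_pow, hd, mul_pow]
        linear_combination (-(IsLocalization.mk' Ap b s ^ n * d ^ n)) * v.mul_inv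
      obtain ⟨r, hr⟩ := h3
      obtain ⟨r', t', rfl⟩ := IsLocalization.exists_mk'_eq p.primeCompl r
      refine ⟨r', t', t'.2, ?_⟩
      have hr' : algebraMap A Ap (a ^ n * (t' : A)) = algebraMap A Ap (f * r') := by
        rw [map_mul, map_mul, hr, mul_assoc, IsLocalization.mk'_spec]
      have h4 := congrArg φ (IsLocalization.injective Ap p.primeCompl_le_nonZeroDivisors hr')
      have hφf : φ f ≠ 0 := fun h0 => hf0 (IsFractionRing.injective A _ (h0.trans (map_zero φ).symm))
      rw [map_mul, map_mul] at h4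
      rw [div_mul_eq_mul_div, div_eq_iff hφf, h4, mul_comm])
    refine ⟨c, IsFractionRing.injective A (FractionRing A) ?_⟩
    have hφf : φ f ≠ 0 := fun h0 => hf0 (IsFractionRing.injective A _ (h0.trans (map_zero φ).symm))
    rw [map_mul, hc]
    exact (mul_div_cancel₀ _ hφf).symm
  -- (2) elements of `I` are divisible by `h` in `B`
  have hI : ∀ a ∈ I, h ∣ algebraMap A B a := by
    intro a ha
    apply dvd_of_pow_dvd_pow' hn0
    obtain ⟨c, hc⟩ := ha
    exact ⟨w * algebraMap A B c, by rw [← map_pow, hc, map_mul, hf]; ring⟩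
  have hK : ∀ k ∈ K, h ^ (n - 1) ∣ algebraMap A B k := by
    intro k hk
    have : Ideal.map (algebraMap A B) K ≤ Ideal.span {h ^ (n - 1)} := by
      rw [Ideal.map_pow, ← Ideal.span_singleton_pow]
      refine Ideal.pow_right_mono (Ideal.map_le_iff_le_comap.mpr fun a ha => ?_) _
      exact Ideal.mem_span_singleton.mpr (hI a ha)
    exact Ideal.mem_span_singleton.mp (this (Ideal.mem_map_of_mem _ hk))
  -- (3) `h ∈ I B` by flatness
  have hmem : h ∈ I.map (algebraMap A B) := by
    let ψ : A →ₗ[A] (s → A ⧸ Ideal.span {f}) :=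
      LinearMap.pi fun k => (Ideal.span {f}).mkQ ∘ₗ LinearMap.mulRight A (k : A)
    have hker : LinearMap.ker ψ ≤ I := fun a ha => hcol a fun k hk => by
      rw [← Ideal.mem_span_singleton]
      rw [← hs] at hk
      induction hk using Submodule.span_induction with
      | mem x hx =>
        have := congrFun (LinearMap.mem_ker.mp ha) ⟨x, hx⟩
        exact (Submodule.Quotient.mk_eq_zero _).mp this
      | zero => rw [mul_zero]; exact zero_mem _
      | add x y _ _ hx hy => rw [mul_add]; exact add_mem hx hy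
      | smul c x _ hx =>
        rw [smul_eq_mul, mul_left_comm]
        exact Ideal.mul_mem_left _ _ hx
    have hex : Function.Exact ((LinearMap.ker ψ).subtype.lTensor B) (ψ.lTensor B) :=
      Module.Flat.lTensor_exact B (LinearMap.exact_subtype_ker_map ψ)
    have h0 : ψ.lTensor B (h ⊗ₜ[A] (1 : A)) = 0 := by
      rw [LinearMap.lTensor_tmul]
      apply (TensorProduct.piRight A A B fun _ : s => A ⧸ Ideal.span {f}).injective
      rw [map_zero]
      funext k
      rw [TensorProduct.piRight_apply, TensorProduct.piRightHom_tmul]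
      obtain ⟨c, hc⟩ := hK (k : A) (hs ▸ Submodule.subset_span k.2)
      show h ⊗ₜ[A] (Ideal.span {f}).mkQ (1 * (k : A)) = 0
      rw [one_mul]
      have : h ⊗ₜ[A] (Ideal.span {f}).mkQ (k : A) =
          ((algebraMap A B f) * ((w⁻¹ : Bˣ) * c)) ⊗ₜ[A] (Ideal.span {f}).mkQ 1 := by
        rw [show (Ideal.span {f}).mkQ (k : A) = (k : A) • (Ideal.span {f}).mkQ 1 by
          rw [← map_smul, smul_eq_mul, mul_one], ← smul_tmul, Algebra.smul_def, hc, hf]
        congr 1
        calc h ^ (n - 1) * c * h = h ^ n * c := by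
              have hhn : h ^ n = h ^ (n - 1) * h := by rw [← pow_succ, Nat.sub_add_cancel hn0]
              rw [hhn]; ring
          _ = (w : B) * h ^ n * ((w⁻¹ : Bˣ) * c) := by
              linear_combination (-(h ^ n * c)) * w.mul_inv
      rw [this, ← Algebra.smul_def, smul_tmul, ← map_smul, smul_eq_mul, mul_one,
        (Submodule.mkQ_apply _ f).trans ((Submodule.Quotient.mk_eq_zero _).mpr
          (Ideal.mem_span_singleton_self f)), tmul_zero]
    obtain ⟨z, hz⟩ := (hex _).mp h0
    have key : ∀ z : B ⊗[A] LinearMap.ker ψ,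
        TensorProduct.rid A B ((LinearMap.ker ψ).subtype.lTensor B z) ∈ I.map (algebraMap A B) := by
      intro z
      induction z with
      | zero => simp
      | add x y hx hy => rw [map_add, map_add]; exact add_mem hx hy
      | tmul b a =>
        rw [LinearMap.lTensor_tmul, TensorProduct.rid_tmul, Algebra.smul_def]
        exact Ideal.mul_mem_right _ _ (Ideal.mem_map_of_mem _ (hker a.2))
    simpa [hz] using key z
  -- (4) `I` is principal
  have hh0 : h ≠ 0 := fun h0 => hf0 (hinj (by rw [hf, h0, zero_pow hn0.ne', mul_zero, map_zero]))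
  obtain ⟨t, ht⟩ := (IsNoetherian.noetherian I : I.FG)
  choose c hc using fun a : t => hI (a : A) (ht ▸ Submodule.subset_span a.2)
  have hone : Ideal.span (Set.range c) = ⊤ := by
    rw [Ideal.eq_top_iff_one]
    rw [← ht, show Submodule.span A (t : Set A) = Ideal.span (t : Set A) from rfl, Ideal.map_span] at hmem
    have hmem' : h ∈ Ideal.span {h} * Ideal.span (Set.range c) := by
      refine (Ideal.span_le.mpr ?_) hmem
      rintro _ ⟨a, ha, rfl⟩
      show algebraMap A B a ∈ Ideal.span {h} * Ideal.span (Set.range c)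
      rw [hc ⟨a, ha⟩]
      exact Ideal.mul_mem_mul (Ideal.mem_span_singleton_self h) (Ideal.subset_span ⟨_, rfl⟩)
    rw [Ideal.mem_span_singleton_mul] at hmem'
    obtain ⟨z, hz, hz'⟩ := hmem'
    rwa [mul_right_eq_self₀.mp hz' |>.resolve_right hh0] at hz
  obtain ⟨a, ha⟩ : ∃ a : t, IsUnit (c a) := by
    by_contra hno
    push Not at hno
    have hle : Ideal.span (Set.range c) ≤ IsLocalRing.maximalIdeal B := Ideal.span_le.mpr (by
      rintro _ ⟨a, rfl⟩; exact hno a)
    rw [hone] at hle
    exact (IsLocalRing.maximalIdeal.isMaximal B).ne_top (top_le_iff.mp hle)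
  obtain ⟨cu, hcu⟩ := ha
  have hgI : (a : A) ∈ I := ht ▸ Submodule.subset_span a.2
  obtain ⟨r, hr⟩ := hgI
  have hru : IsUnit (algebraMap A B r) := by
    refine isUnit_of_mul_isUnit_right (x := (w : B)) ?_
    have h5 := congrArg (algebraMap A B) hr
    rw [map_pow, map_mul, hf, hc, mul_pow] at h5
    have h6 : (w : B) * algebraMap A B r = c a ^ n := by
      apply mul_left_cancel₀ (pow_ne_zero n hh0)
      linear_combination (-1 : B) * h5
    rw [h6, ← hcu]
    exact cu.isUnit.pow n
  obtain ⟨ru, hru'⟩ := (isUnit_map_iff (algebraMap A B) r).mp hru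
  exact ⟨a, ru⁻¹, by rw [hr, ← hru']; linear_combination (-f) * ru.mul_inv⟩

end Groth.Agent.CAlgSmall
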