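import Groth.Agent.CAlgH3.SectionCompletion

/-! Completion along a section of a smooth algebra over any ring is a power series ring. -/

set_option autoImplicit false

universe u

open IsLocalRing

namespace Groth.Agent.CAlgSmall.SectionCompletion

variable {A B : Type u} [CommRing A] [CommRing B] {r : ℕ} (f : A →+* B) (q : B →+* A)

theorem exists_equiv (hfg : (RingHom.ker q).FG) (hqf : q.comp f = RingHom.id A) (t : Fin r → B)
    (ht : ∀ i, q (t i) = 0)
    (hgen : RingHom.ker q ≤ Ideal.span (Set.range t) ⊔ RingHom.ker q ^ 2)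
    (hqr : ∀ (n : ℕ) (P : MvPolynomial (Fin r) A), P.IsHomogeneous n →
      MvPolynomial.eval₂Hom f t P ∈ RingHom.ker q ^ (n + 1) → P = 0) :
    ∃ e : AdicCompletion (RingHom.ker q) B ≃+* MvPowerSeries (Fin r) A,
      (∀ a : A, e (algebraMap B (AdicCompletion (RingHom.ker q) B) (f a)) = MvPowerSeries.C a) ∧
      ((RingHom.ker q).map (algebraMap B (AdicCompletion (RingHom.ker q) B))).map e.toRingHom =
        Ideal.span (Set.range (MvPowerSeries.X : Fin r → MvPowerSeries (Fin r) A)) := by
  classical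
  set J := RingHom.ker q with hJdef
  have hJ : J.FG := hfg
  let ev : MvPolynomial (Fin r) A →+* B := MvPolynomial.eval₂Hom f t
  have hevX : ∀ i, ev (MvPolynomial.X i) = t i := fun i => MvPolynomial.eval₂Hom_X' _ _ i
  have hevC : ∀ a, ev (MvPolynomial.C a) = f a := fun a => MvPolynomial.eval₂Hom_C _ _ a
  have hev : ∀ j, ∀ p ∈ MvPolynomial.idealOfVars (Fin r) A ^ j, ev p ∈ J ^ j := by
    intro j p hp
    have h1 : MvPolynomial.idealOfVars (Fin r) A ≤ J.comap ev := by
      rw [MvPolynomial.idealOfVars, Ideal.span_le]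
      rintro _ ⟨i, rfl⟩
      show ev (MvPolynomial.X i) ∈ J
      rw [hevX]
      exact ht i
    exact Ideal.le_comap_pow ev j (Ideal.pow_right_mono h1 j hp)
  -- approximation
  have hlin : ∀ b ∈ J, ∃ p ∈ MvPolynomial.idealOfVars (Fin r) A, b - ev p ∈ J ^ 2 := by
    intro b hb
    obtain ⟨y, hy, z, hz, rfl⟩ := Submodule.mem_sup.1 (hgen hb)
    obtain ⟨c, rfl⟩ := Ideal.mem_span_range_iff_exists_fun.1 hy
    refine ⟨∑ i, MvPolynomial.C (q (c i)) * MvPolynomial.X i,
      Ideal.sum_mem _ fun i _ => Ideal.mul_mem_left _ _ (Ideal.subset_span ⟨i, rfl⟩), ?_⟩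
    rw [map_sum, add_sub_right_comm, ← Finset.sum_sub_distrib]
    refine Ideal.add_mem _ (Ideal.sum_mem _ fun i _ => ?_) hz
    rw [map_mul, hevC, hevX, ← sub_mul, pow_two]
    refine Ideal.mul_mem_mul ?_ (ht i)
    rw [hJdef, RingHom.mem_ker, map_sub, show q (f (q (c i))) = q (c i) from RingHom.congr_fun hqf _, sub_self]
  have hpow : ∀ j, ∀ z ∈ J ^ j, ∃ p ∈ MvPolynomial.idealOfVars (Fin r) A ^ j, z - ev p ∈ J ^ (j + 1) := by
    intro j
    induction j with
    | zero =>
      intro z _
      refine ⟨MvPolynomial.C (q z), by simp, ?_⟩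
      rw [hevC, zero_add, pow_one, hJdef, RingHom.mem_ker, map_sub,
        show q (f (q z)) = q z from RingHom.congr_fun hqf _, sub_self]
    | succ j ih =>
      intro z hz
      rw [pow_succ] at hz
      refine Submodule.mul_induction_on hz (fun a ha b hb => ?_) (fun a b ha hb => ?_)
      · obtain ⟨pa, hpa, ha'⟩ := ih a ha
        obtain ⟨pb, hpb, hb'⟩ := hlin b hb
        refine ⟨pa * pb, by rw [pow_succ]; exact Ideal.mul_mem_mul hpa hpb, ?_⟩
        rw [map_mul, show a * b - ev pa * ev pb = (a - ev pa) * b + ev pa * (b - ev pb) by ring]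
        refine Ideal.add_mem _ ?_ ?_
        · rw [pow_succ _ (j + 1)]; exact Ideal.mul_mem_mul ha' hb
        · rw [show j + 1 + 1 = j + 2 from rfl, pow_add]; exact Ideal.mul_mem_mul (hev j pa hpa) hb'
      · obtain ⟨pa, hpa, ha'⟩ := ha
        obtain ⟨pb, hpb, hb'⟩ := hb
        exact ⟨pa + pb, Ideal.add_mem _ hpa hpb, by
          rw [map_add, add_sub_add_comm]; exact Ideal.add_mem _ ha' hb'⟩
  have happrox : ∀ j x, ∃ p, x - ev p ∈ J ^ j := by
    intro j
    induction j with
    | zero => exact fun x => ⟨0, by simp⟩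
    | succ j ih =>
      intro x
      obtain ⟨p, hp⟩ := ih x
      obtain ⟨p', -, hp'⟩ := hpow j _ hp
      exact ⟨p + p', by rwa [map_add, ← sub_sub]⟩
  -- injectivity
  have hker' : ∀ j p, ev p ∈ J ^ j → p ∈ MvPolynomial.idealOfVars (Fin r) A ^ j := by
    intro j
    induction j with
    | zero => intro p _; simp
    | succ j ih =>
      intro p hp
      have hpj := ih p (Ideal.pow_le_pow_right (Nat.le_succ j) hp)
      rw [MvPolynomial.mem_pow_idealOfVars_iff'] at hpj
      have hrest : p - MvPolynomial.homogeneousComponent j p ∈ MvPolynomial.idealOfVars (Fin r) A ^ (j + 1) := by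
        rw [MvPolynomial.mem_pow_idealOfVars_iff']
        intro x hx
        rw [MvPolynomial.coeff_sub, MvPolynomial.coeff_homogeneousComponent]
        rcases eq_or_lt_of_le (Nat.le_of_lt_succ hx) with h | h
        · rw [if_pos h, sub_self]
        · rw [if_neg h.ne, sub_zero]; exact hpj x h
      have h0 : MvPolynomial.homogeneousComponent j p = 0 := by
        refine hqr j _ (MvPolynomial.homogeneousComponent_isHomogeneous j p) ?_
        have := Ideal.sub_mem _ hp (hev _ _ hrest)
        rwa [← map_sub, sub_sub_cancel] at this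
      rwa [h0, sub_zero] at hrest
  -- the completion
  set Jh := J.map (algebraMap B (AdicCompletion J B)) with hJh
  haveI := AdicCompletion.isAdicComplete_self J hJ
  haveI : IsAdicComplete Jh (AdicCompletion J B) := by
    rw [hJh]; infer_instance
  let φ : MvPolynomial (Fin r) A →+* AdicCompletion J B := (algebraMap B (AdicCompletion J B)).comp ev
  have hmem : ∀ j (x : AdicCompletion J B), x ∈ Jh ^ j ↔ AdicCompletion.evalₐ J j x = 0 := by
    intro j x
    rw [hJh, ← FSchLib.ker_evalₐ J hJ j, RingHom.mem_ker]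
    rfl
  obtain ⟨e, he⟩ := CAlgH.completion_equiv_of_quotients (MvPolynomial.idealOfVars (Fin r) A) Jh φ
    (fun j => by
      ext p
      rw [Ideal.mem_comap, hmem, RingHom.comp_apply, FSchLib.evalₐ_algebraMap, Ideal.Quotient.eq_zero_iff_mem]
      exact ⟨hker' j p, hev j p⟩)
    (fun j y => by
      obtain ⟨s, hs⟩ := Ideal.Quotient.mk_surjective (AdicCompletion.evalₐ J j y)
      obtain ⟨p, hp⟩ := happrox j s
      refine ⟨p, ?_⟩
      rw [hmem, map_sub, RingHom.comp_apply, FSchLib.evalₐ_algebraMap, ← hs, ← map_sub,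
        Ideal.Quotient.eq_zero_iff_mem]
      exact hp)
  let E : MvPowerSeries (Fin r) A ≃+* AdicCompletion J B :=
    (MvPowerSeries.toAdicCompletionAlgEquiv (Fin r) A).toRingEquiv.trans e
  have hE : ∀ p : MvPolynomial (Fin r) A, E (p : MvPowerSeries (Fin r) A) = φ p := by
    intro p
    show e (MvPowerSeries.toAdicCompletionAlgEquiv (Fin r) A (p : MvPowerSeries (Fin r) A)) = φ p
    rw [MvPowerSeries.toAdicCompletionAlgEquiv_apply, MvPowerSeries.toAdicCompletion_coe, ← he p]
    congr 1
  refine ⟨E.symm, fun a => ?_, ?_⟩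
  · rw [RingEquiv.symm_apply_eq, ← MvPolynomial.coe_C, hE, RingHom.comp_apply, hevC]
  · have hgen' : Jh = Ideal.span (Set.range fun i => algebraMap B (AdicCompletion J B) (t i)) := by
      refine le_antisymm ?_ (Ideal.span_le.2 (by rintro _ ⟨i, rfl⟩; exact Ideal.mem_map_of_mem _ (ht i)))
      refine Submodule.le_of_le_smul_of_le_jacobson_bot (Ideal.FG.map hJ _)
        (IsAdicComplete.le_jacobson_bot Jh) ?_
      rw [smul_eq_mul, ← pow_two, hJh, ← Ideal.map_pow,
        show (Set.range fun i => algebraMap B (AdicCompletion J B) (t i)) =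
          algebraMap B (AdicCompletion J B) '' Set.range t by rw [← Set.range_comp]; rfl,
        ← Ideal.map_span, ← Ideal.map_sup]
      exact Ideal.map_mono hgen
    rw [hgen', Ideal.map_span, ← Set.range_comp]
    congr 2
    funext i
    show E.symm (algebraMap B (AdicCompletion J B) (t i)) = _
    rw [RingEquiv.symm_apply_eq, ← MvPolynomial.coe_X, hE, RingHom.comp_apply, hevX]

theorem section_equiv {R S : Type u} [CommRing R] [CommRing S] [Algebra R S]
    [Algebra.Smooth R S] (σ : S →ₐ[R] R) (d : ℕ)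
    (e : (RingHom.ker σ.toRingHom).Cotangent ≃ₗ[R] (Fin d → R)) :
    Nonempty (AdicCompletion (RingHom.ker σ.toRingHom) S ≃ₐ[R] MvPowerSeries (Fin d) R) := by
  classical
  let J := RingHom.ker σ.toRingHom
  have hσ : ∀ a : R, σ (algebraMap R S a) = a := fun a ↦ σ.commutes a
  have hsurj : Function.Surjective σ := fun a ↦ ⟨algebraMap R S a, hσ a⟩
  have hfg : J.FG := Algebra.FinitePresentation.ker_fG_of_surjective σ hsurj
  choose t ht using fun i : Fin d ↦ J.toCotangent_surjective (e.symm (Pi.single i 1))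
  have hsub : ∀ s : S, s - algebraMap R S (σ s) ∈ J := fun s ↦ by
    show σ (s - algebraMap R S (σ s)) = 0
    rw [map_sub, hσ, sub_self]
  let c : S → (Fin d → R) := fun s ↦ e (J.toCotangent ⟨_, hsub s⟩)
  -- `s` acts through `σ s` on `J / J²`
  have hact : ∀ (s : S) (z : J.Cotangent), s • z = σ s • z := fun s z ↦ by
    obtain ⟨y, rfl⟩ := J.toCotangent_surjective z
    rw [← algebraMap_smul S (σ s), ← map_smul, ← map_smul, Ideal.toCotangent_eq, Submodule.coe_smul,
      Submodule.coe_smul, smul_eq_mul, smul_eq_mul, ← sub_mul, pow_two]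
    exact Ideal.mul_mem_mul (hsub s) y.2
  have hJ1 : J ≤ Ideal.span (Set.range fun i ↦ (t i).1) ⊔ J ^ 2 := by
    intro x hx
    have hx' : x - ∑ i, algebraMap R S (e (J.toCotangent ⟨x, hx⟩) i) * (t i).1 ∈ J ^ 2 := by
      have h2 : J.toCotangent ⟨x, hx⟩ = J.toCotangent (∑ i, algebraMap R S (e (J.toCotangent ⟨x, hx⟩) i) • t i) := by
        apply e.injective
        simp only [map_sum, algebraMap_smul, LinearMap.map_smul_of_tower, map_smul, ht, LinearEquiv.apply_symm_apply]
        funext j
        simp [Finset.sum_apply, Pi.single_apply]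
      rw [Ideal.toCotangent_eq, AddSubmonoidClass.coe_finset_sum] at h2
      simpa [Algebra.smul_def] using h2
    rw [← sub_add_cancel x (∑ i, algebraMap R S (e (J.toCotangent ⟨x, hx⟩) i) * (t i).1), add_comm]
    exact Submodule.add_mem_sup (Ideal.sum_mem _ fun i _ ↦ Ideal.mul_mem_left _ _ (Ideal.subset_span ⟨i, rfl⟩)) hx'
  -- the linear jet
  let V := MvPolynomial.idealOfVars (Fin d) R
  let Z (n : ℕ) := MvPolynomial (Fin d) R ⧸ V ^ n
  let ℓ : (Fin d → R) →ₗ[R] Z 2 := (Ideal.Quotient.mkₐ R (V ^ 2)).toLinearMap.comp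
    (Fintype.linearCombination R (MvPolynomial.X : Fin d → MvPolynomial (Fin d) R))
  have hℓ2 : ∀ v w, ℓ v * ℓ w = 0 := fun v w ↦ by
    show Ideal.Quotient.mk _ _ * Ideal.Quotient.mk _ _ = 0
    rw [← map_mul, Ideal.Quotient.eq_zero_iff_mem, pow_two]
    have hv : ∀ v : Fin d → R, Fintype.linearCombination R (MvPolynomial.X : Fin d → MvPolynomial (Fin d) R) v ∈ V :=
      fun v ↦ by
        rw [Fintype.linearCombination_apply]
        exact Ideal.sum_mem _ fun i _ ↦ Submodule.smul_of_tower_mem _ _ (Ideal.subset_span ⟨i, rfl⟩)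
    exact Ideal.mul_mem_mul (hv v) (hv w)
  have hcadd : ∀ a b, c (a + b) = c a + c b := fun a b ↦ by
    rw [← map_add, ← map_add]
    exact congrArg (e ∘ J.toCotangent) (Subtype.ext (by
      show a + b - algebraMap R S (σ (a + b)) = (a - algebraMap R S (σ a)) + (b - algebraMap R S (σ b))
      rw [map_add, map_add]; ring))
  have hcC : ∀ a, c (algebraMap R S a) = 0 := fun a ↦ by
    rw [← map_zero e, ← map_zero J.toCotangent]
    exact congrArg (e ∘ J.toCotangent) (Subtype.ext (by
      show algebraMap R S a - algebraMap R S (σ (algebraMap R S a)) = 0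
      rw [hσ, sub_self]))
  have hcmul : ∀ a b, c (a * b) = σ a • c b + σ b • c a := fun a b ↦ by
    show e _ = σ a • e _ + σ b • e _
    rw [← map_smul e, ← map_smul e, ← map_add, ← hact, ← algebraMap_smul S (σ b), ← LinearMap.map_smul, ← LinearMap.map_smul, ← map_add]
    exact congrArg (e ∘ J.toCotangent) (Subtype.ext (by
      show a * b - algebraMap R S (σ (a * b)) =
        a * (b - algebraMap R S (σ b)) + algebraMap R S (σ b) * (a - algebraMap R S (σ a))
      rw [map_mul, map_mul]; ring))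
  have hℓs : ∀ (a : R) v, ℓ (a • v) = algebraMap R (Z 2) a * ℓ v := fun a v ↦ by
    show Ideal.Quotient.mk (V ^ 2) _ = Ideal.Quotient.mk (V ^ 2) (MvPolynomial.C a) * Ideal.Quotient.mk (V ^ 2) _
    rw [map_smul, MvPolynomial.smul_eq_C_mul, map_mul]
  let ψ : S →ₐ[R] Z 2 :=
    { toFun := fun s ↦ algebraMap R (Z 2) (σ s) + ℓ (c s)
      map_one' := by
        show algebraMap R (Z 2) (σ 1) + ℓ (c 1) = 1
        rw [← map_one (algebraMap R S), hcC, hσ, map_one, map_zero, add_zero]
      map_zero' := by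
        show algebraMap R (Z 2) (σ 0) + ℓ (c 0) = 0
        rw [← map_zero (algebraMap R S), hcC, hσ, map_zero, map_zero, add_zero]
      map_add' := fun a b ↦ by
        show algebraMap R (Z 2) (σ (a + b)) + ℓ (c (a + b)) = _ + _
        rw [hcadd, map_add, map_add, map_add]; ring
      map_mul' := fun a b ↦ by
        show algebraMap R (Z 2) (σ (a * b)) + ℓ (c (a * b)) = _ * _
        rw [hcmul, map_mul, map_mul, map_add, hℓs, hℓs]
        linear_combination -(hℓ2 (c a) (c b))
      commutes' := fun a ↦ by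
        show algebraMap R (Z 2) (σ (algebraMap R S a)) + ℓ (c (algebraMap R S a)) = _
        rw [hcC, hσ, map_zero, add_zero] }
  have hψt : ∀ i, ψ (t i).1 = Ideal.Quotient.mk (V ^ 2) (MvPolynomial.X i) := fun i ↦ by
    show algebraMap R (Z 2) (σ (t i).1) + ℓ (c (t i).1) = _
    have hc : c (t i).1 = Pi.single i 1 := by
      show e _ = _
      rw [show J.toCotangent ⟨(t i).1 - algebraMap R S (σ (t i).1), hsub _⟩ = J.toCotangent (t i) from
        congrArg _ (Subtype.ext (by
          show (t i).1 - algebraMap R S (σ (t i).1) = (t i).1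
          rw [show σ (t i).1 = 0 from (t i).2, map_zero, sub_zero])), ht, LinearEquiv.apply_symm_apply]
    rw [hc, show σ (t i).1 = 0 from (t i).2, map_zero, zero_add]
    show Ideal.Quotient.mk _ _ = _
    rw [Fintype.linearCombination_apply_single, one_smul]
  have hqr : ∀ (n : ℕ) (P : MvPolynomial (Fin d) R), P.IsHomogeneous n →
      MvPolynomial.eval₂Hom (algebraMap R S) (fun i ↦ (t i).1) P ∈ J ^ (n + 1) → P = 0 := by
    intro n P hP hPJ
    suffices h : P ∈ V ^ (n + 1) by
      rw [MvPolynomial.mem_pow_idealOfVars_iff'] at h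
      refine MvPolynomial.ext _ _ fun m ↦ ?_
      rw [MvPolynomial.coeff_zero]
      by_contra hm
      exact hm (h m (by rw [Finsupp.degree_eq_weight_one]; exact Nat.lt_succ_of_le (hP hm).le))
    rcases Nat.eq_zero_or_pos n with rfl | hn
    · obtain ⟨a, rfl⟩ : ∃ a, P = MvPolynomial.C a :=
        ⟨_, MvPolynomial.totalDegree_eq_zero_iff_eq_C.mp (Nat.le_zero.mp hP.totalDegree_le)⟩
      rw [MvPolynomial.eval₂Hom_C, zero_add, pow_one] at hPJ
      have : σ (algebraMap R S a) = 0 := hPJ
      rw [hσ] at this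
      simp [this]
    let g : Z (n + 1) →ₐ[R] Z 2 := Ideal.Quotient.factorₐ R (Ideal.pow_le_pow_right (by omega))
    have hg : Function.Surjective g := fun z ↦ by
      obtain ⟨z, rfl⟩ := Ideal.Quotient.mk_surjective z
      exact ⟨Ideal.Quotient.mk _ z, rfl⟩
    have hnil : IsNilpotent (RingHom.ker (g : Z (n + 1) →+* Z 2)) := by
      refine ⟨n + 1, ?_⟩
      have hle : RingHom.ker (g : Z (n + 1) →+* Z 2) ≤ V.map (Ideal.Quotient.mk (V ^ (n + 1))) := by
        intro z hz
        obtain ⟨z, rfl⟩ := Ideal.Quotient.mk_surjective z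
        exact Ideal.mem_map_of_mem _ (Ideal.pow_le_self two_ne_zero (Ideal.Quotient.eq_zero_iff_mem.mp hz))
      refine eq_bot_iff.mpr ((Ideal.pow_right_mono hle _).trans ?_)
      rw [← Ideal.map_pow, Ideal.map_quotient_self]
    let χ : S →ₐ[R] Z (n + 1) := Algebra.FormallySmooth.liftOfSurjective ψ g hg hnil
    have hχ : ∀ s, g (χ s) = ψ s := fun s ↦ Algebra.FormallySmooth.liftOfSurjective_apply ψ g hg hnil s
    choose h hh using fun i ↦ Ideal.Quotient.mk_surjective (χ (t i).1)
    have hh2 : ∀ i, h i - MvPolynomial.X i ∈ V ^ 2 := fun i ↦ by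
      rw [← Ideal.Quotient.mk_eq_mk_iff_sub_mem, ← hψt, ← hχ, ← hh]
      rfl
    have hJV : ∀ x ∈ J, χ x ∈ V.map (Ideal.Quotient.mk (V ^ (n + 1))) := by
      intro x hx
      obtain ⟨z, hz⟩ := Ideal.Quotient.mk_surjective (χ x)
      rw [← hz]
      refine Ideal.mem_map_of_mem _ ?_
      have h1 := hχ x
      rw [← hz] at h1
      change Ideal.Quotient.mk (V ^ 2) z = algebraMap R (Z 2) (σ x) + ℓ (c x) at h1
      rw [show σ x = 0 from hx, map_zero, zero_add] at h1
      change _ = Ideal.Quotient.mk (V ^ 2) _ at h1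
      rw [Ideal.Quotient.mk_eq_mk_iff_sub_mem] at h1
      have h2 := Ideal.pow_le_self two_ne_zero h1
      have h3 : Fintype.linearCombination R (MvPolynomial.X : Fin d → MvPolynomial (Fin d) R) (c x) ∈ V := by
        rw [Fintype.linearCombination_apply]
        exact Ideal.sum_mem _ fun i _ ↦ Submodule.smul_of_tower_mem _ _ (Ideal.subset_span ⟨i, rfl⟩)
      simpa using V.add_mem h2 h3
    have hχP : χ (MvPolynomial.eval₂Hom (algebraMap R S) (fun i ↦ (t i).1) P) = 0 := by
      have h1 : χ (MvPolynomial.eval₂Hom (algebraMap R S) (fun i ↦ (t i).1) P) ∈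
          (J ^ (n + 1)).map χ.toRingHom := Ideal.mem_map_of_mem _ hPJ
      rw [Ideal.map_pow] at h1
      have h2 := Ideal.pow_right_mono ((Ideal.map_le_iff_le_comap (f := χ.toRingHom) (K := V.map (Ideal.Quotient.mk (V ^ (n + 1))))).mpr fun x hx ↦ hJV x hx) (n + 1) h1
      rw [← Ideal.map_pow, Ideal.map_quotient_self] at h2
      exact h2
    have hsubst : χ (MvPolynomial.eval₂Hom (algebraMap R S) (fun i ↦ (t i).1) P) =
        Ideal.Quotient.mk (V ^ (n + 1)) (MvPolynomial.aeval h P) := by
      have he : χ.comp (MvPolynomial.aeval fun i ↦ (t i).1) =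
          (Ideal.Quotient.mkₐ R (V ^ (n + 1))).comp (MvPolynomial.aeval h) :=
        MvPolynomial.algHom_ext fun i ↦ by simp [hh]
      exact DFunLike.congr_fun he P
    rw [hsubst, Ideal.Quotient.eq_zero_iff_mem] at hχP
    have hmono : ∀ m : Fin d →₀ ℕ,
        (∏ i ∈ m.support, h i ^ m i) - (∏ i ∈ m.support, (MvPolynomial.X i : MvPolynomial (Fin d) R) ^ m i) ∈
          V ^ (m.degree + 1) ∧ (∏ i ∈ m.support, h i ^ m i) ∈ V ^ m.degree ∧
          (∏ i ∈ m.support, (MvPolynomial.X i : MvPolynomial (Fin d) R) ^ m i) ∈ V ^ m.degree := by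
      have hX : ∀ i, (MvPolynomial.X i : MvPolynomial (Fin d) R) ∈ V := fun i ↦ Ideal.subset_span ⟨i, rfl⟩
      have hhV : ∀ i, h i ∈ V := fun i ↦ by
        simpa using V.add_mem (Ideal.pow_le_self two_ne_zero (hh2 i)) (hX i)
      have hp : ∀ i k, h i ^ k - MvPolynomial.X i ^ k ∈ V ^ (k + 1) := fun i k ↦ by
        induction k with
        | zero => simp
        | succ k ih =>
          rw [show h i ^ (k + 1) - MvPolynomial.X i ^ (k + 1) =
            (h i ^ k - MvPolynomial.X i ^ k) * h i + MvPolynomial.X i ^ k * (h i - MvPolynomial.X i) by ring]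
          refine Ideal.add_mem _ ?_ ?_
          · rw [pow_succ _ (k + 1)]; exact Ideal.mul_mem_mul ih (hhV i)
          · rw [show k + 1 + 1 = k + 2 from rfl, pow_add]
            exact Ideal.mul_mem_mul (Ideal.pow_mem_pow (hX i) k) (hh2 i)
      intro m
      rw [Finsupp.degree_apply]
      induction m.support using Finset.induction with
      | empty => simp
      | insert a s ha ih =>
        obtain ⟨ih1, ih2, ih3⟩ := ih
        simp only [Finset.prod_insert ha, Finset.sum_insert ha]
        refine ⟨?_, by rw [pow_add]; exact Ideal.mul_mem_mul (Ideal.pow_mem_pow (hhV a) _) ih2,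
          by rw [pow_add]; exact Ideal.mul_mem_mul (Ideal.pow_mem_pow (hX a) _) ih3⟩
        rw [show h a ^ m a * (∏ i ∈ s, h i ^ m i) - MvPolynomial.X a ^ m a * (∏ i ∈ s, MvPolynomial.X i ^ m i) =
          (h a ^ m a - MvPolynomial.X a ^ m a) * (∏ i ∈ s, h i ^ m i) +
            MvPolynomial.X a ^ m a * ((∏ i ∈ s, h i ^ m i) - ∏ i ∈ s, MvPolynomial.X i ^ m i) by ring]
        refine Ideal.add_mem _ ?_ ?_
        · rw [add_right_comm, pow_add]; exact Ideal.mul_mem_mul (hp a _) ih2
        · rw [add_assoc, pow_add]; exact Ideal.mul_mem_mul (Ideal.pow_mem_pow (hX a) _) ih1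
    have hdiff : MvPolynomial.aeval h P - P ∈ V ^ (n + 1) := by
      have key : ∀ S' : Finset (Fin d →₀ ℕ), (∀ m ∈ S', m.degree = n) →
          MvPolynomial.aeval h (∑ m ∈ S', MvPolynomial.monomial m (P.coeff m)) -
            (∑ m ∈ S', MvPolynomial.monomial m (P.coeff m)) ∈ V ^ (n + 1) := fun S' hS' ↦ by
        rw [map_sum, ← Finset.sum_sub_distrib]
        refine Ideal.sum_mem _ fun m hm ↦ ?_
        rw [MvPolynomial.aeval_monomial, MvPolynomial.monomial_eq, Finsupp.prod, Finsupp.prod,
          ← MvPolynomial.algebraMap_eq, ← mul_sub]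
        exact Ideal.mul_mem_left _ _ (hS' m hm ▸ (hmono m).1)
      have := key P.support fun m hm ↦ by
        rw [Finsupp.degree_eq_weight_one]; exact hP (MvPolynomial.mem_support_iff.mp hm)
      rwa [← P.as_sum] at this
    simpa using Ideal.sub_mem _ hχP hdiff
  obtain ⟨E, hEC, -⟩ := exists_equiv (algebraMap R S) σ.toRingHom hfg
    (RingHom.ext hσ) (fun i ↦ (t i).1) (fun i ↦ (t i).2) hJ1 hqr
  refine ⟨AlgEquiv.ofRingEquiv (f := E) fun a ↦ ?_⟩
  rw [IsScalarTower.algebraMap_apply R S (AdicCompletion (RingHom.ker σ.toRingHom) S), hEC]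
  rfl

end Groth.Agent.CAlgSmall.SectionCompletion
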