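import Groth.Agent.DRingLib.PCColimit
import Groth.Agent.DRingLib.PCBase
import Groth.Prelude.Def_DRing2
import Mathlib.RingTheory.Filtration

/-! Cocycle model for maps from a K-projective complex to shifted modules; Artin–Rees for `Ext`. -/

set_option autoImplicit false
set_option backward.isDefEq.respectTransparency false
set_option backward.defeqAttrib.useBackward true
set_option linter.style.haveILetI false

universe u

open CategoryTheory CategoryTheory.Limits HomologicalComplex
attribute [local instance] HasDerivedCategory.standard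

namespace Groth.Agent.CAlgSmall.SingleExt

variable {A : Type u} [CommRing A]

local notation "Sx" i:max => CochainComplex.singleFunctor (ModuleCat A) i

lemma ιnat' (n : ℤ) {X Y : ModuleCat.{u} A} (g : X ⟶ Y) :
    (DCat.Amplitude.shiftSingleIso n X).inv ≫
      (shiftFunctor (Dual.D A) n).map ((DerivedCategory.singleFunctor (ModuleCat.{u} A) 0).map g) =
        DerivedCategory.Q.map ((CochainComplex.singleFunctor (ModuleCat.{u} A) (-n)).map g) ≫
          (DCat.Amplitude.shiftSingleIso n Y).inv := by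
  have h1 := ((DerivedCategory.singleFunctors (ModuleCat.{u} A)).shiftIso n (-n) 0 (by omega)).hom.naturality g
  have h2 := (DerivedCategory.singleFunctorIsoCompQ (ModuleCat.{u} A) (-n)).hom.naturality g
  have h : (shiftFunctor (Dual.D A) n).map ((DerivedCategory.singleFunctor (ModuleCat.{u} A) 0).map g) ≫
      (DCat.Amplitude.shiftSingleIso n Y).hom = (DCat.Amplitude.shiftSingleIso n X).hom ≫
        DerivedCategory.Q.map ((CochainComplex.singleFunctor (ModuleCat.{u} A) (-n)).map g) := by
    simp only [DCat.Amplitude.shiftSingleIso, Iso.trans_hom, Iso.app_hom]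
    exact (Category.assoc _ _ _).symm.trans ((congrArg (· ≫ _) h1).trans
      ((Category.assoc _ _ _).trans ((congrArg _ h2).trans (Category.assoc _ _ _).symm)))
  exact (Iso.inv_comp_eq _).2 (((Category.assoc _ _ _).symm.trans ((congrArg (· ≫ _) h.symm).trans
    ((Category.assoc _ _ _).trans ((congrArg _ (Iso.hom_inv_id _)).trans (Category.comp_id _))))).symm)

variable (P : DRing.Cx A) (i : ℤ)

/-- Cocycles with values in `X`. -/
noncomputable def Cyc (X : ModuleCat.{u} A) : Submodule A (P.X (-i) ⟶ X) :=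
  LinearMap.ker (Linear.leftComp A X (P.d (-i - 1) (-i)))

theorem mem_Cyc {X : ModuleCat.{u} A} (φ : P.X (-i) ⟶ X) :
    φ ∈ Cyc P i X ↔ P.d (-i - 1) (-i) ≫ φ = 0 := LinearMap.mem_ker

/-- The chain map attached to a cocycle. -/
noncomputable def chainMap {X : ModuleCat.{u} A} (φ : Cyc P i X) : P ⟶ (Sx (-i)).obj X :=
  mkHomToSingle φ.1 fun k hk => by
    obtain rfl : k = -i - 1 := by simp at hk; omega
    exact (mem_Cyc P i φ.1).1 φ.2

/-- The class of a cocycle. -/
noncomputable def cls (X : ModuleCat.{u} A) :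
    Cyc P i X →ₗ[A] (DRing.toD P ⟶ (Dual.inD A X)⟦i⟧) where
  toFun φ := DerivedCategory.Q.map (chainMap P i φ) ≫ (DCat.Amplitude.shiftSingleIso i X).inv
  map_add' φ ψ := by
    have h : chainMap P i (φ + ψ) = chainMap P i φ + chainMap P i ψ := by
      apply to_single_hom_ext
      simp [chainMap]
    rw [h, Functor.map_add]
    exact Preadditive.add_comp _ _ _ _ _ _
  map_smul' a φ := by
    have h : chainMap P i (a • φ) = a • chainMap P i φ := by
      apply to_single_hom_ext
      simp [chainMap]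
    rw [h, Functor.map_smul]
    exact Linear.smul_comp _ _ _ _ _ _

theorem cls_naturality {X Y : ModuleCat.{u} A} (g : X ⟶ Y) (φ : Cyc P i X)
    (h : φ.1 ≫ g ∈ Cyc P i Y) :
    cls P i Y ⟨φ.1 ≫ g, h⟩ =
      cls P i X φ ≫ ((DerivedCategory.singleFunctor (ModuleCat.{u} A) 0).map g)⟦i⟧' := by
  have h1 : chainMap P i ⟨φ.1 ≫ g, h⟩ = chainMap P i φ ≫ (Sx (-i)).map g := by
    apply to_single_hom_ext
    simp [chainMap, CochainComplex.singleFunctor, CochainComplex.singleFunctors, single_map_f_self]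
  show DerivedCategory.Q.map _ ≫ _ = (DerivedCategory.Q.map _ ≫ _) ≫ _
  rw [h1, Functor.map_comp, Category.assoc]
  exact (congrArg _ (ιnat' i g).symm).trans (Category.assoc _ _ _).symm

theorem mem_Cyc_comp {X Y : ModuleCat.{u} A} (g : X ⟶ Y) (φ : Cyc P i X) : φ.1 ≫ g ∈ Cyc P i Y := by
  rw [mem_Cyc, ← Category.assoc, (mem_Cyc P i φ.1).1 φ.2, zero_comp]

variable [P.IsKProjective]

theorem cls_surjective (X : ModuleCat.{u} A) : Function.Surjective (cls P i X) := by
  intro x
  obtain ⟨g, hg⟩ := DRingLib.exists_Q_map (P := P) (L := (Sx (-i)).obj X)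
    (x ≫ (DCat.Amplitude.shiftSingleIso i X).hom)
  let φ : P.X (-i) ⟶ X := g.f (-i) ≫ (singleObjXSelf (ComplexShape.up ℤ) (-i) X).hom
  have hφ : φ ∈ Cyc P i X := by
    rw [mem_Cyc]
    simp only [φ]
    rw [← g.comm_assoc]
    simp [CochainComplex.singleFunctor, CochainComplex.singleFunctors]
  refine ⟨⟨φ, hφ⟩, ?_⟩
  have h1 : chainMap P i ⟨φ, hφ⟩ = g := by
    apply to_single_hom_ext
    simp [chainMap, φ]
  show DerivedCategory.Q.map _ ≫ _ = x
  rw [h1, hg, Category.assoc]
  exact (congrArg _ (Iso.hom_inv_id _)).trans (Category.comp_id _)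

theorem cls_eq_zero_iff {X : ModuleCat.{u} A} (φ : Cyc P i X) (r : ℤ) (hr : -i + 1 = r) :
    cls P i X φ = 0 ↔ ∃ h : P.X r ⟶ X, φ.1 = P.d (-i) r ≫ h := by
  subst hr
  have h0 : cls P i X φ = 0 ↔ DerivedCategory.Q.map (chainMap P i φ) = 0 := by
    show DerivedCategory.Q.map (chainMap P i φ) ≫ _ = 0 ↔ _
    refine ⟨fun h => ?_, fun h => ?_⟩
    · rw [← cancel_mono (DCat.Amplitude.shiftSingleIso i X).inv, zero_comp]; exact h
    · rw [h]; exact zero_comp
  rw [h0, DRingLib.Q_map_single_eq_zero_iff]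
  refine exists_congr fun h => ?_
  have hf : (chainMap P i φ).f (-i) ≫ (singleObjXSelf (ComplexShape.up ℤ) (-i) X).hom = φ.1 := by
    simp [chainMap]
  rw [hf]

section Hom

variable {E X : ModuleCat.{u} A}

/-- `y ↦ coord_j • y`. -/
noncomputable def rankOne {ι : Type u} (b : Module.Basis ι A E) (j : ι) : X →ₗ[A] (E ⟶ X) where
  toFun y := ModuleCat.ofHom ((b.coord j).smulRight y)
  map_add' y z := by ext x; simp
  map_smul' a y := by ext x; exact smul_comm _ a y

theorem eq_sum_rankOne {ι : Type u} [Fintype ι] (b : Module.Basis ι A E) (g : E ⟶ X) :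
    g = ∑ j, rankOne b j (g (b j)) := by
  classical
  refine ModuleCat.hom_ext (b.ext fun k => ?_)
  simp only [ModuleCat.hom_sum, LinearMap.coe_sum, Finset.sum_apply]
  rw [Finset.sum_eq_single k]
  · simp [rankOne]
  · intro j _ hj
    simp [rankOne, hj.symm]
  · simp

theorem mem_smul_hom [Module.Finite A E] [Module.Free A E] (J : Ideal A) (g : E ⟶ X)
    (hg : ∀ x, g x ∈ J • (⊤ : Submodule A X)) : g ∈ J • (⊤ : Submodule A (E ⟶ X)) := by
  classical
  rw [eq_sum_rankOne (Module.Free.chooseBasis A E) g]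
  refine Submodule.sum_mem _ fun j _ => ?_
  have h := Submodule.mem_map_of_mem (f := rankOne (X := X) (Module.Free.chooseBasis A E) j)
    (hg (Module.Free.chooseBasis A E j))
  rw [Submodule.map_smul''] at h
  exact Submodule.smul_mono le_rfl le_top h

theorem finite_hom [Module.Finite A E] [Module.Free A E] [Module.Finite A X] :
    Module.Finite A (E ⟶ X) := by
  classical
  refine Module.Finite.of_surjective
    (∑ j, rankOne (X := X) (Module.Free.chooseBasis A E) j ∘ₗ
      LinearMap.proj (R := A) (φ := fun _ : Module.Free.ChooseBasisIndex A E => X) j) fun g => ?_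
  refine ⟨fun j => g (Module.Free.chooseBasis A E j), ?_⟩
  rw [LinearMap.sum_apply]
  exact (eq_sum_rankOne _ g).symm

end Hom

variable [IsNoetherianRing A]

theorem finite_shiftHom (X : ModuleCat.{u} A) [Module.Finite A X] (hf : DRing.TermwiseFiniteFree P) :
    Module.Finite A (DRing.toD P ⟶ (Dual.inD A X)⟦i⟧) := by
  haveI := (hf (-i)).1
  haveI := (hf (-i)).2
  haveI := finite_hom (E := P.X (-i)) (X := X)
  exact Module.Finite.of_surjective _ (cls_surjective P i X)

/-- Artin–Rees: cocycles with values in `Iⁿ X` have classes in `Iⁿ⁻ᶜ Ext`. -/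
theorem exists_cls_mem (I : Ideal A) (X : ModuleCat.{u} A) [Module.Finite A X]
    (hf : DRing.TermwiseFiniteFree P) :
    ∃ c : ℕ, ∀ (n : ℕ) (φ : Cyc P i X), (∀ x, φ.1 x ∈ I ^ n • (⊤ : Submodule A X)) →
      cls P i X φ ∈ I ^ (n - c) • (⊤ : Submodule A (DRing.toD P ⟶ (Dual.inD A X)⟦i⟧)) := by
  haveI := (hf (-i)).1
  haveI := (hf (-i)).2
  haveI := finite_hom (E := P.X (-i)) (X := X)
  obtain ⟨c, hc⟩ := Ideal.exists_pow_inf_eq_pow_smul I (Cyc P i X)
  refine ⟨c, fun n φ hφ => ?_⟩
  rcases le_total c n with h | h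
  · have h1 : φ.1 ∈ I ^ (n - c) • (Cyc P i X) := by
      refine Submodule.smul_mono le_rfl inf_le_right ((hc n h).le ?_)
      exact ⟨mem_smul_hom (I ^ n) φ.1 hφ, φ.2⟩
    have h2 : φ ∈ I ^ (n - c) • (⊤ : Submodule A (Cyc P i X)) := by
      have h3 : φ.1 ∈ (I ^ (n - c) • (⊤ : Submodule A (Cyc P i X))).map (Cyc P i X).subtype := by
        rw [Submodule.map_smul'', Submodule.map_subtype_top]; exact h1
      obtain ⟨φ', hφ', he⟩ := h3
      rwa [Subtype.ext (a1 := φ') (a2 := φ) he] at hφ'
    have h4 := Submodule.mem_map_of_mem (f := cls P i X) h2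
    rw [Submodule.map_smul''] at h4
    exact Submodule.smul_mono le_rfl le_top h4
  · rw [Nat.sub_eq_zero_of_le h, pow_zero, Ideal.one_eq_top, Submodule.top_smul]
    trivial

/-- Finite torsion modules are killed by one power. -/
theorem exists_pow_smul_top_eq_bot (I : Ideal A) {H : Type*} [AddCommGroup H] [Module A H]
    [Module.Finite A H] (h : ∀ e : H, ∃ n : ℕ, ∀ x ∈ I ^ n, x • e = 0) :
    ∃ n : ℕ, I ^ n • (⊤ : Submodule A H) = ⊥ := by
  classical
  obtain ⟨t, ht⟩ := (Module.Finite.fg_top : (⊤ : Submodule A H).FG)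
  choose n hn using h
  refine ⟨t.sup n, ?_⟩
  rw [← ht, eq_bot_iff, Submodule.smul_le]
  intro x hx y hy
  refine (Submodule.mem_bot A).2 ?_
  induction hy using Submodule.span_induction with
  | mem z hz => exact hn z x (Ideal.pow_le_pow_right (Finset.le_sup hz) hx)
  | zero => exact smul_zero x
  | add a b _ _ ha hb => rw [smul_add, ha, hb, add_zero]
  | smul a b _ hb => rw [smul_comm, hb, smul_zero]

end Groth.Agent.CAlgSmall.SingleExt
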