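import Groth.Agent.CAlgSmall.UnibranchHull
import Groth.Agent.HenselLib.HullWEt
import Groth.Agent.HenselLib.WEtale
import Groth.Agent.HenselLib.PtPrime
import Groth.Agent.HenselLib.LocalInt
import Groth.Agent.Et18.SHull
import Groth.Agent.Desc19b.NormalSmooth
import Mathlib.RingTheory.Spectrum.Prime.Homeomorph
import Mathlib.RingTheory.RingHom.Flat

/-!
# Smooth maps preserve the number of branches

Core: `HA → B` a local map of henselian local rings, `HA` weakly étale over `R`, `B` a filtered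
union of étale algebras over a smooth `R`-algebra `S`, and `L ⊗ κ(B)` with one prime for every
algebraic extension `L` of `κ(HA)`.  Then contraction is a bijection on minimal primes.
-/

universe u

set_option autoImplicit false

open TensorProduct IsLocalRing

namespace Groth.Agent.CAlgSmall.SmoothBranches

theorem ker_le_of_le {T : Type u} [CommRing T] {M Q : Ideal T} [M.IsPrime] [Q.IsPrime] (h : Q ≤ M) :
    RingHom.ker (algebraMap T (Localization.AtPrime M)) ≤ Q := by
  intro w hw
  obtain ⟨s, hs⟩ := (IsLocalization.map_eq_zero_iff M.primeCompl _ w).1 hw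
  exact ((inferInstance : Q.IsPrime).mem_or_mem (hs ▸ Submodule.zero_mem _)).resolve_left
    fun h' => s.2 (h h')

/-- Two minimal primes below a point where the local ring is a domain agree, seen from a flat algebra. -/
theorem mem_of_flat_stage {C T D : Type u} [CommRing C] [IsDomain C] [IsIntegrallyClosed C]
    [CommRing T] [Algebra C T] [Algebra.Smooth C T] [CommRing D] (f : T →+* D) (hf : f.Flat)
    {M Q₁ Q₂ : Ideal D} (hM : M.IsPrime) (hQ₁ : Q₁ ∈ minimalPrimes D) (hQ₂ : Q₂ ∈ minimalPrimes D)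
    (h₁ : Q₁ ≤ M) (h₂ : Q₂ ≤ M) (x : T) (hx : f x ∈ Q₁) : f x ∈ Q₂ := by
  haveI := hM
  haveI := hQ₁.1.1
  haveI := hQ₂.1.1
  algebraize [f]
  have hm₁ := UnibranchHull.comap_mem_minimalPrimes (R := T) hQ₁
  have hm₂ := UnibranchHull.comap_mem_minimalPrimes (R := T) hQ₂
  obtain ⟨hdom, -⟩ := Desc19b.normal_localization_of_smooth C T (M.comap (algebraMap T D))
  haveI := hdom
  haveI hk : (RingHom.ker (algebraMap T (Localization.AtPrime (M.comap (algebraMap T D))))).IsPrime :=
    RingHom.ker_isPrime _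
  have e₁ := hm₁.2 ⟨hk, bot_le⟩ (ker_le_of_le (Ideal.comap_mono h₁))
  have k₂ := ker_le_of_le (M := M.comap (algebraMap T D)) (Q := Q₂.comap (algebraMap T D))
    (Ideal.comap_mono h₂)
  exact k₂ (e₁ hx)

variable {R S HA B : Type u} [CommRing R] [CommRing S] [Algebra R S] [Algebra.Smooth R S]
  [CommRing HA] [HenselianLocalRing HA] [CommRing B] [HenselianLocalRing B]
  [Algebra R HA] [Algebra S B] [Algebra R B] [IsScalarTower R S B] [Algebra HA B]
  [IsScalarTower R HA B] [IsLocalHom (algebraMap HA B)] [Algebra.WeaklyEtale R HA]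
  [Algebra.WeaklyEtale S B]

include R S in
theorem flat_target : Module.Flat HA B := by
  haveI : Module.Flat R B := Module.Flat.trans R S B
  exact HenselLib.WEt.flat_of_flat_lmul (Algebra.WeaklyEtale.flat_lmul' R HA) B

variable (hfield : ∀ (L : Type u) [Field L] [Algebra (ResidueField HA) L]
    [Algebra.IsIntegral (ResidueField HA) L],
    Subsingleton (PrimeSpectrum (L ⊗[ResidueField HA] ResidueField B)))
  (hstage : ∀ F : Finset B, ∃ (E : Type u) (_ : CommRing E) (_ : Algebra S E) (_ : Algebra.Etale S E)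
    (f : E →ₐ[S] B), ∀ b ∈ F, b ∈ Set.range f)

section Normal

variable (C : Type u) [CommRing C] [IsDomain C] [IsLocalRing C] [IsIntegrallyClosed C]
  [Algebra HA C] [Algebra.IsIntegral HA C] [Algebra R C] [IsScalarTower R HA C]

include hfield in
theorem maximal_unique (M N : Ideal (C ⊗[HA] B)) (hM : M.IsMaximal) (hN : N.IsMaximal) : M = N := by
  have := HenselLib.LocalInt.isLocalHom_of_isIntegral (A := HA) C
  have : Algebra.IsIntegral HA (ResidueField C) := Algebra.IsIntegral.trans C
  have : Algebra.IsIntegral (ResidueField HA) (ResidueField C) := Algebra.IsIntegral.tower_top HA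
  letI := Algebra.TensorProduct.rightAlgebra (R := HA) (A := C) (B := B)
  haveI : Algebra.IsIntegral B (C ⊗[HA] B) :=
    Algebra.IsIntegral.of_surjective (Algebra.TensorProduct.commRight HA B C).toAlgHom
      (Algebra.TensorProduct.commRight HA B C).surjective
  let E := ResidueField C ⊗[ResidueField HA] ResidueField B
  let π : C ⊗[HA] B →ₐ[HA] E := Algebra.TensorProduct.lift
    (((Algebra.TensorProduct.includeLeft : ResidueField C →ₐ[ResidueField HA] E).restrictScalars HA).comp
      (IsScalarTower.toAlgHom HA C (ResidueField C)))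
    (((Algebra.TensorProduct.includeRight : ResidueField B →ₐ[ResidueField HA] E).restrictScalars HA).comp
      (IsScalarTower.toAlgHom HA B (ResidueField B))) fun _ _ => Commute.all _ _
  have key : ∀ M : Ideal (C ⊗[HA] B), M.IsMaximal → ∃ P : Ideal E, P.IsPrime ∧ P.comap π.toRingHom = M := by
    intro M hM
    haveI := hM
    letI : Field ((C ⊗[HA] B) ⧸ M) := Ideal.Quotient.field M
    let mB : B →+* (C ⊗[HA] B) ⧸ M :=
      (Ideal.Quotient.mk M).comp (Algebra.TensorProduct.includeRight : B →ₐ[HA] C ⊗[HA] B).toRingHom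
    let mC : C →+* (C ⊗[HA] B) ⧸ M :=
      (Ideal.Quotient.mk M).comp (algebraMap C (C ⊗[HA] B))
    have hmA : ∀ a, mC (algebraMap HA C a) = mB (algebraMap HA B a) := fun a =>
      congrArg (Ideal.Quotient.mk M)
        (((Algebra.TensorProduct.includeLeft : C →ₐ[HA] C ⊗[HA] B).commutes a).trans
          ((Algebra.TensorProduct.includeRight : B →ₐ[HA] C ⊗[HA] B).commutes a).symm)
    have hMB : ∀ x ∈ maximalIdeal B, mB x = 0 := fun x hx => by
      have hmax := eq_maximalIdeal
        (Ideal.isMaximal_comap_of_isIntegral_of_isMaximal (R := B) (S := C ⊗[HA] B) M)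
      exact Ideal.Quotient.eq_zero_iff_mem.2 (hmax.ge hx)
    have hMC : ∀ x ∈ maximalIdeal C, mC x = 0 := fun x hx => by
      haveI : (RingHom.ker mC).IsPrime := RingHom.ker_isPrime _
      have hle : maximalIdeal HA ≤ (RingHom.ker mC).comap (algebraMap HA C) := fun a ha => by
        rw [Ideal.mem_comap, RingHom.mem_ker, hmA]
        exact hMB _ (map_nonunit (algebraMap HA B) a ha)
      have hmax : (RingHom.ker mC).IsMaximal := Ideal.isMaximal_of_isIntegral_of_isMaximal_comap (R := HA) _ (by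
        rw [← (maximalIdeal.isMaximal HA).eq_of_le (Ideal.IsPrime.ne_top inferInstance) hle]
        exact maximalIdeal.isMaximal HA)
      exact RingHom.mem_ker.1 ((eq_maximalIdeal hmax).ge hx)
    let jC : ResidueField C →+* (C ⊗[HA] B) ⧸ M := Ideal.Quotient.lift (maximalIdeal C) mC hMC
    let jB : ResidueField B →+* (C ⊗[HA] B) ⧸ M := Ideal.Quotient.lift (maximalIdeal B) mB hMB
    letI : Algebra (ResidueField HA) ((C ⊗[HA] B) ⧸ M) :=
      (jB.comp (algebraMap (ResidueField HA) (ResidueField B))).toAlgebra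
    let jB' : ResidueField B →ₐ[ResidueField HA] (C ⊗[HA] B) ⧸ M :=
      { jB with commutes' := fun _ => rfl }
    have hjC : ∀ r : ResidueField HA, jC (algebraMap (ResidueField HA) (ResidueField C) r) =
        algebraMap (ResidueField HA) ((C ⊗[HA] B) ⧸ M) r := fun r => by
      obtain ⟨a, rfl⟩ := IsLocalRing.residue_surjective r
      exact hmA a
    let jC' : ResidueField C →ₐ[ResidueField HA] (C ⊗[HA] B) ⧸ M :=
      { jC with commutes' := hjC }
    let χ : E →ₐ[ResidueField HA] (C ⊗[HA] B) ⧸ M :=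
      Algebra.TensorProduct.lift jC' jB' fun _ _ => Commute.all _ _
    refine ⟨RingHom.ker χ.toRingHom, RingHom.ker_isPrime _, ?_⟩
    have hχ : χ.toRingHom.comp π.toRingHom = Ideal.Quotient.mk M := by
      refine RingHom.ext fun t => ?_
      induction t using TensorProduct.induction_on with
      | zero => simp
      | tmul c b =>
        show χ (π (c ⊗ₜ[HA] b)) = _
        have h1 : π (c ⊗ₜ[HA] b) = residue C c ⊗ₜ[ResidueField HA] residue B b := by
          simp [π, E]
        rw [h1, Algebra.TensorProduct.lift_tmul, show c ⊗ₜ[HA] b =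
          algebraMap C (C ⊗[HA] B) c * ((1 : C) ⊗ₜ[HA] b) by simp, map_mul]
        rfl
      | add x y hx hy => simp only [map_add, hx, hy]
    rw [RingHom.comap_ker, hχ, Ideal.mk_ker]
  obtain ⟨P, hP, hPM⟩ := key M hM
  obtain ⟨P', hP', hPN⟩ := key N hN
  haveI := hfield (ResidueField C)
  have hsub : (⟨P, hP⟩ : PrimeSpectrum E) = ⟨P', hP'⟩ := Subsingleton.elim _ _
  rw [← hPM, ← hPN, show P = P' from congrArg PrimeSpectrum.asIdeal hsub]

include R S hfield hstage in
theorem minimal_unique (Q₁ Q₂ : Ideal (C ⊗[HA] B)) (h₁ : Q₁ ∈ minimalPrimes (C ⊗[HA] B))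
    (h₂ : Q₂ ∈ minimalPrimes (C ⊗[HA] B)) : Q₁ ≤ Q₂ := by
  classical
  intro z hz
  obtain ⟨M, hM, hM₁⟩ := Ideal.exists_le_maximal Q₁ h₁.1.1.ne_top
  obtain ⟨N, hN, hN₂⟩ := Ideal.exists_le_maximal Q₂ h₂.1.1.ne_top
  rw [← maximal_unique hfield C M N hM hN] at hN₂
  obtain ⟨F, hF⟩ := TensorProduct.exists_finset z
  obtain ⟨E, _, _, _, f, hf⟩ := hstage (F.image Prod.snd)
  letI : Algebra R E := ((algebraMap S E).comp (algebraMap R S)).toAlgebra
  haveI : IsScalarTower R S E := IsScalarTower.of_algebraMap_eq fun _ => rfl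
  haveI : Algebra.Smooth R E := Algebra.Smooth.comp R S E
  let fR : E →ₐ[R] B := f.restrictScalars R
  have hfflat : fR.toRingHom.Flat := by
    letI := f.toRingHom.toAlgebra
    haveI : IsScalarTower S E B := IsScalarTower.of_algebraMap_eq fun s => (f.commutes s).symm
    exact HenselLib.WEt.flat_of_flat_lmul (Algebra.WeaklyEtale.flat_lmul' S E) B
  let g : C ⊗[R] E →ₐ[R] C ⊗[HA] B :=
    ((Algebra.TensorProduct.mapOfCompatibleSMul HA R C C B).restrictScalars R).comp
      (Algebra.TensorProduct.map (AlgHom.id R C) fR)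
  have hg : g.toRingHom.Flat := by
    refine RingHom.Flat.comp (f := (Algebra.TensorProduct.map (AlgHom.id R C) fR).toRingHom) ?_ ?_
    · exact RingHom.Flat.tensorProductMap (RingHom.Flat.id C) hfflat
    · exact RingHom.Flat.mapOfCompatibleSMul C B (Algebra.WeaklyEtale.flat_lmul' R HA)
  have hrep : ∀ i ∈ F, ∃ e : E, f e = i.2 := fun i hi => hf i.2 (Finset.mem_image_of_mem _ hi)
  choose! e he using hrep
  have hz' : g.toRingHom (∑ i ∈ F, i.1 ⊗ₜ[R] e i) = z := by
    rw [hF, map_sum]
    refine Finset.sum_congr rfl fun i hi => ?_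
    show g (i.1 ⊗ₜ[R] e i) = _
    rw [show g (i.1 ⊗ₜ[R] e i) = i.1 ⊗ₜ[HA] f (e i) from rfl, he i hi]
  rw [← hz'] at hz ⊢
  exact mem_of_flat_stage (C := C) g.toRingHom hg hM.isPrime h₁ h₂ hM₁ hN₂ _ hz

include R S hfield hstage in
/-- Minimal primes of `B` over the kernel of `HA → C` coincide. -/
theorem eq_of_comap_eq_ker (hC : ∀ (K : Type u) [Field K] [Algebra HA K],
      RingHom.ker (algebraMap HA K) = RingHom.ker (algebraMap HA C) → Nonempty (C →ₐ[HA] K))
    (Q₁ Q₂ : Ideal B) (h₁ : Q₁ ∈ minimalPrimes B) (h₂ : Q₂ ∈ minimalPrimes B)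
    (e₁ : Q₁.comap (algebraMap HA B) = RingHom.ker (algebraMap HA C))
    (e₂ : Q₂.comap (algebraMap HA B) = RingHom.ker (algebraMap HA C)) : Q₁ = Q₂ := by
  have hlift : ∀ Q : Ideal B, Q ∈ minimalPrimes B → Q.comap (algebraMap HA B) = RingHom.ker (algebraMap HA C) →
      ∃ Qt ∈ minimalPrimes (C ⊗[HA] B),
        Qt.comap (Algebra.TensorProduct.includeRight : B →ₐ[HA] C ⊗[HA] B).toRingHom = Q := by
    intro Q hQ eQ
    haveI := hQ.1.1
    obtain ⟨ψ⟩ := hC Q.ResidueField (by
      ext a
      rw [RingHom.mem_ker, IsScalarTower.algebraMap_apply HA B Q.ResidueField,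
        Ideal.algebraMap_residueField_eq_zero, ← eQ, Ideal.mem_comap])
    let Φ : C ⊗[HA] B →ₐ[HA] Q.ResidueField :=
      Algebra.TensorProduct.lift ψ (IsScalarTower.toAlgHom HA B Q.ResidueField) fun _ _ => Commute.all _ _
    have hΦ : (RingHom.ker Φ).comap
        (Algebra.TensorProduct.includeRight : B →ₐ[HA] C ⊗[HA] B).toRingHom = Q := by
      ext h
      rw [Ideal.mem_comap, RingHom.mem_ker, ← Ideal.algebraMap_residueField_eq_zero (I := Q)]
      show Φ ((1 : C) ⊗ₜ[HA] h) = 0 ↔ _
      simp [Φ]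
    haveI : (RingHom.ker Φ).IsPrime := RingHom.ker_isPrime _
    obtain ⟨Qt, hQt, hQle⟩ := Ideal.exists_minimalPrimes_le (J := RingHom.ker Φ) bot_le
    have := hQt.1.1
    exact ⟨Qt, hQt, le_antisymm ((Ideal.comap_mono hQle).trans hΦ.le)
      (hQ.2 ⟨Ideal.IsPrime.comap _, bot_le⟩ ((Ideal.comap_mono hQle).trans hΦ.le))⟩
  obtain ⟨T₁, hT₁, rfl⟩ := hlift Q₁ h₁ e₁
  obtain ⟨T₂, hT₂, rfl⟩ := hlift Q₂ h₂ e₂
  rw [le_antisymm (minimal_unique (R := R) (S := S) hfield hstage C T₁ T₂ hT₁ hT₂)
    (minimal_unique (R := R) (S := S) hfield hstage C T₂ T₁ hT₂ hT₁)]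

end Normal

include R S hfield hstage in
theorem encard_minimalPrimes : (minimalPrimes HA).encard = (minimalPrimes B).encard := by
  haveI := flat_target (R := R) (S := S) (HA := HA) (B := B)
  haveI : Module.FaithfullyFlat HA B := Module.FaithfullyFlat.of_flat_of_isLocalHom
  have hsurj : ∀ P ∈ minimalPrimes HA, ∃ Q ∈ minimalPrimes B, Q.comap (algebraMap HA B) = P := by
    intro P hP
    obtain ⟨Q, hQ⟩ := PrimeSpectrum.comap_surjective_of_faithfullyFlat (A := HA) (B := B) ⟨P, hP.1.1⟩
    have hQP : Q.asIdeal.comap (algebraMap HA B) = P := congrArg PrimeSpectrum.asIdeal hQ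
    obtain ⟨Q', hQ', hle⟩ := Ideal.exists_minimalPrimes_le (J := Q.asIdeal) (bot_le (a := Q.asIdeal))
    haveI := hQ'.1.1
    exact ⟨Q', hQ', le_antisymm ((Ideal.comap_mono hle).trans hQP.le)
      (hP.2 ⟨Ideal.IsPrime.comap _, bot_le⟩ ((Ideal.comap_mono hle).trans hQP.le))⟩
  have hinj : Set.InjOn (fun Q : Ideal B => Q.comap (algebraMap HA B)) (minimalPrimes B) := by
    intro Q₁ h₁ Q₂ h₂ he
    have hP := UnibranchHull.comap_mem_minimalPrimes (R := HA) h₁
    haveI := hP.1.1
    set P := Q₁.comap (algebraMap HA B) with hPdef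
    let C := integralClosure (HA ⧸ P) (FractionRing (HA ⧸ P))
    haveI : IsIntegrallyClosed C :=
      integralClosure.isIntegrallyClosedOfFiniteExtension (FractionRing (HA ⧸ P))
    haveI : Algebra.IsIntegral HA C := Algebra.IsIntegral.trans (HA ⧸ P)
    haveI : IsLocalRing C := HenselLib.Olivier.isLocalRing_of_integral_domain (A := HA) C
    have hker : RingHom.ker (algebraMap HA C) = P := by
      ext a
      rw [RingHom.mem_ker, ← Ideal.Quotient.eq_zero_iff_mem, Subtype.ext_iff]
      exact map_eq_zero_iff (algebraMap (HA ⧸ P) (FractionRing (HA ⧸ P))) (IsFractionRing.injective _ _)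
    refine eq_of_comap_eq_ker (R := R) (S := S) hfield hstage C ?_ Q₁ Q₂ h₁ h₂ hker.symm
      (he.symm.trans hker.symm)
    intro K _ _ hk
    rw [hker] at hk
    let κ : HA ⧸ P →+* K :=
      Ideal.Quotient.lift P (algebraMap HA K) fun a ha => RingHom.mem_ker.1 (hk.symm ▸ ha)
    have hκ : Function.Injective κ := (injective_iff_map_eq_zero κ).2 fun z hz => by
      obtain ⟨a, rfl⟩ := Ideal.Quotient.mk_surjective z
      rw [Ideal.Quotient.lift_mk] at hz
      exact Ideal.Quotient.eq_zero_iff_mem.2 (hk ▸ RingHom.mem_ker.2 hz)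
    let ι : FractionRing (HA ⧸ P) →+* K := IsFractionRing.lift (A := HA ⧸ P) hκ
    exact ⟨{ ι.comp (algebraMap C (FractionRing (HA ⧸ P))) with
      commutes' := fun a => by
        show ι (algebraMap (HA ⧸ P) _ (Ideal.Quotient.mk _ a)) = _
        rw [IsFractionRing.lift_algebraMap]
        exact Ideal.Quotient.lift_mk _ _ _ }⟩
  have himg : (fun Q : Ideal B => Q.comap (algebraMap HA B)) '' minimalPrimes B = minimalPrimes HA := by
    refine Set.Subset.antisymm ?_ fun P hP => ?_
    · rintro _ ⟨Q, hQ, rfl⟩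
      exact UnibranchHull.comap_mem_minimalPrimes (R := HA) hQ
    · obtain ⟨Q, hQ, hQP⟩ := hsurj P hP
      exact ⟨Q, hQ, hQP⟩
  rw [← himg, hinj.encard_image]

end Groth.Agent.CAlgSmall.SmoothBranches
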