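import Groth.Agent.CAlgSmall.SmoothBranches
import Groth.Agent.HenselLib.HensBase

/-!
# Branches of smooth algebras: henselizations and strict henselizations
-/

universe u

set_option autoImplicit false

open TensorProduct IsLocalRing

namespace Groth.Agent.CAlgSmall.SmoothBranches

theorem subsingleton_of_isPurelyInseparable (k K L : Type u) [Field k] [Field K] [Field L] [Algebra k K]
    [Algebra k L] [IsPurelyInseparable k K] : Subsingleton (PrimeSpectrum (L ⊗[k] K)) :=
  ⟨fun _ _ => (PrimeSpectrum.isHomeomorph_comap_of_isPurelyInseparable k K L).injective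
    (Subsingleton.elim _ _)⟩

theorem subsingleton_of_isPurelyInseparable' (k K L : Type u) [Field k] [Field K] [Field L] [Algebra k K]
    [Algebra k L] [IsPurelyInseparable k L] : Subsingleton (PrimeSpectrum (L ⊗[k] K)) := by
  haveI := subsingleton_of_isPurelyInseparable k L K
  exact (PrimeSpectrum.comap_injective_of_surjective
    (Algebra.TensorProduct.comm k K L).toAlgHom.toRingHom
    (Algebra.TensorProduct.comm k K L).surjective).subsingleton

/-- Elements of something isomorphic to a hull come from étale algebras. -/
theorem exists_stage {S K B : Type u} [CommRing S] [CommRing K] [Algebra S K] [CommRing B] [Algebra S B]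
    (e : HenselLib.Hull S K ≃ₐ[S] B) (F : Finset B) :
    ∃ (E : Type u) (_ : CommRing E) (_ : Algebra S E) (_ : Algebra.Etale S E)
      (f : E →ₐ[S] B), ∀ b ∈ F, b ∈ Set.range f := by
  obtain ⟨P, x, hx⟩ := HenselLib.exists_rep_finset F (fun b => e.symm b)
  refine ⟨P.Ring, inferInstance, inferInstance, P.etale, e.toAlgHom.comp (HenselLib.ι P),
    fun b hb => ⟨x b, ?_⟩⟩
  show e (HenselLib.ι P (x b)) = b
  rw [hx b hb, e.apply_symm_apply]

theorem exists_residue_eq {A Ah : Type u} [CommRing A] [IsLocalRing A] [CommRing Ah] [IsLocalRing Ah]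
    [Algebra A Ah] [IsLocalHom (algebraMap A Ah)] [Hensel.IsHenselization A Ah] :
    Function.Surjective (ResidueField.map (algebraMap A Ah)) := by
  intro y
  obtain ⟨y, rfl⟩ := IsLocalRing.residue_surjective y
  obtain ⟨e⟩ := HenselLib.exists_equiv_localH Ah (R := A)
  obtain ⟨a, ha⟩ := Ideal.Quotient.mk_surjective (HenselLib.hullPt A (A ⧸ maximalIdeal A) (e.symm y))
  refine ⟨residue A a, ?_⟩
  rw [ResidueField.map_residue, eq_comm, ← sub_eq_zero, ← map_sub, residue_eq_zero_iff,
    IsLocalRing.mem_maximalIdeal, mem_nonunits_iff]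
  intro hu
  have h1 := (hu.map e.symm).map (HenselLib.hullPt A (A ⧸ maximalIdeal A))
  rw [map_sub, map_sub, e.symm.commutes, AlgHom.commutes, ← ha] at h1
  rw [show Ideal.Quotient.mk (maximalIdeal A) a - algebraMap A (A ⧸ maximalIdeal A) a = 0 from sub_self _] at h1
  letI : Field (A ⧸ maximalIdeal A) := Ideal.Quotient.field _
  exact not_isUnit_zero h1

theorem henselization {R S Ah Bh : Type u} [CommRing R] [CommRing S]
    [Algebra R S] [Algebra.Smooth R S] (q : Ideal S) [q.IsPrime] (p : Ideal R) [p.IsPrime] [q.LiesOver p]
    (hpi : @IsPurelyInseparable p.ResidueField q.ResidueField _ _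
      (Ideal.ResidueField.mapₐ p q (Algebra.ofId R S) (q.over_def p)).toRingHom.toAlgebra)
    [CommRing Ah] [IsLocalRing Ah] [Algebra (Localization.AtPrime p) Ah]
    [IsLocalHom (algebraMap (Localization.AtPrime p) Ah)] [hA : Hensel.IsHenselization (Localization.AtPrime p) Ah]
    [CommRing Bh] [IsLocalRing Bh] [Algebra (Localization.AtPrime q) Bh]
    [IsLocalHom (algebraMap (Localization.AtPrime q) Bh)] [hB : Hensel.IsHenselization (Localization.AtPrime q) Bh] :
    (minimalPrimes Ah).encard = (minimalPrimes Bh).encard := by
  letI : Algebra R Ah :=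
    ((algebraMap (Localization.AtPrime p) Ah).comp (algebraMap R (Localization.AtPrime p))).toAlgebra
  haveI : IsScalarTower R (Localization.AtPrime p) Ah := IsScalarTower.of_algebraMap_eq fun _ => rfl
  letI : Algebra S Bh :=
    ((algebraMap (Localization.AtPrime q) Bh).comp (algebraMap S (Localization.AtPrime q))).toAlgebra
  haveI : IsScalarTower S (Localization.AtPrime q) Bh := IsScalarTower.of_algebraMap_eq fun _ => rfl
  letI : Algebra R Bh := ((algebraMap S Bh).comp (algebraMap R S)).toAlgebra
  haveI : IsScalarTower R S Bh := IsScalarTower.of_algebraMap_eq fun _ => rfl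
  haveI := hA.henselian
  haveI := hB.henselian
  let φ := Localization.localRingHom p q (algebraMap R S) (q.over_def p)
  let f : Localization.AtPrime p →+* Bh := (algebraMap (Localization.AtPrime q) Bh).comp φ
  have hf : IsLocalHom f := by
    haveI : IsLocalHom φ := Localization.isLocalHom_localRingHom _ _ _ _
    exact RingHom.isLocalHom_comp _ _
  obtain ⟨g, hg, -⟩ := hA.universal Bh f hf
  letI : Algebra Ah Bh := g.toAlgebra
  haveI : IsScalarTower R Ah Bh := IsScalarTower.of_algebraMap_eq fun r => by
    show algebraMap (Localization.AtPrime q) Bh (algebraMap S _ (algebraMap R S r)) =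
      g (algebraMap (Localization.AtPrime p) Ah (algebraMap R _ r))
    rw [← RingHom.comp_apply g, hg]
    show _ = algebraMap (Localization.AtPrime q) Bh (φ (algebraMap R _ r))
    rw [Localization.localRingHom_to_map]
  haveI : IsLocalHom (algebraMap Ah Bh) := by
    refine ((IsLocalRing.local_hom_TFAE g).out 0 2).2 ?_
    rw [← HenselLib.HensBase.map_maximalIdeal_of_isHenselization (Localization.AtPrime p) Ah, Ideal.map_map, hg]
    exact ((IsLocalRing.local_hom_TFAE f).out 0 2).1 hf
  obtain ⟨eA⟩ := HenselLib.PtPrime.exists_equiv_hull p Ah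
  obtain ⟨eB⟩ := HenselLib.PtPrime.exists_equiv_hull q Bh
  haveI : Algebra.WeaklyEtale R Ah := HenselLib.weaklyEtale_of_equiv eA
  haveI : Algebra.WeaklyEtale S Bh := HenselLib.weaklyEtale_of_equiv eB
  refine encard_minimalPrimes (R := R) (S := S) (fun L _ _ _ => ?_) (exists_stage eB)
  letI := (Ideal.ResidueField.mapₐ p q (Algebra.ofId R S) (q.over_def p)).toRingHom.toAlgebra
  haveI := hpi
  haveI : IsPurelyInseparable (ResidueField Ah) (ResidueField Bh) := by
    rw [isPurelyInseparable_iff_pow_mem (ResidueField Ah) (ringExpChar (ResidueField Ah))]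
    intro y
    obtain ⟨x, rfl⟩ := exists_residue_eq (A := Localization.AtPrime q) (Ah := Bh) y
    let jA : p.ResidueField →+* ResidueField Ah := ResidueField.map (algebraMap (Localization.AtPrime p) Ah)
    haveI : ExpChar p.ResidueField (ringExpChar (ResidueField Ah)) :=
      jA.expChar jA.injective (ringExpChar (ResidueField Ah))
    obtain ⟨n, r, hr⟩ := IsPurelyInseparable.pow_mem p.ResidueField (ringExpChar (ResidueField Ah)) x
    refine ⟨n, jA r, ?_⟩
    have hcomm : (algebraMap (ResidueField Ah) (ResidueField Bh)).comp jA =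
        (ResidueField.map (algebraMap (Localization.AtPrime q) Bh)).comp
          (algebraMap p.ResidueField q.ResidueField) := by
      refine Ideal.ResidueField.ringHom_ext (RingHom.ext fun r => ?_)
      show residue Bh (algebraMap Ah Bh (algebraMap (Localization.AtPrime p) Ah (algebraMap R _ r))) =
        ResidueField.map (algebraMap (Localization.AtPrime q) Bh)
          (Ideal.ResidueField.mapₐ p q (Algebra.ofId R S) (q.over_def p) (algebraMap R p.ResidueField r))
      rw [AlgHom.commutes, ← IsScalarTower.algebraMap_apply R (Localization.AtPrime p) Ah,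
        ← IsScalarTower.algebraMap_apply R Ah Bh]
      rfl
    rw [← map_pow, ← hr]
    exact RingHom.congr_fun hcomm r
  exact subsingleton_of_isPurelyInseparable (ResidueField Ah) (ResidueField Bh) L

theorem strictHenselization {R S Ash Bsh : Type u} [CommRing R] [CommRing S] [Algebra R S]
    [Algebra.Smooth R S] (q : Ideal S) [q.IsPrime] (p : Ideal R) [p.IsPrime] [q.LiesOver p]
    [CommRing Ash] [IsLocalRing Ash] [Algebra (Localization.AtPrime p) Ash]
    [IsLocalHom (algebraMap (Localization.AtPrime p) Ash)] [hA : Hensel.IsStrictHenselization (Localization.AtPrime p) Ash]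
    [CommRing Bsh] [IsLocalRing Bsh] [Algebra (Localization.AtPrime q) Bsh]
    [IsLocalHom (algebraMap (Localization.AtPrime q) Bsh)] [hB : Hensel.IsStrictHenselization (Localization.AtPrime q) Bsh] :
    (minimalPrimes Ash).encard = (minimalPrimes Bsh).encard := by
  letI : Algebra R Ash :=
    ((algebraMap (Localization.AtPrime p) Ash).comp (algebraMap R (Localization.AtPrime p))).toAlgebra
  haveI : IsScalarTower R (Localization.AtPrime p) Ash := IsScalarTower.of_algebraMap_eq fun _ => rfl
  letI : Algebra S Bsh :=
    ((algebraMap (Localization.AtPrime q) Bsh).comp (algebraMap S (Localization.AtPrime q))).toAlgebra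
  haveI : IsScalarTower S (Localization.AtPrime q) Bsh := IsScalarTower.of_algebraMap_eq fun _ => rfl
  letI : Algebra R Bsh := ((algebraMap S Bsh).comp (algebraMap R S)).toAlgebra
  haveI : IsScalarTower R S Bsh := IsScalarTower.of_algebraMap_eq fun _ => rfl
  haveI := hA.henselian
  haveI := hB.henselian
  haveI := hA.isSepClosure
  haveI := hB.isSepClosure
  haveI : IsSepClosed (ResidueField Ash) := IsSepClosure.sep_closed (ResidueField (Localization.AtPrime p))
  haveI : IsSepClosed (ResidueField Bsh) := IsSepClosure.sep_closed (ResidueField (Localization.AtPrime q))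
  let φ := Localization.localRingHom p q (algebraMap R S) (q.over_def p)
  let f : Localization.AtPrime p →+* Bsh := (algebraMap (Localization.AtPrime q) Bsh).comp φ
  haveI hf : IsLocalHom f := by
    haveI : IsLocalHom φ := Localization.isLocalHom_localRingHom _ _ _ _
    exact RingHom.isLocalHom_comp _ _
  letI : Algebra (ResidueField (Localization.AtPrime p)) (ResidueField Bsh) := (ResidueField.map f).toAlgebra
  let τ : ResidueField Ash →ₐ[ResidueField (Localization.AtPrime p)] ResidueField Bsh := IsSepClosed.lift
  have hτ : τ.toRingHom.comp (ResidueField.map (algebraMap (Localization.AtPrime p) Ash)) = ResidueField.map f :=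
    τ.comp_algebraMap
  obtain ⟨g, ⟨hg, -⟩, -⟩ := hA.universal Bsh f τ.toRingHom hτ
  letI : Algebra Ash Bsh := g.toAlgebra
  haveI : IsScalarTower R Ash Bsh := IsScalarTower.of_algebraMap_eq fun r => by
    show algebraMap (Localization.AtPrime q) Bsh (algebraMap S _ (algebraMap R S r)) =
      g (algebraMap (Localization.AtPrime p) Ash (algebraMap R _ r))
    rw [← RingHom.comp_apply g, hg]
    show _ = algebraMap (Localization.AtPrime q) Bsh (φ (algebraMap R _ r))
    rw [Localization.localRingHom_to_map]
  haveI : IsLocalHom (algebraMap Ash Bsh) := by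
    refine ((IsLocalRing.local_hom_TFAE g).out 0 2).2 ?_
    rw [← HenselLib.HensBase.map_maximalIdeal_of_isStrictHenselization (Localization.AtPrime p) Ash, Ideal.map_map, hg]
    exact ((IsLocalRing.local_hom_TFAE f).out 0 2).1 hf
  obtain ⟨eA, -⟩ := Et18.SHull.exists_equiv (A := R) (R := Ash) (Localization.AtPrime p) p.primeCompl
  obtain ⟨eB, -⟩ := Et18.SHull.exists_equiv (A := S) (R := Bsh) (Localization.AtPrime q) q.primeCompl
  haveI : Algebra.WeaklyEtale R Ash := HenselLib.weaklyEtale_of_equiv eA
  haveI : Algebra.WeaklyEtale S Bsh := HenselLib.weaklyEtale_of_equiv eB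
  refine encard_minimalPrimes (R := R) (S := S) (fun L _ _ _ => ?_) (exists_stage eB)
  haveI : IsPurelyInseparable (ResidueField Ash) L := inferInstance
  exact subsingleton_of_isPurelyInseparable' (ResidueField Ash) (ResidueField Bsh) L

end Groth.Agent.CAlgSmall.SmoothBranches
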