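import Mathlib
import Groth.Agent.CAlgH.AdicSmoothLift
import Groth.Agent.CommAlg6.AdicSmoothDiscrete
import Groth.Agent.S4537

/-! Smoothness at a prime and lifting along small extensions. -/

set_option autoImplicit false

universe u

open IsLocalRing

namespace Groth.Agent.CAlgSmall.SmoothSmallExt

variable {R S : Type u} [CommRing R] [CommRing S] [Algebra R S] (q : Ideal S) [q.IsPrime]

theorem lift_of_smoothAt (hq : Algebra.IsSmoothAt R q) {B' B : Type u} [CommRing B'] [CommRing B]
    [IsLocalRing B'] [IsLocalRing B] [Algebra R B'] [Algebra R B] (π : B' →ₐ[R] B)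
    (hπ : Function.Surjective π) (t : B') (hker : RingHom.ker π.toRingHom = Ideal.span {t})
    (ht : ∀ a ∈ maximalIdeal B', a * t = 0) (g : S →ₐ[R] B) (hg : (maximalIdeal B).comap g = q) :
    ∃ g' : S →ₐ[R] B', π.comp g' = g := by
  have hu : ∀ y : q.primeCompl, IsUnit (g y) := fun y ↦ by
    by_contra h
    exact y.2 (hg ▸ ((mem_maximalIdeal _).mpr h : g y ∈ maximalIdeal B))
  let gq : Localization.AtPrime q →ₐ[R] B := IsLocalization.liftAlgHom (M := q.primeCompl) (f := g) hu
  have hnil : IsNilpotent (RingHom.ker (π : B' →+* B)) := by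
    have htm : t ∈ maximalIdeal B' := le_maximalIdeal (RingHom.ker_ne_top π.toRingHom)
      (hker ▸ Ideal.mem_span_singleton_self t)
    refine ⟨2, ?_⟩
    show RingHom.ker π.toRingHom ^ 2 = ⊥
    rw [hker, Ideal.span_singleton_pow, Ideal.span_singleton_eq_bot, pow_two, ht t htm]
  refine ⟨(Algebra.FormallySmooth.liftOfSurjective gq π hπ hnil).comp (IsScalarTower.toAlgHom R S _), ?_⟩
  rw [← AlgHom.comp_assoc, Algebra.FormallySmooth.comp_liftOfSurjective]
  exact AlgHom.ext fun s ↦ IsLocalization.lift_eq _ s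

theorem smoothAt_of_lift [IsNoetherianRing R] [Algebra.FiniteType R S]
    (H : ∀ (B' B : Type u) [CommRing B'] [CommRing B] [IsLocalRing B'] [IsLocalRing B]
        [IsArtinianRing B'] [IsArtinianRing B] [Algebra R B'] [Algebra R B] (π : B' →ₐ[R] B),
        Function.Surjective π →
        (∃ t : B', RingHom.ker π.toRingHom = Ideal.span {t} ∧
          ∀ a ∈ maximalIdeal B', a * t = 0) →
        ∀ g : S →ₐ[R] B, (maximalIdeal B).comap g = q → ∃ g' : S →ₐ[R] B', π.comp g' = g) :
    Algebra.IsSmoothAt R q := by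
  let p := q.comap (algebraMap R S)
  let Rp := Localization.AtPrime p
  let T := Localization.AtPrime q
  haveI : q.LiesOver p := ⟨rfl⟩
  letI : Algebra Rp T := Localization.AtPrime.algebraOfLiesOver p q
  haveI : Algebra.EssFiniteType R T :=
    have := Algebra.EssFiniteType.of_isLocalization T q.primeCompl
    Algebra.EssFiniteType.comp R S T
  haveI : Algebra.EssFiniteType Rp T := Algebra.EssFiniteType.of_comp R Rp T
  haveI : IsNoetherianRing S := Algebra.FiniteType.isNoetherianRing R S
  haveI : IsNoetherianRing T := IsLocalization.isNoetherianRing q.primeCompl T inferInstance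
  have hadic : CAlgX.IsAdicFormallySmooth Rp T (maximalIdeal T) := by
    refine CAlgH.AdicSmooth.of_lift_small fun A _ _ _ _ J hloc hJ2 hlen ψ hψ => ?_
    have hJne : J ≠ ⊤ := fun h => by
      rw [h, pow_two, Ideal.mul_top] at hJ2
      exact top_ne_bot hJ2
    haveI : Nontrivial (A ⧸ J) := Ideal.Quotient.nontrivial_iff.mpr hJne
    haveI : IsLocalRing (A ⧸ J) :=
      IsLocalRing.of_surjective' (Ideal.Quotient.mk J) Ideal.Quotient.mk_surjective
    have hsimple : IsSimpleModule A J := Module.length_eq_one_iff.mp hlen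
    obtain ⟨ε, hεJ, hε0⟩ : ∃ ε ∈ J, ε ≠ 0 := by
      by_contra hcon
      push Not at hcon
      have : Subsingleton J := ⟨fun a b => Subtype.ext ((hcon a a.2).trans (hcon b b.2).symm)⟩
      exact absurd hlen (by simp [Module.length_eq_zero_iff.mpr this])
    have hJat : IsAtom J := isSimpleModule_iff_isAtom.mp hsimple
    have hspan : Ideal.span {ε} = J :=
      (hJat.le_iff.mp ((Ideal.span_singleton_le_iff_mem _).2 hεJ)).resolve_left
        (by simpa using hε0)
    have hεm : ∀ m ∈ maximalIdeal A, m * ε = 0 := fun m hm => by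
      by_contra h0
      have h1 : Ideal.span {m * ε} = J :=
        (hJat.le_iff.mp ((Ideal.span_singleton_le_iff_mem _).2 (J.mul_mem_left m hεJ))).resolve_left
          (by simpa using h0)
      obtain ⟨c, hc⟩ := Ideal.mem_span_singleton.1 (h1.symm ▸ hεJ : ε ∈ Ideal.span {m * ε})
      have hu : IsUnit (1 - m * c) :=
        IsLocalRing.isUnit_one_sub_self_of_mem_nonunits (m * c) (Ideal.mul_mem_right c _ hm)
      exact hε0 ((hu.mul_left_eq_zero (a := ε)).1 (by
        rw [mul_sub, mul_one, show ε * (m * c) = m * ε * c by ring, ← hc, sub_self]))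
    letI : Algebra R A := ((algebraMap Rp A).comp (algebraMap R Rp)).toAlgebra
    haveI : IsScalarTower R Rp A := IsScalarTower.of_algebraMap_eq fun _ => rfl
    haveI : IsScalarTower R Rp (A ⧸ J) := IsScalarTower.of_algebraMap_eq fun _ => rfl
    haveI : IsLocalHom (ψ : T →+* A ⧸ J) := IsLocalHom.of_surjective _ hψ
    let g : S →ₐ[R] A ⧸ J := (ψ.restrictScalars R).comp (IsScalarTower.toAlgHom R S T)
    have hg : (maximalIdeal (A ⧸ J)).comap g = q := by
      ext s
      rw [Ideal.mem_comap, mem_maximalIdeal]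
      show ¬ IsUnit ((ψ : T →+* A ⧸ J) (algebraMap S T s)) ↔ _
      rw [isUnit_map_iff, IsLocalization.AtPrime.isUnit_to_map_iff T q, Ideal.mem_primeCompl_iff, not_not]
    obtain ⟨g', hg'⟩ := H A (A ⧸ J) (Ideal.Quotient.mkₐ R J) Ideal.Quotient.mk_surjective
      ⟨ε, by rw [show (Ideal.Quotient.mkₐ R J).toRingHom = Ideal.Quotient.mk J from rfl, Ideal.mk_ker, hspan],
        hεm⟩ g hg
    haveI : IsLocalHom (Ideal.Quotient.mk J) := IsLocalHom.of_surjective _ Ideal.Quotient.mk_surjective
    have hu : ∀ y : q.primeCompl, IsUnit (g' y) := fun y => by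
      refine (isUnit_map_iff (Ideal.Quotient.mk J) _).1 ?_
      rw [show Ideal.Quotient.mk J (g' y) = g y from AlgHom.congr_fun hg' y]
      exact (IsLocalization.map_units T y).map ψ
    let χ : T →ₐ[R] A := IsLocalization.liftAlgHom (M := q.primeCompl) (f := g') hu
    have hχ : ∀ r : Rp, χ (algebraMap Rp T r) = algebraMap Rp A r := fun r => by
      refine RingHom.congr_fun (IsLocalization.ringHom_ext p.primeCompl
        (j := (χ : T →+* A).comp (algebraMap Rp T)) (k := algebraMap Rp A) (RingHom.ext fun c => ?_)) r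
      show χ (algebraMap Rp T (algebraMap R Rp c)) = _
      rw [← IsScalarTower.algebraMap_apply R Rp T, χ.commutes]
      rfl
    refine ⟨{ χ with commutes' := hχ }, AlgHom.ext fun z => ?_⟩
    refine RingHom.congr_fun (IsLocalization.ringHom_ext q.primeCompl
      (j := (Ideal.Quotient.mk J).comp (χ : T →+* A)) (k := (ψ : T →+* A ⧸ J)) (RingHom.ext fun s => ?_)) z
    show Ideal.Quotient.mk J (χ (algebraMap S T s)) = g s
    rw [show χ (algebraMap S T s) = g' s from IsLocalization.lift_eq _ s]
    exact AlgHom.congr_fun hg' s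
  haveI : IsLocalHom (algebraMap Rp T) := Localization.isLocalHom_localRingHom p q (algebraMap R S) rfl
  have h4 : EGA41.IsFormallySmoothAdic Rp ⊥ T (maximalIdeal T) := (S4537.result _).1 hadic
  have h5 : EGA41.IsFormallySmoothAdic Rp (maximalIdeal Rp) T (maximalIdeal T) := fun C _ _ J hJ _ u hu =>
    h4 C J hJ ⟨1, by simp⟩ u hu
  haveI := CommAlg6.formallySmooth_of_isFormallySmoothAdic Rp T h5
  haveI : Algebra.FormallySmooth R Rp := Algebra.FormallySmooth.of_isLocalization p.primeCompl
  exact Algebra.FormallySmooth.comp R Rp T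

end Groth.Agent.CAlgSmall.SmoothSmallExt
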