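import Mathlib

/-!
# Smoothness of symmetric algebras
-/

set_option maxSynthPendingDepth 3

universe u

open TrivSqZeroExt

namespace Groth.Agent.CAlgSmall

variable {A M : Type u} [CommRing A] [AddCommGroup M] [Module A M]

theorem sym_smooth_iff :
    Algebra.Smooth A (SymmetricAlgebra A M) ↔ Module.Finite A M ∧ Module.Projective A M := by
  constructor
  · intro h
    letI := (inferInstance : CommRing (SymmetricAlgebra A M))
    letI : Module Aᵐᵒᵖ M := Module.compHom M ((RingHom.id A).fromOpposite mul_comm)
    haveI : IsCentralScalar A M := ⟨fun _ _ ↦ rfl⟩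
    constructor
    · let ev : SymmetricAlgebra A M →ₐ[A] TrivSqZeroExt A M :=
        SymmetricAlgebra.lift (TrivSqZeroExt.inrHom A M)
      obtain ⟨s, hs⟩ := (Algebra.FiniteType.out : (⊤ : Subalgebra A (SymmetricAlgebra A M)).FG)
      let N := Submodule.span A ((fun z ↦ (ev z).snd) '' (s : Set (SymmetricAlgebra A M)))
      have key : ∀ z, (ev z).snd ∈ N := by
        intro z
        have hz : z ∈ Algebra.adjoin A (s : Set (SymmetricAlgebra A M)) := by rw [hs]; trivial
        induction hz using Algebra.adjoin_induction with
        | mem x hx => exact Submodule.subset_span ⟨x, hx, rfl⟩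
        | algebraMap r => simp [TrivSqZeroExt.algebraMap_eq_inl]
        | add x y _ _ hx hy => simpa using N.add_mem hx hy
        | mul x y _ _ hx hy =>
          simpa using N.add_mem (N.smul_mem (ev x).fst hy) (N.smul_mem (ev y).fst hx)
      have : N = ⊤ := eq_top_iff.mpr fun m _ ↦ by
        simpa [ev] using key (SymmetricAlgebra.ι A M m)
      exact ⟨this ▸ Submodule.fg_span ((s.finite_toSet).image _)⟩
    · refine Module.Projective.of_lifting_property'' fun g hg ↦ ?_
      let N := M →₀ A
      let q : TrivSqZeroExt A N →ₐ[A] TrivSqZeroExt A M := TrivSqZeroExt.map g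
      have hq : Function.Surjective q := fun z ↦ by
        obtain ⟨y, hy⟩ := hg z.snd
        exact ⟨inl z.fst + inr y, by ext <;> simp [q, hy]⟩
      have hnil : IsNilpotent (RingHom.ker (q : TrivSqZeroExt A N →+* TrivSqZeroExt A M)) := by
        refine ⟨2, eq_bot_iff.mpr ?_⟩
        rw [pow_two, Ideal.mul_le]
        intro a ha b hb
        have ha' : a.fst = 0 := by simpa [q] using congrArg TrivSqZeroExt.fst (RingHom.mem_ker.mp ha)
        have hb' : b.fst = 0 := by simpa [q] using congrArg TrivSqZeroExt.fst (RingHom.mem_ker.mp hb)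
        exact Ideal.mem_bot.mpr (by ext <;> simp [ha', hb'])
      let ev : SymmetricAlgebra A M →ₐ[A] TrivSqZeroExt A M :=
        SymmetricAlgebra.lift (TrivSqZeroExt.inrHom A M)
      let l := Algebra.FormallySmooth.liftOfSurjective ev q hq hnil
      refine ⟨(TrivSqZeroExt.sndHom A N).comp (l.toLinearMap.comp (SymmetricAlgebra.ι A M)),
        LinearMap.ext fun m ↦ ?_⟩
      have h2 := congrArg TrivSqZeroExt.snd
        (Algebra.FormallySmooth.liftOfSurjective_apply ev q hq hnil (SymmetricAlgebra.ι A M m))
      have h3 : (ev (SymmetricAlgebra.ι A M m)).snd = m := by simp [ev]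
      rw [h3] at h2
      exact (TrivSqZeroExt.snd_map g _).symm.trans h2
  · rintro ⟨hf, hp⟩
    classical
    haveI := hf
    haveI := hp
    haveI : Algebra.FormallySmooth A (SymmetricAlgebra A M) := by
      refine Algebra.FormallySmooth.of_comp_surjective fun B _ _ I hI f ↦ ?_
      obtain ⟨g, hg⟩ := Module.projective_lifting_property (Ideal.Quotient.mkₐ A I).toLinearMap
        (f.toLinearMap.comp (SymmetricAlgebra.ι A M)) (Ideal.Quotient.mkₐ_surjective A I)
      refine ⟨SymmetricAlgebra.lift g, SymmetricAlgebra.algHom_ext (LinearMap.ext fun m ↦ ?_)⟩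
      simpa using LinearMap.congr_fun hg m
    obtain ⟨n, p, hp⟩ := Module.Finite.exists_fin' A M
    obtain ⟨s, hs⟩ := Module.projective_lifting_property p LinearMap.id hp
    let P : MvPolynomial (Fin n) A →ₐ[A] SymmetricAlgebra A M :=
      MvPolynomial.aeval fun i ↦ SymmetricAlgebra.ι A M (p (Pi.single i 1))
    let S : SymmetricAlgebra A M →ₐ[A] MvPolynomial (Fin n) A :=
      SymmetricAlgebra.lift ((Fintype.linearCombination A (MvPolynomial.X : Fin n → MvPolynomial (Fin n) A)).comp s)
    have hPS : P.comp S = AlgHom.id A _ := by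
      refine SymmetricAlgebra.algHom_ext (LinearMap.ext fun m ↦ ?_)
      have : ∀ v : Fin n → A, P (Fintype.linearCombination A MvPolynomial.X v) =
          SymmetricAlgebra.ι A M (p v) := by
        intro v
        show (P.toLinearMap.comp (Fintype.linearCombination A MvPolynomial.X)) v =
          ((SymmetricAlgebra.ι A M).comp p) v
        congr 1
        ext i
        simp [P, Fintype.linearCombination_apply_single]
      show P (S (SymmetricAlgebra.ι A M m)) = SymmetricAlgebra.ι A M m
      rw [show S (SymmetricAlgebra.ι A M m) = _ from SymmetricAlgebra.lift_ι_apply _ m]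
      simp only [LinearMap.comp_apply, this]
      rw [show p (s m) = m from LinearMap.congr_fun hs m]
    haveI : Algebra.FinitePresentation A (SymmetricAlgebra A M) := by
      refine Algebra.FinitePresentation.of_surjective (f := P)
        (fun z ↦ ⟨S z, AlgHom.congr_fun hPS z⟩) ?_
      refine ⟨Finset.univ.image fun i ↦ MvPolynomial.X i - S (P (MvPolynomial.X i)), ?_⟩
      rw [Finset.coe_image, Finset.coe_univ, Set.image_univ]
      apply le_antisymm
      · rw [Submodule.span_le]
        rintro _ ⟨i, rfl⟩
        simp [SetLike.mem_coe, RingHom.mem_ker, show P (S (P (MvPolynomial.X i))) = P (MvPolynomial.X i)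
          from AlgHom.congr_fun hPS _]
      · intro z hz
        set J := Ideal.span (Set.range fun i ↦ MvPolynomial.X i - S (P (MvPolynomial.X i))) with hJ
        have h3 : Ideal.Quotient.mkₐ A J = (Ideal.Quotient.mkₐ A J).comp (S.comp P) := by
          refine MvPolynomial.algHom_ext fun i ↦ ?_
          exact Ideal.Quotient.eq.mpr (Ideal.subset_span ⟨i, rfl⟩)
        refine Ideal.Quotient.eq_zero_iff_mem.mp ?_
        have := AlgHom.congr_fun h3 z
        simp [show P z = 0 from hz] at this
        exact this
    exact ⟨inferInstance, inferInstance⟩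

end Groth.Agent.CAlgSmall
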