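import Mathlib
import Groth.Prelude.Def_CotT
import Groth.Agent.CAlgSmall.RigidSmoothing

/-! Annihilation of `T¹` by a power of `t` versus smoothness away from `t`. -/

set_option autoImplicit false

universe u

open TensorProduct

namespace Groth.Agent.CAlgSmall.T1Killed

section Crit

variable (A B : Type u) [CommRing A] [CommRing B] [Algebra A B]

/-- Evaluation of the polynomial ring on all elements of `B`. -/
noncomputable abbrev aev : MvPolynomial B A →ₐ[A] B := MvPolynomial.aeval (fun b : B ↦ b)

variable (M : Type u) [AddCommGroup M] [Module B M]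

/-- The criterion: `c` kills `T¹(B/A, M)` of the canonical presentation. -/
def Kills (c : B) : Prop :=
  ∀ h : MvPolynomial B A → M,
    (∀ F F', aev A B F = 0 → aev A B F' = 0 → h (F + F') = h F + h F') →
    (∀ G F, aev A B F = 0 → h (G * F) = aev A B G • h F) →
    ∃ d : MvPolynomial B A → M, (∀ G H, d (G + H) = d G + d H) ∧ (∀ a, d (MvPolynomial.C a) = 0) ∧
      (∀ G H, d (G * H) = aev A B G • d H + aev A B H • d G) ∧ ∀ F, aev A B F = 0 → d F = c • h F

theorem kills_iff (c : B) : (∀ x : CotT.T1 (CotT.canon A B) M, c • x = 0) ↔ Kills A B M c := by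
  let P := CotT.canon A B
  have hal : ∀ F : P.toExtension.Ring, algebraMap P.toExtension.Ring B F = aev A B F := fun F ↦
    CotT.algebraMap_toExtension P F
  let : Module P.toExtension.Ring M := Module.compHom M (algebraMap P.toExtension.Ring B)
  have : IsScalarTower P.toExtension.Ring B M := IsScalarTower.of_compHom _ B M
  constructor
  · intro hx h hadd hmul
    let h' : P.toExtension.ker →ₗ[P.toExtension.Ring] M :=
      { toFun := fun F ↦ h F.1
        map_add' := fun F F' ↦ hadd _ _ ((hal _).symm.trans F.2) ((hal _).symm.trans F'.2)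
        map_smul' := fun G F ↦ by
          rw [RingHom.id_apply]
          show h (G * F.1) = algebraMap P.toExtension.Ring B G • h F.1
          rw [hal]
          exact hmul G F.1 ((hal _).symm.trans F.2) }
    let φ : CotT.L1 P →ₗ[B] M := LinearMap.liftBaseChange B (h'.comp (CotT.jker P))
    have hφ : φ ∈ CotT.cocycles1 P M := by
      rw [LinearMap.mem_ker, CotT.d2Star_apply]
      refine Submodule.linearMap_qext _ ?_
      rw [LinearMap.comp_assoc, CotT.d2_comp_mkQ, LinearMap.zero_comp]
      refine TensorProduct.AlgebraTensorModule.ext fun b q ↦ ?_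
      have hq : CotT.jker P (q : CotT.relMod P) = 0 := Subtype.ext q.2
      simp only [φ, LinearMap.coe_comp, Function.comp_apply, LinearMap.baseChange_tmul, Submodule.coe_subtype,
        LinearMap.liftBaseChange_tmul, hq, map_zero, smul_zero, LinearMap.zero_apply]
    have h0 := hx (Submodule.Quotient.mk ⟨φ, hφ⟩)
    rw [← Submodule.Quotient.mk_smul, Submodule.Quotient.mk_eq_zero] at h0
    obtain ⟨χ, hχ⟩ := h0
    change χ.comp (CotT.d1 P) = c • φ at hχ
    let dd : P.toExtension.Ring → M := fun G ↦ χ ((1 : B) ⊗ₜ KaehlerDifferential.D A P.toExtension.Ring G)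
    have hdadd : ∀ F G, dd (F + G) = dd F + dd G := fun F G ↦ by simp [dd, TensorProduct.tmul_add]
    have hdC : ∀ a : A, dd (algebraMap A P.toExtension.Ring a) = 0 := fun a ↦ by simp [dd]
    have hdmul : ∀ F G, dd (F * G) =
        algebraMap P.toExtension.Ring B F • dd G + algebraMap P.toExtension.Ring B G • dd F := by
      intro F G
      simp only [dd, Derivation.leibniz, TensorProduct.tmul_add, map_add, TensorProduct.tmul_smul,
        ← algebraMap_smul (R := P.toExtension.Ring) B, map_smul]
    refine ⟨dd, hdadd, hdC, fun G H ↦ ?_, fun F hF ↦ ?_⟩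
    · rw [← hal, ← hal]; exact hdmul G H
    · have hF' : F ∈ P.toExtension.ker := (hal F).trans hF
      have e := LinearMap.congr_fun hχ ((1 : B) ⊗ₜ Finsupp.single (⟨F, hF'⟩ : CotT.CanonRels A B) 1)
      have hj : CotT.jker P (Finsupp.single (⟨F, hF'⟩ : CotT.CanonRels A B) 1) = ⟨F, hF'⟩ := by
        refine Subtype.ext ?_
        rw [CotT.jker_apply]
        simp only [CotT.jmap_single, one_mul]
        rfl
      simp only [φ, LinearMap.coe_comp, Function.comp_apply, LinearMap.smul_apply, LinearMap.liftBaseChange_tmul,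
        one_smul, hj, CotT.d1_tmul] at e
      rw [CotT.jmap_single, one_mul] at e
      exact e
  · intro hk x
    obtain ⟨⟨φ, hφ⟩, rfl⟩ := Submodule.Quotient.mk_surjective _ x
    have hφ' : ∀ q : CotT.relMod P, CotT.jmap P q = 0 → φ ((1 : B) ⊗ₜ q) = 0 := fun q hq ↦ by
      have := LinearMap.congr_fun (LinearMap.mem_ker.mp hφ) (Submodule.Quotient.mk ((1 : B) ⊗ₜ ⟨q, hq⟩))
      simpa using this
    let e : ∀ F : P.toExtension.Ring, F ∈ P.toExtension.ker → CotT.relMod P := fun F hF ↦
      Finsupp.single (⟨F, hF⟩ : CotT.CanonRels A B) 1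
    have he : ∀ F hF, CotT.jmap P (e F hF) = F := fun F hF ↦ by
      rw [CotT.jmap_single, one_mul]; rfl
    classical
    let h : MvPolynomial B A → M := fun F ↦
      if hF : aev A B F = 0 then φ ((1 : B) ⊗ₜ e F ((hal F).trans hF)) else 0
    have hee : ∀ F F' hF hF', F = F' → e F hF = e F' hF' := fun F F' hF hF' hFF ↦ by subst hFF; rfl
    have hh : ∀ F (hF : aev A B F = 0), h F = φ ((1 : B) ⊗ₜ e F ((hal F).trans hF)) := fun F hF ↦ dif_pos hF
    have hψ : ∀ q : CotT.relMod P, φ ((1 : B) ⊗ₜ q) =
        φ ((1 : B) ⊗ₜ e (CotT.jmap P q) (CotT.jmap_mem_ker P q)) := fun q ↦ by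
      rw [← sub_eq_zero, ← map_sub, ← TensorProduct.tmul_sub]
      refine hφ' _ ?_
      rw [map_sub, he, sub_self]
    have hGsmul : ∀ (G : P.toExtension.Ring) q, φ ((1 : B) ⊗ₜ (G • q)) = algebraMap P.toExtension.Ring B G • φ ((1 : B) ⊗ₜ q) :=
      fun G q ↦ by rw [TensorProduct.tmul_smul, ← algebraMap_smul B G, map_smul]
    obtain ⟨d, dadd, dC, dmul, dker⟩ := hk h
      (fun F F' hF hF' ↦ by
        rw [hh F hF, hh F' hF', hh (F + F') (by rw [map_add, hF, hF', add_zero])]
        refine Eq.trans ?_ ((congrArg φ (TensorProduct.tmul_add _ _ _)).trans (map_add φ _ _))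
        rw [hψ (_ + _)]
        exact congrArg (fun q ↦ φ ((1 : B) ⊗ₜ q)) (hee _ _ _ _ (by rw [map_add, he, he]; rfl)))
      (fun G F hF ↦ by
        rw [hh F hF, hh (G * F) (by rw [map_mul, hF, mul_zero])]
        refine Eq.trans ?_ (congrArg (· • _) (hal G))
        refine Eq.trans ?_ (hGsmul G (e F _))
        rw [hψ (_ • _)]
        exact congrArg (fun q ↦ φ ((1 : B) ⊗ₜ q)) (hee _ _ _ _ (by rw [map_smul, he]; rfl)))
    let : Module A M := Module.compHom M (algebraMap A B)
    have : IsScalarTower A B M := IsScalarTower.of_compHom _ B M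
    have : IsScalarTower A P.toExtension.Ring M := IsScalarTower.of_algebraMap_smul fun a z ↦ by
      show algebraMap P.toExtension.Ring B (algebraMap A P.toExtension.Ring a) • z = algebraMap A B a • z
      rw [← IsScalarTower.algebraMap_apply]
    let dd : Derivation A P.toExtension.Ring M :=
      Derivation.mk'
        { toFun := d
          map_add' := dadd
          map_smul' := fun a G ↦ by
            rw [RingHom.id_apply]
            show d (a • G) = _
            erw [MvPolynomial.smul_eq_C_mul, dmul, dC, smul_zero, add_zero]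
            show aev A B (MvPolynomial.C a) • d G = a • d G
            rw [MvPolynomial.aeval_C, algebraMap_smul] }
        (fun G H ↦ by
          show d (G * H) = algebraMap P.toExtension.Ring B G • d H + algebraMap P.toExtension.Ring B H • d G
          rw [hal, hal]; exact dmul G H)
    rw [← Submodule.Quotient.mk_smul, Submodule.Quotient.mk_eq_zero]
    refine ⟨LinearMap.liftBaseChange B dd.liftKaehlerDifferential, ?_⟩
    change (LinearMap.liftBaseChange B dd.liftKaehlerDifferential).comp (CotT.d1 P) = c • φ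
    refine TensorProduct.AlgebraTensorModule.ext fun b q ↦ ?_
    have hb : b ⊗ₜ[P.toExtension.Ring] q = b • ((1 : B) ⊗ₜ[P.toExtension.Ring] q) := by
      rw [TensorProduct.smul_tmul', smul_eq_mul, mul_one]
    rw [hb, map_smul, map_smul, LinearMap.comp_apply, LinearMap.smul_apply, CotT.d1_tmul, one_smul,
      LinearMap.liftBaseChange_tmul, one_smul, Derivation.liftKaehlerDifferential_comp_D]
    congr 1
    have hF : aev A B (CotT.jmap P q) = 0 := (hal _).symm.trans (CotT.algebraMap_jmap P q)
    show d (CotT.jmap P q) = _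
    rw [hψ, dker _ hF, hh _ hF]

end Crit

section Main

variable {A B : Type u} [CommRing A] [IsNoetherianRing A] [CommRing B] [Algebra A B] [Algebra.FiniteType A B]

theorem main (t : A) :
    (∀ q : PrimeSpectrum B, algebraMap A B t ∉ q.asIdeal → q ∈ Algebra.smoothLocus A B) ↔
    ∃ n₀ : ℕ, ∀ (M : Type u) [AddCommGroup M] [Module B M] [Module.Finite B M],
      ∀ x : CotT.T1 (CotT.canon A B) M, (algebraMap A B t) ^ n₀ • x = 0 := by
  have : Algebra.FinitePresentation A B := Algebra.FinitePresentation.of_finiteType.mp ‹_›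
  obtain ⟨m, f, hf⟩ := Algebra.FiniteType.iff_quotient_mvPolynomial''.mp ‹Algebra.FiniteType A B›
  choose y hy using hf
  let θ : MvPolynomial B A →ₐ[A] MvPolynomial (Fin m) A := MvPolynomial.aeval y
  let η : MvPolynomial (Fin m) A →ₐ[A] MvPolynomial B A :=
    MvPolynomial.aeval (fun i ↦ MvPolynomial.X (f (MvPolynomial.X i)))
  have hθ : ∀ F, f (θ F) = aev A B F := fun F ↦ by
    have h : f.comp θ = aev A B := MvPolynomial.algHom_ext fun b ↦ by simp [θ, hy]
    exact DFunLike.congr_fun h F
  have hη : ∀ G, aev A B (η G) = f G := fun G ↦ by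
    have h : (aev A B).comp η = f := MvPolynomial.algHom_ext fun i ↦ by simp [η]
    exact DFunLike.congr_fun h G
  constructor
  · intro hsm
    obtain ⟨N, D, hDker, hD⟩ := RigidSmoothing.exists_der f (fun b ↦ ⟨y b, hy b⟩) t
      ((Algebra.basicOpen_subset_smoothLocus_iff).mp fun q hq ↦ hsm q hq)
    refine ⟨N, fun M _ _ _ ↦ (kills_iff A B M _).mpr fun h hadd hmul ↦ ?_⟩
    have h0 : h 0 = 0 := by
      have := hadd 0 0 (map_zero _) (map_zero _)
      rwa [add_zero, left_eq_add] at this
    let K : Ideal (MvPolynomial (Fin m) A) := RingHom.ker f.toRingHom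
    have hK : ∀ G, G ∈ K → aev A B (η G) = 0 := fun G hG ↦ (hη G).trans hG
    have hsq : ∀ G ∈ K ^ 2, h (η G) = 0 := by
      intro G hG
      rw [pow_two] at hG
      refine (Submodule.smul_induction_on (p := fun G ↦ G ∈ K ∧ h (η G) = 0) hG (fun r hr s hs ↦ ⟨?_, ?_⟩)
        (fun r s hr hs ↦ ⟨K.add_mem hr.1 hs.1, ?_⟩)).2
      · exact K.mul_mem_left r hs
      · show h (η (r * s)) = 0
        rw [map_mul, hmul _ _ (hK s hs), hK r hr, zero_smul]
      · rw [map_add, hadd _ _ (hK r hr.1) (hK s hs.1), hr.2, hs.2, add_zero]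
    choose w hw using fun z : MvPolynomial (Fin m) A ⧸ K ^ 2 ↦ Ideal.Quotient.mk_surjective z
    have hwd : ∀ r s, Ideal.Quotient.mk (K ^ 2) r = Ideal.Quotient.mk (K ^ 2) s → r ∈ K → s ∈ K →
        h (η r) = h (η s) := by
      intro r s hrs hr hs
      have h2 := (Ideal.Quotient.mk_eq_mk_iff_sub_mem _ _).mp hrs
      rw [← sub_add_cancel r s, map_add, hadd _ _ (hK _ (Ideal.pow_le_self two_ne_zero h2)) (hK _ hs), hsq _ h2,
        zero_add]
    have hwK : ∀ G, w (D G) ∈ K := fun G ↦ by
      have := hDker G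
      rw [← hw (D G)] at this
      exact this
    let δ : MvPolynomial B A → MvPolynomial B A := fun G ↦ G - η (θ G)
    have hδ : ∀ G, aev A B (δ G) = 0 := fun G ↦ by
      show aev A B (G - η (θ G)) = 0
      rw [map_sub, hη, hθ, sub_self]
    have hC : ∀ a, θ (MvPolynomial.C a) = MvPolynomial.C a := fun a ↦ θ.commutes a
    refine ⟨fun G ↦ h (η (w (D (θ G)))) + algebraMap A B t ^ N • h (δ G), fun G H ↦ ?_, fun a ↦ ?_, fun G H ↦ ?_,
      fun F hF ↦ ?_⟩
    · show h _ + _ • h _ = _
      rw [hwd (w (D (θ (G + H)))) (w (D (θ G)) + w (D (θ H))) (by rw [hw, map_add θ, map_add D, map_add, hw, hw])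
          (hwK _) (K.add_mem (hwK _) (hwK _)), map_add η, hadd _ _ (hK _ (hwK _)) (hK _ (hwK _)),
        show δ (G + H) = δ G + δ H by simp only [δ, map_add]; abel, hadd _ _ (hδ G) (hδ H), smul_add]
      dsimp only; ac_rfl
    · show h _ + _ • h _ = _
      rw [hwd (w (D (θ (MvPolynomial.C a)))) 0
          (by rw [hw, hC, map_zero, ← MvPolynomial.algebraMap_eq, Derivation.map_algebraMap]) (hwK _) K.zero_mem,
        map_zero, h0, show δ (MvPolynomial.C a) = 0 by
          simp only [δ, hC]; exact sub_eq_zero.mpr (η.commutes a).symm,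
        h0, smul_zero, add_zero]
    · show h _ + _ • h _ = _
      have e : D (θ (G * H)) = Ideal.Quotient.mk (K ^ 2) (θ G * w (D (θ H)) + θ H * w (D (θ G))) := by
        rw [map_mul θ, Derivation.leibniz, map_add, map_mul, map_mul, hw, hw]
        rfl
      rw [hwd (w (D (θ (G * H)))) (θ G * w (D (θ H)) + θ H * w (D (θ G))) (by rw [hw, e]) (hwK _)
          (K.add_mem (K.mul_mem_left _ (hwK _)) (K.mul_mem_left _ (hwK _))),
        map_add η, map_mul η, map_mul η,
        hadd _ _ (by rw [map_mul, hK _ (hwK _), mul_zero]) (by rw [map_mul, hK _ (hwK _), mul_zero]),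
        hmul _ _ (hK _ (hwK _)), hmul _ _ (hK _ (hwK _)), hη, hθ, hη, hθ,
        show δ (G * H) = G * δ H + η (θ H) * δ G by simp only [δ, map_mul]; ring,
        hadd _ _ (by rw [map_mul, hδ, mul_zero]) (by rw [map_mul, hδ, mul_zero]),
        hmul _ _ (hδ H), hmul _ _ (hδ G), hη, hθ, smul_add, smul_add, smul_comm (algebraMap A B t ^ N) (aev A B G),
        smul_comm (algebraMap A B t ^ N) (aev A B H), smul_add]
      abel
    · show h _ + _ • h _ = _
      have hθF : θ F ∈ K := (hθ F).trans hF
      have hD' : D (θ F) = Ideal.Quotient.mk (K ^ 2) (MvPolynomial.C (t ^ N) * θ F) := by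
        rw [hD _ hθF, Algebra.smul_def, map_mul]
        rfl
      rw [hwd (w (D (θ F))) (MvPolynomial.C (t ^ N) * θ F) (by rw [hw, hD']) (hwK _) (K.mul_mem_left _ hθF),
        map_mul η, hmul _ _ (hK _ hθF), hη]
      rw [show f (MvPolynomial.C (t ^ N)) = algebraMap A B t ^ N by
        rw [← MvPolynomial.algebraMap_eq, AlgHom.commutes, map_pow], ← smul_add,
        ← hadd _ _ (hK _ hθF) (hδ F)]
      simp [δ]
  · rintro ⟨n, hn⟩ q hq
    refine (Algebra.basicOpen_subset_smoothLocus_iff (f := algebraMap A B t)).mpr ?_ hq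
    -- the module `I / I²`
    let K : Ideal (MvPolynomial (Fin m) A) := RingHom.ker f.toRingHom
    let P := MvPolynomial (Fin m) A
    let Q := P ⧸ K ^ 2
    have hsq : ∀ r s : Q, f.kerSquareLift r = 0 → f.kerSquareLift s = 0 → r * s = 0 := by
      intro r s hr hs
      obtain ⟨a, rfl⟩ := Ideal.Quotient.mk_surjective r
      obtain ⟨b, rfl⟩ := Ideal.Quotient.mk_surjective s
      rw [← map_mul, Ideal.Quotient.eq_zero_iff_mem, pow_two]
      exact Ideal.mul_mem_mul hr hs
    let C := K.Cotangent
    let eB : (P ⧸ K) ≃ₐ[A] B := Ideal.quotientKerAlgEquivOfSurjective (f := f) (fun b ↦ ⟨y b, hy b⟩)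
    let : Module B C := Module.compHom C eB.symm.toRingEquiv.toRingHom
    have hbs : ∀ (G : P) (z : C), f G • z = G • z := fun G z ↦ by
      show (eB.symm (f G)) • z = G • z
      rw [show eB.symm (f G) = Ideal.Quotient.mk K G from eB.injective (by rw [AlgEquiv.apply_symm_apply]; rfl)]
      rfl
    have : Module.Finite P K := Module.Finite.iff_fg.mpr (IsNoetherian.noetherian K)
    have : Module.Finite P C := Module.Finite.of_surjective K.toCotangent K.toCotangent_surjective
    have : Module.Finite B C := by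
      obtain ⟨S, hS⟩ := (Module.Finite.fg_top : (⊤ : Submodule P C).FG)
      refine ⟨⟨S, ?_⟩⟩
      rw [eq_top_iff]
      intro z hzz
      clear hzz
      have hz : z ∈ Submodule.span P (S : Set C) := hS ▸ trivial
      induction hz using Submodule.span_induction with
      | mem x hx => exact Submodule.subset_span hx
      | zero => exact Submodule.zero_mem _
      | add x x' _ _ hx hx' => exact Submodule.add_mem _ hx hx'
      | smul G x _ hx => rw [← hbs]; exact Submodule.smul_mem _ _ hx
    classical
    let h : MvPolynomial B A → C := fun F ↦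
      if hF : aev A B F = 0 then K.toCotangent ⟨θ F, (hθ F).trans hF⟩ else 0
    have hh : ∀ F (hF : aev A B F = 0), h F = K.toCotangent ⟨θ F, (hθ F).trans hF⟩ := fun F hF ↦ dif_pos hF
    obtain ⟨d, dadd, dC, dmul, dker⟩ := (kills_iff A B C _).mp (hn C) h
      (fun F F' hF hF' ↦ by
        rw [hh F hF, hh F' hF', hh (F + F') (by rw [map_add, hF, hF', add_zero])]
        refine Eq.trans ?_ (map_add K.toCotangent _ _)
        exact congrArg _ (Subtype.ext (map_add θ F F')))
      (fun G F hF ↦ by
        rw [hh F hF, hh (G * F) (by rw [map_mul, hF, mul_zero])]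
        refine Eq.trans ?_ (congrArg (· • _) (hθ G))
        show _ = f (θ G) • _
        rw [hbs, ← map_smul]
        exact congrArg _ (Subtype.ext (map_mul θ G F)))
    -- into `Q`
    let iC : C →ₗ[P] Q := K.cotangentToQuotientSquare
    have hiC : ∀ z : C, f.kerSquareLift (iC z) = 0 := fun z ↦ by
      obtain ⟨⟨r, hr⟩, rfl⟩ := K.toCotangent_surjective z
      exact hr
    have hiCto : ∀ r : K, iC (K.toCotangent r) = Ideal.Quotient.mk (K ^ 2) r.1 := fun r ↦ rfl
    let D : P → Q := fun G ↦
      iC (d (η G)) + algebraMap A Q (t ^ n) * (Ideal.Quotient.mk _ G - Ideal.Quotient.mk _ (θ (η G)))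
    have hDK : ∀ G, f.kerSquareLift (D G) = 0 := fun G ↦ by
      have e1 : f.kerSquareLift (Ideal.Quotient.mk _ G) = f.kerSquareLift (Ideal.Quotient.mk _ (θ (η G))) := by
        show f G = f (θ (η G))
        rw [hθ, hη]
      refine (map_add f.kerSquareLift _ _).trans ?_
      rw [hiC, zero_add]
      refine (map_mul f.kerSquareLift _ _).trans ?_
      rw [show f.kerSquareLift (Ideal.Quotient.mk _ G - Ideal.Quotient.mk _ (θ (η G))) = 0 from
        (map_sub f.kerSquareLift _ _).trans (sub_eq_zero.mpr e1), mul_zero]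
    have hDadd : ∀ G H, D (G + H) = D G + D H := fun G H ↦ by
      simp only [D, map_add, dadd]; ring
    have hDmul : ∀ G H, D (G * H) = Ideal.Quotient.mk _ G * D H + Ideal.Quotient.mk _ H * D G := fun G H ↦ by
      have hs : ∀ (G : P) (z : C), iC (f G • z) = Ideal.Quotient.mk _ G * iC z := fun G z ↦ by
        rw [hbs, map_smul]; rfl
      have hsqd := hsq (Ideal.Quotient.mk _ G - Ideal.Quotient.mk _ (θ (η G)))
        (Ideal.Quotient.mk _ H - Ideal.Quotient.mk _ (θ (η H)))
        ((map_sub f.kerSquareLift _ _).trans (sub_eq_zero.mpr (show f G = f (θ (η G)) by rw [hθ, hη])))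
        ((map_sub f.kerSquareLift _ _).trans (sub_eq_zero.mpr (show f H = f (θ (η H)) by rw [hθ, hη])))
      simp only [D, map_mul, dmul, map_add, hη, hs]
      linear_combination (-algebraMap A Q (t ^ n)) * hsqd
    have hDC : ∀ a, D (MvPolynomial.C a) = 0 := fun a ↦ by
      have e1 : η (MvPolynomial.C a) = MvPolynomial.C a := η.commutes a
      have e2 : θ (MvPolynomial.C a) = MvPolynomial.C a := θ.commutes a
      simp only [D, e1, e2, dC, map_zero, sub_self, mul_zero, add_zero]
    have hDF : ∀ F ∈ K, D F = algebraMap A Q (t ^ n) * Ideal.Quotient.mk _ F := fun F hF ↦ by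
      have hF' : aev A B (η F) = 0 := (hη F).trans hF
      have : iC (d (η F)) = algebraMap A Q (t ^ n) * Ideal.Quotient.mk _ (θ (η F)) := by
        rw [dker _ hF', hh _ hF', ← map_pow, ← f.commutes, hbs, map_smul, hiCto, Algebra.smul_def]
        rfl
      simp only [D, this]
      ring
    -- the section over the localisation
    let tP : P := algebraMap A P t
    let Pt := Localization.Away tP
    let τ : B := algebraMap A B t
    let Bt := Localization.Away τ
    let g : Pt →ₐ[A] Bt := IsLocalization.liftAlgHom (M := Submonoid.powers tP) (S := Pt)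
      (f := ((Algebra.ofId B Bt).restrictScalars A).comp f) (fun r ↦ by
        obtain ⟨_, j, rfl⟩ := r
        simp only [map_pow, AlgHom.comp_apply, tP, AlgHom.commutes]
        refine IsUnit.pow _ ?_
        rw [IsScalarTower.algebraMap_apply A B Bt]
        exact IsLocalization.Away.algebraMap_isUnit τ)
    have hg : ∀ r : P, g (algebraMap P Pt r) = algebraMap B Bt (f r) := fun r ↦ by
      simp [g]
    have hgsurj : Function.Surjective g := by
      intro z
      obtain ⟨⟨b, _, i, rfl⟩, hb⟩ := IsLocalization.surj (Submonoid.powers τ) z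
      refine ⟨IsLocalization.mk' Pt (y b) (⟨tP ^ i, i, rfl⟩ : Submonoid.powers tP), ?_⟩
      have hu : IsUnit (algebraMap B Bt (τ ^ i)) := by
        rw [map_pow]; exact (IsLocalization.Away.algebraMap_isUnit τ).pow i
      refine hu.mul_left_injective ?_
      show g _ * algebraMap B Bt (τ ^ i) = z * algebraMap B Bt (τ ^ i)
      rw [hb, show τ ^ i = f (tP ^ i) from ((map_pow f tP i).trans (congrArg (· ^ i) (f.commutes t))).symm, ← hg, ← map_mul,
        IsLocalization.mk'_spec Pt (y b) (⟨tP ^ i, i, rfl⟩ : Submonoid.powers tP), hg, hy]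
    have : Algebra.FormallyEtale P Pt := Algebra.FormallyEtale.of_isLocalization (Submonoid.powers tP)
    have : Algebra.FormallySmooth A Pt := Algebra.FormallySmooth.comp A P Pt
    refine (Algebra.FormallySmooth.iff_split_surjection g hgsurj).mpr ?_
    let L := Pt ⧸ RingHom.ker g.toRingHom ^ 2
    let ι : Q →ₐ[A] L := Ideal.Quotient.liftₐ _ ((Ideal.Quotient.mkₐ A _).comp (IsScalarTower.toAlgHom A P Pt))
      (fun r hr ↦ by
        refine Ideal.Quotient.eq_zero_iff_mem.mpr ?_
        have hle : K.map (algebraMap P Pt) ≤ RingHom.ker g.toRingHom := Ideal.map_le_iff_le_comap.mpr fun s hs ↦ by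
          show g (algebraMap P Pt s) = 0
          rw [hg, show f s = 0 from hs, map_zero]
        have := Ideal.mem_map_of_mem (algebraMap P Pt) hr
        rw [Ideal.map_pow] at this
        exact Ideal.pow_right_mono hle 2 this)
    have hι : ∀ r, ι (Ideal.Quotient.mk _ r) = Ideal.Quotient.mk _ (algebraMap P Pt r) := fun r ↦ rfl
    have hgι : ∀ z, g.kerSquareLift (ι z) = algebraMap B Bt (f.kerSquareLift z) := fun z ↦ by
      obtain ⟨r, rfl⟩ := Ideal.Quotient.mk_surjective z
      exact hg r
    obtain ⟨u, hu⟩ : IsUnit (algebraMap A L (t ^ n)) := by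
      rw [map_pow, IsScalarTower.algebraMap_apply A Pt L]
      exact ((IsLocalization.Away.algebraMap_isUnit tP).map (algebraMap Pt L)).pow n
    let σ₀ : P → L := fun G ↦ ι (Ideal.Quotient.mk _ G) - ↑u⁻¹ * ι (D G)
    have hDC' : ∀ a : A, D (algebraMap A P a) = 0 := hDC
    let σ : P →ₐ[A] L :=
      { toFun := σ₀
        map_one' := by simp only [σ₀]; rw [show D 1 = 0 by simpa using hDC 1]; simp
        map_zero' := by simp only [σ₀]; rw [show D 0 = 0 by simpa using hDC 0]; simp
        map_add' := fun G H ↦ by simp only [σ₀, hDadd, map_add]; ring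
        map_mul' := fun G H ↦ by
          have := congrArg ι (hsq _ _ (hDK G) (hDK H))
          rw [map_mul, map_zero] at this
          simp only [σ₀, hDmul, map_add, map_mul]
          linear_combination (-(↑u⁻¹ * ↑u⁻¹ : L)) * this
        commutes' := fun a ↦ by
          simp only [σ₀, hDC', map_zero, mul_zero, sub_zero, Ideal.Quotient.mk_algebraMap, AlgHom.commutes]
          exact ι.commutes a }
    have hσ : ∀ G, σ G = ι (Ideal.Quotient.mk _ G) - ↑u⁻¹ * ι (D G) := fun G ↦ rfl
    let σB : B →ₐ[A] L := (Ideal.Quotient.liftₐ K σ (fun F hF ↦ by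
      rw [hσ, hDF F hF, map_mul, AlgHom.commutes, ← hu, Units.inv_mul_cancel_left, sub_self])).comp eB.symm.toAlgHom
    have hσB : ∀ b, g.kerSquareLift (σB b) = algebraMap B Bt b := fun b ↦ by
      obtain ⟨G, rfl⟩ : ∃ G, f G = b := ⟨y b, hy b⟩
      have e0 : eB.symm.toAlgHom (f G) = Ideal.Quotient.mk K G :=
        eB.injective ((AlgEquiv.apply_symm_apply eB (f G)).trans rfl)
      have e1 : σB (f G) = σ G := by
        simp only [σB, AlgHom.comp_apply]
        rw [e0]
        rfl
      rw [e1, hσ]
      refine (map_sub g.kerSquareLift _ _).trans ?_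
      rw [show g.kerSquareLift (↑u⁻¹ * ι (D G)) = 0 from (map_mul g.kerSquareLift _ _).trans
        (by rw [hgι, hDK, map_zero, mul_zero]), sub_zero, hgι]
      rfl
    refine ⟨IsLocalization.liftAlgHom (M := Submonoid.powers τ) (S := Bt) (f := σB) (fun r ↦ by
      obtain ⟨_, j, rfl⟩ := r
      simp only [map_pow, τ, AlgHom.commutes]
      refine IsUnit.pow _ ?_
      rw [IsScalarTower.algebraMap_apply A Pt L]
      exact (IsLocalization.Away.algebraMap_isUnit tP).map (algebraMap Pt L)), ?_⟩
    refine IsLocalization.algHom_ext (Submonoid.powers τ) (AlgHom.ext fun b ↦ ?_)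
    show g.kerSquareLift (IsLocalization.lift _ (algebraMap B Bt b)) = algebraMap B Bt b
    rw [IsLocalization.lift_eq]
    exact hσB b

end Main

end Groth.Agent.CAlgSmall.T1Killed
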