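import Mathlib.CategoryTheory.Monoidal.Tor
import Mathlib.CategoryTheory.Abelian.LeftDerived
import Mathlib.Algebra.Category.ModuleCat.Abelian
import Mathlib.Algebra.Category.ModuleCat.Monoidal.Closed
import Mathlib.Algebra.Category.ModuleCat.Projective
import Mathlib.Algebra.Homology.HomologySequenceLemmas
import Mathlib.Algebra.Homology.HomologicalComplexAbelian
import Mathlib.Algebra.Homology.ShortComplex.ModuleCat
import Mathlib.RingTheory.Flat.Basic
import Mathlib.RingTheory.Noetherian.Basic

/-!
# The maps `Tor_p(Iⁿ M, N) → Tor_p(M, N)` vanish for `n` large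
-/

set_option autoImplicit false
set_option backward.isDefEq.respectTransparency false
set_option backward.defeqAttrib.useBackward true

universe u

open CategoryTheory CategoryTheory.Limits MonoidalCategory TensorProduct

namespace Groth.Agent.CAlgSmall

variable {A : Type u} [CommRing A] {N : ModuleCat.{u} A} (P : ProjectiveResolution N)

/-- `M ⊗ P` as a functor in `M`. -/
noncomputable def tensCx (M : ModuleCat.{u} A) : ChainComplex (ModuleCat.{u} A) ℕ :=
  (((tensoringLeft (ModuleCat.{u} A)).obj M).mapHomologicalComplex (ComplexShape.down ℕ)).obj P.complex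

/-- `φ ⊗ P`. -/
noncomputable def tensMap {M M' : ModuleCat.{u} A} (φ : M ⟶ M') : tensCx P M ⟶ tensCx P M' :=
  (NatTrans.mapHomologicalComplex ((tensoringLeft (ModuleCat.{u} A)).map φ) (ComplexShape.down ℕ)).app
    P.complex

theorem tensMap_comp {M M' M'' : ModuleCat.{u} A} (φ : M ⟶ M') (ψ : M' ⟶ M'') :
    tensMap P (φ ≫ ψ) = tensMap P φ ≫ tensMap P ψ := by
  ext i : 1
  exact comp_whiskerRight φ ψ (P.complex.X i)

theorem tensMap_id (M : ModuleCat.{u} A) : tensMap P (𝟙 M) = 𝟙 _ := by
  ext i : 1
  exact id_whiskerRight M (P.complex.X i)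

theorem tensMap_zero (M M' : ModuleCat.{u} A) : tensMap P (0 : M ⟶ M') = 0 := by
  ext i : 1
  exact MonoidalPreadditive.zero_whiskerRight

/-- `a • id` acts by zero on homology when `a` kills `N`. -/
theorem homologyMap_smul_eq_zero (a : A) (ha : ∀ y : N, a • y = 0) (M : ModuleCat.{u} A) (p : ℕ) :
    HomologicalComplex.homologyMap (tensMap P (a • 𝟙 M)) p = 0 := by
  have h0 : (a • 𝟙 P.complex) ≫ P.π = 0 := by
    rw [Linear.smul_comp, Category.id_comp]
    apply HomologicalComplex.to_single_hom_ext
    ext x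
    show a • (P.π.f 0).hom x = 0
    exact ha _
  have hh : Homotopy (a • 𝟙 P.complex) 0 := ProjectiveResolution.liftHomotopyZero _ h0
  have heq : tensMap P (a • 𝟙 M) =
      (((tensoringLeft (ModuleCat.{u} A)).obj M).mapHomologicalComplex (ComplexShape.down ℕ)).map
        (a • 𝟙 P.complex) := by
    ext i : 1
    apply ModuleCat.hom_ext
    apply TensorProduct.ext'
    intro m x
    show (a • m) ⊗ₜ[A] x = m ⊗ₜ[A] (a • x)
    exact smul_tmul a m x
  rw [heq, (((tensoringLeft (ModuleCat.{u} A)).obj M).mapHomotopy hh).homologyMap_eq p, Functor.map_zero,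
    HomologicalComplex.homologyMap_zero]

/-- Exactness in the middle. -/
theorem exists_factor_of_comp_eq_zero {M₁ M₂ M₃ : ModuleCat.{u} A} (i : M₁ ⟶ M₂) (π : M₂ ⟶ M₃)
    (hi : Function.Injective i.hom) (hπ : Function.Surjective π.hom) (hex : Function.Exact i.hom π.hom)
    (p : ℕ) (y : (tensCx P M₂).homology p)
    (hy : (HomologicalComplex.homologyMap (tensMap P π) p).hom y = 0) :
    ∃ x, (HomologicalComplex.homologyMap (tensMap P i) p).hom x = y := by
  have hw : i ≫ π = 0 := by
    ext x
    exact hex.apply_apply_eq_zero x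
  let S : ShortComplex (ChainComplex (ModuleCat.{u} A) ℕ) :=
    ShortComplex.mk (tensMap P i) (tensMap P π) (by rw [← tensMap_comp, hw, tensMap_zero])
  have hS : S.ShortExact := HomologicalComplex.shortExact_of_degreewise_shortExact _ fun j => by
    have : Module.Projective A (P.complex.X j) :=
      (IsProjective.iff_projective (P.complex.X j)).mpr (P.projective j)
    refine ModuleCat.shortComplex_shortExact _ ?_ ?_ ?_
    · exact rTensor_exact (P.complex.X j) hex hπ
    · exact Module.Flat.rTensor_preserves_injective_linearMap i.hom hi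
    · exact LinearMap.rTensor_surjective (P.complex.X j) hπ
  exact (ShortComplex.moduleCat_exact_iff _).mp (hS.homology_exact₂ p) y hy

/-- The statement for homology of `M ⊗ P`. -/
theorem exists_pow_homologyMap_eq_zero [IsNoetherianRing A] (s : Finset A)
    (hs : ∀ a ∈ s, ∀ y : N, a • y = 0) :
    ∀ (M : Type u) [AddCommGroup M] [Module A M] [Module.Finite A M],
      ∃ n : ℕ, 0 < n ∧ ∀ p : ℕ, HomologicalComplex.homologyMap
        (tensMap P (ModuleCat.ofHom (Ideal.span (s : Set A) ^ n • ⊤ : Submodule A M).subtype)) p = 0 := by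
  classical
  induction s using Finset.induction with
  | empty =>
    intro M _ _ _
    refine ⟨1, one_pos, fun p => ?_⟩
    have h0 : ModuleCat.ofHom (Ideal.span ((∅ : Finset A) : Set A) ^ 1 • ⊤ : Submodule A M).subtype = 0 := by
      ext ⟨x, hx⟩
      simp at hx
      exact hx
    rw [h0, tensMap_zero, HomologicalComplex.homologyMap_zero]
  | insert f s hfs ih =>
    intro M _ _ _
    have hf : ∀ y : N, f • y = 0 := hs f (Finset.mem_insert_self f s)
    replace ih := ih fun a ha => hs a (Finset.mem_insert_of_mem ha)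
    -- stabilisation of the `f`-power torsion
    let K : ℕ →o Submodule A M :=
      ⟨fun c => LinearMap.ker (f ^ c • LinearMap.id : M →ₗ[A] M), fun c d hcd x hx => by
        simp only [LinearMap.mem_ker, LinearMap.smul_apply, LinearMap.id_apply] at hx ⊢
        rw [← Nat.sub_add_cancel hcd, pow_add, mul_smul, hx, smul_zero]⟩
    obtain ⟨c, hc⟩ := monotone_stabilizes_iff_noetherian.mpr (inferInstance : IsNoetherian A M) K
    let L : ℕ → Submodule A M := fun c => LinearMap.range (f ^ c • LinearMap.id : M →ₗ[A] M)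
    have hLmem : ∀ {d x}, x ∈ L d ↔ ∃ m, f ^ d • m = x := by simp [L]
    let jc : ModuleCat.of A (L c) ⟶ ModuleCat.of A M := ModuleCat.ofHom (L c).subtype
    let φ₀ : L c →ₗ[A] L (c + 1) := (f • (L c).subtype).codRestrict _ fun x => by
      obtain ⟨m, hm⟩ := hLmem.mp x.2
      exact hLmem.mpr ⟨m, by rw [pow_succ', mul_smul, hm]; rfl⟩
    have hφ : Function.Bijective φ₀ := by
      refine ⟨fun x y hxy => ?_, fun z => ?_⟩
      · obtain ⟨m, hm⟩ := hLmem.mp x.2
        obtain ⟨m', hm'⟩ := hLmem.mp y.2
        have h1 : f • (x : M) = f • (y : M) := congrArg Subtype.val hxy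
        have h2 : m - m' ∈ K (c + 1) := by
          show (f ^ (c + 1) • LinearMap.id : M →ₗ[A] M) (m - m') = 0
          rw [LinearMap.smul_apply, LinearMap.id_apply, pow_succ', mul_smul, smul_sub, hm, hm', smul_sub,
            h1, sub_self]
        rw [← hc (c + 1) c.le_succ] at h2
        have h3 : f ^ c • (m - m') = 0 := h2
        rw [smul_sub, hm, hm', sub_eq_zero] at h3
        exact Subtype.ext h3
      · obtain ⟨m, hm⟩ := hLmem.mp z.2
        exact ⟨⟨f ^ c • m, hLmem.mpr ⟨m, rfl⟩⟩, Subtype.ext (by rw [← hm, pow_succ', mul_smul]; rfl)⟩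
    let φ : ModuleCat.of A (L c) ≅ ModuleCat.of A (L (c + 1)) :=
      (LinearEquiv.ofBijective φ₀ hφ).toModuleIso
    let j : ModuleCat.of A (L (c + 1)) ⟶ ModuleCat.of A M := ModuleCat.ofHom (L (c + 1)).subtype
    have hj : ∀ p, HomologicalComplex.homologyMap (tensMap P j) p = 0 := by
      intro p
      have h1 : φ.hom ≫ j = (f • 𝟙 (ModuleCat.of A (L c))) ≫ jc := by
        ext x
        show (f • (x : M)) = ((f • x : L c) : M)
        rfl
      have h2 : HomologicalComplex.homologyMap (tensMap P (φ.hom ≫ j)) p = 0 := by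
        rw [h1, tensMap_comp, HomologicalComplex.homologyMap_comp, homologyMap_smul_eq_zero P f hf,
          zero_comp]
      have h3 : tensMap P j = tensMap P φ.inv ≫ tensMap P (φ.hom ≫ j) := by
        rw [← tensMap_comp, Iso.inv_hom_id_assoc]
      rw [h3, HomologicalComplex.homologyMap_comp, h2, comp_zero]
    let Q := M ⧸ L (c + 1)
    obtain ⟨n, hn, hzero⟩ := ih Q
    refine ⟨n + (c + 1), by omega, fun p => ?_⟩
    let I' := Ideal.span (s : Set A)
    let m := n + (c + 1)
    let W : Submodule A M := Ideal.span ((insert f s : Finset A) : Set A) ^ m • ⊤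
    have hle : Ideal.span ((insert f s : Finset A) : Set A) ^ m ≤ Ideal.span {f ^ (c + 1)} ⊔ I' ^ n := by
      rw [Finset.coe_insert, Ideal.span_insert, ← Ideal.span_singleton_pow,
        show m = (c + 1) + n by omega]
      exact Ideal.sup_pow_add_le_pow_sup_pow
    have hmem : ∀ x ∈ W, (L (c + 1)).mkQ x ∈ (I' ^ n • ⊤ : Submodule A Q) := by
      intro x hx
      have h1 : x ∈ ((Ideal.span {f ^ (c + 1)} ⊔ I' ^ n) • ⊤ : Submodule A M) := Submodule.smul_mono_left hle hx
      rw [Submodule.sup_smul, Submodule.mem_sup] at h1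
      obtain ⟨a, ha, b, hb, rfl⟩ := h1
      rw [Submodule.ideal_span_singleton_smul] at ha
      obtain ⟨a', -, rfl⟩ := ha
      rw [map_add, show (L (c + 1)).mkQ (DistribSMul.toLinearMap A M (f ^ (c + 1)) a') = 0 from
        (Submodule.Quotient.mk_eq_zero _).mpr (hLmem.mpr ⟨a', rfl⟩), zero_add]
      have := Submodule.mem_map_of_mem (f := (L (c + 1)).mkQ) hb
      rw [Submodule.map_smul'', Submodule.map_top, Submodule.range_mkQ] at this
      exact this
    let π : ModuleCat.of A M ⟶ ModuleCat.of A Q := ModuleCat.ofHom (L (c + 1)).mkQ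
    let ι : ModuleCat.of A W ⟶ ModuleCat.of A M := ModuleCat.ofHom W.subtype
    let r : ModuleCat.of A W ⟶ ModuleCat.of A (I' ^ n • ⊤ : Submodule A Q) :=
      ModuleCat.ofHom (((L (c + 1)).mkQ ∘ₗ W.subtype).codRestrict _ fun x => hmem x x.2)
    have hιπ : ι ≫ π = r ≫ ModuleCat.ofHom (I' ^ n • ⊤ : Submodule A Q).subtype := rfl
    apply ModuleCat.hom_ext
    apply LinearMap.ext
    intro x
    show (HomologicalComplex.homologyMap (tensMap P ι) p).hom x = 0
    obtain ⟨w, hw⟩ := exists_factor_of_comp_eq_zero P j π (L (c + 1)).injective_subtype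
      (Submodule.mkQ_surjective _) (LinearMap.exact_subtype_mkQ _) p
      ((HomologicalComplex.homologyMap (tensMap P ι) p).hom x) (by
        have h : HomologicalComplex.homologyMap (tensMap P (ι ≫ π)) p = 0 := by
          rw [hιπ, tensMap_comp, HomologicalComplex.homologyMap_comp, hzero p, comp_zero]
        rw [tensMap_comp, HomologicalComplex.homologyMap_comp] at h
        exact congr($h x))
    rw [← hw, hj p]
    rfl

theorem exists_pow_tor_map_eq_zero [IsNoetherianRing A] (I : Ideal A) (M N : Type u) [AddCommGroup M]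
    [Module A M] [Module.Finite A M] [AddCommGroup N] [Module A N] (hN : ∀ a ∈ I, ∀ y : N, a • y = 0) :
    ∃ n : ℕ, 0 < n ∧ ∀ p : ℕ,
      ((CategoryTheory.Tor (ModuleCat.{u} A) p).map (ModuleCat.ofHom (I ^ n • ⊤ : Submodule A M).subtype)).app
        (ModuleCat.of A N) = 0 := by
  obtain ⟨s, hs⟩ := (IsNoetherian.noetherian I : I.FG)
  obtain rfl : Ideal.span (s : Set A) = I := hs
  let P := projectiveResolution (ModuleCat.of A N)
  obtain ⟨n, hn, h⟩ := exists_pow_homologyMap_eq_zero P s (fun a ha => hN a (Ideal.subset_span ha)) M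
  refine ⟨n, hn, fun p => ?_⟩
  refine (ProjectiveResolution.leftDerived_app_eq ((tensoringLeft (ModuleCat.{u} A)).map
    (ModuleCat.ofHom (Ideal.span (s : Set A) ^ n • ⊤ : Submodule A M).subtype)) P p).trans ?_
  change _ ≫ HomologicalComplex.homologyMap (tensMap P
    (ModuleCat.ofHom (Ideal.span (s : Set A) ^ n • ⊤ : Submodule A M).subtype)) p ≫ _ = 0
  rw [h p, zero_comp, comp_zero]

end Groth.Agent.CAlgSmall
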