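import Groth.Agent.DimLib.Formula
import Mathlib.RingTheory.Valuation.ValuationRing
import Mathlib.RingTheory.AlgebraicIndependent.TranscendenceBasis
import Mathlib.RingTheory.Ideal.KrullsHeightTheorem

/-!
# The dimension inequality for a valuation centred in a Noetherian local domain
-/

universe u

open IsLocalRing

namespace Groth.Agent.CAlgSmall

theorem add_one_le_dim_of_valuation_centred (A : Type u) [CommRing A] [IsDomain A] [IsNoetherianRing A]
    [IsLocalRing A] (O : Type u) [CommRing O] [IsDomain O] [IsLocalRing O] [Algebra A O]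
    (hinj : Function.Injective (algebraMap A O)) (hloc : IsLocalHom (algebraMap A O))
    (hfrac : ∀ x : O, ∃ a b : A, b ≠ 0 ∧ algebraMap A O b * x = algebraMap A O a)
    (hnt : ¬ IsField O) (n : ℕ) (f : Fin n → O)
    (hind : ∀ p : MvPolynomial (Fin n) A,
      MvPolynomial.eval₂ ((residue O).comp (algebraMap A O)) (fun i => residue O (f i)) p = 0 →
      ∀ m : Fin n →₀ ℕ, residue A (p.coeff m) = 0) :
    (n : WithBot ℕ∞) + 1 ≤ ringKrullDim A := by
  classical
  let S := Algebra.adjoin A (Set.range f)
  have : Algebra.FiniteType A S :=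
    (Subalgebra.fg_iff_finiteType _).mp (Subalgebra.fg_def.mpr ⟨_, Set.finite_range f, rfl⟩)
  have hinjS : Function.Injective (algebraMap A S) := fun a b h =>
    hinj (congrArg (S.val) h)
  have : FaithfulSMul A S := (faithfulSMul_iff_algebraMap_injective A S).mpr hinjS
  have : Algebra.IsAlgebraic A S := ⟨fun x => by
    obtain ⟨a, b, hb, hab⟩ := hfrac (x : O)
    refine ⟨Polynomial.C b * Polynomial.X - Polynomial.C a, fun h => hb ?_, ?_⟩
    · simpa using congrArg (fun p => p.coeff 1) h
    · apply Subtype.ext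
      simp [hab]⟩
  let q : Ideal S := (maximalIdeal O).comap S.val.toRingHom
  have : q.IsPrime := Ideal.comap_isPrime _ _
  have : q.LiesOver (maximalIdeal A) := ⟨by
    ext a
    show a ∈ maximalIdeal A ↔ algebraMap A O a ∈ maximalIdeal O
    rw [mem_maximalIdeal, mem_maximalIdeal, mem_nonunits_iff, mem_nonunits_iff, isUnit_map_iff]⟩
  have hq : q ≠ ⊥ := by
    intro h
    have hA : IsField A := by
      rw [IsLocalRing.isField_iff_maximalIdeal_eq, eq_bot_iff]
      intro a ha
      have : algebraMap A S a ∈ q := by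
        show algebraMap A O a ∈ maximalIdeal O
        rw [mem_maximalIdeal, mem_nonunits_iff, isUnit_map_iff]
        exact ha
      rw [h, Ideal.mem_bot] at this
      exact hinjS (this.trans (map_zero _).symm)
    apply hnt
    refine ⟨exists_pair_ne O, mul_comm, fun {x} hx => ?_⟩
    obtain ⟨a, b, hb, hab⟩ := hfrac x
    obtain ⟨c, hc⟩ := hA.mul_inv_cancel hb
    have ha : a ≠ 0 := fun h0 => by
      rw [h0, map_zero, mul_eq_zero] at hab
      exact hab.elim (fun h1 => hb (hinj (h1.trans (map_zero _).symm))) hx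
    obtain ⟨d, hd⟩ := hA.mul_inv_cancel ha
    refine ⟨algebraMap A O (b * d), ?_⟩
    rw [map_mul, ← mul_assoc, mul_comm x, hab, ← map_mul, hd, map_one]
  have h1 : 1 ≤ q.height := by
    rw [Order.one_le_iff_pos, pos_iff_ne_zero, Ne, Ideal.height_eq_zero_iff,
      IsDomain.minimalPrimes_eq_singleton_bot, Set.mem_singleton_iff]
    exact hq
  have h2 : (n : Cardinal.{u}) ≤ Algebra.trdeg (A ⧸ maximalIdeal A) (S ⧸ q) := by
    let g : Fin n → S := fun i => ⟨f i, Algebra.subset_adjoin ⟨i, rfl⟩⟩
    have hai : AlgebraicIndependent (A ⧸ maximalIdeal A) fun i => Ideal.Quotient.mk q (g i) := by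
      rw [algebraicIndependent_iff]
      intro p hp
      obtain ⟨p, rfl⟩ := MvPolynomial.map_surjective (Ideal.Quotient.mk (maximalIdeal A))
        Ideal.Quotient.mk_surjective p
      let τ : S ⧸ q →+* ResidueField O :=
        Ideal.Quotient.lift q ((residue O).comp S.val.toRingHom) fun x hx => by
          rw [RingHom.comp_apply, residue_eq_zero_iff]
          exact hx
      have h0 := congrArg τ hp
      rw [map_zero, MvPolynomial.aeval_def, MvPolynomial.eval₂_map, MvPolynomial.eval₂_comp_left] at h0
      have hc := hind p (Eq.trans (by congr 1) h0)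
      ext m
      rw [MvPolynomial.coeff_map, MvPolynomial.coeff_zero, Ideal.Quotient.eq_zero_iff_mem]
      exact (residue_eq_zero_iff _).mp (hc m)
    simpa using hai.lift_cardinalMk_le_trdeg
  have h3 := DimLib.height_add_trdeg_le (S := S) (maximalIdeal A) q
  rw [trdeg_eq_zero (R := A) (A := S), add_zero] at h3
  have h4 : ((1 + n : ℕ) : ℕ∞) ≤ (maximalIdeal A).height := by
    rw [← Cardinal.ofENat_le_ofENat.{u}, Cardinal.ofENat_nat, Nat.cast_add, Nat.cast_one]
    refine le_trans (add_le_add ?_ h2) h3
    simpa using (Cardinal.ofENat_le_ofENat.{u}.mpr h1)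
  rw [← maximalIdeal_height_eq_ringKrullDim, add_comm]
  exact_mod_cast h4

end Groth.Agent.CAlgSmall
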