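import Mathlib

/-! Extending a morphism to a proper scheme over a point with valuation stalk. -/

set_option autoImplicit false
set_option backward.isDefEq.respectTransparency.types false

universe u

open CategoryTheory CategoryTheory.Limits AlgebraicGeometry

namespace Groth.Agent.CAlgSmall.ValExtend

variable {X : Scheme.{u}} (x : X)

theorem germInjective_of_reduced [IsReduced X] (hfin : (irreducibleComponents ↥X).Finite) :
    X.IsGermInjectiveAt x := by
  obtain ⟨_, ⟨U, hU, rfl⟩, hxU, -⟩ :=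
    X.isBasis_affineOpens.exists_subset_of_mem_open (Set.mem_univ x) isOpen_univ
  -- remove the components not passing through `x`
  let T : Set X := ⋃ Z ∈ {Z ∈ irreducibleComponents ↥X | x ∉ Z}, Z
  have hT : IsClosed T := (hfin.subset fun Z hZ ↦ hZ.1).isClosed_biUnion
    fun Z hZ ↦ isClosed_of_mem_irreducibleComponents Z hZ.1
  have hxT : x ∉ T := by simp only [T, Set.mem_iUnion]; rintro ⟨Z, hZ, hx⟩; exact hZ.2 hx
  obtain ⟨_, ⟨V, hV, rfl⟩, hxV, hVU⟩ := X.isBasis_affineOpens.exists_subset_of_mem_open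
    (a := x) (u := (U : Set X) ∩ Tᶜ) ⟨hxU, hxT⟩ (U.isOpen.inter hT.isOpen_compl)
  refine ⟨⟨V, hxV, hV, (injective_iff_map_eq_zero _).mpr fun c hc ↦ ?_⟩⟩
  rw [← AlgebraicGeometry.basicOpen_eq_bot_iff]
  refine eq_bot_iff.mpr fun z hz ↦ ?_
  have hi := isIrreducible_irreducibleComponent (x := z)
  obtain ⟨ζ, hζ⟩ := QuasiSober.sober hi isClosed_irreducibleComponent
  have hzV : z ∈ V := X.basicOpen_le _ hz
  have hxZ : x ∈ irreducibleComponent z := by
    by_contra h
    exact (hVU hzV).2 (Set.mem_biUnion (x := irreducibleComponent z)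
      ⟨irreducibleComponent_mem_irreducibleComponents z, h⟩ mem_irreducibleComponent)
  have hζm : ζ ∈ X.basicOpen c := (hζ.specializes mem_irreducibleComponent).mem_open (X.basicOpen c).isOpen hz
  have hζV : ζ ∈ V := X.basicOpen_le _ hζm
  have h0 : X.presheaf.germ V ζ hζV c = 0 := by
    rw [← TopCat.Presheaf.germ_stalkSpecializes_apply (F := X.presheaf) hxV (hζ.specializes hxZ), hc, map_zero]
  have hu := (X.mem_basicOpen c ζ hζV).mp hζm
  rw [h0] at hu
  exact not_isUnit_zero hu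

theorem exists_integral_nhd [X.IsGermInjectiveAt x] [IsDomain (X.presheaf.stalk x)] :
    ∃ U : X.Opens, x ∈ U ∧ IsIntegral (U : Scheme.{u}) := by
  obtain ⟨U, hxU, hU, hinj⟩ := X.exists_germ_injective x
  have : IsDomain Γ(X, U) := hinj.isDomain
  have : Nonempty (U : Scheme.{u}) := ⟨⟨x, hxU⟩⟩
  exact ⟨U, hxU, isIntegral_of_isOpenImmersion hU.isoSpec.hom⟩

theorem generic_facts [IsDomain (X.presheaf.stalk x)] {W : X.Opens} (hxW : x ∈ W)
    (hW : IsIntegral (W : Scheme.{u})) :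
    ∃ η : X, η ∈ W ∧ (∀ w ∈ W, η ⤳ w) ∧
      (Spec.map (CommRingCat.ofHom (algebraMap (X.presheaf.stalk x) (FractionRing (X.presheaf.stalk x)))) ≫
        X.fromSpecStalk x) (IsLocalRing.closedPoint (FractionRing (X.presheaf.stalk x))) = η := by
  let O := X.presheaf.stalk x
  let K := FractionRing O
  obtain ⟨g₀, hg₀⟩ : ∃ g₀ : ↥(W : Scheme.{u}), ∀ w : ↥(W : Scheme.{u}), g₀ ⤳ w :=
    ⟨genericPoint ↥(W : Scheme.{u}), fun w ↦ genericPoint_specializes w⟩
  have hη : ∀ w ∈ W, W.ι g₀ ⤳ w := fun w hw ↦ (hg₀ ⟨w, hw⟩).map W.ι.continuous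
  refine ⟨W.ι g₀, g₀.2, hη, ?_⟩
  rw [Scheme.Hom.comp_apply]
  generalize hQ : (Spec.map (CommRingCat.ofHom (algebraMap O K))) (IsLocalRing.closedPoint K) = Q
  have hQ0 : ∀ o ∈ Q.asIdeal, o = 0 := by
    subst hQ
    intro o ho
    have ho' : algebraMap O K o = 0 := by
      by_contra hne
      exact (IsLocalRing.mem_maximalIdeal _).mp ho (IsUnit.mk0 _ hne)
    exact IsFractionRing.injective O K (ho'.trans (map_zero _).symm)
  have h1 : X.fromSpecStalk x Q ⤳ x := X.range_fromSpecStalk.le ⟨Q, rfl⟩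
  have h2 : W.ι g₀ ⤳ X.fromSpecStalk x Q := hη _ (h1.mem_open W.isOpen hxW)
  obtain ⟨P, hP⟩ : W.ι g₀ ∈ Set.range (X.fromSpecStalk x) := by rw [X.range_fromSpecStalk]; exact hη x hxW
  have h3 : X.fromSpecStalk x Q ⤳ W.ι g₀ := by
    rw [← hP]
    refine Specializes.map ?_ (X.fromSpecStalk x).continuous
    refine (PrimeSpectrum.le_iff_specializes _ _).mp fun o ho ↦ ?_
    rw [hQ0 o ho]
    exact P.asIdeal.zero_mem
  exact (h3.antisymm h2).eq

theorem exists_extension {Y S : Scheme.{u}} (p : X ⟶ S) (q : Y ⟶ S)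
    [IsProper q] (U : X.Opens) (f : (U : Scheme.{u}) ⟶ Y) (hf : f ≫ q = U.ι ≫ p)
    (hx : x ∈ closure (U : Set ↥X)) [X.IsGermInjectiveAt x]
    [IsDomain (X.presheaf.stalk x)] [ValuationRing (X.presheaf.stalk x)] :
    ∃ (U' : X.Opens) (hUU' : U ≤ U'), x ∈ U' ∧
      ∃ f' : (U' : Scheme.{u}) ⟶ Y, f' ≫ q = U'.ι ≫ p ∧ X.homOfLE hUU' ≫ f' = f := by
  obtain ⟨W, hxW, hW⟩ := exists_integral_nhd x
  let K := FractionRing (X.presheaf.stalk x)
  let a : Spec (CommRingCat.of K) ⟶ X :=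
    Spec.map (CommRingCat.ofHom (algebraMap (X.presheaf.stalk x) K)) ≫ X.fromSpecStalk x
  let c : Spec (CommRingCat.of K) := IsLocalRing.closedPoint K
  obtain ⟨z, hzU, hzW⟩ : ((U : Set X) ∩ W).Nonempty := by
    rw [Set.inter_comm]; exact mem_closure_iff.mp hx W W.isOpen hxW
  obtain ⟨η, hηW, hη, hac⟩ := generic_facts x hxW hW
  have haU : a c ∈ U := hac ▸ (hη z hzW).mem_open U.isOpen hzU
  have hr : Set.range a ⊆ Set.range U.ι := by
    rintro _ ⟨d, rfl⟩
    rw [Subsingleton.elim d c, Scheme.Opens.range_ι]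
    exact haU
  let a' := IsOpenImmersion.lift U.ι a hr
  have ha' : a' ≫ U.ι = a := IsOpenImmersion.lift_fac _ _ hr
  let sq : ValuativeCommSq q :=
    { R := X.presheaf.stalk x, commRing := inferInstance, domain := ‹IsDomain (X.presheaf.stalk x)›,
      valuationRing := ‹ValuationRing (X.presheaf.stalk x)›, K := K, i₁ := a' ≫ f, i₂ := X.fromSpecStalk x ≫ p
      commSq := ⟨by rw [Category.assoc, hf, reassoc_of% ha']; simp only [a, Category.assoc]⟩ }
  have hex : ValuativeCriterion.Existence q := by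
    have h := (inferInstance : UniversallyClosed q)
    rw [UniversallyClosed.eq_valuativeCriterion] at h
    exact h.1
  obtain ⟨l⟩ := (hex sq).exists_lift
  let L : Spec (X.presheaf.stalk x) ⟶ Y := l.l
  have hL : L ≫ q = X.fromSpecStalk x ≫ p := l.fac_right
  have hL' : Spec.map (CommRingCat.ofHom (algebraMap (X.presheaf.stalk x) K)) ≫ L = a' ≫ f := l.fac_left
  obtain ⟨V, hxV, g, hg, hgq⟩ := spread_out_of_isGermInjective' p q L hL
  let V' : X.Opens := V ⊓ W
  have hxV' : x ∈ V' := ⟨hxV, hxW⟩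
  let g' : (V' : Scheme.{u}) ⟶ Y := X.homOfLE inf_le_left ≫ g
  have hg' : g' ≫ q = V'.ι ≫ p := by simp [g', hgq]
  have hgl : V'.fromSpecStalkOfMem x hxV' ≫ g' = L := by
    rw [hg, ← Category.assoc]
    congr 1
    rw [← cancel_mono V.ι]
    simp
  -- agreement on the overlap
  let T : X.Opens := U ⊓ V'
  have hag : X.homOfLE (inf_le_left : T ≤ U) ≫ f = X.homOfLE (inf_le_right : T ≤ V') ≫ g' := by
    have hTW : T ≤ W := inf_le_right.trans inf_le_right
    have haT : a c ∈ T := by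
      show a c ∈ U ⊓ (V ⊓ W)
      refine ⟨haU, ?_, ?_⟩
      · rw [hac]; exact (hη x hxW).mem_open V.isOpen hxV
      · rw [hac]; exact hηW
    have : Nonempty (T : Scheme.{u}) := ⟨⟨_, haT⟩⟩
    have : IsIntegral (T : Scheme.{u}) := isIntegral_of_isOpenImmersion (X.homOfLE hTW)
    have hrT : Set.range a ⊆ Set.range T.ι := by
      rintro _ ⟨d, rfl⟩
      rw [Subsingleton.elim d c, Scheme.Opens.range_ι]
      exact haT
    let aT := IsOpenImmersion.lift T.ι a hrT
    have haT' : aT ≫ T.ι = a := IsOpenImmersion.lift_fac _ _ hrT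
    have : IsDominant aT := by
      refine ⟨fun t ↦ ?_⟩
      have h1 : aT c ⤳ t := by
        refine T.ι.isOpenEmbedding.isInducing.specializes_iff.mp ?_
        show T.ι (aT c) ⤳ T.ι t
        rw [← Scheme.Hom.comp_apply, haT', hac]
        exact hη _ (hTW t.2)
      exact closure_mono (Set.singleton_subset_iff.mpr (Set.mem_range_self (f := aT) c)) (specializes_iff_mem_closure.mp h1)
    refine ext_of_isDominant_of_isSeparated q (by simp [hf, hg']) aT ?_
    have e1 : aT ≫ X.homOfLE (inf_le_left : T ≤ U) = a' := by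
      rw [← cancel_mono U.ι, Category.assoc, Scheme.homOfLE_ι, haT', ha']
    have e2 : aT ≫ X.homOfLE (inf_le_right : T ≤ V') =
        Spec.map (CommRingCat.ofHom (algebraMap (X.presheaf.stalk x) K)) ≫ V'.fromSpecStalkOfMem x hxV' := by
      rw [← cancel_mono V'.ι, Category.assoc, Scheme.homOfLE_ι, haT']
      simp only [a, Category.assoc, Scheme.Opens.fromSpecStalkOfMem_ι]
    rw [← Category.assoc, e1, ← Category.assoc, e2, Category.assoc, hgl]
    exact hL'.symm
  -- glue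
  let U' : X.Opens := U ⊔ V'
  let W₂ : Bool → X.Opens := fun b ↦ bif b then U else V'
  let m : ∀ b, (W₂ b : Scheme.{u}) ⟶ Y := fun b ↦ Bool.rec (motive := fun b ↦ (W₂ b : Scheme.{u}) ⟶ Y) g' f b
  let 𝒰 : (U' : Scheme.{u}).OpenCover := Scheme.openCoverOfIsOpenCover (U' : Scheme.{u}) (fun b ↦ U'.ι ⁻¹ᵁ W₂ b)
    (TopologicalSpace.Opens.ext (Set.eq_univ_of_forall fun t ↦ by
      simp only [TopologicalSpace.Opens.coe_iSup, Set.mem_iUnion]
      rcases (show (t.1 : X) ∈ U ∨ t.1 ∈ V' from t.2) with h | h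
      · exact ⟨true, h⟩
      · exact ⟨false, h⟩))
  let j : ∀ b, 𝒰.X b ⟶ (W₂ b : Scheme.{u}) := fun b ↦ IsOpenImmersion.lift (W₂ b).ι (𝒰.f b ≫ U'.ι) (by
    rintro _ ⟨t, rfl⟩; rw [Scheme.Opens.range_ι]; exact t.2)
  have hj : ∀ b, j b ≫ (W₂ b).ι = 𝒰.f b ≫ U'.ι := fun b ↦ IsOpenImmersion.lift_fac _ _ _
  have hagree : ∀ (P : Scheme.{u}) (s : P ⟶ (U : Scheme.{u})) (t : P ⟶ (V' : Scheme.{u})),
      s ≫ U.ι = t ≫ V'.ι → s ≫ f = t ≫ g' := fun P s t hst ↦ by
    have hr : Set.range (s ≫ U.ι) ⊆ Set.range T.ι := by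
      rintro _ ⟨d, rfl⟩
      rw [Scheme.Opens.range_ι]
      refine ⟨(s d).2, ?_⟩
      rw [hst]; exact (t d).2
    let r := IsOpenImmersion.lift T.ι _ hr
    have hr' : r ≫ T.ι = s ≫ U.ι := IsOpenImmersion.lift_fac _ _ hr
    have e1 : r ≫ X.homOfLE (inf_le_left : T ≤ U) = s := by
      rw [← cancel_mono U.ι, Category.assoc, Scheme.homOfLE_ι, hr']
    have e2 : r ≫ X.homOfLE (inf_le_right : T ≤ V') = t := by
      rw [← cancel_mono V'.ι, Category.assoc, Scheme.homOfLE_ι, hr', hst]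
    rw [← e1, ← e2, Category.assoc, Category.assoc, hag]
  have hsame : ∀ (b : Bool) (P : Scheme.{u}) (s t : P ⟶ (W₂ b : Scheme.{u})),
      s ≫ (W₂ b).ι = t ≫ (W₂ b).ι → s ≫ m b = t ≫ m b := fun b P s t h ↦ by rw [(cancel_mono (W₂ b).ι).mp h]
  have hcompat : ∀ b b', pullback.fst (𝒰.f b) (𝒰.f b') ≫ j b ≫ m b = pullback.snd (𝒰.f b) (𝒰.f b') ≫ j b' ≫ m b' := by
    intro b b'
    have key : (pullback.fst (𝒰.f b) (𝒰.f b') ≫ j b) ≫ (W₂ b).ι = (pullback.snd (𝒰.f b) (𝒰.f b') ≫ j b') ≫ (W₂ b').ι := by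
      rw [Category.assoc, Category.assoc, hj, hj, pullback.condition_assoc]
    rw [← Category.assoc, ← Category.assoc]
    cases b <;> cases b'
    · exact hsame false _ _ _ key
    · exact (hagree _ _ _ key.symm).symm
    · exact hagree _ _ _ key
    · exact hsame true _ _ _ key
  refine ⟨U', le_sup_left, Or.inr hxV', 𝒰.glueMorphisms (fun b ↦ j b ≫ m b) hcompat, ?_, ?_⟩
  · refine 𝒰.hom_ext _ _ fun b ↦ ?_
    rw [Scheme.Cover.ι_glueMorphisms_assoc, Category.assoc, ← Category.assoc (𝒰.f b), ← hj, Category.assoc]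
    cases b
    · exact congrArg (j false ≫ ·) hg'
    · exact congrArg (j true ≫ ·) hf
  · let k : (U : Scheme.{u}) ⟶ 𝒰.X true := IsOpenImmersion.lift (𝒰.f true) (X.homOfLE le_sup_left) (by
      rintro _ ⟨t, rfl⟩
      rw [show Set.range (𝒰.f true) = ((U'.ι ⁻¹ᵁ W₂ true : TopologicalSpace.Opens _) : Set _) from Scheme.Opens.range_ι _]
      show U'.ι (X.homOfLE le_sup_left t) ∈ U
      rw [← Scheme.Hom.comp_apply, Scheme.homOfLE_ι]
      exact t.2)
    have hk : k ≫ 𝒰.f true = X.homOfLE le_sup_left := IsOpenImmersion.lift_fac _ _ _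
    rw [← hk, Category.assoc, Scheme.Cover.ι_glueMorphisms, ← Category.assoc]
    have : k ≫ j true = 𝟙 _ := by
      rw [← cancel_mono U.ι, Category.assoc, Category.id_comp]
      refine (congrArg (k ≫ ·) (hj true)).trans ?_
      rw [reassoc_of% hk, Scheme.homOfLE_ι]
    rw [this, Category.id_comp]

end Groth.Agent.CAlgSmall.ValExtend
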