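import Mathlib
import Groth.Agent.UnivHomeo.Ring
import Groth.Agent.UnivHomeo.Scheme

/-! Relative weak normalization and seminormalization as subalgebras. -/

set_option autoImplicit false

universe u

open CategoryTheory AlgebraicGeometry

namespace Groth.Agent.CAlgSmall.WeakNormal

open Groth.Agent.UnivHomeo

variable {A B : Type u} [CommRing A] [CommRing B] [Algebra A B]

/-- The subalgebra generated by the images of all universal homeomorphisms satisfying `Q`. -/
def hull (A B : Type u) [CommRing A] [CommRing B] [Algebra A B] (Q : ∀ (C : Type u) [CommRing C], (A →+* C) → Prop) :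
    Subalgebra A B :=
  Algebra.adjoin A {b : B | ∃ (C : Type u) (_ : CommRing C) (_ : Algebra A C) (g : C →ₐ[A] B),
    FlatMor.IsUnivHomeo (Spec.map (CommRingCat.ofHom (algebraMap A C))) ∧ Q C (algebraMap A C) ∧ b ∈ g.range}

theorem ker_le [IsDominant (Spec.map (CommRingCat.ofHom (algebraMap A B)))] :
    RingHom.ker (algebraMap A B) ≤ nilradical A :=
  (PrimeSpectrum.denseRange_comap_iff_ker_le_nilRadical _).mp
    (Scheme.Hom.denseRange (Spec.map (CommRingCat.ofHom (algebraMap A B))))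

theorem uh_hull (Q : ∀ (C : Type u) [CommRing C], (A →+* C) → Prop)
    [IsDominant (Spec.map (CommRingCat.ofHom (algebraMap A B)))] :
    FlatMor.IsUnivHomeo (Spec.map (CommRingCat.ofHom (algebraMap A (hull A B Q)))) := by
  refine (isUnivHomeo_iff _).mpr ⟨?_, ?_, fun a ha ↦ ker_le (B := B) (congrArg Subtype.val ha)⟩
  · have hle : hull A B Q ≤ integralClosure A B := by
      refine Algebra.adjoin_le ?_
      rintro b ⟨C, _, _, g, hC, -, c, rfl⟩
      exact IsIntegral.map g (((isUnivHomeo_iff _).mp hC).1 c)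
    intro b
    exact (isIntegral_algHom_iff (hull A B Q).val Subtype.val_injective).mp (hle b.2)
  · intro K _ g₁ g₂ h
    refine RingHom.ext fun ⟨b, hb⟩ ↦ ?_
    induction hb using Algebra.adjoin_induction with
    | mem x hx =>
      obtain ⟨C, _, _, g, hC, hQ, c, rfl⟩ := hx
      have hg : ∀ c, g c ∈ hull A B Q := fun c ↦ Algebra.subset_adjoin ⟨C, _, _, g, hC, hQ, c, rfl⟩
      let g' : C →ₐ[A] hull A B Q := g.codRestrict (hull A B Q) hg
      have := ((isUnivHomeo_iff _).mp hC).2.1 K (g₁.comp g'.toRingHom) (g₂.comp g'.toRingHom) (by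
        rw [RingHom.comp_assoc, RingHom.comp_assoc, show g'.toRingHom.comp (algebraMap A C) =
          algebraMap A (hull A B Q) from g'.comp_algebraMap, h])
      exact RingHom.congr_fun this c
    | algebraMap a => exact RingHom.congr_fun h a
    | add x y hx hy ex ey =>
      exact (map_add g₁ ⟨x, hx⟩ ⟨y, hy⟩).trans ((congrArg₂ (· + ·) ex ey).trans (map_add g₂ ⟨x, hx⟩ ⟨y, hy⟩).symm)
    | mul x y hx hy ex ey =>
      exact (map_mul g₁ ⟨x, hx⟩ ⟨y, hy⟩).trans ((congrArg₂ (· * ·) ex ey).trans (map_mul g₂ ⟨x, hx⟩ ⟨y, hy⟩).symm)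

theorem triv_hull (Q : ∀ (C : Type u) [CommRing C], (A →+* C) → Prop)
    (hQ : ∀ (C : Type u) [CommRing C] (φ : A →+* C), Q C φ → Triv φ) :
    Triv (algebraMap A (hull A B Q)) := by
  intro q hq
  rintro ⟨b, hb⟩
  induction hb using Algebra.adjoin_induction with
  | mem x hx =>
    obtain ⟨C, _, _, g, hC, hQC, c, rfl⟩ := hx
    have hg : ∀ c, g c ∈ hull A B Q := fun c ↦ Algebra.subset_adjoin ⟨C, _, _, g, hC, hQC, c, rfl⟩
    let g' : C →ₐ[A] hull A B Q := g.codRestrict (hull A B Q) hg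
    obtain ⟨a, s, hs, e⟩ := hQ C _ hQC (q.comap g'.toRingHom) (hq.comap _) c
    refine ⟨a, s, fun h ↦ hs ?_, ?_⟩
    · show g' (algebraMap A C s) ∈ q
      rwa [g'.commutes]
    · have e' : g' (algebraMap A C s * c - algebraMap A C a) ∈ q := e
      rwa [map_sub, map_mul, g'.commutes, g'.commutes] at e'
  | algebraMap a =>
    refine ⟨a, 1, fun h ↦ hq.ne_top ((Ideal.eq_top_iff_one q).mpr (by simpa using h)), ?_⟩
    rw [map_one, one_mul]
    exact (sub_self (algebraMap A (hull A B Q) a)).symm ▸ q.zero_mem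
  | add x y hx hy ex ey =>
    obtain ⟨a, s, hs, e⟩ := ex
    obtain ⟨a', s', hs', e'⟩ := ey
    refine ⟨a * s' + a' * s, s * s', fun h ↦ ?_, ?_⟩
    · rw [map_mul] at h
      exact (hq.mem_or_mem h).elim hs hs'
    · have h2 := q.add_mem (q.mul_mem_left (algebraMap A (hull A B Q) s') e)
        (q.mul_mem_left (algebraMap A (hull A B Q) s) e')
      convert h2 using 1
      simp only [map_add, map_mul]
      rw [show (⟨x + y, _⟩ : hull A B Q) = ⟨x, hx⟩ + ⟨y, hy⟩ from rfl]
      ring
  | mul x y hx hy ex ey =>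
    obtain ⟨a, s, hs, e⟩ := ex
    obtain ⟨a', s', hs', e'⟩ := ey
    refine ⟨a * a', s * s', fun h ↦ ?_, ?_⟩
    · rw [map_mul] at h
      exact (hq.mem_or_mem h).elim hs hs'
    · have h2 := q.add_mem (q.mul_mem_left (algebraMap A (hull A B Q) s' * ⟨y, hy⟩) e)
        (q.mul_mem_left (algebraMap A (hull A B Q) a) e')
      convert h2 using 1
      simp only [map_mul]
      rw [show (⟨x * y, _⟩ : hull A B Q) = ⟨x, hx⟩ * ⟨y, hy⟩ from rfl]
      ring

theorem weak [IsDominant (Spec.map (CommRingCat.ofHom (algebraMap A B)))] :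
    ∃ B' : Subalgebra A B, FlatMor.IsUnivHomeo (Spec.map (CommRingCat.ofHom (algebraMap A B'))) ∧
      ∀ (C : Type u) [CommRing C] [Algebra A C] (g : C →ₐ[A] B),
        FlatMor.IsUnivHomeo (Spec.map (CommRingCat.ofHom (algebraMap A C))) → g.range ≤ B' :=
  ⟨hull A B (fun _ _ _ ↦ True), uh_hull _, fun C _ _ g hC _ hb ↦
    Algebra.subset_adjoin ⟨C, _, _, g, hC, trivial, hb⟩⟩

theorem semi [IsDominant (Spec.map (CommRingCat.ofHom (algebraMap A B)))] :
    ∃ B' : Subalgebra A B, (FlatMor.IsUnivHomeo (Spec.map (CommRingCat.ofHom (algebraMap A B'))) ∧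
      ∀ x : Spec (CommRingCat.of B'),
        Function.Surjective ((Spec.map (CommRingCat.ofHom (algebraMap A B'))).residueFieldMap x)) ∧
      ∀ (C : Type u) [CommRing C] [Algebra A C] (g : C →ₐ[A] B),
        FlatMor.IsUnivHomeo (Spec.map (CommRingCat.ofHom (algebraMap A C))) →
        (∀ x : Spec (CommRingCat.of C),
          Function.Surjective ((Spec.map (CommRingCat.ofHom (algebraMap A C))).residueFieldMap x)) →
        g.range ≤ B' :=
  ⟨hull A B (fun C _ φ ↦ Triv φ), ⟨uh_hull _, (residueFieldMap_surjective_iff _).mpr (triv_hull _ fun _ _ _ h ↦ h)⟩,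
    fun C _ _ g hC hres _ hb ↦
      Algebra.subset_adjoin ⟨C, _, _, g, hC, (residueFieldMap_surjective_iff _).mp hres, hb⟩⟩

end Groth.Agent.CAlgSmall.WeakNormal
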