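import Mathlib.LinearAlgebra.Matrix.Charpoly.LinearMap
import Mathlib.RingTheory.Nakayama
import Mathlib.RingTheory.Finiteness.Cardinality

/-!
# Monic equation of an element idempotent modulo an ideal in the radical
-/

universe u

open Polynomial

namespace Groth.Agent.CAlgSmall

theorem aeval_mul_linearCombination {A B : Type u} [CommRing A] [CommRing B] [Algebra A B] {ι : Type}
    [Fintype ι] [DecidableEq ι] (y : ι → B) (b : B) (M : Matrix ι ι A)
    (hM : ∀ v, b * Fintype.linearCombination A y v = Fintype.linearCombination A y (M.mulVec v))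
    (p : A[X]) : ∀ v, aeval b p * Fintype.linearCombination A y v =
      Fintype.linearCombination A y ((aeval M p).mulVec v) := by
  induction p using Polynomial.induction_on with
  | C a =>
    intro v
    rw [aeval_C, aeval_C, Algebra.algebraMap_eq_smul_one (A := Matrix ι ι A), Matrix.smul_mulVec,
      Matrix.one_mulVec, map_smul, Algebra.smul_def]
  | add p q hp hq =>
    intro v
    rw [map_add, map_add, add_mul, hp, hq, Matrix.add_mulVec, map_add]
  | monomial n a h =>
    intro v
    rw [pow_succ, ← mul_assoc, map_mul, map_mul (aeval M), aeval_X, aeval_X, mul_assoc, hM, h,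
      Matrix.mulVec_mulVec]

theorem exists_monic_root_zariskiPair (A B : Type u) [CommRing A] [CommRing B]
    [Algebra A B] [Module.Finite A B] (I : Ideal A) (hI : I ≤ Ideal.jacobson (⊥ : Ideal A))
    (B₁ B₂ : Type u) [CommRing B₁] [CommRing B₂] [Algebra A B₁] [Algebra A B₂]
    (e : (B ⧸ I.map (algebraMap A B)) ≃ₐ[A] B₁ × B₂) (h₁ : Function.Surjective (algebraMap A B₁)) (b : B)
    (hb : e (Ideal.Quotient.mk (I.map (algebraMap A B)) b) = (1, 0)) :
    ∃ (f : A[X]) (d : ℕ), f.Monic ∧ Polynomial.aeval b f = 0 ∧ 1 ≤ d ∧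
      f.map (Ideal.Quotient.mk I) = (X - 1) * X ^ d := by
  classical
  let π : B →ₐ[A] B₁ × B₂ := e.toAlgHom.comp (Ideal.Quotient.mkₐ A (I.map (algebraMap A B)))
  have hπ : Function.Surjective π := e.surjective.comp Ideal.Quotient.mk_surjective
  have hπb : π b = (1, 0) := hb
  have hker : ∀ x, π x = 0 → x ∈ (I • ⊤ : Submodule A B) := fun x hx => by
    rw [Ideal.smul_top_eq_map, Submodule.restrictScalars_mem]
    exact Ideal.Quotient.eq_zero_iff_mem.mp (e.map_eq_zero_iff.mp hx)
  have : Module.Finite A B₂ :=
    Module.Finite.of_surjective (((AlgHom.snd A B₁ B₂).comp π).toLinearMap)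
      (Prod.snd_surjective.comp hπ)
  obtain ⟨m, z, hz⟩ := Module.Finite.exists_fin (R := A) (M := B₂)
  choose w hw using fun j : Fin (m + 1) => hπ (0, Fin.cons (α := fun _ => B₂) (0 : B₂) z j)
  let y : Option (Fin (m + 1)) → B := fun o => o.elim b w
  let ε : Option (Fin (m + 1)) → A := fun o => o.elim 1 fun _ => 0
  have hspan0 : (⊤ : Submodule A B) ≤ Submodule.span A (Set.range y) ⊔ I • ⊤ := by
    intro x _
    obtain ⟨a, ha⟩ := h₁ (π x).1
    obtain ⟨c, hc⟩ := (Submodule.mem_span_range_iff_exists_fun A).mp
      (hz ▸ Submodule.mem_top : (π x).2 ∈ Submodule.span A (Set.range z))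
    have hmem : a • b + ∑ j, c j • w j.succ ∈ Submodule.span A (Set.range y) :=
      add_mem (Submodule.smul_mem _ _ (Submodule.subset_span ⟨none, rfl⟩))
        (sum_mem fun j _ => Submodule.smul_mem _ _ (Submodule.subset_span ⟨some j.succ, rfl⟩))
    refine Submodule.mem_sup.mpr ⟨_, hmem, x - (a • b + ∑ j, c j • w j.succ), hker _ ?_, by abel⟩
    simp only [map_sub, map_add, map_sum, map_smul, hπb, hw, Fin.cons_succ]
    refine Prod.ext ?_ ?_
    · simp [← ha, Algebra.smul_def, Prod.fst_sum]
    · simp [← hc, Prod.snd_sum]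
  have hspan : Submodule.span A (Set.range y) = ⊤ :=
    top_le_iff.mp (Submodule.le_of_le_smul_of_le_jacobson_bot Module.Finite.fg_top hI hspan0)
  have hcol : ∀ o, ∃ a : Option (Fin (m + 1)) → A, (∀ i, a i ∈ I) ∧
      b * y o = ε o • y o + ∑ i, a i • y i := by
    intro o
    have h0 : π (b * y o - ε o • y o) = 0 := by
      rw [map_sub, map_mul, map_smul, hπb]
      cases o with
      | none => simp [y, ε, hπb]
      | some j => simp [y, ε, hw, Prod.ext_iff]
    have := hker _ h0
    rw [← hspan, Submodule.mem_ideal_smul_span_iff_exists_sum] at this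
    obtain ⟨a, ha, hsum⟩ := this
    refine ⟨fun i => a i, ha, ?_⟩
    rw [← sub_eq_iff_eq_add', ← hsum, Finsupp.sum_fintype _ _ (by simp)]
  choose a haI hay using hcol
  let M : Matrix (Option (Fin (m + 1))) (Option (Fin (m + 1))) A :=
    Matrix.diagonal ε + Matrix.of fun i o => a o i
  have hM : ∀ v, b * Fintype.linearCombination A y v = Fintype.linearCombination A y (M.mulVec v) := by
    intro v
    have h : (LinearMap.mulLeft A b).comp (Fintype.linearCombination A y) =
        (Fintype.linearCombination A y).comp M.mulVecLin := by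
      refine (Pi.basisFun A _).ext fun o => ?_
      simp only [Pi.basisFun_apply, LinearMap.comp_apply, Matrix.mulVecLin_apply,
        Matrix.mulVec_single_one, LinearMap.mulLeft_apply, Fintype.linearCombination_apply_single,
        one_smul, hay, Fintype.linearCombination_apply, M, Matrix.col_apply, Matrix.add_apply,
        Matrix.diagonal_apply, Matrix.of_apply, add_smul, ite_smul, zero_smul,
        Finset.sum_add_distrib, Finset.sum_ite_eq', Finset.mem_univ, if_true]
      rw [Finset.sum_eq_single o (fun i _ hi => by rw [Pi.single_eq_of_ne hi, zero_smul]) (by simp),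
        Pi.single_eq_same, one_smul, hay]
    exact LinearMap.congr_fun h v
  refine ⟨M.charpoly, m + 1, M.charpoly_monic, ?_, Nat.le_add_left 1 m, ?_⟩
  · obtain ⟨c, hc⟩ := (Submodule.mem_span_range_iff_exists_fun A).mp
      (hspan ▸ Submodule.mem_top : (1 : B) ∈ Submodule.span A (Set.range y))
    have h1 : Fintype.linearCombination A y c = 1 := by rw [Fintype.linearCombination_apply, hc]
    have := aeval_mul_linearCombination y b M hM M.charpoly c
    rwa [h1, mul_one, Matrix.aeval_self_charpoly, Matrix.zero_mulVec, map_zero] at this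
  · rw [← Matrix.charpoly_map]
    have hd : M.map (Ideal.Quotient.mk I) = Matrix.diagonal (Ideal.Quotient.mk I ∘ ε) := by
      ext i o
      simp only [M, Matrix.map_apply, Matrix.add_apply, Matrix.of_apply, Matrix.diagonal_apply,
        map_add, Ideal.Quotient.eq_zero_iff_mem.mpr (haI o i), add_zero, Function.comp_apply]
      split_ifs <;> simp
    rw [hd, Matrix.charpoly_diagonal, Fintype.prod_option]
    simp [ε]

end Groth.Agent.CAlgSmall
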